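import Mathlib

/-!
# Comparing `ModuleCat.extendScalars (algebraMap R K)` with `K ⊗[R] -` (any commutative `K`)

Helper library (helper52).  `eM K M : (extendScalars (algebraMap R K)).obj M ≃ₗ[K] K ⊗[R] M`,
natural in `M` (`eM_map`).
-/

set_option autoImplicit false
open scoped TensorProduct
open CategoryTheory
universe u

namespace Groth.Agent.Lib.Helper52.ExtScalRing

variable {R : Type u} [CommRing R] (K : Type u) [CommRing K] [Algebra R K]

def toK (x : ((ModuleCat.restrictScalars (algebraMap R K)).obj (ModuleCat.of K K))) : K := x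
def fromK (x : K) : ((ModuleCat.restrictScalars (algebraMap R K)).obj (ModuleCat.of K K)) := x

lemma toK_smul (r : R)
    (x : ((ModuleCat.restrictScalars (algebraMap R K)).obj (ModuleCat.of K K))) :
    toK K (r • x) = r • toK K x := by
  have h1 : toK K (r • x) = algebraMap R K r * toK K x := rfl
  rw [h1, Algebra.smul_def]

noncomputable def eK :
    ((ModuleCat.restrictScalars (algebraMap R K)).obj (ModuleCat.of K K)) ≃ₗ[R] K where
  toFun := toK K
  invFun := fromK K
  map_add' _ _ := rfl
  map_smul' r x := toK_smul K r x
  left_inv _ := rfl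
  right_inv _ := rfl

noncomputable def e0 (M : ModuleCat.{u} R) :
    (TensorProduct R ((ModuleCat.restrictScalars (algebraMap R K)).obj (ModuleCat.of K K)) M)
      ≃ₗ[R] K ⊗[R] M :=
  TensorProduct.congr (eK K) (LinearEquiv.refl R M)

def toT (M : ModuleCat.{u} R) (x : (ModuleCat.extendScalars (algebraMap R K)).obj M) :
    (TensorProduct R ((ModuleCat.restrictScalars (algebraMap R K)).obj (ModuleCat.of K K)) M) :=
  x

def fromT (M : ModuleCat.{u} R)
    (x : TensorProduct R ((ModuleCat.restrictScalars (algebraMap R K)).obj (ModuleCat.of K K)) M) :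
    (ModuleCat.extendScalars (algebraMap R K)).obj M := x

lemma toT_add (M : ModuleCat.{u} R) (x y : (ModuleCat.extendScalars (algebraMap R K)).obj M) :
    toT K M (x + y) = toT K M x + toT K M y := rfl

theorem es_induction (M : ModuleCat.{u} R)
    {motive : (ModuleCat.extendScalars (algebraMap R K)).obj M → Prop}
    (zero : motive 0) (tmul : ∀ (a : K) (m : M), motive (fromT K M (fromK K a ⊗ₜ[R] m)))
    (add : ∀ x y, motive x → motive y → motive (x + y)) : ∀ x, motive x := by
  intro x
  exact TensorProduct.induction_on (motive := fun t => motive (fromT K M t)) (toT K M x) zero tmul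
    (fun x y => add (fromT K M x) (fromT K M y))

lemma e0_smul (M : ModuleCat.{u} R) (s : K)
    (x : (ModuleCat.extendScalars (algebraMap R K)).obj M) :
    e0 K M (toT K M (s • x)) = s • e0 K M (toT K M x) := by
  induction x using es_induction K M with
  | zero =>
    rw [smul_zero]
    show e0 K M 0 = s • e0 K M 0
    rw [map_zero, smul_zero]
  | tmul a m => rfl
  | add x y hx hy =>
    rw [smul_add, toT_add, toT_add, map_add, map_add, smul_add, hx, hy]

/-- The comparison isomorphism. -/
noncomputable def eM (M : ModuleCat.{u} R) :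
    ((ModuleCat.extendScalars (algebraMap R K)).obj M) ≃ₗ[K] K ⊗[R] M where
  toFun := fun x => e0 K M (toT K M x)
  invFun := fun y => fromT K M ((e0 K M).symm y)
  map_add' := fun x y => by rw [toT_add, map_add]
  map_smul' := e0_smul K M
  left_inv := (e0 K M).left_inv
  right_inv := (e0 K M).right_inv

lemma eM_tmul (M : ModuleCat.{u} R) (a : K) (m : M) :
    eM K M (fromT K M (fromK K a ⊗ₜ[R] m)) = a ⊗ₜ[R] m := rfl

lemma eM_symm_tmul (M : ModuleCat.{u} R) (a : K) (m : M) :
    (eM K M).symm (a ⊗ₜ[R] m) = fromT K M (fromK K a ⊗ₜ[R] m) := rfl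

/-- Naturality of the comparison isomorphism. -/
lemma eM_map {M N : ModuleCat.{u} R} (g : M ⟶ N)
    (x : (ModuleCat.extendScalars (algebraMap R K)).obj M) :
    eM K N (((ModuleCat.extendScalars (algebraMap R K)).map g).hom x) =
      (g.hom.baseChange K) (eM K M x) := by
  induction x using es_induction K M with
  | zero => rw [map_zero, map_zero, map_zero, map_zero]
  | tmul a m => rfl
  | add x y hx hy => rw [map_add, map_add, map_add, map_add, hx, hy]

end Groth.Agent.Lib.Helper52.ExtScalRing
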