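import Groth.Agent.Lib.Helper76.RegularLocal
import Mathlib.RingTheory.KrullDimension.NonZeroDivisors
import Mathlib.RingTheory.Ideal.Quotient.Operations

/-!
# Regular quotients of regular local rings

If `R` is a regular local ring and `R ⧸ I` is regular local, then `I` is generated by part of a
regular system of parameters.
-/

namespace Groth.Agent.Lib.Helper52

open IsLocalRing

universe u

theorem comap_mk_span_image {R : Type*} [CommRing R] (K : Ideal R) (s : Set R) :
    Ideal.comap (Ideal.Quotient.mk K) (Ideal.span (Ideal.Quotient.mk K '' s)) =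
      Ideal.span s ⊔ K := by
  rw [← Ideal.map_span, Ideal.comap_map_of_surjective _ Ideal.Quotient.mk_surjective,
    ← RingHom.ker_eq_comap_bot, Ideal.mk_ker]

theorem exists_nat_ringKrullDim (R : Type*) [CommRing R] [IsRegularLocalRing R] :
    ∃ d : ℕ, ringKrullDim R = d :=
  ⟨_, IsRegularLocalRing.spanFinrank_maximalIdeal.symm⟩

theorem comap_mk_maximalIdeal {R : Type*} [CommRing R] [IsLocalRing R] (K : Ideal R)
    [IsLocalRing (R ⧸ K)] :
    (maximalIdeal (R ⧸ K)).comap (Ideal.Quotient.mk K) = maximalIdeal R := by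
  have hloc : IsLocalHom (Ideal.Quotient.mk K) :=
    Function.Surjective.isLocalHom _ Ideal.Quotient.mk_surjective
  exact ((local_hom_TFAE (Ideal.Quotient.mk K)).out 0 4).mp hloc

/-- If `R` and `R ⧸ I` are regular local and `I ≤ m²`, then `I = ⊥`. -/
theorem eq_bot_of_le_sq (R : Type u) [CommRing R] [IsRegularLocalRing R] (I : Ideal R)
    [IsRegularLocalRing (R ⧸ I)] (hI : I ≤ maximalIdeal R ^ 2) : I = ⊥ := by
  classical
  have hdom : IsDomain R := Groth.Agent.Lib.Helper76.isDomain_of_isRegularLocalRing R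
  have hπ : Function.Surjective (Ideal.Quotient.mk I) := Ideal.Quotient.mk_surjective
  have hcomap := comap_mk_maximalIdeal I
  obtain ⟨S, hScard, hSspan⟩ := Submodule.FG.exists_span_finset_card_eq_spanFinrank
    (IsNoetherian.noetherian (maximalIdeal (R ⧸ I)))
  let T : Finset R := S.image (Function.surjInv hπ)
  have hTS : Ideal.Quotient.mk I '' (T : Set R) = S := by
    ext y
    simp only [T, Finset.coe_image, Set.mem_image, Finset.mem_coe]
    constructor
    · rintro ⟨_, ⟨z, hz, rfl⟩, rfl⟩
      rwa [Function.surjInv_eq hπ]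
    · intro hy
      exact ⟨_, ⟨y, hy, rfl⟩, Function.surjInv_eq hπ y⟩
  have hm : maximalIdeal R = Ideal.span (T : Set R) ⊔ I := by
    rw [← hcomap, ← comap_mk_span_image, hTS]
    exact congrArg _ hSspan.symm
  have hTm : Ideal.span (T : Set R) ≤ maximalIdeal R := hm ▸ le_sup_left
  have hle : maximalIdeal R ≤ Ideal.span (T : Set R) := by
    apply Submodule.le_of_le_smul_of_le_jacobson_bot (I := maximalIdeal R)
      (IsNoetherian.noetherian _) (IsLocalRing.jacobson_eq_maximalIdeal _ bot_ne_top).ge
    rw [smul_eq_mul, ← pow_two]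
    calc maximalIdeal R = Ideal.span (T : Set R) ⊔ I := hm
      _ ≤ Ideal.span (T : Set R) ⊔ maximalIdeal R ^ 2 := sup_le_sup_left hI _
  have heq : maximalIdeal R = Ideal.span (T : Set R) := le_antisymm hle hTm
  have h1 : (maximalIdeal R).spanFinrank ≤ (maximalIdeal (R ⧸ I)).spanFinrank := by
    calc (maximalIdeal R).spanFinrank = (Ideal.span (T : Set R)).spanFinrank := by rw [← heq]
      _ ≤ (T : Set R).ncard := Submodule.spanFinrank_span_le_ncard_of_finite T.finite_toSet
      _ = T.card := Set.ncard_coe_finset T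
      _ ≤ S.card := Finset.card_image_le
      _ = _ := hScard
  have hd : ((maximalIdeal R).spanFinrank : WithBot ℕ∞) = ringKrullDim R :=
    IsRegularLocalRing.spanFinrank_maximalIdeal
  have he : ((maximalIdeal (R ⧸ I)).spanFinrank : WithBot ℕ∞) = ringKrullDim (R ⧸ I) :=
    IsRegularLocalRing.spanFinrank_maximalIdeal
  by_contra hne
  obtain ⟨r, hrI, hr0⟩ := Submodule.exists_mem_ne_zero_of_ne_bot hne
  have h2 := ringKrullDim_succ_le_of_surjective (Ideal.Quotient.mk I) hπ
    (mem_nonZeroDivisors_of_ne_zero hr0) (Ideal.Quotient.eq_zero_iff_mem.mpr hrI)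
  rw [← hd, ← he] at h2
  have h3 : (maximalIdeal (R ⧸ I)).spanFinrank + 1 ≤ (maximalIdeal R).spanFinrank := by
    exact_mod_cast h2
  omega

/-- A regular quotient of a regular local ring is cut out by part of a regular system of
parameters. -/
theorem exists_generators_of_regular_quotient_regular : ∀ (d : ℕ) (R : Type u) [CommRing R]
    [IsRegularLocalRing R] (_ : ringKrullDim R = d) (I : Ideal R) [IsRegularLocalRing (R ⧸ I)],
    ∃ (x : Fin d → R) (c : ℕ) (hc : c ≤ d), Ideal.span (Set.range x) = maximalIdeal R ∧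
      I = Ideal.span (Set.range (fun i : Fin c => x (Fin.castLE hc i))) := by
  intro d
  induction d using Nat.strong_induction_on with
  | _ d ih =>
  intro R _ _ hd I _
  classical
  by_cases hI : I ≤ maximalIdeal R ^ 2
  · -- `I = ⊥`; take any `d` generators of the maximal ideal
    have hI0 : I = ⊥ := eq_bot_of_le_sq R I hI
    obtain ⟨S, hScard, hSspan⟩ := Submodule.FG.exists_span_finset_card_eq_spanFinrank
      (IsNoetherian.noetherian (maximalIdeal R))
    have hSd : S.card = d := by
      have h1 : ((maximalIdeal R).spanFinrank : WithBot ℕ∞) = ringKrullDim R :=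
        IsRegularLocalRing.spanFinrank_maximalIdeal
      rw [hd] at h1
      rw [hScard]
      exact_mod_cast h1
    let e : S ≃ Fin d := S.equivFinOfCardEq hSd
    refine ⟨fun i => (e.symm i : R), 0, Nat.zero_le _, ?_, ?_⟩
    · have : Set.range (fun i => (e.symm i : R)) = (S : Set R) := by
        ext y
        constructor
        · rintro ⟨i, rfl⟩; exact (e.symm i).2
        · intro hy; exact ⟨e ⟨y, hy⟩, by simp⟩
      rw [this]
      exact hSspan
    · rw [hI0, Set.range_eq_empty, Ideal.span_empty]
  · -- pick `x₁ ∈ I \ m²` and pass to `R ⧸ (x₁)`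
    obtain ⟨x₁, hx₁I, hx₁sq⟩ := SetLike.not_le_iff_exists.mp hI
    have hItop : I ≠ ⊤ := Ideal.Quotient.nontrivial_iff.mp inferInstance
    have hIm : I ≤ maximalIdeal R := IsLocalRing.le_maximalIdeal hItop
    have hx₁m : x₁ ∈ maximalIdeal R := hIm hx₁I
    obtain ⟨hreg', hdim'⟩ :=
      Groth.Agent.Lib.Helper76.isRegularLocalRing_quotient_of_notMem_sq R x₁ hx₁m hx₁sq
    obtain ⟨d'', hd''⟩ := exists_nat_ringKrullDim (R ⧸ Ideal.span ({x₁} : Set R))
    have hdd : d = d'' + 1 := by
      rw [hd'', hd] at hdim'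
      exact_mod_cast hdim'.symm
    subst hdd
    have hKI : Ideal.span ({x₁} : Set R) ≤ I := (Ideal.span_singleton_le_iff_mem I).mpr hx₁I
    have hreg'' : IsRegularLocalRing ((R ⧸ Ideal.span ({x₁} : Set R)) ⧸
        I.map (Ideal.Quotient.mk (Ideal.span ({x₁} : Set R)))) :=
      IsRegularLocalRing.of_ringEquiv (DoubleQuot.quotQuotEquivQuotOfLE hKI).symm
    obtain ⟨x', c', hc', hspan', hI'⟩ := ih d'' (Nat.lt_succ_self _)
      (R ⧸ Ideal.span ({x₁} : Set R)) hd'' (I.map (Ideal.Quotient.mk (Ideal.span ({x₁} : Set R))))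
    choose l hl using fun i => Ideal.Quotient.mk_surjective (x' i)
    have hrange : ∀ (n : ℕ) (g : Fin n → Fin d''),
        Set.range (fun i => x' (g i)) =
          Ideal.Quotient.mk (Ideal.span ({x₁} : Set R)) '' Set.range (fun i => l (g i)) := by
      intro n g
      ext y
      constructor
      · rintro ⟨i, rfl⟩
        exact ⟨l (g i), ⟨i, rfl⟩, hl (g i)⟩
      · rintro ⟨_, ⟨i, rfl⟩, rfl⟩
        exact ⟨i, (hl (g i)).symm⟩
    refine ⟨Fin.cons x₁ l, c' + 1, Nat.succ_le_succ hc', ?_, ?_⟩
    · rw [Fin.range_cons, Ideal.span_insert]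
      have h1 := comap_mk_maximalIdeal (Ideal.span ({x₁} : Set R))
      have h2 := hrange d'' id
      simp only [id] at h2
      rw [← h1, ← hspan', h2, comap_mk_span_image, sup_comm]
    · have hfun : (fun i : Fin (c' + 1) =>
          (Fin.cons x₁ l : Fin (d'' + 1) → R) (Fin.castLE (Nat.succ_le_succ hc') i)) =
          Fin.cons x₁ (fun j : Fin c' => l (Fin.castLE hc' j)) := by
        funext i
        refine Fin.cases ?_ (fun j => ?_) i
        · simp
        · simp [Fin.castLE_succ]
      rw [hfun, Fin.range_cons, Ideal.span_insert]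
      have h1 : I = Ideal.comap (Ideal.Quotient.mk (Ideal.span ({x₁} : Set R)))
          (I.map (Ideal.Quotient.mk (Ideal.span ({x₁} : Set R)))) := by
        rw [Ideal.comap_map_of_surjective _ Ideal.Quotient.mk_surjective,
          ← RingHom.ker_eq_comap_bot, Ideal.mk_ker]
        exact (sup_eq_left.mpr hKI).symm
      calc I = Ideal.comap (Ideal.Quotient.mk (Ideal.span ({x₁} : Set R)))
              (I.map (Ideal.Quotient.mk (Ideal.span ({x₁} : Set R)))) := h1
        _ = Ideal.comap (Ideal.Quotient.mk (Ideal.span ({x₁} : Set R)))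
              (Ideal.span (Ideal.Quotient.mk (Ideal.span ({x₁} : Set R)) ''
                Set.range (fun j : Fin c' => l (Fin.castLE hc' j)))) := by
            rw [hI', hrange c' (Fin.castLE hc')]
        _ = _ := by rw [comap_mk_span_image, sup_comm]

end Groth.Agent.Lib.Helper52
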