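import Mathlib

/-!
# The coaction `R → R[ι]` of a `ι`-graded ring and the shear automorphism (helper52)

For a `ι`-graded commutative ring `R` (`ι` an abelian group), `coact : R →+* R[ι]`, `r ↦ ∑ r_g e^g`,
and `shear : R[ι] ≃+* R[ι]`, `r_g e^h ↦ r_g e^{g+h}`, with `shear ∘ algebraMap = coact`.
-/

set_option linter.unusedSectionVars false

namespace Groth.Agent.Lib.Helper52.GrCoact

open AddMonoidAlgebra DirectSum TensorProduct

section Ideals
variable {ι : Type*} [AddCommMonoid ι] {R : Type*} [CommRing R]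

theorem algebraMap_eq_single (r : R) : algebraMap R R[ι] r = single 0 r := by
  rw [AddMonoidAlgebra.coe_algebraMap]
  rfl

theorem ker_mapRingHom_mk (I : Ideal R) (x : R[ι]) :
    x ∈ RingHom.ker (mapRingHom ι (Ideal.Quotient.mk I)) ↔ ∀ g, x.coeff g ∈ I := by
  rw [RingHom.mem_ker, ← AddMonoidAlgebra.coeff_inj]
  constructor
  · intro h g
    have := DFunLike.congr_fun h g
    rw [coeff_mapRingHom] at this
    exact Ideal.Quotient.eq_zero_iff_mem.mp this
  · intro h
    ext g
    rw [coeff_mapRingHom]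
    exact Ideal.Quotient.eq_zero_iff_mem.mpr (h g)

theorem mem_map_algebraMap_iff (I : Ideal R) (x : R[ι]) :
    x ∈ I.map (algebraMap R R[ι]) ↔ ∀ g, x.coeff g ∈ I := by
  classical
  constructor
  · intro hx
    rw [← ker_mapRingHom_mk]
    revert x
    change I.map (algebraMap R R[ι]) ≤ _
    rw [Ideal.map_le_iff_le_comap]
    intro r hr
    rw [Ideal.mem_comap, ker_mapRingHom_mk, algebraMap_eq_single]
    intro g
    rw [coeff_single, Finsupp.single_apply]
    split_ifs
    · exact hr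
    · exact I.zero_mem
  · intro h
    rw [← sum_coeff_single x]
    apply Ideal.sum_mem
    intro g _
    have : single g (x.coeff g) = algebraMap R R[ι] (x.coeff g) * single g 1 := by
      rw [algebraMap_eq_single, single_mul_single, zero_add, mul_one]
    rw [this]
    exact Ideal.mul_mem_right _ _ (Ideal.mem_map_of_mem _ (h g))

theorem map_algebraMap_eq_ker (I : Ideal R) :
    I.map (algebraMap R R[ι]) = RingHom.ker (mapRingHom ι (Ideal.Quotient.mk I)) := by
  ext x
  rw [mem_map_algebraMap_iff, ker_mapRingHom_mk]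

theorem comap_map_algebraMap (I : Ideal R) :
    (I.map (algebraMap R R[ι])).comap (algebraMap R R[ι]) = I := by
  classical
  ext r
  rw [Ideal.mem_comap, mem_map_algebraMap_iff]
  constructor
  · intro h
    have := h 0
    rwa [algebraMap_eq_single, coeff_single, Finsupp.single_eq_same] at this
  · intro hr g
    rw [algebraMap_eq_single, coeff_single, Finsupp.single_apply]
    split_ifs
    · exact hr
    · exact I.zero_mem

end Ideals

section Ring
variable {ι : Type*} [AddCommGroup ι] [DecidableEq ι] {R : Type*} [CommRing R]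
  (𝒜 : ι → AddSubgroup R) [GradedRing 𝒜]

/-- the coaction on the direct sum -/
noncomputable def coactAux : (⨁ i, 𝒜 i) →+* R[ι] :=
  DirectSum.toSemiring (fun i => (singleAddHom i).comp (𝒜 i).subtype)
    (by
      change single (0 : ι) ((1 : R)) = 1
      rfl)
    (by
      intro i j a b
      change single (i + j) ((a : R) * (b : R)) = single i (a : R) * single j (b : R)
      rw [single_mul_single])

theorem coactAux_of (i : ι) (a : 𝒜 i) : coactAux 𝒜 (DirectSum.of _ i a) = single i (a : R) := by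
  rw [coactAux, DirectSum.toSemiring_of]
  rfl

/-- the coaction `R → R[ι]`, `r ↦ ∑ r_g e^g` -/
noncomputable def coact : R →+* R[ι] := (coactAux 𝒜).comp (decomposeRingEquiv 𝒜).toRingHom

theorem coact_of_mem {g : ι} {r : R} (hr : r ∈ 𝒜 g) : coact 𝒜 r = single g r := by
  change coactAux 𝒜 (decompose 𝒜 r) = _
  rw [decompose_of_mem 𝒜 hr, coactAux_of]

theorem coact_coeff (r : R) (g : ι) : (coact 𝒜 r).coeff g = (decompose 𝒜 r g : R) := by
  induction r using Decomposition.inductionOn 𝒜 with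
  | zero => simp
  | homogeneous m =>
    rename_i i
    rw [coact_of_mem 𝒜 m.2, decompose_coe, coeff_single, DirectSum.of_apply, Finsupp.single_apply]
    split_ifs with h
    · subst h; rfl
    · rfl
  | add m m' h1 h2 => simp [h1, h2]

/-- `e^g ↦ e^{-g}` -/
noncomputable def negHom : R[ι] →+* R[ι] := mapDomainRingHom R (-AddMonoidHom.id ι)

omit [DecidableEq ι] in
theorem negHom_single (g : ι) (r : R) : negHom (single g r) = single (-g) r := by
  simp [negHom, mapDomainRingHom]

/-- the inverse coaction `r ↦ ∑ r_g e^{-g}` -/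
noncomputable def coact' : R →+* R[ι] := negHom.comp (coact 𝒜)

theorem coact'_of_mem {g : ι} {r : R} (hr : r ∈ 𝒜 g) : coact' 𝒜 r = single (-g) r := by
  change negHom (coact 𝒜 r) = _
  rw [coact_of_mem 𝒜 hr, negHom_single]

/-- the shear `r_g e^h ↦ r_g e^{g+h}` -/
noncomputable def shearHom : R[ι] →+* R[ι] :=
  liftNCRingHom (coact 𝒜) (AddMonoidAlgebra.of R ι) (fun _ _ => Commute.all _ _)

noncomputable def shearHom' : R[ι] →+* R[ι] :=
  liftNCRingHom (coact' 𝒜) (AddMonoidAlgebra.of R ι) (fun _ _ => Commute.all _ _)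

theorem shearHom_single (g : ι) (r : R) : shearHom 𝒜 (single g r) = coact 𝒜 r * single g 1 := by
  rw [shearHom, liftNCRingHom_single]
  rfl

theorem shearHom'_single (g : ι) (r : R) : shearHom' 𝒜 (single g r) = coact' 𝒜 r * single g 1 := by
  rw [shearHom', liftNCRingHom_single]
  rfl

theorem shearHom'_coact (r : R) : shearHom' 𝒜 (coact 𝒜 r) = single 0 r := by
  induction r using Decomposition.inductionOn 𝒜 with
  | zero => simp
  | homogeneous m =>
    rw [coact_of_mem 𝒜 m.2, shearHom'_single, coact'_of_mem 𝒜 m.2, single_mul_single]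
    simp
  | add m m' h1 h2 => simp [h1, h2]

theorem shearHom_coact' (r : R) : shearHom 𝒜 (coact' 𝒜 r) = single 0 r := by
  induction r using Decomposition.inductionOn 𝒜 with
  | zero => simp
  | homogeneous m =>
    rw [coact'_of_mem 𝒜 m.2, shearHom_single, coact_of_mem 𝒜 m.2, single_mul_single]
    simp
  | add m m' h1 h2 => simp [h1, h2]

theorem shearHom'_comp : (shearHom' 𝒜).comp (shearHom 𝒜) = RingHom.id _ := by
  apply AddMonoidAlgebra.ringHom_ext
  · intro r
    simp only [RingHom.comp_apply, shearHom_single, RingHom.id_apply, map_mul, shearHom'_coact]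
    rw [shearHom'_single, map_one, one_mul, single_mul_single]
    simp
  · intro g
    simp only [RingHom.comp_apply, shearHom_single, RingHom.id_apply, map_one, one_mul]
    rw [shearHom'_single, map_one, one_mul]

theorem shearHom_comp : (shearHom 𝒜).comp (shearHom' 𝒜) = RingHom.id _ := by
  apply AddMonoidAlgebra.ringHom_ext
  · intro r
    simp only [RingHom.comp_apply, shearHom'_single, RingHom.id_apply, map_mul, shearHom_coact']
    rw [shearHom_single, map_one, one_mul, single_mul_single]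
    simp
  · intro g
    simp only [RingHom.comp_apply, shearHom'_single, RingHom.id_apply, map_one, one_mul]
    rw [shearHom_single, map_one, one_mul]

/-- the shear automorphism of `R[ι]` -/
noncomputable def shear : R[ι] ≃+* R[ι] :=
  RingEquiv.ofRingHom (shearHom 𝒜) (shearHom' 𝒜) (shearHom_comp 𝒜) (shearHom'_comp 𝒜)

theorem shear_apply (x : R[ι]) : shear 𝒜 x = shearHom 𝒜 x := rfl

theorem shear_algebraMap (r : R) : shear 𝒜 (algebraMap R R[ι] r) = coact 𝒜 r := by
  rw [shear_apply, AddMonoidAlgebra.coe_algebraMap]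
  simp only [Function.comp_apply, Algebra.algebraMap_self, RingHom.id_apply]
  rw [shearHom_single]
  change _ * (1 : R[ι]) = _
  rw [mul_one]

theorem coact_eq_comp : coact 𝒜 = (shear 𝒜).toRingHom.comp (algebraMap R R[ι]) := by
  ext r : 1
  exact (shear_algebraMap 𝒜 r).symm


theorem comap_coact_map (I : Ideal R) :
    (I.map (algebraMap R R[ι])).comap (coact 𝒜) = (I.homogeneousCore 𝒜).toIdeal := by
  classical
  ext r
  rw [Ideal.mem_comap, mem_map_algebraMap_iff]
  simp only [coact_coeff]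
  constructor
  · intro h
    rw [← DirectSum.sum_support_decompose 𝒜 r]
    apply Ideal.sum_mem
    intro g _
    exact Ideal.mem_homogeneousCore_of_homogeneous_of_mem ⟨g, SetLike.coe_mem _⟩ (h g)
  · intro h g
    exact Ideal.toIdeal_homogeneousCore_le 𝒜 I ((I.homogeneousCore 𝒜).isHomogeneous g h)

theorem map_coact_eq (J : Ideal R) (hJ : J.IsHomogeneous 𝒜) :
    J.map (coact 𝒜) = J.map (algebraMap R R[ι]) := by
  classical
  apply le_antisymm
  · rw [Ideal.map_le_iff_le_comap]
    intro r hr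
    rw [Ideal.mem_comap, mem_map_algebraMap_iff]
    intro g
    rw [coact_coeff]
    exact hJ g hr
  · rw [Ideal.map_le_iff_le_comap]
    intro r hr
    rw [Ideal.mem_comap, ← DirectSum.sum_support_decompose 𝒜 r, map_sum]
    apply Ideal.sum_mem
    intro g _
    have h1 : algebraMap R R[ι] (decompose 𝒜 r g : R) =
        coact 𝒜 (decompose 𝒜 r g : R) * single (-g) 1 := by
      rw [coact_of_mem 𝒜 (SetLike.coe_mem _), single_mul_single, algebraMap_eq_single]
      simp
    rw [h1]
    exact Ideal.mul_mem_right _ _ (Ideal.mem_map_of_mem _ (hJ g hr))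

end Ring

section Synonym
variable {ι : Type*} [AddCommGroup ι] [DecidableEq ι] {R : Type*} [CommRing R]
  (𝒜 : ι → AddSubgroup R) [GradedRing 𝒜]

/-- `R`, regarded as a ring over which `R[ι]` is an algebra via the coaction. -/
def Rco (_𝒜 : ι → AddSubgroup R) : Type _ := R

instance : CommRing (Rco 𝒜) := inferInstanceAs (CommRing R)

noncomputable instance : Algebra (Rco 𝒜) R[ι] := (coact 𝒜).toAlgebra

/-- the identification `R ≃ Rco 𝒜` -/
def toRco : R ≃+* Rco 𝒜 := RingEquiv.refl R

theorem algebraMap_Rco (r : R) : algebraMap (Rco 𝒜) R[ι] (toRco 𝒜 r) = coact 𝒜 r := rfl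

theorem algebraMap_Rco' (r : Rco 𝒜) :
    algebraMap (Rco 𝒜) R[ι] r = coact 𝒜 ((toRco 𝒜).symm r) := rfl

theorem smul_Rco (r : R) (x : R[ι]) : toRco 𝒜 r • x = coact 𝒜 r * x := rfl

theorem smul_Rco' (r : Rco 𝒜) (x : R[ι]) : r • x = coact 𝒜 ((toRco 𝒜).symm r) * x := rfl

instance : SMulCommClass R (Rco 𝒜) R[ι] :=
  ⟨fun r s x => by rw [smul_Rco', smul_Rco', Algebra.smul_def, Algebra.smul_def]; ring⟩

instance : SMulCommClass (Rco 𝒜) R R[ι] :=
  ⟨fun r s x => by rw [smul_Rco', smul_Rco', Algebra.smul_def, Algebra.smul_def]; ring⟩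

/-- An `R`-module, regarded as a module over `Rco 𝒜`. -/
def Mco (_𝒜 : ι → AddSubgroup R) (M : Type*) : Type _ := M

variable (M : Type*) [AddCommGroup M] [Module R M]

instance : AddCommGroup (Mco 𝒜 M) := inferInstanceAs (AddCommGroup M)

instance : Module (Rco 𝒜) (Mco 𝒜 M) := inferInstanceAs (Module R M)

instance [Module.Finite R M] : Module.Finite (Rco 𝒜) (Mco 𝒜 M) := inferInstanceAs (Module.Finite R M)

instance [IsNoetherianRing R] : IsNoetherianRing (Rco 𝒜) := inferInstanceAs (IsNoetherianRing R)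

/-- the identification `M ≃ Mco 𝒜 M` -/
def toMco : M ≃+ Mco 𝒜 M := AddEquiv.refl M

theorem toMco_smul (r : R) (m : M) : toMco 𝒜 M (r • m) = toRco 𝒜 r • toMco 𝒜 M m := rfl

end Synonym


section Twist
variable {ι : Type*} [AddCommGroup ι] [DecidableEq ι] {R : Type*} [CommRing R]
  (𝒜 : ι → AddSubgroup R) [GradedRing 𝒜]
  {M : Type*} [AddCommGroup M] [Module R M] (ℳ : ι → AddSubgroup M) [DirectSum.Decomposition ℳ]
  [SetLike.GradedSMul 𝒜 ℳ]

/-- semilinearity can be checked on homogeneous elements -/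
theorem semilinear_of_homogeneous {Q : Type*} [AddCommGroup Q] [Module R[ι] Q] (φ : M →+ Q)
    (f : R →+* R[ι])
    (h : ∀ (i j : ι) (r : R) (m : M), r ∈ 𝒜 i → m ∈ ℳ j → φ (r • m) = f r • φ m)
    (r : R) (m : M) : φ (r • m) = f r • φ m := by
  induction r using Decomposition.inductionOn 𝒜 with
  | zero => simp
  | homogeneous a =>
    induction m using Decomposition.inductionOn ℳ with
    | zero => simp
    | homogeneous b => exact h _ _ _ _ a.2 b.2
    | add m m' h1 h2 => rw [smul_add, map_add, h1, h2, map_add, smul_add]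
  | add a a' h1 h2 => rw [add_smul, map_add, h1, h2, map_add, add_smul]

variable (S : Type*) [CommRing S] [Algebra S R[ι]] (N : Type*) [AddCommGroup N] [Module S N]

/-- the module coaction `m ↦ ∑ e^{c g} ⊗ m_g`, as an additive map (`e : M → N` an additive
identification) -/
noncomputable def mco (c : ι → ι) (e : M →+ N) : M →+ R[ι] ⊗[S] N :=
  (DirectSum.toAddMonoid (fun g =>
    (((TensorProduct.mk S R[ι] N (single (c g) 1)).toAddMonoidHom).comp e).comp
      (ℳ g).subtype)).comp (decomposeAddEquiv ℳ).toAddMonoidHom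

theorem mco_of_mem (c : ι → ι) (e : M →+ N) {g : ι} {m : M} (hm : m ∈ ℳ g) :
    mco ℳ S N c e m = single (c g) (1 : R) ⊗ₜ[S] e m := by
  change DirectSum.toAddMonoid _ (decompose ℳ m) = _
  rw [decompose_of_mem ℳ hm, DirectSum.toAddMonoid_of]
  rfl


/-- the module coaction is semilinear for the ring coaction -/
theorem mco_id_smul (r : R) (m : M) :
    mco (R := R) ℳ R M id (AddMonoidHom.id M) (r • m) = coact 𝒜 r • mco (R := R) ℳ R M id (AddMonoidHom.id M) m := by
  apply semilinear_of_homogeneous 𝒜 ℳ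
  intro i j r m hr hm
  have hrm : r • m ∈ ℳ (i + j) := SetLike.GradedSMul.smul_mem hr hm
  rw [mco_of_mem (R := R) ℳ R M id _ hrm, mco_of_mem (R := R) ℳ R M id _ hm, coact_of_mem 𝒜 hr]
  simp only [id_eq, AddMonoidHom.id_apply]
  rw [← TensorProduct.smul_tmul, TensorProduct.smul_tmul', smul_eq_mul, single_mul_single, mul_one,
    AddMonoidAlgebra.smul_single, smul_eq_mul, mul_one]

theorem mco_neg_smul (r : R) (m : M) :
    mco (R := R) ℳ (Rco 𝒜) (Mco 𝒜 M) Neg.neg (toMco 𝒜 M).toAddMonoidHom (r • m) =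
      algebraMap R R[ι] r •
        mco (R := R) ℳ (Rco 𝒜) (Mco 𝒜 M) Neg.neg (toMco 𝒜 M).toAddMonoidHom m := by
  apply semilinear_of_homogeneous 𝒜 ℳ
  intro i j r m hr hm
  have hrm : r • m ∈ ℳ (i + j) := SetLike.GradedSMul.smul_mem hr hm
  rw [mco_of_mem (R := R) ℳ _ _ _ _ hrm, mco_of_mem (R := R) ℳ _ _ _ _ hm]
  simp only [AddEquiv.toAddMonoidHom_eq_coe, AddMonoidHom.coe_coe]
  rw [toMco_smul, ← TensorProduct.smul_tmul, smul_Rco, coact_of_mem 𝒜 hr, single_mul_single,
    TensorProduct.smul_tmul', smul_eq_mul, algebraMap_eq_single, single_mul_single]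
  congr 2
  · abel
  


/-- the module coaction as an `Rco 𝒜`-linear map -/
noncomputable def theta : Mco 𝒜 M →ₗ[Rco 𝒜] R[ι] ⊗[R] M where
  toFun m := mco (R := R) ℳ R M id (AddMonoidHom.id M) ((toMco 𝒜 M).symm m)
  map_add' a b := by rw [map_add, map_add]
  map_smul' r m := by
    have h := mco_id_smul 𝒜 ℳ ((toRco 𝒜).symm r) ((toMco 𝒜 M).symm m)
    rw [RingHom.id_apply]
    refine Eq.trans ?_ (h.trans ?_)
    · rfl
    · rw [← algebraMap_Rco', algebraMap_smul]

theorem theta_of_mem {g : ι} {m : M} (hm : m ∈ ℳ g) :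
    theta 𝒜 ℳ (toMco 𝒜 M m) = single g (1 : R) ⊗ₜ[R] m := by
  change mco (R := R) ℳ R M id (AddMonoidHom.id M) m = _
  rw [mco_of_mem (R := R) ℳ R M id _ hm]
  rfl

/-- the inverse module coaction as an `R`-linear map -/
noncomputable def theta' : M →ₗ[R] R[ι] ⊗[Rco 𝒜] Mco 𝒜 M where
  toFun m := mco (R := R) ℳ (Rco 𝒜) (Mco 𝒜 M) Neg.neg (toMco 𝒜 M).toAddMonoidHom m
  map_add' a b := by rw [map_add]
  map_smul' r m := by
    rw [RingHom.id_apply, mco_neg_smul, algebraMap_smul]

theorem theta'_of_mem {g : ι} {m : M} (hm : m ∈ ℳ g) :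
    theta' 𝒜 ℳ m = single (-g) (1 : R) ⊗ₜ[Rco 𝒜] toMco 𝒜 M m := by
  change mco (R := R) ℳ (Rco 𝒜) (Mco 𝒜 M) Neg.neg (toMco 𝒜 M).toAddMonoidHom m = _
  rw [mco_of_mem (R := R) ℳ _ _ _ _ hm]
  rfl

/-- forward twist -/
noncomputable def twistHom : R[ι] ⊗[Rco 𝒜] Mco 𝒜 M →ₗ[R[ι]] R[ι] ⊗[R] M :=
  LinearMap.liftBaseChange R[ι] (theta 𝒜 ℳ)

/-- backward twist -/
noncomputable def twistInv : R[ι] ⊗[R] M →ₗ[R[ι]] R[ι] ⊗[Rco 𝒜] Mco 𝒜 M :=
  LinearMap.liftBaseChange R[ι] (theta' 𝒜 ℳ)

theorem twistHom_tmul (t : R[ι]) (m : Mco 𝒜 M) :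
    twistHom 𝒜 ℳ (t ⊗ₜ m) = t • theta 𝒜 ℳ m := by
  rw [twistHom, LinearMap.liftBaseChange_tmul]

theorem twistInv_tmul (t : R[ι]) (m : M) :
    twistInv 𝒜 ℳ (t ⊗ₜ m) = t • theta' 𝒜 ℳ m := by
  rw [twistInv, LinearMap.liftBaseChange_tmul]

theorem twistInv_twistHom (x : R[ι] ⊗[Rco 𝒜] Mco 𝒜 M) : twistInv 𝒜 ℳ (twistHom 𝒜 ℳ x) = x := by
  induction x using TensorProduct.induction_on with
  | zero => simp
  | add a b ha hb => rw [map_add, map_add, ha, hb]
  | tmul t m =>
    obtain ⟨m, rfl⟩ := (toMco 𝒜 M).surjective m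
    rw [twistHom_tmul, map_smul]
    have key : twistInv 𝒜 ℳ (theta 𝒜 ℳ (toMco 𝒜 M m)) = (1 : R[ι]) ⊗ₜ[Rco 𝒜] toMco 𝒜 M m := by
      induction m using Decomposition.inductionOn ℳ with
      | zero => simp
      | homogeneous b =>
        rw [theta_of_mem 𝒜 ℳ b.2, twistInv_tmul, theta'_of_mem 𝒜 ℳ b.2, TensorProduct.smul_tmul',
          smul_eq_mul, single_mul_single]
        simp [AddMonoidAlgebra.one_def]
      | add m m' h1 h2 => simp only [map_add, h1, h2, TensorProduct.tmul_add]
    rw [key, TensorProduct.smul_tmul', smul_eq_mul, mul_one]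

theorem twistHom_twistInv (x : R[ι] ⊗[R] M) : twistHom 𝒜 ℳ (twistInv 𝒜 ℳ x) = x := by
  induction x using TensorProduct.induction_on with
  | zero => simp
  | add a b ha hb => rw [map_add, map_add, ha, hb]
  | tmul t m =>
    rw [twistInv_tmul, map_smul]
    have key : twistHom 𝒜 ℳ (theta' 𝒜 ℳ m) = (1 : R[ι]) ⊗ₜ[R] m := by
      induction m using Decomposition.inductionOn ℳ with
      | zero => simp
      | homogeneous b =>
        rw [theta'_of_mem 𝒜 ℳ b.2, twistHom_tmul, theta_of_mem 𝒜 ℳ b.2, TensorProduct.smul_tmul',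
          smul_eq_mul, single_mul_single]
        simp [AddMonoidAlgebra.one_def]
      | add m m' h1 h2 => simp only [map_add, h1, h2, TensorProduct.tmul_add]
    rw [key, TensorProduct.smul_tmul', smul_eq_mul, mul_one]

/-- **The twist**: base change of a graded module along the coaction is isomorphic to the base
change along the constants. -/
noncomputable def twistEquiv : R[ι] ⊗[Rco 𝒜] Mco 𝒜 M ≃ₗ[R[ι]] R[ι] ⊗[R] M :=
  LinearEquiv.ofLinearMap (twistHom 𝒜 ℳ) (twistInv 𝒜 ℳ)
    (LinearMap.ext (twistHom_twistInv 𝒜 ℳ)) (LinearMap.ext (twistInv_twistHom 𝒜 ℳ))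

end Twist

end Groth.Agent.Lib.Helper52.GrCoact
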