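import Mathlib

set_option linter.unusedSectionVars false

namespace Groth.Agent.Lib.Helper52.GrQuot

open DirectSum

section
variable {ι : Type*} [DecidableEq ι] [AddMonoid ι] {R : Type*} [CommRing R]
  (𝒜 : ι → AddSubgroup R) [GradedRing 𝒜] (I : Ideal R)

/-- the induced grading on a quotient -/
def quotGrading (i : ι) : AddSubgroup (R ⧸ I) :=
  (𝒜 i).map (Ideal.Quotient.mk I).toAddMonoidHom

theorem mk_mem_quotGrading {i : ι} {a : R} (ha : a ∈ 𝒜 i) :
    Ideal.Quotient.mk I a ∈ quotGrading 𝒜 I i := ⟨a, ha, rfl⟩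

theorem exists_of_mem_quotGrading {i : ι} {b : R ⧸ I} (hb : b ∈ quotGrading 𝒜 I i) :
    ∃ a ∈ 𝒜 i, Ideal.Quotient.mk I a = b := by
  obtain ⟨a, ha, rfl⟩ := hb
  exact ⟨a, ha, rfl⟩

instance quotGrading_gradedMonoid : SetLike.GradedMonoid (quotGrading 𝒜 I) where
  one_mem := ⟨1, SetLike.GradedOne.one_mem, map_one (Ideal.Quotient.mk I)⟩
  mul_mem := by
    rintro i j _ _ ⟨a, ha, rfl⟩ ⟨b, hb, rfl⟩
    exact ⟨a * b, SetLike.GradedMul.mul_mem ha hb, map_mul (Ideal.Quotient.mk I) a b⟩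

/-- restriction of the quotient map to graded pieces -/
def quotRestrict (i : ι) : 𝒜 i →+ quotGrading 𝒜 I i :=
  ((Ideal.Quotient.mk I).toAddMonoidHom.comp (𝒜 i).subtype).codRestrict _
    fun a => ⟨a, a.2, rfl⟩

@[simp] theorem coe_quotRestrict (i : ι) (a : 𝒜 i) :
    ((quotRestrict 𝒜 I i a : quotGrading 𝒜 I i) : R ⧸ I) = Ideal.Quotient.mk I (a : R) := rfl

noncomputable def quotDecomposeAux : R →+ ⨁ i, quotGrading 𝒜 I i :=
  (DirectSum.map (quotRestrict 𝒜 I)).comp (decomposeAddEquiv 𝒜).toAddMonoidHom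

theorem quotDecomposeAux_of_mem {i : ι} {a : R} (ha : a ∈ 𝒜 i) :
    quotDecomposeAux 𝒜 I a =
      DirectSum.of (fun i => quotGrading 𝒜 I i) i
        ⟨Ideal.Quotient.mk I a, mk_mem_quotGrading 𝒜 I ha⟩ := by
  change DirectSum.map (quotRestrict 𝒜 I) (decompose 𝒜 a) = _
  rw [decompose_of_mem 𝒜 ha, DirectSum.map_of]
  rfl

variable {I}

theorem quotDecomposeAux_eq_zero (hI : I.IsHomogeneous 𝒜) {a : R} (ha : a ∈ I) :
    quotDecomposeAux 𝒜 I a = 0 := by
  classical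
  rw [← DirectSum.sum_support_decompose 𝒜 a, map_sum]
  refine Finset.sum_eq_zero fun i _ => ?_
  rw [quotDecomposeAux_of_mem 𝒜 I (SetLike.coe_mem _)]
  have : Ideal.Quotient.mk I (DirectSum.decompose 𝒜 a i : R) = 0 :=
    Ideal.Quotient.eq_zero_iff_mem.mpr (hI i ha)
  have h0 : (⟨Ideal.Quotient.mk I (DirectSum.decompose 𝒜 a i : R),
      mk_mem_quotGrading 𝒜 I (SetLike.coe_mem _)⟩ : quotGrading 𝒜 I i) = 0 :=
    Subtype.ext this
  rw [h0, map_zero]

noncomputable def quotDecompose (hI : I.IsHomogeneous 𝒜) : R ⧸ I →+ ⨁ i, quotGrading 𝒜 I i :=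
  AddMonoidHom.liftOfSurjective (Ideal.Quotient.mk I).toAddMonoidHom Ideal.Quotient.mk_surjective
    ⟨quotDecomposeAux 𝒜 I, by
      intro a ha
      rw [AddMonoidHom.mem_ker] at ha ⊢
      exact quotDecomposeAux_eq_zero 𝒜 hI (Ideal.Quotient.eq_zero_iff_mem.mp ha)⟩

theorem quotDecompose_mk (hI : I.IsHomogeneous 𝒜) (a : R) :
    quotDecompose 𝒜 hI (Ideal.Quotient.mk I a) = quotDecomposeAux 𝒜 I a := by
  rw [quotDecompose]
  exact AddMonoidHom.liftOfRightInverse_comp_apply _ _ _ _ a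

/-- the quotient of a graded ring by a homogeneous ideal is graded -/
@[reducible] noncomputable def quotGradedRing (hI : I.IsHomogeneous 𝒜) :
    GradedRing (quotGrading 𝒜 I) where
  toGradedMonoid := quotGrading_gradedMonoid 𝒜 I
  toDecomposition := Decomposition.ofAddHom _ (quotDecompose 𝒜 hI)
    (by
      ext x
      obtain ⟨a, rfl⟩ := Ideal.Quotient.mk_surjective x
      simp only [AddMonoidHom.comp_apply, AddMonoidHom.id_apply]
      rw [quotDecompose_mk]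
      classical
      rw [← DirectSum.sum_support_decompose 𝒜 a, map_sum, map_sum, map_sum]
      refine Finset.sum_congr rfl fun i _ => ?_
      rw [quotDecomposeAux_of_mem 𝒜 I (SetLike.coe_mem _), DirectSum.coeAddMonoidHom_of])
    (by
      apply DirectSum.addHom_ext
      rintro i ⟨b, hb⟩
      obtain ⟨a, ha, rfl⟩ := exists_of_mem_quotGrading 𝒜 I hb
      simp only [AddMonoidHom.comp_apply, AddMonoidHom.id_apply, DirectSum.coeAddMonoidHom_of]
      rw [quotDecompose_mk]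
      exact quotDecomposeAux_of_mem 𝒜 I ha)


theorem homogeneousCore_eq_bot_of_forall (J : Ideal R)
    (h : ∀ x : R, SetLike.IsHomogeneousElem 𝒜 x → x ∈ J → x = 0) :
    (J.homogeneousCore 𝒜).toIdeal = ⊥ := by
  change Ideal.homogeneousCore' 𝒜 J = ⊥
  rw [Ideal.homogeneousCore', Ideal.span_eq_bot]
  rintro _ ⟨⟨x, hx⟩, hxJ, rfl⟩
  exact h x hx hxJ

/-- in `R ⧸ p*`, the image of `p` contains no nonzero homogeneous element -/
theorem eq_zero_of_homogeneous_of_mem_map (p : Ideal R)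
    (x : R ⧸ (p.homogeneousCore 𝒜).toIdeal)
    (hx : SetLike.IsHomogeneousElem (quotGrading 𝒜 (p.homogeneousCore 𝒜).toIdeal) x)
    (hxp : x ∈ p.map (Ideal.Quotient.mk (p.homogeneousCore 𝒜).toIdeal)) : x = 0 := by
  obtain ⟨i, hi⟩ := hx
  obtain ⟨a, ha, rfl⟩ := exists_of_mem_quotGrading 𝒜 _ hi
  rw [Ideal.mem_quotient_iff_mem (Ideal.toIdeal_homogeneousCore_le 𝒜 p)] at hxp
  exact Ideal.Quotient.eq_zero_iff_mem.mpr
    (Ideal.mem_homogeneousCore_of_homogeneous_of_mem ⟨i, ha⟩ hxp)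

end

end Groth.Agent.Lib.Helper52.GrQuot
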