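import Mathlib
import Groth.Agent.Lib.Helper52.GrCoact
import Groth.Agent.Lib.Helper56.CMRing

/-!
# Group algebras `R[ι]` of a free abelian group of finite rank (helper52)

Noetherian, domain, extended primes are prime, and Cohen–Macaulay over a Cohen–Macaulay ring.
-/

set_option linter.unusedSectionVars false

namespace Groth.Agent.Lib.Helper52.LaurentCM

open AddMonoidAlgebra LocCoh
open Groth.Agent.Lib.Helper52.GrCoact Groth.Agent.Lib.Helper56

universe u

section Basic
variable {ι : Type} [AddCommGroup ι] [Module.Free ℤ ι] [Module.Finite ℤ ι]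
  {R : Type u} [CommRing R]

theorem uniqueSums : UniqueSums ι :=
  (Module.Free.chooseBasis ℤ ι).repr.toAddEquiv.uniqueSums_iff.mpr inferInstance

theorem isNoetherianRing [IsNoetherianRing R] : IsNoetherianRing R[ι] := by
  have h1 : AddMonoid.FG ι := by
    rw [← AddGroup.fg_iff_addMonoid_fg, ← Module.Finite.iff_addGroup_fg]
    infer_instance
  have := AddMonoidAlgebra.finiteType_of_fg R ι
  exact Algebra.FiniteType.isNoetherianRing R R[ι]

example : Module.Free R R[ι] := inferInstance

theorem isDomain [IsDomain R] : IsDomain R[ι] := by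
  have := uniqueSums (ι := ι)
  infer_instance

theorem map_isPrime (p : Ideal R) [p.IsPrime] : (p.map (algebraMap R R[ι])).IsPrime := by
  rw [map_algebraMap_eq_ker]
  have : IsDomain (R ⧸ p)[ι] := isDomain
  exact RingHom.ker_isPrime _

end Basic

section CM

theorem isCohenMacaulayRing_laurent (A : Type u) [CommRing A] (h : IsCohenMacaulayRing A) :
    IsCohenMacaulayRing (LaurentPolynomial A) := by
  have h1 := isCohenMacaulayRing_polynomial A h
  exact isCohenMacaulayRing_of_isLocalization (Submonoid.powers (Polynomial.X : Polynomial A))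
    (LaurentPolynomial A) h1

theorem isCohenMacaulayRing_fin (n : ℕ) : ∀ (A : Type u) [CommRing A] (_ : IsCohenMacaulayRing A),
    IsCohenMacaulayRing A[Fin n → ℤ] := by
  induction n with
  | zero =>
    intro A _ h
    exact isCohenMacaulayRing_of_ringEquiv (AddMonoidAlgebra.uniqueRingEquiv (R := A) (M := Fin 0 → ℤ)).symm h
  | succ n ih =>
    intro A _ h
    have h1 := isCohenMacaulayRing_laurent _ (ih A h)
    let e1 : A[Fin (n + 1) → ℤ] ≃+* A[ℤ × (Fin n → ℤ)] :=
      AddMonoidAlgebra.mapDomainRingEquiv A (Fin.consLinearEquiv ℤ (fun _ : Fin (n + 1) => ℤ)).symm.toAddEquiv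
    let e2 : A[ℤ × (Fin n → ℤ)] ≃+* A[Fin n → ℤ][ℤ] := AddMonoidAlgebra.curryRingEquiv
    exact isCohenMacaulayRing_of_ringEquiv (e1.trans e2).symm h1

theorem isCohenMacaulayRing_free {ι : Type} [AddCommGroup ι] [Module.Free ℤ ι] [Module.Finite ℤ ι]
    (A : Type u) [CommRing A] (h : IsCohenMacaulayRing A) : IsCohenMacaulayRing A[ι] := by
  have h1 := isCohenMacaulayRing_fin (Module.finrank ℤ ι) A h
  let e : ι ≃+ (Fin (Module.finrank ℤ ι) → ℤ) := (Module.finBasis ℤ ι).equivFun.toAddEquiv
  exact isCohenMacaulayRing_of_ringEquiv (AddMonoidAlgebra.mapDomainRingEquiv A e).symm h1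

theorem isCohenMacaulayRing_field {ι : Type} [AddCommGroup ι] [Module.Free ℤ ι] [Module.Finite ℤ ι]
    (K : Type u) [Field K] : IsCohenMacaulayRing K[ι] :=
  isCohenMacaulayRing_free K (isCohenMacaulayRing_of_isArtinianRing K)

end CM

end Groth.Agent.Lib.Helper52.LaurentCM
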