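import Mathlib
import Groth.Agent.Lib.Helper52.GrCoact
import Groth.Agent.Lib.Helper52.GrQuot
import Groth.Agent.Lib.Helper52.LaurentCM
import Groth.Agent.Lib.Helper77.FlatDepth2

set_option linter.unusedSectionVars false

namespace Groth.Agent.Lib.Helper52.GrCoreCM

open AddMonoidAlgebra LocCoh IsLocalRing
open Groth.Agent.Lib.Helper52.GrCoact Groth.Agent.Lib.Helper52.GrQuot
  Groth.Agent.Lib.Helper52.LaurentCM Groth.Agent.Lib.Helper56

universe u

section
variable {ι : Type} [AddCommGroup ι] [DecidableEq ι] [Module.Free ℤ ι] [Module.Finite ℤ ι]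
  {D : Type u} [CommRing D] [IsDomain D] [IsNoetherianRing D]
  (𝒟 : ι → AddSubgroup D) [GradedRing 𝒟] (p : Ideal D) [p.IsPrime]
  (hp : ∀ x : D, SetLike.IsHomogeneousElem 𝒟 x → x ∈ p → x = 0)

local notation "T" => AddMonoidAlgebra D ι
local notation "K" => FractionRing D

instance : IsDomain T := LaurentCM.isDomain
instance : IsNoetherianRing T := LaurentCM.isNoetherianRing
instance : (p.map (algebraMap D T)).IsPrime := LaurentCM.map_isPrime p

local notation "P" => Ideal.map (algebraMap D T) p
local notation "F" => Localization.AtPrime (Ideal.map (algebraMap D T) p)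

include hp in
theorem coact_notMem {d : D} (hd : d ≠ 0) : coact 𝒟 d ∉ P := by
  intro h
  have h1 : d ∈ (P).comap (coact 𝒟) := h
  rw [comap_coact_map, homogeneousCore_eq_bot_of_forall 𝒟 p hp] at h1
  exact hd h1

include hp in
theorem isUnit_coact (y : nonZeroDivisors D) :
    IsUnit (((algebraMap T F).comp (coact 𝒟)) y) := by
  have hy : (y : D) ≠ 0 := nonZeroDivisors.coe_ne_zero y
  exact IsLocalization.map_units F (⟨coact 𝒟 y, coact_notMem 𝒟 p hp hy⟩ : (P).primeCompl)

/-- the extension of the coaction to the fraction field -/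
noncomputable def psi : K →+* F :=
  IsLocalization.lift (M := nonZeroDivisors D) (g := (algebraMap T F).comp (coact 𝒟))
    (isUnit_coact 𝒟 p hp)

theorem psi_algebraMap (d : D) : psi 𝒟 p hp (algebraMap D K d) = algebraMap T F (coact 𝒟 d) := by
  rw [psi, IsLocalization.lift_eq]
  rfl

/-- the map `K[ι] → F` -/
noncomputable def Psi : AddMonoidAlgebra K ι →+* F :=
  liftNCRingHom (psi 𝒟 p hp) ((algebraMap T F).toMonoidHom.comp (AddMonoidAlgebra.of D ι))
    (fun _ _ => Commute.all _ _)

theorem Psi_single (g : ι) (k : K) :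
    Psi 𝒟 p hp (single g k) = psi 𝒟 p hp k * algebraMap T F (single g 1) := by
  rw [Psi, liftNCRingHom_single]
  rfl

theorem Psi_comp : (Psi 𝒟 p hp).comp (mapRingHom ι (algebraMap D K)) =
    (algebraMap T F).comp (shear 𝒟).toRingHom := by
  apply AddMonoidAlgebra.ringHom_ext
  · intro d
    simp only [RingHom.comp_apply, mapRingHom_single, Psi_single, psi_algebraMap]
    rw [← map_mul]
    congr 1
    change _ = shearHom 𝒟 (single 0 d)
    rw [shearHom_single]
  · intro g
    simp only [RingHom.comp_apply, mapRingHom_single, Psi_single, map_one, one_mul]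
    congr 1
    change _ = shearHom 𝒟 (single g 1)
    rw [shearHom_single, map_one, one_mul]

theorem Psi_map (x : T) : Psi 𝒟 p hp (mapRingHom ι (algebraMap D K) x) =
    algebraMap T F (shear 𝒟 x) := by
  have := RingHom.congr_fun (Psi_comp 𝒟 p hp) x
  exact this


instance : IsDomain (AddMonoidAlgebra K ι) := LaurentCM.isDomain

theorem Psi_injective : Function.Injective (Psi 𝒟 p hp) := by
  rw [injective_iff_map_eq_zero]
  intro x hx
  classical
  obtain ⟨b, hb⟩ := IsLocalization.exist_integer_multiples (nonZeroDivisors D) x.coeff.support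
    (fun g => x.coeff g)
  have hb0 : algebraMap D K (b : D) ≠ 0 := by
    rw [Ne, IsFractionRing.to_map_eq_zero_iff]
    exact nonZeroDivisors.coe_ne_zero b
  have hy : single (0 : ι) (algebraMap D K (b : D)) * x ∈
      Set.range (AddMonoidAlgebra.map (M := ι) (algebraMap D K).toAddMonoidHom) := by
    rw [AddMonoidAlgebra.range_map]
    intro i
    rw [coeff_single_zero_mul]
    by_cases hi : i ∈ x.coeff.support
    · obtain ⟨d, hd⟩ := hb i hi
      exact ⟨d, by rw [RingHom.toAddMonoidHom_eq_coe, AddMonoidHom.coe_coe, hd, Algebra.smul_def]⟩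
    · rw [Finsupp.notMem_support_iff.mp hi, mul_zero]
      exact ⟨0, map_zero _⟩
  obtain ⟨x₀, hx₀⟩ := hy
  have hx₀' : mapRingHom ι (algebraMap D K) x₀ = single (0 : ι) (algebraMap D K (b : D)) * x := hx₀
  have h1 : algebraMap T F (shear 𝒟 x₀) = 0 := by
    rw [← Psi_map 𝒟 p hp, hx₀', map_mul, hx, mul_zero]
  have h2 : shear 𝒟 x₀ = 0 := by
    have hinj : Function.Injective (algebraMap T F) :=
      IsLocalization.injective F (P).primeCompl_le_nonZeroDivisors
    exact hinj (by rw [h1, map_zero])
  have h3 : x₀ = 0 := by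
    have := (shear 𝒟).injective (a₁ := x₀) (a₂ := 0) (by rw [h2, map_zero])
    exact this
  rw [h3, map_zero] at hx₀'
  rcases mul_eq_zero.mp hx₀'.symm with h | h
  · exact absurd (single_eq_zero.mp h) hb0
  · exact h

theorem isLocalization_Psi :
    letI := (Psi 𝒟 p hp).toAlgebra
    IsLocalization.AtPrime F ((maximalIdeal F).comap (Psi 𝒟 p hp)) := by
  let _ := (Psi 𝒟 p hp).toAlgebra
  have halg : ∀ x, algebraMap (AddMonoidAlgebra K ι) F x = Psi 𝒟 p hp x := fun _ => rfl
  rw [IsLocalization.AtPrime, isLocalization_iff]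
  refine ⟨?_, ?_, ?_⟩
  · rintro ⟨y, hy⟩
    rw [halg]
    by_contra hcon
    exact hy ((mem_maximalIdeal _).mpr hcon)
  · intro z
    obtain ⟨a, s, rfl⟩ := IsLocalization.exists_mk'_eq (P).primeCompl z
    have hs : Psi 𝒟 p hp (mapRingHom ι (algebraMap D K) ((shear 𝒟).symm s)) =
        algebraMap T F s := by
      rw [Psi_map, RingEquiv.apply_symm_apply]
    have ha : Psi 𝒟 p hp (mapRingHom ι (algebraMap D K) ((shear 𝒟).symm a)) =
        algebraMap T F a := by
      rw [Psi_map, RingEquiv.apply_symm_apply]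
    refine ⟨⟨mapRingHom ι (algebraMap D K) ((shear 𝒟).symm a),
      ⟨mapRingHom ι (algebraMap D K) ((shear 𝒟).symm s), ?_⟩⟩, ?_⟩
    · intro hmem
      have hmem' : Psi 𝒟 p hp (mapRingHom ι (algebraMap D K) ((shear 𝒟).symm s)) ∈
          maximalIdeal F := hmem
      rw [hs] at hmem'
      exact (mem_maximalIdeal _).mp hmem' (IsLocalization.map_units F s)
    · simp only [halg]
      rw [hs, ha, IsLocalization.mk'_spec]
  · intro x y hxy
    rw [halg, halg] at hxy
    exact ⟨1, by rw [Psi_injective 𝒟 p hp hxy]⟩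

include hp in
theorem isCohenMacaulayLocalRing_F : IsCohenMacaulayLocalRing F := by
  let _ := (Psi 𝒟 p hp).toAlgebra
  have hloc := isLocalization_Psi 𝒟 p hp
  have hCM : IsCohenMacaulayRing (AddMonoidAlgebra K ι) := isCohenMacaulayRing_field K
  have h1 := hCM.isCohenMacaulayLocalRing_localization ((maximalIdeal F).comap (Psi 𝒟 p hp))
  exact isCohenMacaulayLocalRing_of_ringEquiv
    (IsLocalization.algEquiv ((maximalIdeal F).comap (Psi 𝒟 p hp)).primeCompl
      (Localization.AtPrime ((maximalIdeal F).comap (Psi 𝒟 p hp))) F).toRingEquiv h1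


instance liesOver_map : (P).LiesOver p := ⟨(comap_map_algebraMap p).symm⟩

include hp in
/-- **A graded Noetherian domain localized at a prime containing no nonzero homogeneous element
is Cohen–Macaulay.** -/
theorem isCohenMacaulayLocalRing_of_core_eq_bot :
    IsCohenMacaulayLocalRing (Localization.AtPrime p) := by
  let _ := Localization.AtPrime.algebraOfLiesOver p (P)
  have hloc : IsLocalHom (algebraMap (Localization.AtPrime p) F) :=
    Localization.isLocalHom_localRingHom p (P) (algebraMap D T) Ideal.LiesOver.over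
  exact ((Groth.Agent.Lib.Helper77.FlatDepth.isCM_iff (Localization.AtPrime p) F).mp
    (isCohenMacaulayLocalRing_F 𝒟 p hp)).1

include hp in
theorem depth_eq_height_of_core_eq_bot :
    ((LocCoh.depth (Localization.AtPrime p) (Localization.AtPrime p) : ℕ∞) : WithBot ℕ∞) =
      (p.height : WithBot ℕ∞) := by
  have h := (isCohenMacaulayLocalRing_of_core_eq_bot 𝒟 p hp).supportDim_eq_depth
  rw [Module.supportDim_self_eq_ringKrullDim,
    IsLocalization.AtPrime.ringKrullDim_eq_height p (Localization.AtPrime p)] at h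
  exact h.symm

end

end Groth.Agent.Lib.Helper52.GrCoreCM
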