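import Mathlib
import Groth.Agent.Lib.Helper67.FlatDepth5

set_option linter.unusedSectionVars false

namespace Groth.Agent.Lib.Helper52.GrDepthGeneric

open LocCoh IsLocalRing TensorProduct
open Groth.Agent.Lib.Helper67

universe u

section Generic
variable {R T : Type u} [CommRing R] [CommRing T] [Algebra R T] [IsNoetherianRing R]
  [IsNoetherianRing T] [Module.Flat R T] (p : Ideal R) [p.IsPrime] (P : Ideal T) [P.IsPrime]
  [P.LiesOver p] (M : Type u) [AddCommGroup M] [Module R M] [Module.Finite R M]

/-- **Depth formula for a flat ring map, localized**: for `P` over `p`,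
`depth (T_P ⊗_R M) = depth M_p + depth (T_P / p T_P)`. -/
theorem depth_tensor_localization :
    depth (Localization.AtPrime P) (Localization.AtPrime P ⊗[R] M) =
      depth (Localization.AtPrime p) (LocalizedModule p.primeCompl M) +
      depth (Localization.AtPrime P) (Localization.AtPrime P ⧸
        (p.map (algebraMap R (Localization.AtPrime P))) •
          (⊤ : Submodule (Localization.AtPrime P) (Localization.AtPrime P))) := by
  let _ := Localization.AtPrime.algebraOfLiesOver p P
  have hloc : IsLocalHom (algebraMap (Localization.AtPrime p) (Localization.AtPrime P)) :=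
    Localization.isLocalHom_localRingHom p P (algebraMap R T) Ideal.LiesOver.over
  have h := depth_tensor_eq_add_quotient (R := Localization.AtPrime p)
    (S := Localization.AtPrime P) (Localization.AtPrime P) (LocalizedModule p.primeCompl M)
  have hbc : IsBaseChange (Localization.AtPrime p) (LocalizedModule.mkLinearMap p.primeCompl M) :=
    IsLocalizedModule.isBaseChange p.primeCompl (Localization.AtPrime p) _
  let e : Localization.AtPrime P ⊗[Localization.AtPrime p] (LocalizedModule p.primeCompl M)
      ≃ₗ[Localization.AtPrime P] Localization.AtPrime P ⊗[R] M :=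
    (TensorProduct.AlgebraTensorModule.congr
      (LinearEquiv.refl (Localization.AtPrime P) (Localization.AtPrime P)) hbc.equiv.symm) ≪≫ₗ
      AlgebraTensorModule.cancelBaseChange R (Localization.AtPrime p) (Localization.AtPrime P)
        (Localization.AtPrime P) M
  rw [← depth_congr e, h]
  have hI : (maximalIdeal (Localization.AtPrime p)).map
      (algebraMap (Localization.AtPrime p) (Localization.AtPrime P)) =
      p.map (algebraMap R (Localization.AtPrime P)) := by
    rw [← Localization.AtPrime.map_eq_maximalIdeal, Ideal.map_map,
      ← IsScalarTower.algebraMap_eq]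
  rw [hI]

end Generic

section Zero

theorem depth_quot_maximalIdeal_smul_top (B : Type u) [CommRing B] [IsLocalRing B] :
    depth B (B ⧸ (maximalIdeal B) • (⊤ : Submodule B B)) = 0 := by
  have hkill : ∀ r ∈ maximalIdeal B, ∀ x : B ⧸ (maximalIdeal B) • (⊤ : Submodule B B),
      r • x = 0 := by
    intro r hr x
    obtain ⟨b, rfl⟩ := Submodule.Quotient.mk_surjective _ x
    rw [← Submodule.Quotient.mk_smul, Submodule.Quotient.mk_eq_zero]
    exact Submodule.smul_mem_smul hr Submodule.mem_top
  have hnt : Nontrivial (B ⧸ (maximalIdeal B) • (⊤ : Submodule B B)) := by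
    apply Submodule.Quotient.nontrivial_iff.mpr
    intro h
    have h1 : (1 : B) ∈ (maximalIdeal B) • (⊤ : Submodule B B) := by rw [h]; trivial
    rw [Ideal.smul_top_eq_map, Algebra.algebraMap_self, Ideal.map_id] at h1
    exact (maximalIdeal.isMaximal B).ne_top ((Ideal.eq_top_iff_one _).mpr h1)
  rw [depth, idealDepth_eq_zero_iff_forall]
  constructor
  · intro h
    obtain ⟨x, hx⟩ := exists_ne (0 : B ⧸ (maximalIdeal B) • (⊤ : Submodule B B))
    have hx' : x ∈ maximalIdeal B • (⊤ : Submodule B (B ⧸ (maximalIdeal B) • (⊤ : Submodule B B))) := by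
      rw [h]; trivial
    refine hx ?_
    refine Submodule.smul_induction_on hx' ?_ ?_
    · intro r hr n _
      exact hkill r hr n
    · intro a b ha hb
      rw [ha, hb, add_zero]
  · intro r hr hreg
    obtain ⟨x, hx⟩ := exists_ne (0 : B ⧸ (maximalIdeal B) • (⊤ : Submodule B B))
    exact hx (hreg (by change r • x = r • 0; rw [hkill r hr x, smul_zero]))

end Zero

section Generic2
variable {R T : Type u} [CommRing R] [CommRing T] [Algebra R T] [IsNoetherianRing R]
  [IsNoetherianRing T] [Module.Flat R T] (p : Ideal R) [p.IsPrime] (P : Ideal T) [P.IsPrime]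
  [P.LiesOver p] (M : Type u) [AddCommGroup M] [Module R M] [Module.Finite R M]

/-- If `P = p T` then `depth (T_P ⊗_R M) = depth M_p`. -/
theorem depth_tensor_localization_of_eq_map (hP : P = p.map (algebraMap R T)) :
    depth (Localization.AtPrime P) (Localization.AtPrime P ⊗[R] M) =
      depth (Localization.AtPrime p) (LocalizedModule p.primeCompl M) := by
  rw [depth_tensor_localization p P M]
  have hI : p.map (algebraMap R (Localization.AtPrime P)) =
      maximalIdeal (Localization.AtPrime P) := by
    rw [← Localization.AtPrime.map_eq_maximalIdeal (I := P),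
      IsScalarTower.algebraMap_eq R T (Localization.AtPrime P), ← Ideal.map_map, ← hP]
  rw [hI, depth_quot_maximalIdeal_smul_top, add_zero]

end Generic2

end Groth.Agent.Lib.Helper52.GrDepthGeneric
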