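import Mathlib
import Groth.Agent.Lib.Helper67.DepthAlg

set_option linter.unusedSectionVars false

namespace Groth.Agent.Lib.Helper52.GrDepthQuot

open LocCoh IsLocalRing
open Groth.Agent.Lib.Helper67

universe u

section
variable {R : Type u} [CommRing R] [IsNoetherianRing R] (p q : Ideal R) [p.IsPrime] (hqp : q ≤ p)

include hqp in
theorem map_mk_isPrime : (p.map (Ideal.Quotient.mk q)).IsPrime :=
  Ideal.map_isPrime_of_surjective Ideal.Quotient.mk_surjective (by rwa [Ideal.mk_ker])

include hqp in
theorem algebraMapSubmonoid_eq [(p.map (Ideal.Quotient.mk q)).IsPrime] :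
    Algebra.algebraMapSubmonoid (R ⧸ q) p.primeCompl = (p.map (Ideal.Quotient.mk q)).primeCompl := by
  ext x
  constructor
  · rintro ⟨a, ha, rfl⟩
    intro h
    exact ha ((Ideal.mem_quotient_iff_mem hqp).mp h)
  · intro hx
    obtain ⟨a, rfl⟩ := Ideal.Quotient.mk_surjective x
    refine ⟨a, ?_, rfl⟩
    intro ha
    exact hx (Ideal.mem_map_of_mem _ ha)

include hqp in
theorem liesOver_map_mk [(p.map (Ideal.Quotient.mk q)).IsPrime] :
    (p.map (Ideal.Quotient.mk q)).LiesOver p := by
  constructor
  ext a
  rw [Ideal.under, Ideal.mem_comap]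
  exact (Ideal.mem_quotient_iff_mem hqp).symm

include hqp in
/-- the depth of `(R/q)_p` over `R_p` is the depth of the local ring `(R/q)_{p/q}` -/
theorem depth_localizedModule_quotient [hpq : (p.map (Ideal.Quotient.mk q)).IsPrime] :
    depth (Localization.AtPrime p) (LocalizedModule p.primeCompl (R ⧸ q)) =
      depth (Localization.AtPrime (p.map (Ideal.Quotient.mk q)))
        (Localization.AtPrime (p.map (Ideal.Quotient.mk q))) := by
  have hlo := liesOver_map_mk p q hqp
  let _ := Localization.AtPrime.algebraOfLiesOver p (p.map (Ideal.Quotient.mk q))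
  have hloc : IsLocalHom (algebraMap (Localization.AtPrime p)
      (Localization.AtPrime (p.map (Ideal.Quotient.mk q)))) :=
    Localization.isLocalHom_localRingHom p _ (algebraMap R (R ⧸ q)) Ideal.LiesOver.over
  have hL : IsLocalization (Algebra.algebraMapSubmonoid (R ⧸ q) p.primeCompl)
      (Localization.AtPrime (p.map (Ideal.Quotient.mk q))) := by
    rw [algebraMapSubmonoid_eq p q hqp]
    infer_instance
  have hLM : IsLocalizedModule p.primeCompl (IsScalarTower.toAlgHom R (R ⧸ q)
      (Localization.AtPrime (p.map (Ideal.Quotient.mk q)))).toLinearMap :=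
    isLocalizedModule_iff_isLocalization.mpr hL
  let e0 : LocalizedModule p.primeCompl (R ⧸ q) ≃ₗ[R]
      Localization.AtPrime (p.map (Ideal.Quotient.mk q)) :=
    IsLocalizedModule.iso p.primeCompl (IsScalarTower.toAlgHom R (R ⧸ q)
      (Localization.AtPrime (p.map (Ideal.Quotient.mk q)))).toLinearMap
  let e : LocalizedModule p.primeCompl (R ⧸ q) ≃ₗ[Localization.AtPrime p]
      Localization.AtPrime (p.map (Ideal.Quotient.mk q)) :=
    e0.extendScalarsOfIsLocalization p.primeCompl (Localization.AtPrime p)
  have hfin : Module.Finite (Localization.AtPrime p)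
      (Localization.AtPrime (p.map (Ideal.Quotient.mk q))) := Module.Finite.equiv e
  have h1 : depth (Localization.AtPrime p) (LocalizedModule p.primeCompl (R ⧸ q)) =
      depth (Localization.AtPrime p) (Localization.AtPrime (p.map (Ideal.Quotient.mk q))) :=
    depth_congr e
  rw [h1]
  exact depth_eq_depth_of_isLocalHom_of_finite _

end

end Groth.Agent.Lib.Helper52.GrDepthQuot
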