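import Mathlib
import Groth.Agent.Lib.Helper52.GrCoact
import Groth.Agent.Lib.Helper52.GrQuot
import Groth.Agent.Lib.Helper52.LaurentCM
import Groth.Agent.Lib.Helper52.GrDepthGeneric
import Groth.Agent.Lib.Helper52.GrCoreCM
import Groth.Agent.Lib.Helper52.GrDepthQuot

set_option linter.unusedSectionVars false

namespace Groth.Agent.Lib.Helper52.GrDepthMain

open AddMonoidAlgebra LocCoh IsLocalRing TensorProduct
open Groth.Agent.Lib.Helper52.GrCoact Groth.Agent.Lib.Helper52.GrQuot
  Groth.Agent.Lib.Helper52.LaurentCM Groth.Agent.Lib.Helper52.GrDepthGeneric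
  Groth.Agent.Lib.Helper67

universe u

section
variable {ι : Type} [AddCommGroup ι] [DecidableEq ι] [Module.Free ℤ ι] [Module.Finite ℤ ι]
  {R : Type u} [CommRing R] [IsNoetherianRing R] (𝒜 : ι → AddSubgroup R) [GradedRing 𝒜]
  {M : Type u} [AddCommGroup M] [Module R M] (ℳ : ι → AddSubgroup M) [DirectSum.Decomposition ℳ]
  [SetLike.GradedSMul 𝒜 ℳ] [Module.Finite R M] (p : Ideal R) [p.IsPrime]
  [hq : (Ideal.homogeneousCore 𝒜 p).toIdeal.IsPrime]

local notation "T" => AddMonoidAlgebra R ι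
local notation "q" => HomogeneousIdeal.toIdeal (Ideal.homogeneousCore 𝒜 p)

instance : IsNoetherianRing T := LaurentCM.isNoetherianRing
instance : (p.map (algebraMap R T)).IsPrime := LaurentCM.map_isPrime p
instance : (p.map (algebraMap R T)).LiesOver p := ⟨(comap_map_algebraMap p).symm⟩

local notation "P" => Ideal.map (algebraMap R T) p
local notation "B" => Localization.AtPrime (Ideal.map (algebraMap R T) p)

/-- the core, as an ideal of `Rco 𝒜` -/
def qco : Ideal (Rco 𝒜) := (HomogeneousIdeal.toIdeal (Ideal.homogeneousCore 𝒜 p) : Ideal R)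

theorem mem_qco (r : R) : toRco 𝒜 r ∈ qco 𝒜 p ↔ r ∈ q := Iff.rfl

instance qco_isPrime : (qco 𝒜 p).IsPrime := hq

instance flat_Rco : Module.Flat (Rco 𝒜) T := by
  rw [← RingHom.flat_algebraMap_iff]
  have h : algebraMap (Rco 𝒜) T =
      ((shear 𝒜).toRingHom.comp (algebraMap R T)).comp (toRco 𝒜).symm.toRingHom := by
    ext r : 1
    exact (shear_algebraMap 𝒜 ((toRco 𝒜).symm r)).symm
  rw [h]
  refine RingHom.Flat.comp (RingHom.Flat.of_bijective (toRco 𝒜).symm.bijective) ?_
  refine RingHom.Flat.comp ?_ (RingHom.Flat.of_bijective (shear 𝒜).bijective)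
  rw [RingHom.flat_algebraMap_iff]
  infer_instance

instance liesOver_qco : (P).LiesOver (qco 𝒜 p) := by
  constructor
  ext r
  obtain ⟨r, rfl⟩ := (toRco 𝒜).surjective r
  rw [mem_qco, Ideal.under, Ideal.mem_comap, algebraMap_Rco, ← Ideal.mem_comap, comap_coact_map]


theorem map_qco_eq : (qco 𝒜 p).map (algebraMap (Rco 𝒜) B) = (q).map (algebraMap R B) := by
  rw [IsScalarTower.algebraMap_eq (Rco 𝒜) T B, ← Ideal.map_map,
    IsScalarTower.algebraMap_eq R T B, ← Ideal.map_map]
  congr 1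
  have h := map_coact_eq 𝒜 (q) (Ideal.homogeneousCore 𝒜 p).isHomogeneous
  rw [← h]
  rfl

/-- the twist, after base change to `B` -/
noncomputable def twistB : B ⊗[Rco 𝒜] Mco 𝒜 M ≃ₗ[B] B ⊗[R] M :=
  (AlgebraTensorModule.cancelBaseChange (Rco 𝒜) T B B (Mco 𝒜 M)).symm ≪≫ₗ
    (AlgebraTensorModule.congr (LinearEquiv.refl B B) (twistEquiv 𝒜 ℳ)) ≪≫ₗ
    AlgebraTensorModule.cancelBaseChange R T B B M

theorem depth_Rco_eq :
    depth (Localization.AtPrime (qco 𝒜 p)) (LocalizedModule (qco 𝒜 p).primeCompl (Mco 𝒜 M)) =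
      depth (Localization.AtPrime q) (LocalizedModule (q).primeCompl M) := rfl

include ℳ in
/-- `depth M_p = depth M_{p*} + depth (R/p*)_p` -/
theorem depth_eq_add_depth_quot :
    depth (Localization.AtPrime p) (LocalizedModule p.primeCompl M) =
      depth (Localization.AtPrime q) (LocalizedModule (q).primeCompl M) +
      depth (Localization.AtPrime p) (LocalizedModule p.primeCompl (R ⧸ q)) := by
  have h1 := depth_tensor_localization_of_eq_map p (P) M rfl
  have h2 := depth_tensor_localization (R := Rco 𝒜) (qco 𝒜 p) (P) (Mco 𝒜 M)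
  have h3 := depth_tensor_localization_of_eq_map p (P) (R ⧸ q) rfl
  have h4 : depth B (B ⊗[Rco 𝒜] Mco 𝒜 M) = depth B (B ⊗[R] M) := by
    have e := twistB 𝒜 ℳ p
    exact depth_congr e
  have h5 : depth B (B ⧸ ((q).map (algebraMap R B)) • (⊤ : Submodule B B)) =
      depth B (B ⊗[R] (R ⧸ q)) := by
    have e := fibreEquiv (S := B) B (q)
    exact depth_congr e
  rw [map_qco_eq, h4, h1, h5, h3, depth_Rco_eq] at h2
  exact h2


open Groth.Agent.Lib.Helper52.GrDepthQuot Groth.Agent.Lib.Helper52.GrCoreCM in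
include ℳ in
/-- **Goto–Watanabe / Bruns–Herzog 1.5.9 for `ℤ^r`-gradings**:
`depth M_p = depth M_{p*} + ht(p/p*)`. -/
theorem depth_localization_eq_add_height_core (d : ℕ)
    (hd : (p.map (Ideal.Quotient.mk (q))).height = d) :
    depth (Localization.AtPrime p) (LocalizedModule p.primeCompl M) =
      depth (Localization.AtPrime q) (LocalizedModule (q).primeCompl M) + d := by
  rw [depth_eq_add_depth_quot 𝒜 ℳ p]
  congr 1
  have hqp : q ≤ p := Ideal.toIdeal_homogeneousCore_le 𝒜 p
  have hpr := map_mk_isPrime p (q) hqp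
  rw [depth_localizedModule_quotient p (q) hqp]
  let _ := quotGradedRing 𝒜 (Ideal.homogeneousCore 𝒜 p).isHomogeneous
  have hdom : IsDomain (R ⧸ q) := Ideal.Quotient.isDomain (q)
  have h := depth_eq_height_of_core_eq_bot (quotGrading 𝒜 (q)) (p.map (Ideal.Quotient.mk (q)))
    (eq_zero_of_homogeneous_of_mem_map 𝒜 p)
  rw [hd] at h
  exact_mod_cast h

end

end Groth.Agent.Lib.Helper52.GrDepthMain
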