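import Mathlib
import Groth.Agent.Lib.Helper67.FlatDim
import Groth.Agent.Lib.Helper52.GrDepthMain

set_option linter.unusedSectionVars false

namespace Groth.Agent.Lib.Helper52.GrDimMain

open AddMonoidAlgebra LocCoh IsLocalRing TensorProduct
open Groth.Agent.Lib.Helper52.GrCoact Groth.Agent.Lib.Helper52.GrQuot
  Groth.Agent.Lib.Helper52.LaurentCM Groth.Agent.Lib.Helper52.GrDepthGeneric
  Groth.Agent.Lib.Helper52.GrDepthMain Groth.Agent.Lib.Helper52.GrDepthQuot
  Groth.Agent.Lib.Helper67 Groth.Agent.Lib.Helper67.FlatDim

universe u

section Generic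
variable {R T : Type u} [CommRing R] [CommRing T] [Algebra R T] [IsNoetherianRing R]
  [IsNoetherianRing T] [Module.Flat R T] (p : Ideal R) [p.IsPrime] (P : Ideal T) [P.IsPrime]
  [P.LiesOver p] (M : Type u) [AddCommGroup M] [Module R M] [Module.Finite R M]

/-- **Dimension formula for a flat ring map, localized** -/
theorem supportDim_tensor_localization :
    Module.supportDim (Localization.AtPrime P) (Localization.AtPrime P ⊗[R] M) =
      Module.supportDim (Localization.AtPrime p) (LocalizedModule p.primeCompl M) +
      Module.supportDim (Localization.AtPrime P) (Localization.AtPrime P ⧸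
        (p.map (algebraMap R (Localization.AtPrime P))) •
          (⊤ : Submodule (Localization.AtPrime P) (Localization.AtPrime P))) := by
  let _ := Localization.AtPrime.algebraOfLiesOver p P
  have hloc : IsLocalHom (algebraMap (Localization.AtPrime p) (Localization.AtPrime P)) :=
    Localization.isLocalHom_localRingHom p P (algebraMap R T) Ideal.LiesOver.over
  have h := supportDim_tensor_eq_add_quotient (R := Localization.AtPrime p)
    (S := Localization.AtPrime P) (Localization.AtPrime P) (LocalizedModule p.primeCompl M)
  have hbc : IsBaseChange (Localization.AtPrime p) (LocalizedModule.mkLinearMap p.primeCompl M) :=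
    IsLocalizedModule.isBaseChange p.primeCompl (Localization.AtPrime p) _
  let e : Localization.AtPrime P ⊗[Localization.AtPrime p] (LocalizedModule p.primeCompl M)
      ≃ₗ[Localization.AtPrime P] Localization.AtPrime P ⊗[R] M :=
    (TensorProduct.AlgebraTensorModule.congr
      (LinearEquiv.refl (Localization.AtPrime P) (Localization.AtPrime P)) hbc.equiv.symm) ≪≫ₗ
      AlgebraTensorModule.cancelBaseChange R (Localization.AtPrime p) (Localization.AtPrime P)
        (Localization.AtPrime P) M
  rw [← Module.supportDim_eq_of_equiv e, h]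
  have hI : (maximalIdeal (Localization.AtPrime p)).map
      (algebraMap (Localization.AtPrime p) (Localization.AtPrime P)) =
      p.map (algebraMap R (Localization.AtPrime P)) := by
    rw [← Localization.AtPrime.map_eq_maximalIdeal, Ideal.map_map,
      ← IsScalarTower.algebraMap_eq]
  rw [hI]

theorem supportDim_quot_maximalIdeal_smul_top (B : Type u) [CommRing B] [IsLocalRing B] :
    Module.supportDim B (B ⧸ (maximalIdeal B) • (⊤ : Submodule B B)) = 0 := by
  have h1 : (maximalIdeal B) • (⊤ : Submodule B B) = maximalIdeal B := by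
    rw [Ideal.smul_top_eq_map, Algebra.algebraMap_self, Ideal.map_id]
    rfl
  rw [Module.supportDim_eq_of_equiv (Submodule.quotEquivOfEq _ _ h1),
    Module.supportDim_quotient_eq_ringKrullDim]
  exact ringKrullDim_quotient_maximalIdeal

theorem supportDim_tensor_localization_of_eq_map (hP : P = p.map (algebraMap R T)) :
    Module.supportDim (Localization.AtPrime P) (Localization.AtPrime P ⊗[R] M) =
      Module.supportDim (Localization.AtPrime p) (LocalizedModule p.primeCompl M) := by
  rw [supportDim_tensor_localization p P M]
  have hI : p.map (algebraMap R (Localization.AtPrime P)) =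
      maximalIdeal (Localization.AtPrime P) := by
    rw [← Localization.AtPrime.map_eq_maximalIdeal (I := P),
      IsScalarTower.algebraMap_eq R T (Localization.AtPrime P), ← Ideal.map_map, ← hP]
  rw [hI, supportDim_quot_maximalIdeal_smul_top, add_zero]

end Generic


section Quot
variable {R : Type u} [CommRing R] [IsNoetherianRing R] (p q : Ideal R) [p.IsPrime] (hqp : q ≤ p)

include hqp in
theorem supportDim_localizedModule_quotient [hpq : (p.map (Ideal.Quotient.mk q)).IsPrime] :
    Module.supportDim (Localization.AtPrime p) (LocalizedModule p.primeCompl (R ⧸ q)) =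
      ((p.map (Ideal.Quotient.mk q)).height : WithBot ℕ∞) := by
  have hlo := liesOver_map_mk p q hqp
  let _ := Localization.AtPrime.algebraOfLiesOver p (p.map (Ideal.Quotient.mk q))
  have hL : IsLocalization (Algebra.algebraMapSubmonoid (R ⧸ q) p.primeCompl)
      (Localization.AtPrime (p.map (Ideal.Quotient.mk q))) := by
    rw [algebraMapSubmonoid_eq p q hqp]
    infer_instance
  have hLM : IsLocalizedModule p.primeCompl (IsScalarTower.toAlgHom R (R ⧸ q)
      (Localization.AtPrime (p.map (Ideal.Quotient.mk q)))).toLinearMap :=
    isLocalizedModule_iff_isLocalization.mpr hL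
  let e0 : LocalizedModule p.primeCompl (R ⧸ q) ≃ₗ[R]
      Localization.AtPrime (p.map (Ideal.Quotient.mk q)) :=
    IsLocalizedModule.iso p.primeCompl (IsScalarTower.toAlgHom R (R ⧸ q)
      (Localization.AtPrime (p.map (Ideal.Quotient.mk q)))).toLinearMap
  let e : LocalizedModule p.primeCompl (R ⧸ q) ≃ₗ[Localization.AtPrime p]
      Localization.AtPrime (p.map (Ideal.Quotient.mk q)) :=
    e0.extendScalarsOfIsLocalization p.primeCompl (Localization.AtPrime p)
  have hfin : Module.Finite (Localization.AtPrime p)
      (Localization.AtPrime (p.map (Ideal.Quotient.mk q))) := Module.Finite.equiv e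
  rw [Module.supportDim_eq_of_equiv e, Module.supportDim_eq_ringKrullDim_quotient_annihilator]
  have hsurj : Function.Surjective (algebraMap (Localization.AtPrime p)
      (Localization.AtPrime (p.map (Ideal.Quotient.mk q)))) := by
    intro z
    obtain ⟨x, s, rfl⟩ := IsLocalization.exists_mk'_eq (p.map (Ideal.Quotient.mk q)).primeCompl z
    obtain ⟨a, rfl⟩ := Ideal.Quotient.mk_surjective x
    obtain ⟨b, hb⟩ := Ideal.Quotient.mk_surjective (s : R ⧸ q)
    have hbp : b ∈ p.primeCompl := by
      intro hbp
      exact s.2 (by rw [← hb]; exact Ideal.mem_map_of_mem _ hbp)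
    refine ⟨IsLocalization.mk' _ a ⟨b, hbp⟩, ?_⟩
    change Localization.localRingHom p _ (algebraMap R (R ⧸ q)) _ _ = _
    rw [Localization.localRingHom_mk']
    congr 1
    exact Subtype.ext hb
  have hann : Module.annihilator (Localization.AtPrime p)
      (Localization.AtPrime (p.map (Ideal.Quotient.mk q))) =
      RingHom.ker (algebraMap (Localization.AtPrime p)
        (Localization.AtPrime (p.map (Ideal.Quotient.mk q)))) := by
    ext x
    rw [Module.mem_annihilator, RingHom.mem_ker]
    constructor
    · intro h
      have := h 1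
      rwa [Algebra.smul_def, mul_one] at this
    · intro h m
      rw [Algebra.smul_def, h, zero_mul]
  rw [hann, ringKrullDim_eq_of_ringEquiv (RingHom.quotientKerEquivOfSurjective hsurj),
    IsLocalization.AtPrime.ringKrullDim_eq_height (p.map (Ideal.Quotient.mk q))]

end Quot


section Graded
variable {ι : Type} [AddCommGroup ι] [DecidableEq ι] [Module.Free ℤ ι] [Module.Finite ℤ ι]
  {R : Type u} [CommRing R] [IsNoetherianRing R] (𝒜 : ι → AddSubgroup R) [GradedRing 𝒜]
  {M : Type u} [AddCommGroup M] [Module R M] (ℳ : ι → AddSubgroup M) [DirectSum.Decomposition ℳ]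
  [SetLike.GradedSMul 𝒜 ℳ] [Module.Finite R M] (p : Ideal R) [p.IsPrime]
  [hq : (Ideal.homogeneousCore 𝒜 p).toIdeal.IsPrime]

local notation "T" => AddMonoidAlgebra R ι
local notation "q" => HomogeneousIdeal.toIdeal (Ideal.homogeneousCore 𝒜 p)
local notation "P" => Ideal.map (algebraMap R T) p
local notation "B" => Localization.AtPrime (Ideal.map (algebraMap R T) p)

theorem supportDim_Rco_eq :
    Module.supportDim (Localization.AtPrime (qco 𝒜 p))
      (LocalizedModule (qco 𝒜 p).primeCompl (Mco 𝒜 M)) =
      Module.supportDim (Localization.AtPrime q) (LocalizedModule (q).primeCompl M) := rfl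

include ℳ in
/-- `dim M_p = dim M_{p*} + ht(p/p*)` -/
theorem supportDim_localization_eq_add_height_core (d : ℕ)
    (hd : (p.map (Ideal.Quotient.mk (q))).height = d) :
    Module.supportDim (Localization.AtPrime p) (LocalizedModule p.primeCompl M) =
      Module.supportDim (Localization.AtPrime q) (LocalizedModule (q).primeCompl M) +
        (d : WithBot ℕ∞) := by
  have h1 := supportDim_tensor_localization_of_eq_map p (P) M rfl
  have h2 := supportDim_tensor_localization (R := Rco 𝒜) (qco 𝒜 p) (P) (Mco 𝒜 M)
  have h3 := supportDim_tensor_localization_of_eq_map p (P) (R ⧸ q) rfl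
  have h4 : Module.supportDim B (B ⊗[Rco 𝒜] Mco 𝒜 M) = Module.supportDim B (B ⊗[R] M) := by
    have e := twistB 𝒜 ℳ p
    exact Module.supportDim_eq_of_equiv e
  have h5 : Module.supportDim B (B ⧸ ((q).map (algebraMap R B)) • (⊤ : Submodule B B)) =
      Module.supportDim B (B ⊗[R] (R ⧸ q)) := by
    have e := fibreEquiv (S := B) B (q)
    exact Module.supportDim_eq_of_equiv e
  have hqp : q ≤ p := Ideal.toIdeal_homogeneousCore_le 𝒜 p
  have hpr := map_mk_isPrime p (q) hqp
  rw [map_qco_eq, h4, h1, h5, h3, supportDim_Rco_eq,
    supportDim_localizedModule_quotient p (q) hqp, hd] at h2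
  exact_mod_cast h2

end Graded

end Groth.Agent.Lib.Helper52.GrDimMain
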