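import Groth.Prelude.Def_Found
import Mathlib.LinearAlgebra.TensorProduct.Pi
import Mathlib.LinearAlgebra.TensorProduct.RightExactness
import Mathlib.Algebra.Module.FinitePresentation
import Mathlib.RingTheory.TensorProduct.Finite
import Mathlib.LinearAlgebra.TensorProduct.Tower
import Mathlib.RingTheory.Flat.Basic
import Mathlib.RingTheory.TensorProduct.DirectLimitFG
import Mathlib.Algebra.Module.Projective
import Mathlib.LinearAlgebra.DirectSum.TensorProduct
import Mathlib.RingTheory.Finiteness.ModuleFinitePresentation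

/-!
# Mittag-Leffler modules (product formulation)

`CAlg.IsMittagLeffler R M` says that `M ⊗ ∏ Qᵢ → ∏ (M ⊗ Qᵢ)` is injective for all families.
Basic API: naturality of the comparison map, surjectivity for finite modules, bijectivity for
finitely presented modules.
-/

set_option autoImplicit false

namespace Groth.Agent.Lib.Helper52.ML

open TensorProduct

universe u v w v₁ v₂

variable {R : Type u} [CommRing R]

section Basic

variable {M : Type v} {M' : Type v₁} [AddCommGroup M] [Module R M] [AddCommGroup M'] [Module R M']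
variable {ι : Type w} (Q : ι → Type w) [∀ i, AddCommGroup (Q i)] [∀ i, Module R (Q i)]

/-- The comparison map `M ⊗ ∏ Qᵢ → ∏ (M ⊗ Qᵢ)`. -/
abbrev τ (R : Type u) [CommRing R] (M : Type v) [AddCommGroup M] [Module R M] {ι : Type w}
    (Q : ι → Type w) [∀ i, AddCommGroup (Q i)] [∀ i, Module R (Q i)] :
    M ⊗[R] (∀ i, Q i) →ₗ[R] ∀ i, M ⊗[R] Q i :=
  TensorProduct.piRightHom R R M Q

theorem τ_apply_eq (x : M ⊗[R] (∀ i, Q i)) (i : ι) :
    τ R M Q x i = (LinearMap.proj i : (∀ i, Q i) →ₗ[R] Q i).lTensor M x := by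
  induction x with
  | zero => simp
  | tmul m q => simp
  | add x y hx hy => simp [hx, hy]

/-- Naturality of `τ` in the module. -/
theorem τ_rTensor (u : M →ₗ[R] M') (x : M ⊗[R] (∀ i, Q i)) (i : ι) :
    τ R M' Q (u.rTensor _ x) i = u.rTensor (Q i) (τ R M Q x i) := by
  induction x with
  | zero => simp
  | tmul m q => simp
  | add x y hx hy => simp [hx, hy]

end Basic

section Free

variable {n : ℕ} {N : Type v} [AddCommGroup N] [Module R N]

/-- `k`-th coordinate of an element of `Rⁿ ⊗ N`. -/
noncomputable def coord (k : Fin n) : (Fin n → R) ⊗[R] N →ₗ[R] N :=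
  (TensorProduct.lid R N).toLinearMap ∘ₗ
    (LinearMap.proj k : (Fin n → R) →ₗ[R] R).rTensor N

@[simp]
theorem coord_tmul (k : Fin n) (v : Fin n → R) (y : N) : coord k (v ⊗ₜ[R] y) = v k • y := by
  simp [coord]

theorem free_expand (x : (Fin n → R) ⊗[R] N) :
    x = ∑ k, (Pi.single k (1 : R) : Fin n → R) ⊗ₜ[R] coord k x := by
  induction x with
  | zero => simp
  | tmul v y =>
    simp only [coord_tmul]
    conv_lhs => rw [pi_eq_sum_univ v]
    rw [TensorProduct.sum_tmul]
    refine Finset.sum_congr rfl fun k _ => ?_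
    rw [TensorProduct.smul_tmul]
    congr 1
    ext j
    simp [Pi.single_apply, eq_comm]
  | add x y hx hy =>
    simp only [map_add, TensorProduct.tmul_add, Finset.sum_add_distrib]
    rw [← hx, ← hy]

variable {ι : Type w} (Q : ι → Type w) [∀ i, AddCommGroup (Q i)] [∀ i, Module R (Q i)]

theorem coord_τ (k : Fin n) (x : (Fin n → R) ⊗[R] (∀ i, Q i)) (i : ι) :
    coord k (τ R (Fin n → R) Q x i) = coord k x i := by
  induction x with
  | zero => simp
  | tmul v q => simp
  | add x y hx hy => simp [hx, hy]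

theorem τ_free_bijective : Function.Bijective (τ R (Fin n → R) Q) := by
  constructor
  · rw [injective_iff_map_eq_zero]
    intro x hx
    rw [free_expand x]
    refine Finset.sum_eq_zero fun k _ => ?_
    have : coord k x = 0 := by
      funext i
      rw [← coord_τ, hx]
      simp
    rw [this, TensorProduct.tmul_zero]
  · intro z
    refine ⟨∑ k, (Pi.single k (1 : R) : Fin n → R) ⊗ₜ[R] (fun i => coord k (z i)), ?_⟩
    funext i
    rw [map_sum, Finset.sum_apply]
    conv_rhs => rw [free_expand (z i)]
    refine Finset.sum_congr rfl fun k _ => ?_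
    simp

end Free

section Finite

variable {M : Type v} {P : Type v₁} {P₁ : Type v₂} [AddCommGroup M] [Module R M]
  [AddCommGroup P] [Module R P] [AddCommGroup P₁] [Module R P₁]
variable {ι : Type w} (Q : ι → Type w) [∀ i, AddCommGroup (Q i)] [∀ i, Module R (Q i)]

theorem τ_surjective_of_surjective (π : P →ₗ[R] M) (hπ : Function.Surjective π)
    (hP : Function.Surjective (τ R P Q)) : Function.Surjective (τ R M Q) := by
  intro z
  have h1 : ∀ i, ∃ w : P ⊗[R] Q i, π.rTensor (Q i) w = z i := fun i =>
    LinearMap.rTensor_surjective (Q i) hπ (z i)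
  choose w hw using h1
  obtain ⟨y, hy⟩ := hP w
  refine ⟨π.rTensor _ y, ?_⟩
  funext i
  rw [τ_rTensor, hy, hw]

theorem τ_injective_of_exact (α : P₁ →ₗ[R] P) (π : P →ₗ[R] M) (hex : Function.Exact α π)
    (hπ : Function.Surjective π) (hP : Function.Injective (τ R P Q))
    (hP₁ : Function.Surjective (τ R P₁ Q)) : Function.Injective (τ R M Q) := by
  rw [injective_iff_map_eq_zero]
  intro x hx
  obtain ⟨y, rfl⟩ := LinearMap.rTensor_surjective (∀ i, Q i) hπ x
  have h1 : ∀ i, ∃ w : P₁ ⊗[R] Q i, α.rTensor (Q i) w = τ R P Q y i := by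
    intro i
    have hexi := rTensor_exact (Q i) hex hπ
    apply (hexi _).mp
    rw [← τ_rTensor, hx]
    rfl
  choose w hw using h1
  obtain ⟨v, hv⟩ := hP₁ w
  have h2 : τ R P Q (α.rTensor _ v) = τ R P Q y := by
    funext i
    rw [τ_rTensor, hv, hw]
  rw [← hP h2, ← LinearMap.comp_apply, ← LinearMap.rTensor_comp, hex.linearMap_comp_eq_zero]
  simp

/-- For a finite module, `M ⊗ ∏ Qᵢ → ∏ (M ⊗ Qᵢ)` is surjective. -/
theorem τ_surjective_of_finite [Module.Finite R M] : Function.Surjective (τ R M Q) := by
  obtain ⟨n, π, hπ⟩ := Module.Finite.exists_fin' R M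
  exact τ_surjective_of_surjective Q π hπ (τ_free_bijective Q).2

/-- For a finitely presented module, `M ⊗ ∏ Qᵢ → ∏ (M ⊗ Qᵢ)` is bijective. -/
theorem τ_bijective_of_finitePresentation [Module.FinitePresentation R M] :
    Function.Bijective (τ R M Q) := by
  obtain ⟨n, m, f, g, hf, hex⟩ := Module.FinitePresentation.exists_fin' R M
  exact ⟨τ_injective_of_exact Q g f hex hf (τ_free_bijective Q).1 (τ_free_bijective Q).2,
    τ_surjective_of_finite Q⟩

end Finite

section Approx

variable {n : ℕ} {Q : Type v} [AddCommGroup Q] [Module R Q] {A : Type w} [AddCommGroup A]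
  [Module R A]

/-- Finitely presented approximation: a map `φ : Rⁿ → Q` killing `x ∈ Rⁿ ⊗ A` after tensoring
factors through a finitely presented module which already kills `x`. -/
theorem exists_fp_factor (φ : (Fin n → R) →ₗ[R] Q) (x : (Fin n → R) ⊗[R] A)
    (hx : φ.rTensor A x = 0) :
    ∃ (m : ℕ) (K₁ : Submodule R (Fin m → R)), K₁.FG ∧
      ∃ (g : (Fin n → R) →ₗ[R] (Fin m → R) ⧸ K₁) (h : ((Fin m → R) ⧸ K₁) →ₗ[R] Q),
        h ∘ₗ g = φ ∧ g.rTensor A x = 0 := by
  -- step 1: the image of `φ`
  have hPfg : (LinearMap.range φ).FG := by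
    rw [← Submodule.map_top]
    exact Module.Finite.fg_top.map φ
  have h1 : (LinearMap.range φ).subtype.rTensor A (φ.rangeRestrict.rTensor A x) = 0 := by
    rw [← LinearMap.comp_apply, ← LinearMap.rTensor_comp, LinearMap.subtype_comp_codRestrict]
    exact hx
  -- step 2: enlarge to a finitely generated submodule killing the element
  obtain ⟨Q₁, hPQ, hQ₁fg, h2⟩ := TensorProduct.eq_zero_of_fg_of_subtype_eq_zero hPfg h1
  have : Module.Finite R Q₁ := Module.Finite.iff_fg.mpr hQ₁fg
  obtain ⟨m, π, hπ⟩ := Module.Finite.exists_fin' R Q₁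
  -- step 3: lift through the free cover
  obtain ⟨φt, hφt⟩ := Module.projective_lifting_property π
    ((Submodule.inclusion hPQ) ∘ₗ φ.rangeRestrict) hπ
  have h3 : π.rTensor A (φt.rTensor A x) = 0 := by
    rw [← LinearMap.comp_apply, ← LinearMap.rTensor_comp, hφt, LinearMap.rTensor_comp,
      LinearMap.comp_apply]
    exact h2
  have hex : Function.Exact (LinearMap.ker π).subtype π := by
    rw [LinearMap.exact_iff]
    simp
  obtain ⟨w, hw⟩ := (rTensor_exact A hex hπ _).mp h3
  obtain ⟨K₁, hK₁fg, hle, w₁, hw₁⟩ := Submodule.exists_fg_le_eq_rTensor_inclusion w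
  refine ⟨m, K₁, hK₁fg, K₁.mkQ ∘ₗ φt,
    K₁.liftQ (Q₁.subtype ∘ₗ π) (fun y hy => by
      have : y ∈ LinearMap.ker π := hle hy
      rw [LinearMap.mem_ker] at this ⊢
      simp [this]), ?_, ?_⟩
  · rw [← LinearMap.comp_assoc, Submodule.liftQ_mkQ, LinearMap.comp_assoc, hφt]
    ext y
    simp
  · rw [LinearMap.rTensor_comp, LinearMap.comp_apply, ← hw, hw₁, ← LinearMap.comp_apply,
      ← LinearMap.comp_apply, ← LinearMap.rTensor_comp, ← LinearMap.rTensor_comp]
    have : (K₁.mkQ ∘ₗ (LinearMap.ker π).subtype) ∘ₗ Submodule.inclusion hle = 0 := by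
      ext y
      simp
    rw [this]
    simp

/-- `lTensor` version of `exists_fp_factor`. -/
theorem exists_fp_factor' (φ : (Fin n → R) →ₗ[R] Q) (x : A ⊗[R] (Fin n → R))
    (hx : φ.lTensor A x = 0) :
    ∃ (m : ℕ) (K₁ : Submodule R (Fin m → R)), K₁.FG ∧
      ∃ (g : (Fin n → R) →ₗ[R] (Fin m → R) ⧸ K₁) (h : ((Fin m → R) ⧸ K₁) →ₗ[R] Q),
        h ∘ₗ g = φ ∧ g.lTensor A x = 0 := by
  have hcomm' : ∀ (y : A ⊗[R] (Fin n → R)),
      φ.rTensor A (TensorProduct.comm R A (Fin n → R) y) =
        TensorProduct.comm R A Q (φ.lTensor A y) := by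
    intro y
    induction y with
    | zero => simp
    | add a b ha hb => simp only [map_add, ha, hb]
    | tmul a v => simp
  obtain ⟨m, K₁, hK₁, g, h, hgh, hg⟩ := exists_fp_factor φ (TensorProduct.comm R A _ x)
    (by rw [hcomm', hx, map_zero])
  refine ⟨m, K₁, hK₁, g, h, hgh, ?_⟩
  apply (TensorProduct.comm R A _).injective
  rw [map_zero]
  have : ∀ (y : A ⊗[R] (Fin n → R)),
      g.rTensor A (TensorProduct.comm R A (Fin n → R) y) =
        TensorProduct.comm R A _ (g.lTensor A y) := by
    intro y
    induction y with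
    | zero => simp
    | add a b ha hb => simp only [map_add, ha, hb]
    | tmul a v => simp
  rw [← this, hg]

/-- Every element of `M ⊗ Q` comes from `M ⊗ Rⁿ` for some map `Rⁿ → Q`. -/
theorem exists_free_lTensor_eq {M : Type v₁} [AddCommGroup M] [Module R M] (x : M ⊗[R] Q) :
    ∃ (n : ℕ) (φ : (Fin n → R) →ₗ[R] Q) (y : M ⊗[R] (Fin n → R)), φ.lTensor M y = x := by
  classical
  obtain ⟨k, m, q, rfl⟩ := TensorProduct.exists_sum_tmul_eq x
  refine ⟨k, Fintype.linearCombination R q, ∑ j, m j ⊗ₜ[R] Pi.single j (1 : R), ?_⟩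
  rw [map_sum]
  refine Finset.sum_congr rfl fun j _ => ?_
  simp

/-- Every element of `M ⊗ Q` comes from `Rⁿ ⊗ Q` for some map `Rⁿ → M`. -/
theorem exists_free_rTensor_eq {M : Type v₁} [AddCommGroup M] [Module R M] (x : M ⊗[R] Q) :
    ∃ (n : ℕ) (φ : (Fin n → R) →ₗ[R] M) (y : (Fin n → R) ⊗[R] Q), φ.rTensor Q y = x := by
  classical
  obtain ⟨k, m, q, rfl⟩ := TensorProduct.exists_sum_tmul_eq x
  refine ⟨k, Fintype.linearCombination R m, ∑ j, Pi.single j (1 : R) ⊗ₜ[R] q j, ?_⟩
  rw [map_sum]
  refine Finset.sum_congr rfl fun j _ => ?_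
  simp

end Approx

section Dominate

variable {M : Type u} {N : Type u} {M' : Type u} [AddCommGroup M] [Module R M]
  [AddCommGroup N] [Module R N] [AddCommGroup M'] [Module R M']

theorem finitePresentation_quotient_of_fg {m : ℕ} (K₁ : Submodule R (Fin m → R)) (hK₁ : K₁.FG) :
    Module.FinitePresentation R ((Fin m → R) ⧸ K₁) :=
  Module.finitePresentation_of_surjective K₁.mkQ K₁.mkQ_surjective
    (by rw [Submodule.ker_mkQ]; exact hK₁)

/-- Domination can be tested on finitely presented modules. -/
theorem dominates_of_finitePresentation (f : M →ₗ[R] N) (g : M →ₗ[R] M')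
    (h : ∀ (Q : Type u) [AddCommGroup Q] [Module R Q], Module.FinitePresentation R Q →
      LinearMap.ker (f.rTensor Q) ≤ LinearMap.ker (g.rTensor Q))
    (Q : Type u) [AddCommGroup Q] [Module R Q] :
    LinearMap.ker (f.rTensor Q) ≤ LinearMap.ker (g.rTensor Q) := by
  intro x hx
  rw [LinearMap.mem_ker] at hx ⊢
  obtain ⟨n, φ, y, rfl⟩ := exists_free_lTensor_eq x
  have h1 : φ.lTensor N (f.rTensor (Fin n → R) y) = 0 := by
    rw [← LinearMap.comp_apply, LinearMap.lTensor_comp_rTensor, ← LinearMap.rTensor_comp_lTensor,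
      LinearMap.comp_apply]
    exact hx
  obtain ⟨m, K₁, hK₁, g₁, h₁, hgh, hg₁⟩ := exists_fp_factor' φ _ h1
  have hfp := finitePresentation_quotient_of_fg K₁ hK₁
  have h2 : g₁.lTensor M y ∈ LinearMap.ker (f.rTensor ((Fin m → R) ⧸ K₁)) := by
    rw [LinearMap.mem_ker, ← LinearMap.comp_apply, LinearMap.rTensor_comp_lTensor,
      ← LinearMap.lTensor_comp_rTensor, LinearMap.comp_apply]
    exact hg₁
  have h3 := h _ hfp h2
  rw [LinearMap.mem_ker] at h3
  have h4 : g.rTensor Q ((h₁ ∘ₗ g₁).lTensor M y) =
      h₁.lTensor M' (g.rTensor _ (g₁.lTensor M y)) := by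
    rw [LinearMap.lTensor_comp, LinearMap.comp_apply, ← LinearMap.comp_apply (g.rTensor Q),
      LinearMap.rTensor_comp_lTensor, ← LinearMap.lTensor_comp_rTensor, LinearMap.comp_apply]
  rw [← hgh, h4, h3, map_zero]

end Dominate

section ML

open CAlg

variable {M₁ M₂ M₃ : Type u} [AddCommGroup M₁] [Module R M₁] [AddCommGroup M₂] [Module R M₂]
  [AddCommGroup M₃] [Module R M₃]

/-- A universally injective submodule of a Mittag-Leffler module is Mittag-Leffler. -/
theorem of_universallyInjective (f : M₁ →ₗ[R] M₂)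
    (hf : ∀ (Q : Type u) [AddCommGroup Q] [Module R Q], Function.Injective (f.rTensor Q))
    (h₂ : IsMittagLeffler R M₂) : IsMittagLeffler R M₁ := by
  intro ι Q _ _
  rw [injective_iff_map_eq_zero]
  intro x hx
  apply hf (∀ i, Q i)
  apply h₂ ι Q
  rw [map_zero, map_zero]
  funext i
  rw [τ_rTensor, hx]
  simp

/-- Extensions (with universally injective first map) of Mittag-Leffler modules are
Mittag-Leffler. -/
theorem of_extension (f : M₁ →ₗ[R] M₂) (g : M₂ →ₗ[R] M₃)
    (hf : ∀ (Q : Type u) [AddCommGroup Q] [Module R Q], Function.Injective (f.rTensor Q))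
    (hg : Function.Surjective g) (hfg : LinearMap.range f = LinearMap.ker g)
    (h₁ : IsMittagLeffler R M₁) (h₃ : IsMittagLeffler R M₃) : IsMittagLeffler R M₂ := by
  intro ι Q _ _
  rw [injective_iff_map_eq_zero]
  intro x hx
  have hex : Function.Exact f g := LinearMap.exact_iff.mpr hfg.symm
  have h1 : g.rTensor (∀ i, Q i) x = 0 := by
    apply h₃ ι Q
    rw [map_zero]
    funext i
    rw [τ_rTensor, hx]
    simp
  obtain ⟨y, rfl⟩ := (rTensor_exact (∀ i, Q i) hex hg x).mp h1
  have h2 : y = 0 := by
    apply h₁ ι Q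
    rw [map_zero]
    funext i
    apply hf (Q i)
    rw [← τ_rTensor, hx]
    simp
  rw [h2, map_zero]

/-- The quotient of a Mittag-Leffler module by a finitely generated submodule is
Mittag-Leffler. -/
theorem quotient_of_fg (N : Submodule R M₂) (hN : N.FG) (hM : IsMittagLeffler R M₂) :
    IsMittagLeffler R (M₂ ⧸ N) := by
  intro ι Q _ _
  have : Module.Finite R N := Module.Finite.iff_fg.mpr hN
  refine τ_injective_of_exact Q N.subtype N.mkQ ?_ N.mkQ_surjective (hM ι Q)
    (τ_surjective_of_finite Q)
  rw [LinearMap.exact_iff]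
  simp

/-- Finitely presented modules are Mittag-Leffler. -/
theorem of_finitePresentation (M : Type u) [AddCommGroup M] [Module R M]
    [Module.FinitePresentation R M] : IsMittagLeffler R M :=
  fun _ Q _ _ => (τ_bijective_of_finitePresentation Q).1

/-- If every map from a finite free module into `M` is mutually dominated by a map to a
finitely presented module, then `M` is Mittag-Leffler. -/
theorem of_forall_finiteFree_dominate (M : Type u) [AddCommGroup M] [Module R M]
    (H : ∀ (n : ℕ) (f : (Fin n → R) →ₗ[R] M),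
      ∃ (Q : Type u) (_ : AddCommGroup Q) (_ : Module R Q) (_ : Module.FinitePresentation R Q)
        (g : (Fin n → R) →ₗ[R] Q),
        ∀ (N : Type u) [AddCommGroup N] [Module R N],
          LinearMap.ker (f.rTensor N) = LinearMap.ker (g.rTensor N)) :
    IsMittagLeffler R M := by
  intro ι Q _ _
  rw [injective_iff_map_eq_zero]
  intro x hx
  obtain ⟨n, f, y, rfl⟩ := exists_free_rTensor_eq x
  obtain ⟨Q', _, _, _, g, hker⟩ := H n f
  have h1 : g.rTensor (∀ i, Q i) y = 0 := by
    apply (τ_bijective_of_finitePresentation (M := Q') Q).1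
    rw [map_zero]
    funext i
    rw [τ_rTensor]
    have : τ R (Fin n → R) Q y i ∈ LinearMap.ker (f.rTensor (Q i)) := by
      rw [LinearMap.mem_ker, ← τ_rTensor, hx]
      rfl
    rw [hker (Q i)] at this
    exact this
  have h2 : y ∈ LinearMap.ker (f.rTensor (∀ i, Q i)) := by
    rw [hker]
    exact h1
  exact h2

/-- Index type for the family of all standard finitely presented modules together with an
element killed by `f`. -/
structure Idx {M : Type u} [AddCommGroup M] [Module R M] {n : ℕ}
    (f : (Fin n → R) →ₗ[R] M) : Type u where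
  /-- number of generators -/
  m : ℕ
  /-- relations -/
  K : Submodule R (Fin m → R)
  hK : K.FG
  /-- the element -/
  x : (Fin n → R) ⊗[R] ((Fin m → R) ⧸ K)
  hx : f.rTensor _ x = 0

/-- The module attached to an index. -/
abbrev Idx.Q {M : Type u} [AddCommGroup M] [Module R M] {n : ℕ}
    {f : (Fin n → R) →ₗ[R] M} (α : Idx f) : Type u := (Fin α.m → R) ⧸ α.K

/-- Mittag-Leffler modules satisfy the finite free domination condition. -/
theorem forall_finiteFree_dominate (M : Type u) [AddCommGroup M] [Module R M]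
    (hM : IsMittagLeffler R M) (n : ℕ) (f : (Fin n → R) →ₗ[R] M) :
    ∃ (m : ℕ) (K₁ : Submodule R (Fin m → R)) (_ : K₁.FG)
      (g : (Fin n → R) →ₗ[R] (Fin m → R) ⧸ K₁) (h : ((Fin m → R) ⧸ K₁) →ₗ[R] M),
      h ∘ₗ g = f ∧ ∀ (N : Type u) [AddCommGroup N] [Module R N],
        LinearMap.ker (f.rTensor N) = LinearMap.ker (g.rTensor N) := by
  obtain ⟨y, hy⟩ := (τ_free_bijective (n := n) (fun α : Idx f => α.Q)).2 (fun α => α.x)
  have h1 : f.rTensor (∀ α : Idx f, α.Q) y = 0 := by
    apply hM (Idx f) (fun α => α.Q)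
    rw [map_zero]
    funext α
    rw [τ_rTensor, hy]
    exact α.hx
  obtain ⟨m, K₁, hK₁, g, h, hgh, hg⟩ := exists_fp_factor f y h1
  refine ⟨m, K₁, hK₁, g, h, hgh, fun N _ _ => ?_⟩
  apply le_antisymm
  · refine dominates_of_finitePresentation f g (fun N' _ _ hN' => ?_) N
    intro x hx
    obtain ⟨m', K, e, hK⟩ := Module.FinitePresentation.exists_fin R N'
    have hx' : f.rTensor ((Fin m' → R) ⧸ K) (e.toLinearMap.lTensor (Fin n → R) x) = 0 := by
      rw [← LinearMap.comp_apply, LinearMap.rTensor_comp_lTensor,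
        ← LinearMap.lTensor_comp_rTensor, LinearMap.comp_apply, LinearMap.mem_ker.mp hx, map_zero]
    let α : Idx f := ⟨m', K, hK, _, hx'⟩
    have h2 : g.rTensor α.Q α.x = 0 := by
      have := congrFun hy α
      rw [← this, ← τ_rTensor, hg]
      rfl
    have h3 : e.toLinearMap.lTensor _ (g.rTensor N' x) = 0 := by
      rw [← LinearMap.comp_apply, LinearMap.lTensor_comp_rTensor, ← LinearMap.rTensor_comp_lTensor,
        LinearMap.comp_apply]
      exact h2
    rw [LinearMap.mem_ker]
    apply (LinearEquiv.lTensor _ e).injective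
    rw [map_zero]
    exact h3
  · intro x hx
    rw [LinearMap.mem_ker] at hx ⊢
    rw [← hgh, LinearMap.rTensor_comp, LinearMap.comp_apply, hx, map_zero]

/-- Mittag-Leffler modules satisfy the domination condition for all finitely presented
sources. -/
theorem forall_finitePresentation_dominate (M : Type u) [AddCommGroup M] [Module R M]
    (hM : IsMittagLeffler R M) (P : Type u) [AddCommGroup P] [Module R P]
    [Module.FinitePresentation R P] (f : P →ₗ[R] M) :
    ∃ (m : ℕ) (K₁ : Submodule R (Fin m → R)) (_ : K₁.FG)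
      (g : P →ₗ[R] (Fin m → R) ⧸ K₁),
      ∀ (N : Type u) [AddCommGroup N] [Module R N],
        LinearMap.ker (f.rTensor N) = LinearMap.ker (g.rTensor N) := by
  obtain ⟨n, π, hπ⟩ := Module.Finite.exists_fin' R P
  obtain ⟨m, K₁, hK₁, g₀, h, hgh, hker⟩ := forall_finiteFree_dominate M hM n (f ∘ₗ π)
  -- `g₀` kills the kernel of `π`
  have hle : LinearMap.ker π ≤ LinearMap.ker g₀ := by
    intro v hv
    have h1 : v ⊗ₜ[R] (1 : R) ∈ LinearMap.ker ((f ∘ₗ π).rTensor R) := by
      rw [LinearMap.mem_ker, LinearMap.rTensor_tmul, LinearMap.comp_apply,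
        LinearMap.mem_ker.mp hv, map_zero, TensorProduct.zero_tmul]
    rw [hker R, LinearMap.mem_ker, LinearMap.rTensor_tmul] at h1
    have h2 := congrArg (TensorProduct.rid R _) h1
    rw [TensorProduct.rid_tmul, one_smul, map_zero] at h2
    exact h2
  let g : P →ₗ[R] (Fin m → R) ⧸ K₁ :=
    ((LinearMap.ker π).liftQ g₀ hle) ∘ₗ (π.quotKerEquivOfSurjective hπ).symm.toLinearMap
  have hgπ : g ∘ₗ π = g₀ := by
    refine LinearMap.ext fun v => ?_
    simp only [g, LinearMap.comp_apply, LinearEquiv.coe_coe]
    have : (π.quotKerEquivOfSurjective hπ).symm (π v) = (LinearMap.ker π).mkQ v := by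
      rw [LinearEquiv.symm_apply_eq]
      rfl
    rw [this]
    rfl
  refine ⟨m, K₁, hK₁, g, fun N _ _ => ?_⟩
  ext x
  obtain ⟨w, rfl⟩ := LinearMap.rTensor_surjective N hπ x
  rw [LinearMap.mem_ker, LinearMap.mem_ker, ← LinearMap.comp_apply, ← LinearMap.comp_apply,
    ← LinearMap.rTensor_comp, ← LinearMap.rTensor_comp, hgπ, ← LinearMap.mem_ker,
    ← LinearMap.mem_ker (f := g₀.rTensor N), hker N]

end ML

section DirectSum

open CAlg DirectSum

variable {κ : Type u} (Mf : κ → Type u) [∀ i, AddCommGroup (Mf i)] [∀ i, Module R (Mf i)]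

theorem directSumLeft_apply [DecidableEq κ] {N : Type u} [AddCommGroup N] [Module R N]
    (x : (⨁ i, Mf i) ⊗[R] N) (j : κ) :
    TensorProduct.directSumLeft R R Mf N x j = (DirectSum.component R κ Mf j).rTensor N x := by
  induction x with
  | zero => simp
  | add a b ha hb => simp only [map_add, DirectSum.add_apply, ha, hb]
  | tmul m n => rw [TensorProduct.directSumLeft_tmul]; rfl

theorem eq_zero_of_component_rTensor [DecidableEq κ] {N : Type u} [AddCommGroup N] [Module R N]
    (x : (⨁ i, Mf i) ⊗[R] N)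
    (h : ∀ j, (DirectSum.component R κ Mf j).rTensor N x = 0) : x = 0 := by
  apply (TensorProduct.directSumLeft R R Mf N).injective
  rw [map_zero]
  ext j
  rw [directSumLeft_apply, h]
  rfl

/-- A direct sum is Mittag-Leffler iff all summands are. -/
theorem directSum_iff : IsMittagLeffler R (⨁ i, Mf i) ↔ ∀ i, IsMittagLeffler R (Mf i) := by
  classical
  constructor
  · intro h i
    refine of_universallyInjective (DirectSum.lof R κ Mf i) (fun Q _ _ => ?_) h
    have hcomp : (DirectSum.component R κ Mf i) ∘ₗ (DirectSum.lof R κ Mf i) = LinearMap.id := by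
      ext x
      simp
    apply Function.LeftInverse.injective (g := (DirectSum.component R κ Mf i).rTensor Q)
    intro x
    rw [← LinearMap.comp_apply, ← LinearMap.rTensor_comp, hcomp]
    simp
  · intro h ι Q _ _
    rw [injective_iff_map_eq_zero]
    intro x hx
    apply eq_zero_of_component_rTensor
    intro j
    apply h j ι Q
    rw [map_zero]
    funext i
    rw [τ_rTensor, hx]
    simp

end DirectSum

section ChangeOfRings

open CAlg TensorProduct.AlgebraTensorModule

variable {S : Type u} [CommRing S] [Algebra R S]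
variable {M : Type u} [AddCommGroup M] [Module S M] [Module R M] [IsScalarTower R S M]

theorem cancel_square {ι : Type u} (Q : ι → Type u) [∀ i, AddCommGroup (Q i)]
    [∀ i, Module R (Q i)] (x' : M ⊗[S] (S ⊗[R] (∀ i, Q i))) (i : ι) :
    cancelBaseChange R S S M (Q i)
        (τ S M (fun i => S ⊗[R] Q i) ((TensorProduct.piRightHom R S S Q).lTensor M x') i) =
      τ R M Q (cancelBaseChange R S S M (∀ i, Q i) x') i := by
  induction x' with
  | zero => simp
  | add x y hx hy => simp only [map_add, Pi.add_apply, hx, hy]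
  | tmul m y =>
    induction y with
    | zero => simp
    | add x y hx hy => simp only [TensorProduct.tmul_add, map_add, Pi.add_apply, hx, hy]
    | tmul s q => simp

/-- Descent of the Mittag-Leffler property along `R → S` when `M ⊗_S (S ⊗_R ∏ Q) → M ⊗_S ∏ (S ⊗_R
Q)` is injective. -/
theorem restrictScalars_of_lTensor_injective (hM : IsMittagLeffler S M)
    (h : ∀ (ι : Type u) (Q : ι → Type u) [∀ i, AddCommGroup (Q i)] [∀ i, Module R (Q i)],
      Function.Injective ((TensorProduct.piRightHom R S S Q).lTensor M)) :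
    IsMittagLeffler R M := by
  intro ι Q _ _
  rw [injective_iff_map_eq_zero]
  intro x hx
  obtain ⟨x', rfl⟩ := (cancelBaseChange R S S M (∀ i, Q i)).surjective x
  have h1 : (TensorProduct.piRightHom R S S Q).lTensor M x' = 0 := by
    apply hM ι (fun i => S ⊗[R] Q i)
    rw [map_zero]
    funext i
    apply (cancelBaseChange R S S M (Q i)).injective
    rw [cancel_square, hx]
    simp
  have h2 : x' = 0 := by
    apply h ι Q
    rw [h1, map_zero]
  rw [h2, map_zero]

/-- `S` Mittag-Leffler over `R`, `M` flat and Mittag-Leffler over `S` ⟹ `M` Mittag-Leffler over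
`R`. -/
theorem restrictScalars_of_flat (hS : IsMittagLeffler R S) [Module.Flat S M]
    (hM : IsMittagLeffler S M) : IsMittagLeffler R M := by
  refine restrictScalars_of_lTensor_injective hM fun ι Q _ _ => ?_
  apply Module.Flat.lTensor_preserves_injective_linearMap
  exact hS ι Q

/-- If `S` is a finitely presented `R`-module then Mittag-Leffler over `S` implies
Mittag-Leffler over `R`. -/
theorem restrictScalars_of_finitePresentation [Module.FinitePresentation R S]
    (hM : IsMittagLeffler S M) : IsMittagLeffler R M := by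
  refine restrictScalars_of_lTensor_injective hM fun ι Q _ _ => ?_
  have hbij : Function.Bijective (TensorProduct.piRightHom R S S Q) :=
    τ_bijective_of_finitePresentation (R := R) (M := S) Q
  exact (LinearEquiv.lTensor M (LinearEquiv.ofBijective _ hbij)).injective

theorem compatibleSMul_of_surjective (hsurj : Function.Surjective (algebraMap R S))
    (N : Type u) [AddCommGroup N] [Module S N] [Module R N] [IsScalarTower R S N] :
    TensorProduct.CompatibleSMul R S M N :=
  ⟨fun s m n => by
    obtain ⟨r, rfl⟩ := hsurj s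
    rw [algebraMap_smul, algebraMap_smul, TensorProduct.smul_tmul]⟩

theorem of_surjective_aux (hsurj : Function.Surjective (algebraMap R S))
    (hM : IsMittagLeffler R M) (ι : Type u) (Q : ι → Type u) [∀ i, AddCommGroup (Q i)]
    [∀ i, Module S (Q i)] [∀ i, Module R (Q i)] [∀ i, IsScalarTower R S (Q i)] :
    Function.Injective (TensorProduct.piRightHom S S M Q) := by
  have hc : ∀ (N : Type u) [AddCommGroup N] [Module S N] [Module R N] [IsScalarTower R S N],
      TensorProduct.CompatibleSMul R S M N := fun N _ _ _ _ => compatibleSMul_of_surjective hsurj N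
  have hcPi := hc (∀ i, Q i)
  have hcQ := fun i => hc (Q i)
  rw [injective_iff_map_eq_zero]
  intro x hx
  have key : ∀ (y : M ⊗[S] (∀ i, Q i)) (i : ι),
      TensorProduct.mapOfCompatibleSMul R S R M (Q i) (TensorProduct.piRightHom S S M Q y i) =
        TensorProduct.piRightHom R R M Q
          (TensorProduct.mapOfCompatibleSMul R S R M (∀ i, Q i) y) i := by
    intro y i
    induction y with
    | zero => simp
    | add a b ha hb => simp only [map_add, Pi.add_apply, ha, hb]
    | tmul m q => simp
  have h1 : TensorProduct.mapOfCompatibleSMul R S R M (∀ i, Q i) x = 0 := by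
    apply hM ι Q
    rw [map_zero]
    funext i
    rw [← key, hx]
    simp
  have h2 := (TensorProduct.equivOfCompatibleSMul R S R M (∀ i, Q i)).injective
  apply h2
  rw [map_zero]
  exact h1

/-- If `R → S` is surjective, an `S`-module which is Mittag-Leffler over `R` is Mittag-Leffler
over `S`. -/
theorem of_surjective (hsurj : Function.Surjective (algebraMap R S))
    (hM : IsMittagLeffler R M) : IsMittagLeffler S M := by
  intro ι Q _ _
  let _ : ∀ i, Module R (Q i) := fun i => Module.compHom (Q i) (algebraMap R S)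
  have : ∀ i, IsScalarTower R S (Q i) := fun i =>
    IsScalarTower.of_algebraMap_smul fun r x => rfl
  exact of_surjective_aux hsurj hM ι Q

section BaseChange

variable (S)
variable {M₀ : Type u} [AddCommGroup M₀] [Module R M₀]

theorem baseChange_aux (hM : IsMittagLeffler R M₀) (ι : Type u) (Q : ι → Type u)
    [∀ i, AddCommGroup (Q i)] [∀ i, Module S (Q i)] [∀ i, Module R (Q i)]
    [∀ i, IsScalarTower R S (Q i)] :
    Function.Injective (TensorProduct.piRightHom S S (S ⊗[R] M₀) Q) := by
  rw [injective_iff_map_eq_zero]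
  intro x hx
  have key : ∀ (y : (S ⊗[R] M₀) ⊗[S] (∀ i, Q i)) (i : ι),
      TensorProduct.comm R (Q i) M₀ (cancelBaseChange R S S (Q i) M₀
        (TensorProduct.comm S (S ⊗[R] M₀) (Q i) (TensorProduct.piRightHom S S (S ⊗[R] M₀) Q y i))) =
      TensorProduct.piRightHom R R M₀ Q (TensorProduct.comm R (∀ i, Q i) M₀
        (cancelBaseChange R S S (∀ i, Q i) M₀ (TensorProduct.comm S (S ⊗[R] M₀) (∀ i, Q i) y))) i := by
    intro y i
    induction y with
    | zero => simp
    | add a b ha hb => simp only [map_add, Pi.add_apply, ha, hb]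
    | tmul z q =>
      induction z with
      | zero => simp
      | add a b ha hb => simp only [TensorProduct.add_tmul, map_add, Pi.add_apply, ha, hb]
      | tmul s m => simp
  have h1 : TensorProduct.comm R (∀ i, Q i) M₀
      (cancelBaseChange R S S (∀ i, Q i) M₀ (TensorProduct.comm S (S ⊗[R] M₀) (∀ i, Q i) x)) = 0 := by
    apply hM ι Q
    rw [map_zero]
    funext i
    rw [← key, hx]
    simp
  have h2 := (TensorProduct.comm R (∀ i, Q i) M₀).injective (h1.trans (map_zero _).symm)
  have h3 := (cancelBaseChange R S S (∀ i, Q i) M₀).injective (h2.trans (map_zero _).symm)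
  exact (TensorProduct.comm S (S ⊗[R] M₀) (∀ i, Q i)).injective (h3.trans (map_zero _).symm)

/-- Base change of a Mittag-Leffler module is Mittag-Leffler. -/
theorem baseChange (hM : IsMittagLeffler R M₀) : IsMittagLeffler S (S ⊗[R] M₀) := by
  intro ι Q _ _
  let _ : ∀ i, Module R (Q i) := fun i => Module.compHom (Q i) (algebraMap R S)
  have : ∀ i, IsScalarTower R S (Q i) := fun i =>
    IsScalarTower.of_algebraMap_smul fun r x => rfl
  exact baseChange_aux S hM ι Q

end BaseChange

end ChangeOfRings

end Groth.Agent.Lib.Helper52.ML
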