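import Groth.Agent.Lib.Helper77.MiracleFlat
import Groth.Agent.Lib.Helper77.RegularCM
import Groth.Agent.Lib.Helper73.DimFT.Basic

/-!
# A regular local ring finite over a regular local ring is free

`free_of_regular_of_finite`: if `R → A` is an injective finite homomorphism of regular local
rings (in any universes) then `A` is a free `R`-module.  Consequently `R → A` has an `R`-linear
retraction (`exists_retraction`).
-/

set_option autoImplicit false
universe u v

namespace Groth.Agent.Lib.Helper52.RegFinFree

open IsLocalRing

/-- Integral injective extensions into a local ring are local homomorphisms. -/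
theorem isLocalHom_of_finite {R S : Type*} [CommRing R] [CommRing S] [Algebra R S]
    [Module.Finite R S] (hinj : Function.Injective (algebraMap R S)) :
    IsLocalHom (algebraMap R S) :=
  RingHom.IsIntegral.isLocalHom
    (algebraMap_isIntegral_iff.mpr (inferInstance : Algebra.IsIntegral R S)) hinj

/-- The fibre ring of a finite extension of local rings has dimension zero. -/
theorem ringKrullDim_fibre_eq_zero {R S : Type*} [CommRing R] [CommRing S] [IsLocalRing R]
    [IsLocalRing S] [Algebra R S] [Module.Finite R S]
    [IsLocalHom (algebraMap R S)] :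
    ringKrullDim (S ⧸ (maximalIdeal R).map (algebraMap R S)) = 0 := by
  have hne : (maximalIdeal R).map (algebraMap R S) ≠ ⊤ := by
    intro h
    have h2 : (maximalIdeal R).map (algebraMap R S) ≤ maximalIdeal S :=
      map_maximalIdeal_le (algebraMap R S)
    rw [h] at h2
    exact (maximalIdeal.isMaximal S).ne_top (top_le_iff.mp h2)
  haveI : Nontrivial (S ⧸ (maximalIdeal R).map (algebraMap R S)) :=
    Ideal.Quotient.nontrivial_iff.mpr hne
  haveI : Ring.KrullDimLE 0 (S ⧸ (maximalIdeal R).map (algebraMap R S)) := by
    rw [Ring.krullDimLE_zero_iff]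
    intro Q hQ
    have hQ' : (Q.comap (Ideal.Quotient.mk ((maximalIdeal R).map (algebraMap R S)))).IsPrime :=
      Ideal.comap_isPrime _ _
    set Q' := Q.comap (Ideal.Quotient.mk ((maximalIdeal R).map (algebraMap R S))) with hQ'def
    have hle : (maximalIdeal R).map (algebraMap R S) ≤ Q' := by
      intro x hx
      rw [hQ'def, Ideal.mem_comap, Ideal.Quotient.eq_zero_iff_mem.mpr hx]
      exact Q.zero_mem
    have hcomap : Q'.comap (algebraMap R S) = maximalIdeal R := by
      have h1 : maximalIdeal R ≤ Q'.comap (algebraMap R S) :=
        Ideal.map_le_iff_le_comap.mp hle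
      have hp : (Q'.comap (algebraMap R S)).IsPrime := Ideal.comap_isPrime _ _
      exact ((maximalIdeal.isMaximal R).eq_of_le hp.ne_top h1).symm
    have hmax : Q'.IsMaximal := by
      have : (Q'.comap (algebraMap R S)).IsMaximal := hcomap ▸ maximalIdeal.isMaximal R
      exact Ideal.isMaximal_of_isIntegral_of_isMaximal_comap Q' this
    have hsurj : Function.Surjective (Ideal.Quotient.mk ((maximalIdeal R).map (algebraMap R S))) :=
      Ideal.Quotient.mk_surjective
    have : Q = Q'.map (Ideal.Quotient.mk ((maximalIdeal R).map (algebraMap R S))) := by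
      rw [hQ'def, Ideal.map_comap_of_surjective _ hsurj]
    rw [this]
    exact (Ideal.map_eq_top_or_isMaximal_of_surjective _ hsurj hmax).resolve_left
      (fun htop => hQ.ne_top (this.trans htop))
  exact (ringKrullDimZero_iff_ringKrullDim_eq_zero).mp inferInstance

/-- Same-universe version, with a local homomorphism and equality of dimensions. -/
theorem free_same' {R S : Type u} [CommRing R] [IsRegularLocalRing R] [CommRing S]
    [IsRegularLocalRing S] [Algebra R S] [Module.Finite R S] [IsLocalHom (algebraMap R S)]
    (hd : ringKrullDim S = ringKrullDim R) : Module.Free R S := by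
  haveI : LocCoh.IsCohenMacaulayLocalRing S :=
    Groth.Agent.Lib.Helper77.RegularCM.isCohenMacaulayLocalRing S
  have hdim : ringKrullDim S = ringKrullDim R +
      ringKrullDim (S ⧸ (IsLocalRing.maximalIdeal R).map (algebraMap R S)) := by
    rw [ringKrullDim_fibre_eq_zero, add_zero]
    exact hd
  haveI : Module.Flat R S := Groth.Agent.Lib.Helper77.MiracleFlat.miracle_flatness hdim
  exact Module.free_of_flat_of_isLocalRing

/-- Same-universe version. -/
theorem free_same {R S : Type u} [CommRing R] [IsRegularLocalRing R] [CommRing S]
    [IsRegularLocalRing S] [Algebra R S] [Module.Finite R S]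
    (hinj : Function.Injective (algebraMap R S)) : Module.Free R S := by
  haveI : IsLocalHom (algebraMap R S) := isLocalHom_of_finite hinj
  exact free_same' (Groth.Agent.Lib.Helper73.ringKrullDim_eq_of_isIntegral_of_injective hinj)

attribute [local instance] ULift.algebra' in
/-- A finite local extension of regular local rings of the same dimension is free. -/
theorem free_of_regular_of_finite' (R : Type u) (A : Type v) [CommRing R] [IsRegularLocalRing R]
    [CommRing A] [IsRegularLocalRing A] [Algebra R A] [Module.Finite R A]
    [IsLocalHom (algebraMap R A)] (hd : ringKrullDim A = ringKrullDim R) : Module.Free R A := by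
  let eR : ULift.{v} R ≃+* R := ULift.ringEquiv
  let eA : ULift.{u} A ≃+* A := ULift.ringEquiv
  haveI : IsRegularLocalRing (ULift.{v} R) := IsRegularLocalRing.of_ringEquiv eR.symm
  haveI : IsRegularLocalRing (ULift.{u} A) := IsRegularLocalRing.of_ringEquiv eA.symm
  have hf' : ∀ r : ULift.{v} R, algebraMap (ULift.{v} R) (ULift.{u} A) r =
      eA.symm (algebraMap R A (eR r)) := fun r => rfl
  haveI : Module.Finite (ULift.{v} R) (ULift.{u} A) := by
    refine Module.Finite.of_equiv_equiv eR.symm eA.symm ?_
    ext r
    simp only [RingHom.comp_apply, RingHom.coe_coe, hf', RingEquiv.apply_symm_apply]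
  haveI : IsLocalHom (algebraMap (ULift.{v} R) (ULift.{u} A)) := by
    constructor
    intro r hr
    rw [hf'] at hr
    have h1 : IsUnit (algebraMap R A (eR r)) := by
      have := hr.map eA
      rwa [RingEquiv.apply_symm_apply] at this
    have h2 : IsUnit (eR r) := isUnit_of_map_unit (algebraMap R A) _ h1
    have := h2.map eR.symm
    rwa [RingEquiv.symm_apply_apply] at this
  have hd' : ringKrullDim (ULift.{u} A) = ringKrullDim (ULift.{v} R) := by
    rw [ringKrullDim_eq_of_ringEquiv eA, ringKrullDim_eq_of_ringEquiv eR, hd]
  have hfree : Module.Free (ULift.{v} R) (ULift.{u} A) := free_same' hd'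
  letI : RingHomInvPair (eR : ULift.{v} R →+* R) (eR.symm : R →+* ULift.{v} R) :=
    RingHomInvPair.of_ringEquiv eR
  letI : RingHomInvPair (eR.symm : R →+* ULift.{v} R) (eR : ULift.{v} R →+* R) :=
    RingHomInvPair.of_ringEquiv_symm eR
  let e₂ : ULift.{u} A ≃ₛₗ[(eR : ULift.{v} R →+* R)] A :=
    { eA.toAddEquiv with
      map_smul' := by
        intro r a
        change eA (r • a) = eR r • eA a
        rw [Algebra.smul_def, Algebra.smul_def, map_mul, hf', RingEquiv.apply_symm_apply] }
  exact Module.Free.of_equiv e₂

/-- A finite injective extension of regular local rings is free. -/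
theorem free_of_regular_of_finite (R : Type u) (A : Type v) [CommRing R] [IsRegularLocalRing R]
    [CommRing A] [IsRegularLocalRing A] [Algebra R A] [Module.Finite R A]
    (hinj : Function.Injective (algebraMap R A)) : Module.Free R A := by
  haveI : IsLocalHom (algebraMap R A) := isLocalHom_of_finite hinj
  exact free_of_regular_of_finite' R A
    (Groth.Agent.Lib.Helper73.ringKrullDim_eq_of_isIntegral_of_injective hinj)

/-- A free algebra over a local ring along a local homomorphism has a linear retraction. -/
theorem exists_retraction_of_free {R A : Type*} [CommRing R] [IsLocalRing R] [CommRing A]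
    [IsLocalRing A] [Algebra R A] [IsLocalHom (algebraMap R A)] [Module.Free R A] :
    ∃ ρ : A →ₗ[R] R, ρ 1 = 1 := by
  classical
  let b := Module.Free.chooseBasis R A
  have hex : ∃ j, IsUnit (b.repr 1 j) := by
    by_contra hcon
    push Not at hcon
    have h1 : (1 : A) ∈ maximalIdeal A := by
      rw [← b.linearCombination_repr 1, Finsupp.linearCombination_apply]
      refine Ideal.sum_mem _ fun j _ => ?_
      change (b.repr 1 j) • b j ∈ _
      rw [Algebra.smul_def]
      refine Ideal.mul_mem_right _ _ ?_
      rw [mem_maximalIdeal, mem_nonunits_iff]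
      intro hu
      exact hcon j (isUnit_of_map_unit (algebraMap R A) _ hu)
    exact (maximalIdeal.isMaximal A).ne_top ((Ideal.eq_top_iff_one _).mpr h1)
  obtain ⟨j, hj⟩ := hex
  refine ⟨(↑hj.unit⁻¹ : R) • b.coord j, ?_⟩
  rw [LinearMap.smul_apply, Module.Basis.coord_apply, smul_eq_mul]
  exact hj.val_inv_mul

/-- A finite injective extension of regular local rings has a linear retraction. -/
theorem exists_retraction (R : Type u) (A : Type v) [CommRing R] [IsRegularLocalRing R]
    [CommRing A] [IsRegularLocalRing A] [Algebra R A] [Module.Finite R A]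
    (hinj : Function.Injective (algebraMap R A)) : ∃ ρ : A →ₗ[R] R, ρ 1 = 1 := by
  haveI := free_of_regular_of_finite R A hinj
  haveI : IsLocalHom (algebraMap R A) := isLocalHom_of_finite hinj
  exact exists_retraction_of_free

end Groth.Agent.Lib.Helper52.RegFinFree
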