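import Mathlib

/-!
# Every commutative ring embeds into an absolutely integrally closed ring

`Step A` adjoins a root of every monic polynomial of positive degree; iterating countably many
times and passing to the direct limit yields a ring over which every monic polynomial splits.
-/

namespace Groth.Agent.Lib.Helper52.AIC

open Polynomial

universe u

section AdjoinRoot

variable {R : Type u} [CommRing R]

theorem adjoinRoot_of_injective {g : R[X]} (hg : g.Monic) (hd : g.natDegree ≠ 0) :
    Function.Injective (AdjoinRoot.of g) := by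
  nontriviality R
  rw [injective_iff_map_eq_zero]
  intro a ha
  have h1 : AdjoinRoot.modByMonicHom hg (AdjoinRoot.mk g (C a)) = 0 := by
    rw [AdjoinRoot.mk_C, ha, map_zero]
  rw [AdjoinRoot.modByMonicHom_mk, (modByMonic_eq_self_iff hg).mpr] at h1
  · exact C_eq_zero.mp h1
  · refine lt_of_le_of_lt degree_C_le ?_
    rw [degree_eq_natDegree hg.ne_zero]
    exact_mod_cast Nat.pos_of_ne_zero hd

end AdjoinRoot

section Step

variable (A : Type u) [CommRing A]

/-- Monic polynomials of positive degree. -/
def Monics : Type u := {f : A[X] // f.Monic ∧ f.natDegree ≠ 0}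

/-- The generator `f(X_f)`. -/
noncomputable def gen (f : Monics A) : MvPolynomial (Monics A) A :=
  Polynomial.eval₂ MvPolynomial.C (MvPolynomial.X f) f.1

/-- The ideal generated by the `f(X_f)`. -/
noncomputable def rootIdeal : Ideal (MvPolynomial (Monics A) A) :=
  Ideal.span (Set.range (gen A))

/-- Adjoin a root of every monic polynomial of positive degree. -/
abbrev Step : Type u := MvPolynomial (Monics A) A ⧸ rootIdeal A

/-- The structure map. -/
noncomputable def toStep : A →+* Step A :=
  (Ideal.Quotient.mk (rootIdeal A)).comp MvPolynomial.C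

variable {A}

/-- Finitely many monic polynomials acquire roots in an injective extension. -/
theorem exists_roots (s : Finset (Monics A)) :
    ∃ (E : Type u) (_ : CommRing E) (φ : A →+* E), Function.Injective φ ∧
      ∀ f ∈ s, ∃ r : E, Polynomial.eval₂ φ r f.1 = 0 := by
  classical
  induction s using Finset.induction_on with
  | empty => exact ⟨A, inferInstance, RingHom.id A, Function.injective_id, by simp⟩
  | insert f s _ ih =>
    obtain ⟨E, _, φ, hφ, hr⟩ := ih
    have hm : (f.1.map φ).Monic := f.2.1.map φ
    have hd : (f.1.map φ).natDegree ≠ 0 := by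
      have hA : Nontrivial A := by
        by_contra hA
        rw [not_nontrivial_iff_subsingleton] at hA
        exact f.2.2 (by rw [Subsingleton.elim f.1 0, natDegree_zero])
      have hE : Nontrivial E := hφ.nontrivial
      rw [f.2.1.natDegree_map]; exact f.2.2
    refine ⟨AdjoinRoot (f.1.map φ), inferInstance, (AdjoinRoot.of _).comp φ,
      (adjoinRoot_of_injective hm hd).comp hφ, ?_⟩
    intro g hg
    rcases Finset.mem_insert.mp hg with rfl | hg
    · refine ⟨AdjoinRoot.root _, ?_⟩
      rw [← Polynomial.eval₂_map, AdjoinRoot.eval₂_root]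
    · obtain ⟨r, hr⟩ := hr g hg
      refine ⟨AdjoinRoot.of _ r, ?_⟩
      rw [← Polynomial.hom_eval₂, hr, map_zero]

theorem toStep_injective : Function.Injective (toStep A) := by
  classical
  rw [injective_iff_map_eq_zero]
  intro a ha
  have hmem : (MvPolynomial.C a : MvPolynomial (Monics A) A) ∈ rootIdeal A :=
    Ideal.Quotient.eq_zero_iff_mem.mp ha
  rw [rootIdeal, Ideal.span, Finsupp.mem_span_range_iff_exists_finsupp] at hmem
  obtain ⟨c, hc⟩ := hmem
  obtain ⟨E, _, φ, hφ, hr⟩ := exists_roots c.support
  choose! r hr using hr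
  let ψ : MvPolynomial (Monics A) A →+* E := MvPolynomial.eval₂Hom φ r
  have hψ : ∀ f ∈ c.support, ψ (gen A f) = 0 := by
    intro f hf
    rw [gen, Polynomial.hom_eval₂]
    have h1 : ψ.comp MvPolynomial.C = φ := by
      ext x; simp [ψ]
    have h2 : ψ (MvPolynomial.X f) = r f := by simp [ψ]
    rw [h1, h2, hr f hf]
  have h0 : ψ (MvPolynomial.C a) = 0 := by
    rw [← hc, Finsupp.sum, map_sum]
    refine Finset.sum_eq_zero fun f hf => ?_
    rw [smul_eq_mul, map_mul, hψ f hf, mul_zero]
  have h3 : ψ (MvPolynomial.C a) = φ a := by simp [ψ]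
  rw [h3] at h0
  exact hφ (by rw [h0, map_zero])

theorem toStep_root (f : Monics A) :
    Polynomial.eval₂ (toStep A) (Ideal.Quotient.mk (rootIdeal A) (MvPolynomial.X f)) f.1 = 0 := by
  rw [toStep, ← Polynomial.hom_eval₂]
  exact Ideal.Quotient.eq_zero_iff_mem.mpr (Ideal.subset_span ⟨f, rfl⟩)

theorem exists_root_step (f : A[X]) (hf : f.Monic) (hd : f.natDegree ≠ 0) :
    ∃ r : Step A, Polynomial.eval₂ (toStep A) r f = 0 :=
  ⟨_, toStep_root ⟨f, hf, hd⟩⟩

end Step


section NatSystem

variable (G : ℕ → Type u) [∀ n, CommRing (G n)] (φ : ∀ n, G n →+* G (n + 1))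

/-- The transition maps of a sequence of ring homomorphisms. -/
def natLERec (m n : ℕ) (h : m ≤ n) : G m →+* G n :=
  Nat.leRecOn h (fun {k} g => (φ k).comp g) (RingHom.id _)

@[simp]
theorem coe_natLERec (m n : ℕ) (h : m ≤ n) :
    (natLERec G φ m n h : G m → G n) = Nat.leRecOn h (fun {k} => φ k) := by
  obtain ⟨k, rfl⟩ := Nat.exists_eq_add_of_le h
  ext x
  induction k with
  | zero => simp [natLERec, Nat.leRecOn_self]
  | succ k ih =>
    rw [Nat.leRecOn_succ le_self_add, natLERec, Nat.leRecOn_succ le_self_add, ← natLERec,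
      RingHom.comp_apply, ih]

instance natLERec.directedSystem : DirectedSystem G fun i j h => natLERec G φ i j h :=
  ⟨fun _ _ => congr (congr rfl (Nat.leRecOn_self _)) rfl,
   fun _ _ _ hij hjk => by simp [Nat.leRecOn_trans hij hjk]⟩

theorem natLERec_succ (n : ℕ) (x : G n) : natLERec G φ n (n + 1) (Nat.le_succ n) x = φ n x := by
  rw [coe_natLERec]
  dsimp only
  rw [Nat.leRecOn_succ (le_refl n), Nat.leRecOn_self]

theorem natLERec_injective (hφ : ∀ n, Function.Injective (φ n)) (m n : ℕ) (h : m ≤ n) :
    Function.Injective (natLERec G φ m n h) := by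
  obtain ⟨k, rfl⟩ := Nat.exists_eq_add_of_le h
  induction k with
  | zero =>
    intro x y hxy
    simpa [Nat.leRecOn_self] using hxy
  | succ k ih =>
    intro x y hxy
    rw [coe_natLERec] at hxy
    dsimp only at hxy
    rw [Nat.leRecOn_succ le_self_add, Nat.leRecOn_succ le_self_add] at hxy
    have := hφ _ hxy
    apply ih le_self_add
    rw [coe_natLERec]
    exact this

end NatSystem


section Tower

variable (A : Type u) [CommRing A]

/-- The tower `A → Step A → Step (Step A) → ⋯`. -/
noncomputable def tower : ℕ → CommRingCat.{u}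
  | 0 => CommRingCat.of A
  | n + 1 => CommRingCat.of (Step (tower n))

/-- The transition maps of the tower. -/
noncomputable def towerMap (n : ℕ) : tower A n →+* tower A (n + 1) :=
  toStep (tower A n)

theorem towerMap_injective (n : ℕ) : Function.Injective (towerMap A n) :=
  toStep_injective

/-- The direct limit of the tower. -/
abbrev Limit : Type u :=
  Ring.DirectLimit (fun n => tower A n) (fun i j h => natLERec _ (towerMap A) i j h)

/-- The structure map of the limit. -/
noncomputable def toLimit : A →+* Limit A :=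
  Ring.DirectLimit.of (fun n => tower A n) (fun i j h => natLERec _ (towerMap A) i j h) 0

theorem toLimit_injective : Function.Injective (toLimit A) :=
  Ring.DirectLimit.of_injective (fun i j h => natLERec _ (towerMap A) i j h)
    (fun i j h => natLERec_injective _ _ (towerMap_injective A) i j h) 0

theorem of_comp_towerMap (n : ℕ) :
    (Ring.DirectLimit.of (fun n => tower A n)
      (fun i j h => natLERec _ (towerMap A) i j h) (n + 1)).comp (towerMap A n) =
    Ring.DirectLimit.of (fun n => tower A n) (fun i j h => natLERec _ (towerMap A) i j h) n := by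
  ext x
  rw [RingHom.comp_apply, ← natLERec_succ (fun n => tower A n) (towerMap A) n x]
  exact Ring.DirectLimit.of_f (G := fun n => tower A n)
    (f := fun i j h => natLERec _ (towerMap A) i j h) (Nat.le_succ n) x

theorem degree_sum_range_lt {R : Type*} [Semiring R] (d : ℕ) (a : ℕ → R) :
    degree (∑ j ∈ Finset.range d, C (a j) * X ^ j) < d :=
  (degree_sum_le _ _).trans_lt <|
    (Finset.sup_lt_iff <| WithBot.bot_lt_coe d).2 fun _ hk =>
      (degree_C_mul_X_pow_le _ _).trans_lt <| WithBot.coe_lt_coe.2 (Finset.mem_range.mp hk)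

theorem exists_root_limit (q : (Limit A)[X]) (hq : q.Monic) (hd : q.natDegree ≠ 0) :
    ∃ b, q.IsRoot b := by
  nontriviality Limit A
  obtain ⟨n, p, hp⟩ := Ring.DirectLimit.Polynomial.exists_of q
  set d := q.natDegree with hddef
  set ofn := Ring.DirectLimit.of (fun n => tower A n)
    (fun i j h => natLERec _ (towerMap A) i j h) n with hofn
  let p' : (tower A n)[X] := X ^ d + ∑ j ∈ Finset.range d, C (p.coeff j) * X ^ j
  have hlt : degree (∑ j ∈ Finset.range d, C (p.coeff j) * X ^ j) < d := degree_sum_range_lt d _
  have hp'm : p'.Monic := monic_X_pow_add hlt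
  have hmap : p'.map ofn = q := by
    conv_rhs => rw [hq.as_sum]
    simp only [p', Polynomial.map_add, Polynomial.map_pow, Polynomial.map_X, Polynomial.map_sum,
      Polynomial.map_mul, Polynomial.map_C]
    congr 1
    refine Finset.sum_congr rfl fun j _ => ?_
    rw [← hp, coeff_map]
  have hp'd : p'.natDegree ≠ 0 := by
    have : (p'.map ofn).natDegree = d := by rw [hmap]
    have h2 := natDegree_map_le (f := ofn) (p := p')
    omega
  obtain ⟨r, hr⟩ : ∃ r : tower A (n + 1), Polynomial.eval₂ (towerMap A n) r p' = 0 :=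
    exists_root_step p' hp'm hp'd
  refine ⟨Ring.DirectLimit.of (fun n => tower A n)
    (fun i j h => natLERec _ (towerMap A) i j h) (n + 1) r, ?_⟩
  rw [IsRoot.def, ← hmap, eval_map, hofn, ← of_comp_towerMap, ← Polynomial.hom_eval₂]
  rw [hr, map_zero]

end Tower

theorem splits_of_roots {B : Type*} [CommRing B]
    (h : ∀ q : B[X], q.Monic → q.natDegree ≠ 0 → ∃ b, q.IsRoot b) :
    ∀ f : B[X], f.Monic → ∃ s : Multiset B, f = (s.map fun b => X - C b).prod := by
  rcases subsingleton_or_nontrivial B with hB | hB
  · intro f _; exact ⟨0, Subsingleton.elim _ _⟩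
  suffices H : ∀ (d : ℕ) (f : B[X]), f.Monic → f.natDegree = d →
      ∃ s : Multiset B, f = (s.map fun b => X - C b).prod from fun f hf => H _ f hf rfl
  intro d
  induction d with
  | zero =>
    intro f hf hd
    exact ⟨0, by simpa using (hf.natDegree_eq_zero).mp hd⟩
  | succ d ih =>
    intro f hf hd
    obtain ⟨b, hb⟩ := h f hf (by omega)
    have hfac : (X - C b) * (f /ₘ (X - C b)) = f := mul_divByMonic_eq_iff_isRoot.mpr hb
    have hgm : (f /ₘ (X - C b)).Monic :=
      (monic_X_sub_C b).of_mul_monic_left (by rw [hfac]; exact hf)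
    have hgd : (f /ₘ (X - C b)).natDegree = d := by
      rw [natDegree_divByMonic f (monic_X_sub_C b), natDegree_X_sub_C, hd]; rfl
    obtain ⟨s, hs⟩ := ih _ hgm hgd
    refine ⟨b ::ₘ s, ?_⟩
    rw [Multiset.map_cons, Multiset.prod_cons, ← hs, hfac]

/-- Every commutative ring embeds into a ring over which every monic polynomial splits. -/
theorem exists_aic (A : Type u) [CommRing A] :
    ∃ (B : Type u) (_ : CommRing B) (_ : Algebra A B), Function.Injective (algebraMap A B) ∧
      ∀ f : B[X], f.Monic → ∃ s : Multiset B, f = (s.map fun b => X - C b).prod :=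
  ⟨Limit A, inferInstance, (toLimit A).toAlgebra, toLimit_injective A,
    splits_of_roots (exists_root_limit A)⟩

end Groth.Agent.Lib.Helper52.AIC
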