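import Mathlib

/-!
# Quotients `R[u_i : i ∈ ι] / (f_i(u_i))` by monic one-variable relations

For a finite family of polynomials `f i : R[X]`, the ring
`Q f = MvPolynomial ι R ⧸ (f_i(X_i) : i)` is the tensor product over `R` of the rings
`AdjoinRoot (f i)`.  When the `f i` are monic, it is free over `R` on the monomials
`∏ u_i ^ α_i`, `α_i < deg f_i`.
-/

set_option autoImplicit false
universe u v

namespace Groth.Agent.Lib.Helper52.MonicCI

open MvPolynomial PiTensorProduct
open scoped TensorProduct

variable {R : Type u} [CommRing R] {ι : Type v} (f : ι → Polynomial R)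

/-- The ideal generated by the `f i (X i)`. -/
noncomputable def relIdeal : Ideal (MvPolynomial ι R) :=
  Ideal.span (Set.range fun i => Polynomial.aeval (X i : MvPolynomial ι R) (f i))

/-- The quotient ring. -/
abbrev Q : Type (max u v) := MvPolynomial ι R ⧸ relIdeal f

/-- The class of `X i`. -/
noncomputable def gen (i : ι) : Q f := Ideal.Quotient.mk (relIdeal f) (X i)

lemma aeval_gen (i : ι) : Polynomial.aeval (gen f i) (f i) = 0 := by
  have h : Polynomial.aeval (gen f i) (f i) =
      Ideal.Quotient.mk (relIdeal f) (Polynomial.aeval (X i : MvPolynomial ι R) (f i)) := by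
    have := Polynomial.aeval_algHom_apply (Ideal.Quotient.mkₐ R (relIdeal f))
      (X i : MvPolynomial ι R) (f i)
    simpa [gen] using this
  rw [h, Ideal.Quotient.eq_zero_iff_mem]
  exact Ideal.subset_span ⟨i, rfl⟩

/-- Universal property of `Q f`. -/
noncomputable def lift {S : Type*} [CommRing S] [Algebra R S] (x : ι → S)
    (hx : ∀ i, Polynomial.aeval (x i) (f i) = 0) : Q f →ₐ[R] S :=
  Ideal.Quotient.liftₐ (relIdeal f) (MvPolynomial.aeval x) (by
    intro a ha
    have hle : relIdeal f ≤ RingHom.ker (MvPolynomial.aeval x : MvPolynomial ι R →ₐ[R] S) := by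
      unfold relIdeal
      rw [Ideal.span_le]
      rintro _ ⟨i, rfl⟩
      change (MvPolynomial.aeval x) (Polynomial.aeval (X i : MvPolynomial ι R) (f i)) = 0
      rw [← Polynomial.aeval_algHom_apply]
      simpa using hx i
    exact RingHom.mem_ker.mp (hle ha))

@[simp] lemma lift_gen {S : Type*} [CommRing S] [Algebra R S] (x : ι → S)
    (hx : ∀ i, Polynomial.aeval (x i) (f i) = 0) (i : ι) : lift f x hx (gen f i) = x i := by
  unfold lift gen
  rw [Ideal.Quotient.liftₐ_apply]
  exact (Ideal.Quotient.lift_mk _ _ _).trans (by simp)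

lemma algHom_ext {S : Type*} [Semiring S] [Algebra R S] {g₁ g₂ : Q f →ₐ[R] S}
    (h : ∀ i, g₁ (gen f i) = g₂ (gen f i)) : g₁ = g₂ := by
  apply Ideal.Quotient.algHom_ext
  apply MvPolynomial.algHom_ext
  intro i
  exact h i

variable [Fintype ι] [DecidableEq ι]

/-- The map to the tensor product. -/
noncomputable def toTensor : Q f →ₐ[R] ⨂[R] i, AdjoinRoot (f i) :=
  lift f (fun i => singleAlgHom (R := R) (A := fun i => AdjoinRoot (f i)) i (AdjoinRoot.root (f i)))
    (fun i => by
      rw [Polynomial.aeval_algHom_apply, AdjoinRoot.aeval_eq, AdjoinRoot.mk_self, map_zero])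

/-- The multilinear map underlying `ofTensor`. -/
noncomputable def ofTensorML : MultilinearMap R (fun i => AdjoinRoot (f i)) (Q f) :=
  (MultilinearMap.mkPiAlgebra R ι (Q f)).compLinearMap (fun i =>
    (AdjoinRoot.liftAlgHom (f i) (Algebra.ofId R (Q f)) (gen f i)
      (by rw [← aeval_gen f i]; rfl)).toLinearMap)

lemma ofTensorML_apply (x : ∀ i, AdjoinRoot (f i)) :
    ofTensorML f x = ∏ i, (AdjoinRoot.liftAlgHom (f i) (Algebra.ofId R (Q f)) (gen f i)
      (by rw [← aeval_gen f i]; rfl)) (x i) := by
  simp [ofTensorML]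

/-- The map from the tensor product. -/
noncomputable def ofTensor : (⨂[R] i, AdjoinRoot (f i)) →ₐ[R] Q f :=
  liftAlgHom (ofTensorML f) (by simp [ofTensorML_apply]) (by
    intro x y
    simp only [ofTensorML_apply, Pi.mul_apply, map_mul]
    rw [Finset.prod_mul_distrib])

lemma ofTensor_single (i : ι) (x : AdjoinRoot (f i)) :
    ofTensor f (singleAlgHom i x) =
      (AdjoinRoot.liftAlgHom (f i) (Algebra.ofId R (Q f)) (gen f i)
      (by rw [← aeval_gen f i]; rfl)) x := by
  simp only [ofTensor, singleAlgHom_apply, liftAlgHom_apply, lift.tprod, ofTensorML_apply]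
  rw [Finset.prod_eq_single i]
  · simp
  · intro j _ hj
    simp [MonoidHom.mulSingle_apply, Pi.mulSingle_eq_of_ne hj]
  · intro h; exact absurd (Finset.mem_univ i) h

lemma ofTensor_toTensor : (ofTensor f).comp (toTensor f) = AlgHom.id R (Q f) := by
  apply algHom_ext
  intro i
  rw [AlgHom.comp_apply]
  unfold toTensor
  rw [lift_gen, ofTensor_single]
  simp

lemma toTensor_ofTensor :
    (toTensor f).comp (ofTensor f) = AlgHom.id R (⨂[R] i, AdjoinRoot (f i)) := by
  apply PiTensorProduct.algHom_ext
  intro i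
  apply AdjoinRoot.algHom_ext
  rw [AlgHom.comp_apply, AlgHom.comp_apply, ofTensor_single, AdjoinRoot.liftAlgHom_root]
  unfold toTensor
  rw [lift_gen]
  rfl

/-- `Q f` is the tensor product of the `AdjoinRoot (f i)`. -/
noncomputable def equivTensor : Q f ≃ₐ[R] ⨂[R] i, AdjoinRoot (f i) :=
  AlgEquiv.ofAlgHom (toTensor f) (ofTensor f) (toTensor_ofTensor f) (ofTensor_toTensor f)

omit [Fintype ι] [DecidableEq ι] in
lemma powerBasisAux'_apply {g : Polynomial R} (hg : g.Monic) (i : Fin g.natDegree) :
    AdjoinRoot.powerBasisAux' hg i = AdjoinRoot.root g ^ (i : ℕ) :=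
  (AdjoinRoot.powerBasis' hg).basis_eq_pow i

/-- The monomial basis of `Q f` for monic `f i`. -/
noncomputable def basis (hf : ∀ i, (f i).Monic) : Module.Basis (∀ i, Fin (f i).natDegree) R (Q f) :=
  (_root_.Basis.piTensorProduct (fun i => AdjoinRoot.powerBasisAux' (hf i))).map
    (equivTensor f).symm.toLinearEquiv

lemma basis_apply (hf : ∀ i, (f i).Monic) (α : ∀ i, Fin (f i).natDegree) :
    basis f hf α = ∏ i, gen f i ^ (α i : ℕ) := by
  have h1 : basis f hf α = ofTensor f (_root_.Basis.piTensorProduct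
      (fun i => AdjoinRoot.powerBasisAux' (hf i)) α) := by
    unfold basis
    rw [Module.Basis.map_apply]
    rfl
  rw [h1, _root_.Basis.piTensorProduct_apply]
  unfold ofTensor
  rw [liftAlgHom_apply, lift.tprod, ofTensorML_apply]
  refine Finset.prod_congr rfl (fun i _ => ?_)
  rw [powerBasisAux'_apply]
  simp

lemma free (hf : ∀ i, (f i).Monic) : Module.Free R (Q f) := .of_basis (basis f hf)

lemma finite (hf : ∀ i, (f i).Monic) : Module.Finite R (Q f) := .of_basis (basis f hf)

lemma finrank_eq (hf : ∀ i, (f i).Monic) [Nontrivial R] :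
    Module.finrank R (Q f) = ∏ i, (f i).natDegree := by
  rw [Module.finrank_eq_card_basis (basis f hf)]
  simp

end Groth.Agent.Lib.Helper52.MonicCI
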