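import Mathlib
import Groth.Agent.Lib.Helper52.MonicCI
import Groth.Agent.S11741
import Groth.Agent.Lib.Helper76.RegularLocal
import Groth.Agent.Lib.Helper47.AdicFinite
import Groth.Agent.Lib.Helper61.MvPSComplete

/-!
# The Artin–Schreier family `A = R[u_1..u_n]/(u_i^p - c_i u_i - x_i)` over `R = k[[x_1..x_n]]`
-/

set_option autoImplicit false
universe u

namespace Groth.Agent.Lib.Helper52.AS

open MvPolynomial IsLocalRing

/-- Completeness only depends on the adic topology. -/
theorem isAdicComplete_of_le_of_pow_le {S : Type*} [CommRing S] (I I' : Ideal S)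
    [IsAdicComplete I S] (h1 : I ≤ I') (m : ℕ) (hm0 : 0 < m)
    (hm : I' ^ m ≤ I) : IsAdicComplete I' S := by
  have hle : ∀ n : ℕ, (I' ^ (m * n) • ⊤ : Submodule S S) ≤ I ^ n • ⊤ := by
    intro n
    rw [pow_mul]
    exact Submodule.smul_mono_left (Ideal.pow_right_mono hm n)
  have hle' : ∀ n : ℕ, (I ^ n • ⊤ : Submodule S S) ≤ I' ^ n • ⊤ := fun n =>
    Submodule.smul_mono_left (Ideal.pow_right_mono h1 n)
  have hkn : ∀ n : ℕ, n ≤ m * n := fun n => Nat.le_mul_of_pos_left n hm0
  have hH : IsHausdorff I' S := by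
    rw [isHausdorff_iff]
    intro x hx
    apply IsHausdorff.haus (inferInstance : IsHausdorff I S)
    intro n
    exact (hx (m * n)).mono (hle n)
  have hP : IsPrecomplete I' S := by
    rw [isPrecomplete_iff]
    intro f hf
    obtain ⟨L, hL⟩ := IsPrecomplete.prec (inferInstance : IsPrecomplete I S)
      (f := fun n => f (m * n)) (by
        intro a b hab
        exact (hf (Nat.mul_le_mul_left m hab)).mono (hle a))
    refine ⟨L, fun n => ?_⟩
    exact (hf (hkn n)).trans ((hL n).mono (hle' n))
  exact { hH, hP with }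

variable (p : ℕ) {k : Type u} [Field k] {n : ℕ} (c : Fin n → MvPowerSeries (Fin n) k)

local notation "R" => MvPowerSeries (Fin n) k

/-- The Artin–Schreier polynomial `T^p - c_i T - x_i`. -/
noncomputable def poly (i : Fin n) : Polynomial (MvPowerSeries (Fin n) k) :=
  Polynomial.X ^ p - Polynomial.C (c i) * Polynomial.X - Polynomial.C (MvPowerSeries.X i)

lemma poly_eq (i : Fin n) : poly p c i =
    Polynomial.X ^ p - (Polynomial.C (c i) * Polynomial.X + Polynomial.C (MvPowerSeries.X i)) := by
  unfold poly; ring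

lemma poly_monic (hp : 2 ≤ p) (i : Fin n) : (poly p c i).Monic := by
  rw [poly_eq]
  apply Polynomial.monic_X_pow_sub
  refine lt_of_le_of_lt Polynomial.degree_linear_le ?_
  exact_mod_cast hp

lemma poly_natDegree (hp : 2 ≤ p) (i : Fin n) : (poly p c i).natDegree = p := by
  rw [poly_eq]
  have h1 : (Polynomial.C (c i) * Polynomial.X + Polynomial.C (MvPowerSeries.X i) :
      Polynomial R).natDegree < ((Polynomial.X : Polynomial R) ^ p).natDegree := by
    rw [Polynomial.natDegree_X_pow]
    refine lt_of_le_of_lt (Polynomial.natDegree_linear_le) ?_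
    omega
  rw [Polynomial.natDegree_sub_eq_left_of_natDegree_lt h1, Polynomial.natDegree_X_pow]

lemma relIdeal_eq :
    MonicCI.relIdeal (poly p c) = Ideal.span (Set.range fun i : Fin n =>
      (X i : MvPolynomial (Fin n) R) ^ p - C (c i) * X i - C (MvPowerSeries.X i)) := by
  unfold MonicCI.relIdeal
  congr 2
  funext i
  simp [poly]

/-- The ring `A`. -/
abbrev A : Type u := MonicCI.Q (poly p c)

/-- The classes `u_i`. -/
noncomputable abbrev gen (i : Fin n) : A p c := MonicCI.gen (poly p c) i

lemma gen_pow (i : Fin n) :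
    gen p c i ^ p = algebraMap R (A p c) (c i) * gen p c i + algebraMap R (A p c) (MvPowerSeries.X i) := by
  have h := MonicCI.aeval_gen (poly p c) i
  simp only [poly, map_sub, map_mul, map_pow, Polynomial.aeval_X, Polynomial.aeval_C] at h
  linear_combination h

/-- The ideal `(u_1, …, u_n)`. -/
noncomputable def genIdeal : Ideal (A p c) := Ideal.span (Set.range (gen p c))

lemma genIdeal_eq_map :
    genIdeal p c = Ideal.map (Ideal.Quotient.mk (MonicCI.relIdeal (poly p c)))
      (Ideal.span (Set.range (X : Fin n → MvPolynomial (Fin n) R))) := by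
  unfold genIdeal
  rw [Ideal.map_span, ← Set.range_comp]
  rfl


section Aug

variable (hp : 2 ≤ p)

/-- The augmentation of the polynomial ring. -/
noncomputable def aug₀ : MvPolynomial (Fin n) R →+* k :=
  (MvPowerSeries.constantCoeff : R →+* k).comp MvPolynomial.constantCoeff

include hp

lemma relIdeal_le_ker_aug₀ :
    MonicCI.relIdeal (poly p c) ≤ RingHom.ker (aug₀ (k := k) (n := n)) := by
  rw [relIdeal_eq, Ideal.span_le]
  rintro _ ⟨i, rfl⟩
  rw [SetLike.mem_coe, RingHom.mem_ker]
  have hp0 : p ≠ 0 := by omega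
  simp [aug₀, hp0]

/-- The augmentation `A → k`, `u_i ↦ 0`, `x_i ↦ 0`. -/
noncomputable def aug : A p c →+* k :=
  Ideal.Quotient.lift (MonicCI.relIdeal (poly p c)) (aug₀ (k := k) (n := n))
    (fun _ ha => RingHom.mem_ker.mp (relIdeal_le_ker_aug₀ p c hp ha))

lemma aug_mk (P : MvPolynomial (Fin n) R) :
    aug p c hp (Ideal.Quotient.mk _ P) = aug₀ P := rfl

lemma aug_gen (i : Fin n) : aug p c hp (gen p c i) = 0 := by
  change aug₀ (X i) = 0
  simp [aug₀]

lemma aug_algebraMap (r : R) :
    aug p c hp (algebraMap R (A p c) r) = MvPowerSeries.constantCoeff r := by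
  change aug₀ (C r) = _
  simp [aug₀]

lemma aug_surjective : Function.Surjective (aug p c hp) := by
  intro a
  refine ⟨algebraMap R (A p c) (MvPowerSeries.C a), ?_⟩
  rw [aug_algebraMap]
  simp

lemma genIdeal_le_ker_aug : genIdeal p c ≤ RingHom.ker (aug p c hp) := by
  unfold genIdeal
  rw [Ideal.span_le]
  rintro _ ⟨i, rfl⟩
  exact aug_gen p c hp i

/-- `x_i ∈ (u)`. -/
lemma algebraMap_X_mem (i : Fin n) :
    algebraMap R (A p c) (MvPowerSeries.X i) ∈ genIdeal p c := by
  have h := gen_pow p c i
  have h2 : algebraMap R (A p c) (MvPowerSeries.X i) =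
      gen p c i ^ (p - 1) * gen p c i - algebraMap R (A p c) (c i) * gen p c i := by
    rw [← pow_succ, Nat.sub_add_cancel (by omega), h]; ring
  rw [h2]
  have hg : gen p c i ∈ genIdeal p c := Ideal.subset_span ⟨i, rfl⟩
  exact Ideal.sub_mem _ (Ideal.mul_mem_left _ _ hg) (Ideal.mul_mem_left _ _ hg)

lemma algebraMap_mem_of_constantCoeff_eq_zero (r : R) (hr : MvPowerSeries.constantCoeff r = 0) :
    algebraMap R (A p c) r ∈ genIdeal p c := by
  have h := Groth.Agent.S11740.mem_span_X_of_constantCoeff_eq_zero n r hr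
  have h2 : Ideal.span (Set.range (MvPowerSeries.X : Fin n → R)) ≤
      (genIdeal p c).comap (algebraMap R (A p c)) := by
    rw [Ideal.span_le]
    rintro _ ⟨i, rfl⟩
    exact algebraMap_X_mem p c hp i
  exact h2 h

omit hp in
lemma mk_sub_const_mem (P : MvPolynomial (Fin n) R) :
    P - C (MvPolynomial.constantCoeff P) ∈
      Ideal.span (Set.range (X : Fin n → MvPolynomial (Fin n) R)) := by
  induction P using MvPolynomial.induction_on with
  | C a => simp
  | add P Q hP hQ =>
    have : P + Q - C (MvPolynomial.constantCoeff (P + Q)) =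
        (P - C (MvPolynomial.constantCoeff P)) + (Q - C (MvPolynomial.constantCoeff Q)) := by
      rw [map_add, map_add]; ring
    rw [this]
    exact Ideal.add_mem _ hP hQ
  | mul_X P i _ =>
    have : MvPolynomial.constantCoeff (P * X i) = 0 := by simp
    rw [this, map_zero, sub_zero]
    exact Ideal.mul_mem_left _ _ (Ideal.subset_span ⟨i, rfl⟩)

lemma sub_const_mem (t : A p c) :
    t - algebraMap R (A p c) (MvPowerSeries.C (aug p c hp t)) ∈ genIdeal p c := by
  obtain ⟨P, rfl⟩ := Ideal.Quotient.mk_surjective t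
  have h1 := mk_sub_const_mem (k := k) (n := n) P
  have h2 : Ideal.Quotient.mk (MonicCI.relIdeal (poly p c)) (P - C (MvPolynomial.constantCoeff P)) ∈
      genIdeal p c := by
    rw [genIdeal_eq_map]
    exact Ideal.mem_map_of_mem _ h1
  have h3 : algebraMap R (A p c) (MvPolynomial.constantCoeff P -
      MvPowerSeries.C (MvPowerSeries.constantCoeff (MvPolynomial.constantCoeff P))) ∈ genIdeal p c := by
    apply algebraMap_mem_of_constantCoeff_eq_zero p c hp
    simp
  have h4 : Ideal.Quotient.mk (MonicCI.relIdeal (poly p c)) P -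
      algebraMap R (A p c) (MvPowerSeries.C (aug p c hp (Ideal.Quotient.mk _ P))) =
      Ideal.Quotient.mk (MonicCI.relIdeal (poly p c)) (P - C (MvPolynomial.constantCoeff P)) +
      algebraMap R (A p c) (MvPolynomial.constantCoeff P -
      MvPowerSeries.C (MvPowerSeries.constantCoeff (MvPolynomial.constantCoeff P))) := by
    rw [aug_mk]
    simp only [aug₀, RingHom.comp_apply, map_sub]
    change _ = _ - Ideal.Quotient.mk _ (C _) + (Ideal.Quotient.mk _ (C _) - _)
    ring
  rw [h4]
  exact Ideal.add_mem _ h2 h3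

lemma ker_aug : RingHom.ker (aug p c hp) = genIdeal p c := by
  apply le_antisymm
  · intro t ht
    have h := sub_const_mem p c hp t
    rw [RingHom.mem_ker.mp ht] at h
    simpa using h
  · exact genIdeal_le_ker_aug p c hp

lemma genIdeal_isMaximal : (genIdeal p c).IsMaximal := by
  rw [← ker_aug p c hp]
  exact RingHom.ker_isMaximal_of_surjective _ (aug_surjective p c hp)

end Aug


section Local

variable (hp : 2 ≤ p) (hc : ∀ i, MvPowerSeries.constantCoeff (c i) = 0)

include hp

lemma poly_monic' : ∀ i, (poly p c i).Monic := poly_monic p c hp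

lemma free : Module.Free R (A p c) := MonicCI.free _ (poly_monic p c hp)

lemma finite : Module.Finite R (A p c) := MonicCI.finite _ (poly_monic p c hp)

lemma finrank_eq : Module.finrank R (A p c) = p ^ n := by
  rw [MonicCI.finrank_eq _ (poly_monic p c hp)]
  simp [poly_natDegree p c hp]

omit hp in
lemma mem_maximalIdeal_of_constantCoeff {r : R} (hr : MvPowerSeries.constantCoeff r = 0) :
    r ∈ maximalIdeal R := by
  rw [IsLocalRing.mem_maximalIdeal, mem_nonunits_iff, MvPowerSeries.isUnit_iff_constantCoeff, hr]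
  simp

include hc

/-- Every maximal ideal of `A` contains the `u_i`. -/
lemma genIdeal_le_of_isMaximal (M : Ideal (A p c)) [hM : M.IsMaximal] : genIdeal p c ≤ M := by
  have := finite p c hp
  have : Algebra.IsIntegral R (A p c) := Algebra.IsIntegral.of_finite R (A p c)
  have h1 : (M.comap (algebraMap R (A p c))).IsMaximal :=
    Ideal.isMaximal_comap_of_isIntegral_of_isMaximal M
  have h2 : M.comap (algebraMap R (A p c)) = maximalIdeal R := IsLocalRing.eq_maximalIdeal h1
  have h3 : ∀ r : R, MvPowerSeries.constantCoeff r = 0 → algebraMap R (A p c) r ∈ M := by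
    intro r hr
    have : r ∈ M.comap (algebraMap R (A p c)) := by
      rw [h2]; exact mem_maximalIdeal_of_constantCoeff hr
    exact this
  unfold genIdeal
  rw [Ideal.span_le]
  rintro _ ⟨i, rfl⟩
  have h4 : gen p c i ^ p ∈ M := by
    rw [gen_pow]
    exact M.add_mem (M.mul_mem_right _ (h3 _ (hc i))) (h3 _ (by simp))
  exact hM.isPrime.mem_of_pow_mem _ h4

lemma isLocalRing : IsLocalRing (A p c) := by
  apply IsLocalRing.of_unique_max_ideal
  refine ⟨genIdeal p c, genIdeal_isMaximal p c hp, ?_⟩
  intro M hM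
  have : M.IsMaximal := hM
  exact ((genIdeal_isMaximal p c hp).eq_of_le hM.ne_top (genIdeal_le_of_isMaximal p c hp hc M)).symm

lemma maximalIdeal_eq :
    @maximalIdeal (A p c) _ (isLocalRing p c hp hc) = genIdeal p c := by
  let _ := isLocalRing p c hp hc
  exact (IsLocalRing.eq_maximalIdeal (genIdeal_isMaximal p c hp)).symm


omit hp hc in
lemma isNoetherianRing : IsNoetherianRing (A p c) := inferInstance

lemma le_ringKrullDim : (n : WithBot ℕ∞) ≤ ringKrullDim (A p c) := by
  let _ := isLocalRing p c hp hc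
  have := free p c hp
  have hfl : Module.Flat R (A p c) := inferInstance
  have hlo : (maximalIdeal (A p c)).LiesOver (maximalIdeal R) := by
    constructor
    have := finite p c hp
    have : Algebra.IsIntegral R (A p c) := Algebra.IsIntegral.of_finite R (A p c)
    have h1 : ((maximalIdeal (A p c)).comap (algebraMap R (A p c))).IsMaximal :=
      Ideal.isMaximal_comap_of_isIntegral_of_isMaximal _
    exact (IsLocalRing.eq_maximalIdeal h1).symm
  have h := Ideal.height_eq_height_add_of_liesOver_of_hasGoingDown (maximalIdeal R)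
    (maximalIdeal (A p c))
  have h1 : (maximalIdeal R).height ≤ (maximalIdeal (A p c)).height := by
    rw [h]; exact le_self_add
  have h2 : ringKrullDim R ≤ ringKrullDim (A p c) := by
    rw [← IsLocalRing.maximalIdeal_height_eq_ringKrullDim,
      ← IsLocalRing.maximalIdeal_height_eq_ringKrullDim]
    exact_mod_cast h1
  exact le_trans (Groth.Agent.S11741.le_ringKrullDim_mvPowerSeries k n) h2

lemma spanFinrank_genIdeal_le : (genIdeal p c).spanFinrank ≤ n := by
  have h1 : (genIdeal p c).spanFinrank ≤ (Set.range (gen p c)).ncard :=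
    Submodule.spanFinrank_span_le_ncard_of_finite (Set.finite_range (gen p c))
  have h2 : (Set.range (gen p c)).ncard ≤ n := by
    rw [← Set.image_univ]
    refine le_trans (Set.ncard_image_le (Set.finite_univ)) ?_
    simp
  exact le_trans h1 h2

lemma isRegularLocalRing : IsRegularLocalRing (A p c) := by
  let _ := isLocalRing p c hp hc
  apply IsRegularLocalRing.of_spanFinrank_maximalIdeal_le
  rw [maximalIdeal_eq p c hp hc]
  refine le_trans ?_ (le_ringKrullDim p c hp hc)
  exact_mod_cast spanFinrank_genIdeal_le p c hp hc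

lemma isDomain : IsDomain (A p c) := by
  have := isRegularLocalRing p c hp hc
  exact Groth.Agent.Lib.Helper76.isDomain_of_isRegularLocalRing (A p c)


/-- `m_R A`. -/
noncomputable def baseIdeal : Ideal (A p c) :=
  (Ideal.span (Set.range (MvPowerSeries.X : Fin n → R))).map (algebraMap R (A p c))

omit hc in
lemma baseIdeal_le : baseIdeal p c ≤ genIdeal p c := by
  unfold baseIdeal
  rw [Ideal.map_span, Ideal.span_le]
  rintro _ ⟨_, ⟨i, rfl⟩, rfl⟩
  exact algebraMap_X_mem p c hp i

lemma genIdeal_le_radical : genIdeal p c ≤ (baseIdeal p c).radical := by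
  unfold genIdeal
  rw [Ideal.span_le]
  rintro _ ⟨i, rfl⟩
  refine ⟨p, ?_⟩
  rw [gen_pow]
  have h1 : ∀ r : R, MvPowerSeries.constantCoeff r = 0 →
      algebraMap R (A p c) r ∈ baseIdeal p c := by
    intro r hr
    exact Ideal.mem_map_of_mem _ (Groth.Agent.S11740.mem_span_X_of_constantCoeff_eq_zero n r hr)
  exact Ideal.add_mem _ (Ideal.mul_mem_right _ _ (h1 _ (hc i))) (h1 _ (by simp))

lemma exists_pow_le : ∃ N : ℕ, 0 < N ∧ genIdeal p c ^ N ≤ baseIdeal p c := by
  have hfg : (genIdeal p c).FG := ⟨(Set.finite_range (gen p c)).toFinset, by simp [genIdeal]⟩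
  obtain ⟨N, hN⟩ := Ideal.exists_pow_le_of_le_radical_of_fg (genIdeal_le_radical p c hp hc) hfg
  exact ⟨N + 1, Nat.succ_pos _, le_trans (Ideal.pow_le_pow_right (Nat.le_succ N)) hN⟩

lemma isAdicComplete_baseIdeal : IsAdicComplete (baseIdeal p c) (A p c) := by
  have := finite p c hp
  exact Groth.Agent.Lib.Helper47.AdicFinite.isAdicComplete_map_of_finite
    (Ideal.span (Set.range (MvPowerSeries.X : Fin n → R))) (A p c)

lemma isAdicComplete_genIdeal : IsAdicComplete (genIdeal p c) (A p c) := by
  have := isAdicComplete_baseIdeal p c hp hc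
  obtain ⟨N, hN0, hN⟩ := exists_pow_le p c hp hc
  exact isAdicComplete_of_le_of_pow_le (baseIdeal p c) (genIdeal p c) (baseIdeal_le p c hp) N hN0 hN

end Local

end Groth.Agent.Lib.Helper52.AS
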