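import Mathlib

/-!
# Invariants of a free extension of domains with many automorphisms
-/

set_option autoImplicit false

namespace Groth.Agent.Lib.Helper52.FixedFree

open Module

/-- If `A` is a domain, free of rank `d` over the domain `R` on a basis containing `1`, and `A` has
at least `d` automorphisms over `R`, then the invariants of `Aut_R(A)` are `R`. -/
theorem mem_range_of_fixed {R A ι : Type*} [CommRing R] [IsDomain R] [CommRing A] [IsDomain A]
    [Algebra R A] [Fintype ι] (B : Basis ι R A) (i₀ : ι) (h1 : B i₀ = 1)
    (hcard : Fintype.card ι ≤ Nat.card (A ≃ₐ[R] A)) (b : A) (hb : ∀ σ : A ≃ₐ[R] A, σ b = b) :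
    b ∈ Set.range (algebraMap R A) := by
  classical
  have hinj : Function.Injective (algebraMap R A) := B.algebraMap_injective
  have : FaithfulSMul R A := (faithfulSMul_iff_algebraMap_injective R A).mpr hinj
  have : FaithfulSMul R (FractionRing A) := by
    rw [faithfulSMul_iff_algebraMap_injective, IsScalarTower.algebraMap_eq R A (FractionRing A)]
    exact (IsFractionRing.injective A (FractionRing A)).comp hinj
  let _ : Algebra (FractionRing R) (FractionRing A) := FractionRing.liftAlgebra R (FractionRing A)
  have : IsScalarTower R (FractionRing R) (FractionRing A) :=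
    FractionRing.isScalarTower_liftAlgebra R (FractionRing A)
  have hfr : Module.finrank (FractionRing R) (FractionRing A) = Fintype.card ι := by
    rw [IsFractionRing.finrank_eq R (FractionRing R) A (FractionRing A),
      Module.finrank_eq_card_basis B]
  have hpos : 0 < Fintype.card ι := Fintype.card_pos_iff.mpr ⟨i₀⟩
  have : FiniteDimensional (FractionRing R) (FractionRing A) :=
    Module.finite_of_finrank_pos (by rw [hfr]; exact hpos)
  let Φ : (A ≃ₐ[R] A) →* (FractionRing A ≃ₐ[FractionRing R] FractionRing A) :=
    IsFractionRing.fieldEquivOfAlgEquivHom (FractionRing R) (FractionRing A)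
  have hΦ : Function.Injective Φ :=
    IsFractionRing.fieldEquivOfAlgEquivHom_injective R A (FractionRing R) (FractionRing A)
  have hle : Nat.card (FractionRing A ≃ₐ[FractionRing R] FractionRing A) ≤
      Module.finrank (FractionRing R) (FractionRing A) := by
    rw [Nat.card_eq_fintype_card]; exact AlgEquiv.card_le
  have hge : Nat.card (A ≃ₐ[R] A) ≤
      Nat.card (FractionRing A ≃ₐ[FractionRing R] FractionRing A) :=
    Nat.card_le_card_of_injective Φ hΦ
  have heq : Nat.card (FractionRing A ≃ₐ[FractionRing R] FractionRing A) =
      Module.finrank (FractionRing R) (FractionRing A) := le_antisymm hle (by omega)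
  have : IsGalois (FractionRing R) (FractionRing A) := IsGalois.of_card_aut_eq_finrank _ _ heq
  have : Finite (A ≃ₐ[R] A) := Finite.of_injective Φ hΦ
  have hΦs : Function.Surjective Φ := by
    have hc : Nat.card (A ≃ₐ[R] A) =
        Nat.card (FractionRing A ≃ₐ[FractionRing R] FractionRing A) := by omega
    exact ((Nat.bijective_iff_injective_and_card Φ).mpr ⟨hΦ, hc⟩).2
  have hfix : algebraMap A (FractionRing A) b ∈
      Set.range (algebraMap (FractionRing R) (FractionRing A)) := by
    rw [IsGalois.mem_range_algebraMap_iff_fixed]
    intro f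
    obtain ⟨σ, rfl⟩ := hΦs f
    change IsFractionRing.fieldEquivOfAlgEquiv (FractionRing R) (FractionRing A) (FractionRing A) σ
      (algebraMap A (FractionRing A) b) = _
    rw [IsFractionRing.fieldEquivOfAlgEquiv_algebraMap, hb]
  obtain ⟨q, hq⟩ := hfix
  obtain ⟨r, s, hs, rfl⟩ := IsFractionRing.div_surjective R q
  have hs0 : s ≠ 0 := nonZeroDivisors.ne_zero hs
  have h2 : algebraMap R A s * b = algebraMap R A r := by
    apply IsFractionRing.injective A (FractionRing A)
    rw [map_mul, ← hq, map_div₀, ← IsScalarTower.algebraMap_apply R (FractionRing R) (FractionRing A),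
      ← IsScalarTower.algebraMap_apply R (FractionRing R) (FractionRing A),
      ← IsScalarTower.algebraMap_apply R A (FractionRing A),
      ← IsScalarTower.algebraMap_apply R A (FractionRing A)]
    have hne : algebraMap R (FractionRing A) s ≠ 0 := by
      rw [Ne, FaithfulSMul.algebraMap_eq_zero_iff]; exact hs0
    field_simp
  have h3 : s • B.repr b = r • Finsupp.single i₀ (1 : R) := by
    have : s • b = r • B i₀ := by
      rw [Algebra.smul_def, Algebra.smul_def, h1, mul_one, h2]
    have := congrArg B.repr this
    rwa [map_smul, map_smul, B.repr_self] at this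
  have h4 : ∀ i, i ≠ i₀ → B.repr b i = 0 := by
    intro i hi
    have := DFunLike.congr_fun h3 i
    simp only [Finsupp.smul_apply, smul_eq_mul, Finsupp.single_apply, if_neg (Ne.symm hi),
      mul_zero] at this
    exact (mul_eq_zero.mp this).resolve_left hs0
  refine ⟨B.repr b i₀, ?_⟩
  conv_rhs => rw [← B.sum_repr b]
  rw [Finset.sum_eq_single i₀]
  · rw [h1, Algebra.smul_def, mul_one]
  · intro i _ hi
    rw [h4 i hi, zero_smul]
  · intro h; exact absurd (Finset.mem_univ _) h

end Groth.Agent.Lib.Helper52.FixedFree
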