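import Mathlib
import Groth.Agent.Lib.Helper52.ASBasic
import Groth.Agent.Lib.Helper52.FixedFree

/-!
# Automorphisms of the Artin–Schreier family `A = R[u]/(u_i^p - a_i^(p-1) u_i - x_i)`
-/

set_option autoImplicit false
universe u

namespace Groth.Agent.Lib.Helper52.AS

open MvPolynomial IsLocalRing

/-- In a domain, a polynomial of degree `≤ d` with `d` known roots has no other roots. -/
lemma mem_of_isRoot_of_card {D : Type*} [CommRing D] [IsDomain D] (f : Polynomial D) (hf : f ≠ 0)
    (S : Finset D) (hS : ∀ s ∈ S, f.IsRoot s) (hcard : f.natDegree ≤ S.card) {r : D}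
    (hr : f.IsRoot r) : r ∈ S := by
  classical
  by_contra hrS
  have h1 : insert r S ⊆ f.roots.toFinset := by
    intro s hs
    rw [Multiset.mem_toFinset, Polynomial.mem_roots hf]
    rcases Finset.mem_insert.mp hs with rfl | hs
    · exact hr
    · exact hS s hs
  have h2 := Finset.card_le_card h1
  rw [Finset.card_insert_of_notMem hrS] at h2
  have h3 := Multiset.toFinset_card_le f.roots
  have h4 := Polynomial.card_roots' f
  omega

variable (p : ℕ) [hpf : Fact p.Prime] {k : Type u} [Field k] {n : ℕ}
  (a : Fin n → MvPowerSeries (Fin n) k)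

local notation "R" => MvPowerSeries (Fin n) k

instance charP_R [CharP k p] : CharP R p :=
  charP_of_injective_ringHom
    (MvPowerSeries.C_injective : Function.Injective (MvPowerSeries.C : k →+* R)) p

/-- The coefficients `c_i = a_i^(p-1)`. -/
noncomputable def cc : Fin n → MvPowerSeries (Fin n) k := fun i => a i ^ (p - 1)

lemma two_le : 2 ≤ p := hpf.out.two_le

lemma cc_constantCoeff (ha : ∀ i, MvPowerSeries.constantCoeff (a i) = 0) (i : Fin n) :
    MvPowerSeries.constantCoeff (cc p a i) = 0 := by
  unfold cc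
  rw [map_pow, ha i]
  exact zero_pow (by have := two_le p; omega)

/-- The ring `A` for `c_i = a_i^(p-1)`. -/
abbrev AA : Type u := A p (cc p a)

instance : Module.Free R (AA p a) := free p _ (two_le p)
instance : Module.Finite R (AA p a) := finite p _ (two_le p)

lemma algebraMap_injective : Function.Injective (algebraMap R (AA p a)) := by
  have : Nontrivial (AA p a) := by
    have := genIdeal_isMaximal p (cc p a) (two_le p)
    exact Ideal.Quotient.nontrivial_iff.mpr (by
      intro h
      have h2 := relIdeal_le_ker_aug₀ p (cc p a) (two_le p)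
      rw [h] at h2
      have : (1 : MvPolynomial (Fin n) R) ∈ RingHom.ker (aug₀ (k := k) (n := n)) := h2 trivial
      rw [RingHom.mem_ker, map_one] at this
      exact one_ne_zero this)
  exact FaithfulSMul.algebraMap_injective R (AA p a)

instance charP_AA [CharP k p] : CharP (AA p a) p :=
  charP_of_injective_algebraMap (algebraMap_injective p a) p


section Tau

variable [CharP k p]

/-- `ZMod p → R`. -/
noncomputable def zc : ZMod p →+* MvPowerSeries (Fin n) k := ZMod.castHom (dvd_refl p) R

lemma zc_injective : Function.Injective (zc p (k := k) (n := n)) := RingHom.injective _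

lemma zc_pow (j : ZMod p) : (zc p j : R) ^ p = zc p j := by
  rw [← map_pow, ZMod.pow_card]

/-- The shift `ν_i a_i`. -/
noncomputable def sh (ν : Fin n → ZMod p) (i : Fin n) : MvPowerSeries (Fin n) k := zc p (ν i) * a i

lemma sh_add (ν μ : Fin n → ZMod p) (i : Fin n) : sh p a (ν + μ) i = sh p a ν i + sh p a μ i := by
  simp [sh, add_mul]

lemma sh_zero (i : Fin n) : sh p a 0 i = 0 := by simp [sh]

lemma root_shift (ν : Fin n → ZMod p) (i : Fin n) :
    Polynomial.aeval (gen p (cc p a) i + algebraMap R (AA p a) (sh p a ν i)) (poly p (cc p a) i) = 0 := by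
  have h := gen_pow p (cc p a) i
  have hp1 : p - 1 + 1 = p := Nat.sub_add_cancel (by have := two_le p; omega)
  simp only [poly, map_sub, map_mul, map_pow, Polynomial.aeval_X, Polynomial.aeval_C]
  rw [add_pow_char, h]
  simp only [sh, cc, map_mul, map_pow, mul_pow]
  have h3 : algebraMap R (AA p a) (zc p (ν i)) ^ p = algebraMap R (AA p a) (zc p (ν i)) := by
    rw [← map_pow, zc_pow]
  have h2 : algebraMap R (AA p a) (a i) ^ p =
      algebraMap R (AA p a) (a i) ^ (p - 1) * algebraMap R (AA p a) (a i) := by
    rw [← pow_succ, hp1]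
  rw [h3, h2]
  ring

/-- The endomorphism `u_i ↦ u_i + ν_i a_i`. -/
noncomputable def tau (ν : Fin n → ZMod p) : AA p a →ₐ[R] AA p a :=
  MonicCI.lift (poly p (cc p a)) (fun i => gen p (cc p a) i + algebraMap R (AA p a) (sh p a ν i))
    (root_shift p a ν)

@[simp] lemma tau_gen (ν : Fin n → ZMod p) (i : Fin n) :
    tau p a ν (gen p (cc p a) i) = gen p (cc p a) i + algebraMap R (AA p a) (sh p a ν i) :=
  MonicCI.lift_gen _ _ _ i

lemma tau_comp (ν μ : Fin n → ZMod p) : (tau p a ν).comp (tau p a μ) = tau p a (ν + μ) := by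
  apply MonicCI.algHom_ext
  intro i
  simp only [AlgHom.comp_apply, tau_gen, map_add, AlgHom.commutes, sh_add]
  ring

lemma tau_zero : tau p a 0 = AlgHom.id R (AA p a) := by
  apply MonicCI.algHom_ext
  intro i
  simp [sh_zero]

/-- The automorphism `u_i ↦ u_i + ν_i a_i`. -/
noncomputable def tauEquiv (ν : Fin n → ZMod p) : AA p a ≃ₐ[R] AA p a :=
  AlgEquiv.ofAlgHom (tau p a ν) (tau p a (-ν))
    (by rw [tau_comp, add_neg_cancel, tau_zero]) (by rw [tau_comp, neg_add_cancel, tau_zero])

@[simp] lemma tauEquiv_apply (ν : Fin n → ZMod p) (t : AA p a) : tauEquiv p a ν t = tau p a ν t := rfl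

/-- The group homomorphism `(ℤ/p)^n → Aut_R(A)`. -/
noncomputable def tauHom : Multiplicative (Fin n → ZMod p) →* (AA p a ≃ₐ[R] AA p a) where
  toFun ν := tauEquiv p a (Multiplicative.toAdd ν)
  map_one' := by
    ext t
    simp [tau_zero]
  map_mul' ν μ := by
    ext t
    change tau p a _ t = tau p a _ (tau p a _ t)
    rw [← AlgHom.comp_apply, tau_comp]
    rfl


variable (ha0 : ∀ i, a i ≠ 0)

include ha0 in
lemma sh_injective (i : Fin n) (ν μ : Fin n → ZMod p)
    (h : algebraMap R (AA p a) (sh p a ν i) = algebraMap R (AA p a) (sh p a μ i)) : ν i = μ i := by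
  have h1 := algebraMap_injective p a h
  unfold sh at h1
  have h2 : zc p (ν i) = (zc p (μ i) : R) := mul_right_cancel₀ (ha0 i) h1
  exact zc_injective p h2

include ha0 in
lemma tauHom_injective : Function.Injective (tauHom p a) := by
  intro ν μ h
  have h1 : Multiplicative.toAdd ν = Multiplicative.toAdd μ := by
    funext i
    apply sh_injective p a ha0 i
    have h2 := congrArg (fun σ : AA p a ≃ₐ[R] AA p a => σ (gen p (cc p a) i)) h
    simp only [tauHom, MonoidHom.coe_mk, OneHom.coe_mk, tauEquiv_apply, tau_gen] at h2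
    exact add_left_cancel h2
  exact Multiplicative.toAdd.injective h1

variable (ham : ∀ i, MvPowerSeries.constantCoeff (a i) = 0)

include ham in
lemma isDomain_AA : IsDomain (AA p a) :=
  isDomain p (cc p a) (two_le p) (cc_constantCoeff p a ham)

include ha0 ham in
/-- Every root of `f_i` in `A` is of the form `u_i + j a_i`. -/
lemma exists_of_root (i : Fin n) (r : AA p a)
    (hr : Polynomial.aeval r (poly p (cc p a) i) = 0) :
    ∃ j : ZMod p, r = gen p (cc p a) i + algebraMap R (AA p a) (zc p j * a i) := by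
  classical
  have := isDomain_AA p a ham
  let f : Polynomial (AA p a) := (poly p (cc p a) i).map (algebraMap R (AA p a))
  have hfm : f.Monic := (poly_monic p (cc p a) (two_le p) i).map _
  have hfd : f.natDegree = p := by
    rw [(poly_monic p (cc p a) (two_le p) i).natDegree_map, poly_natDegree p (cc p a) (two_le p)]
  let g : ZMod p → AA p a := fun j => gen p (cc p a) i + algebraMap R (AA p a) (zc p j * a i)
  have hg : Function.Injective g := by
    intro j j' hjj
    have h1 : algebraMap R (AA p a) (zc p j * a i) = algebraMap R (AA p a) (zc p j' * a i) :=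
      add_left_cancel hjj
    have h2 := algebraMap_injective p a h1
    exact zc_injective p (mul_right_cancel₀ (ha0 i) h2)
  let S : Finset (AA p a) := Finset.univ.image g
  have hS : ∀ s ∈ S, f.IsRoot s := by
    intro s hs
    obtain ⟨j, -, rfl⟩ := Finset.mem_image.mp hs
    rw [Polynomial.IsRoot.def, Polynomial.eval_map_algebraMap]
    have := root_shift p a (fun _ => j) i
    simpa [sh, g] using this
  have hcard : f.natDegree ≤ S.card := by
    rw [hfd, Finset.card_image_of_injective _ hg, Finset.card_univ, ZMod.card]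
  have hr' : f.IsRoot r := by
    rw [Polynomial.IsRoot.def, Polynomial.eval_map_algebraMap]
    exact hr
  have := mem_of_isRoot_of_card f hfm.ne_zero S hS hcard hr'
  obtain ⟨j, -, hj⟩ := Finset.mem_image.mp this
  exact ⟨j, hj.symm⟩

include ha0 ham in
lemma tauHom_surjective : Function.Surjective (tauHom p a) := by
  intro σ
  have h : ∀ i, ∃ j : ZMod p, σ (gen p (cc p a) i) =
      gen p (cc p a) i + algebraMap R (AA p a) (zc p j * a i) := by
    intro i
    apply exists_of_root p a ha0 ham i
    have h1 := Polynomial.aeval_algHom_apply (σ : AA p a →ₐ[R] AA p a) (gen p (cc p a) i)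
      (poly p (cc p a) i)
    rw [MonicCI.aeval_gen, map_zero] at h1
    exact h1
  choose ν hν using h
  refine ⟨Multiplicative.ofAdd ν, ?_⟩
  apply AlgEquiv.coe_toAlgHom_injective
  apply MonicCI.algHom_ext
  intro i
  change tau p a ν (gen p (cc p a) i) = σ (gen p (cc p a) i)
  rw [tau_gen, hν i]
  rfl

/-- `Aut_R(A) ≅ (ℤ/p)^n`. -/
noncomputable def tauMulEquiv (ha0 : ∀ i, a i ≠ 0)
    (ham : ∀ i, MvPowerSeries.constantCoeff (a i) = 0) :
    Multiplicative (Fin n → ZMod p) ≃* (AA p a ≃ₐ[R] AA p a) :=
  MulEquiv.ofBijective (tauHom p a) ⟨tauHom_injective p a ha0, tauHom_surjective p a ha0 ham⟩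

include ha0 ham in
lemma card_aut : Nat.card (AA p a ≃ₐ[R] AA p a) = p ^ n := by
  rw [← Nat.card_congr (tauMulEquiv p a ha0 ham).toEquiv]
  simp [Nat.card_eq_fintype_card, ZMod.card]

include ha0 ham in
lemma aut_comm (σ τ : AA p a ≃ₐ[R] AA p a) : σ * τ = τ * σ := by
  obtain ⟨ν, rfl⟩ := tauHom_surjective p a ha0 ham σ
  obtain ⟨μ, rfl⟩ := tauHom_surjective p a ha0 ham τ
  rw [← map_mul, ← map_mul, mul_comm]

include ha0 ham in
lemma aut_pow (σ : AA p a ≃ₐ[R] AA p a) : σ ^ p = 1 := by
  obtain ⟨ν, rfl⟩ := tauHom_surjective p a ha0 ham σ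
  rw [← map_pow]
  have : ν ^ p = 1 := by
    apply Multiplicative.toAdd.injective
    rw [toAdd_pow, toAdd_one]
    funext i
    simp
  rw [this, map_one]


include ha0 ham in
/-- The invariants of `Aut_R(A)` are `R`. -/
lemma fixed_iff (b : AA p a) :
    (∀ σ : AA p a ≃ₐ[R] AA p a, σ b = b) ↔ b ∈ Set.range (algebraMap R (AA p a)) := by
  constructor
  · intro hb
    have := isDomain_AA p a ham
    have : IsDomain R := NoZeroDivisors.to_isDomain _
    have hm := poly_monic p (cc p a) (two_le p)
    have hpos : ∀ i, 0 < (poly p (cc p a) i).natDegree := by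
      intro i
      rw [poly_natDegree p (cc p a) (two_le p)]
      have := two_le p
      omega
    refine FixedFree.mem_range_of_fixed (MonicCI.basis _ hm) (fun i => ⟨0, hpos i⟩) ?_ ?_ b hb
    · rw [MonicCI.basis_apply]
      simp
    · rw [card_aut p a ha0 ham]
      simp [poly_natDegree p (cc p a) (two_le p)]
  · rintro ⟨r, rfl⟩ σ
    exact σ.commutes r

end Tau

end Groth.Agent.Lib.Helper52.AS
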