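import Mathlib
import Groth.Agent.Lib.Helper52.MonicCI

/-!
# Low-degree representatives in `R[u]/(f_i(u_i))`
-/

set_option autoImplicit false
universe u v

namespace Groth.Agent.Lib.Helper52.MonicCI

open MvPolynomial

variable {R : Type u} [CommRing R] {ι : Type v} [Fintype ι] [DecidableEq ι] (f : ι → Polynomial R)

omit [DecidableEq ι] in
lemma mk_monomial (s : ι →₀ ℕ) (c : R) :
    Ideal.Quotient.mk (relIdeal f) (monomial s c) = c • ∏ i, gen f i ^ s i := by
  rw [MvPolynomial.monomial_eq, Finsupp.prod_fintype _ _ (fun i => pow_zero _), map_mul, map_prod]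
  rw [Algebra.smul_def (A := Q f)]
  simp only [map_pow]
  rfl

/-- Every class has a representative of degree `< deg f_i` in each variable. -/
lemma exists_lowDegree_rep (hf : ∀ i, (f i).Monic) (hd : ∀ i, 0 < (f i).natDegree)
    (P : MvPolynomial ι R) :
    ∃ P₀ : MvPolynomial ι R, P - P₀ ∈ relIdeal f ∧ ∀ i, P₀.degreeOf i < (f i).natDegree := by
  classical
  let q : Q f := Ideal.Quotient.mk (relIdeal f) P
  let toFs : (∀ i, Fin (f i).natDegree) → (ι →₀ ℕ) := fun β =>
    Finsupp.equivFunOnFinite.symm (fun i => (β i : ℕ))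
  refine ⟨∑ β, monomial (toFs β) ((basis f hf).repr q β), ?_, ?_⟩
  · rw [← Ideal.Quotient.eq, map_sum]
    change q = _
    conv_lhs => rw [← (basis f hf).sum_repr q]
    refine Finset.sum_congr rfl fun β _ => ?_
    rw [mk_monomial, basis_apply]
    rfl
  · intro i
    rw [MvPolynomial.degreeOf_lt_iff (hd i)]
    intro m hm
    have h1 := MvPolynomial.support_sum hm
    rw [Finset.mem_biUnion] at h1
    obtain ⟨β, -, hβ⟩ := h1
    have h2 := MvPolynomial.support_monomial_subset hβ
    rw [Finset.mem_singleton] at h2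
    rw [h2]
    exact (β i).2

end Groth.Agent.Lib.Helper52.MonicCI
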