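import Mathlib
import Groth.Agent.Lib.Helper52.ASAut
import Groth.Agent.Lib.Helper52.MonicCIRep

/-!
# Minor elements `z_j = a_{i₀} u_j - a_j u_{i₀}` in the Artin–Schreier family
-/

set_option autoImplicit false
universe u

namespace Groth.Agent.Lib.Helper52.AS

open MvPolynomial IsLocalRing

section Minor

variable (p : ℕ) [hpf : Fact p.Prime] {k : Type u} [Field k] [CharP k p] {n : ℕ}
  (a : Fin n → MvPowerSeries (Fin n) k) (μ : MvPowerSeries (Fin n) k) (i₀ : Fin n)

local notation "R" => MvPowerSeries (Fin n) k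

/-- `b_i = μ a_i`. -/
noncomputable def bb : Fin n → MvPowerSeries (Fin n) k := fun i => μ * a i

/-- The ring `A` with `c_i = (μ a_i)^(p-1)`. -/
abbrev AM : Type u := AA p (bb a μ)

/-- The index type of the minor elements. -/
abbrev JJ : Type := {j : Fin n // j ≠ i₀}

/-- The minor elements. -/
noncomputable def zz (j : JJ i₀) : AM p a μ :=
  algebraMap R (AM p a μ) (a i₀) * gen p (cc p (bb a μ)) j.1 -
    algebraMap R (AM p a μ) (a j.1) * gen p (cc p (bb a μ)) i₀

/-- `m_j = μ a_{i₀} a_j`. -/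
noncomputable def mm (j : JJ i₀) : MvPowerSeries (Fin n) k := μ * a i₀ * a j.1

/-- `w_j = a_{i₀}^p x_j - a_j^p x_{i₀}`. -/
noncomputable def ww (j : JJ i₀) : MvPowerSeries (Fin n) k :=
  a i₀ ^ p * MvPowerSeries.X j.1 - a j.1 ^ p * MvPowerSeries.X i₀

omit [CharP k p] in
lemma pow_p_eq {S : Type*} [Monoid S] (y : S) : y ^ p = y ^ (p - 1) * y := by
  rw [← pow_succ, Nat.sub_add_cancel (by have := two_le p; omega)]

lemma zz_pow (j : JJ i₀) :
    zz p a μ i₀ j ^ p = algebraMap R (AM p a μ) (mm a μ i₀ j ^ (p - 1)) * zz p a μ i₀ j +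
      algebraMap R (AM p a μ) (ww p a i₀ j) := by
  unfold zz mm ww
  rw [sub_pow_char, mul_pow, mul_pow, gen_pow, gen_pow]
  simp only [cc, bb, map_mul, map_pow, map_sub, mul_pow]
  rw [pow_p_eq p (algebraMap R (AM p a μ) (a i₀)), pow_p_eq p (algebraMap R (AM p a μ) (a j.1))]
  ring

/-- The relation polynomials of the minor elements. -/
noncomputable def gpoly (j : JJ i₀) : Polynomial (MvPowerSeries (Fin n) k) :=
  Polynomial.X ^ p - Polynomial.C (mm a μ i₀ j ^ (p - 1)) * Polynomial.X -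
    Polynomial.C (ww p a i₀ j)

omit [CharP k p] in
lemma gpoly_eq (j : JJ i₀) : gpoly p a μ i₀ j = Polynomial.X ^ p -
    (Polynomial.C (mm a μ i₀ j ^ (p - 1)) * Polynomial.X + Polynomial.C (ww p a i₀ j)) := by
  unfold gpoly; ring

omit [CharP k p] in
lemma gpoly_monic (j : JJ i₀) : (gpoly p a μ i₀ j).Monic := by
  rw [gpoly_eq]
  apply Polynomial.monic_X_pow_sub
  refine lt_of_le_of_lt Polynomial.degree_linear_le ?_
  exact_mod_cast two_le p

omit [CharP k p] in
lemma gpoly_natDegree (j : JJ i₀) : (gpoly p a μ i₀ j).natDegree = p := by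
  rw [gpoly_eq]
  have h1 : (Polynomial.C (mm a μ i₀ j ^ (p - 1)) * Polynomial.X + Polynomial.C (ww p a i₀ j) :
      Polynomial R).natDegree < ((Polynomial.X : Polynomial R) ^ p).natDegree := by
    rw [Polynomial.natDegree_X_pow]
    refine lt_of_le_of_lt (Polynomial.natDegree_linear_le) ?_
    have := two_le p
    omega
  rw [Polynomial.natDegree_sub_eq_left_of_natDegree_lt h1, Polynomial.natDegree_X_pow]

lemma aeval_zz_gpoly (j : JJ i₀) : Polynomial.aeval (zz p a μ i₀ j) (gpoly p a μ i₀ j) = 0 := by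
  simp only [gpoly, map_sub, map_mul, map_pow, Polynomial.aeval_X, Polynomial.aeval_C]
  rw [zz_pow]
  simp only [map_pow]
  ring

/-- The complete intersection ring `B` of the minor elements. -/
abbrev BM : Type u := MonicCI.Q (gpoly p a μ i₀)

/-- The map `B → A`. -/
noncomputable def psi : BM p a μ i₀ →ₐ[R] AM p a μ :=
  MonicCI.lift (gpoly p a μ i₀) (zz p a μ i₀) (aeval_zz_gpoly p a μ i₀)

omit [CharP k p] in
lemma relIdeal_gpoly_eq :
    MonicCI.relIdeal (gpoly p a μ i₀) = Ideal.span (Set.range fun j : JJ i₀ =>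
      (X j : MvPolynomial (JJ i₀) R) ^ p - C ((μ * a i₀ * a j.1) ^ (p - 1)) * X j
        - C (a i₀ ^ p * MvPowerSeries.X j.1 - a j.1 ^ p * MvPowerSeries.X i₀)) := by
  unfold MonicCI.relIdeal
  congr 2
  funext j
  simp [gpoly, mm, ww]

lemma tau_zz (ν : Fin n → ZMod p) (j : JJ i₀) :
    tau p (bb a μ) ν (zz p a μ i₀ j) = zz p a μ i₀ j +
      algebraMap R (AM p a μ) (mm a μ i₀ j * (zc p (ν j.1) - zc p (ν i₀))) := by
  unfold zz mm
  simp only [map_sub, map_mul, AlgHom.commutes, tau_gen, sh, bb]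
  ring


variable (ha0 : ∀ i, a i ≠ 0) (hμ : μ ≠ 0) (ham : ∀ i, MvPowerSeries.constantCoeff (a i) = 0)

omit hpf [CharP k p] in
include ha0 hμ in
lemma bb_ne_zero (i : Fin n) : bb a μ i ≠ 0 := mul_ne_zero hμ (ha0 i)

omit hpf [CharP k p] in
include ham in
lemma bb_constantCoeff (i : Fin n) : MvPowerSeries.constantCoeff (bb a μ i) = 0 := by
  simp [bb, ham i]

omit hpf [CharP k p] in
include ha0 hμ in
lemma mm_ne_zero (j : JJ i₀) : mm a μ i₀ j ≠ 0 :=
  mul_ne_zero (mul_ne_zero hμ (ha0 i₀)) (ha0 j.1)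

include ha0 hμ ham in
/-- A polynomial of degree `< p` in each variable vanishing at the minor elements is zero. -/
lemma eq_zero_of_aeval_zz (P : MvPolynomial (JJ i₀) R) (hdeg : ∀ j, P.degreeOf j < p)
    (hP : MvPolynomial.aeval (zz p a μ i₀) P = 0) : P = 0 := by
  classical
  have := isDomain_AA p (bb a μ) (bb_constantCoeff a μ ham)
  have hinj := algebraMap_injective p (bb a μ)
  apply MvPolynomial.map_injective _ hinj
  rw [map_zero]
  let g : JJ i₀ → ZMod p → AM p a μ := fun j e =>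
    zz p a μ i₀ j + algebraMap R (AM p a μ) (mm a μ i₀ j * zc p e)
  have hg : ∀ j, Function.Injective (g j) := by
    intro j e e' hee
    have h1 := hinj (add_left_cancel hee)
    exact zc_injective p (mul_left_cancel₀ (mm_ne_zero a μ i₀ ha0 hμ j) h1)
  apply MvPolynomial.eq_zero_of_eval_zero_at_prod_finset _ (fun j => Finset.univ.image (g j))
  · intro j
    rw [Finset.card_image_of_injective _ (hg j), Finset.card_univ, ZMod.card]
    refine lt_of_le_of_lt ?_ (hdeg j)
    rw [MvPolynomial.degreeOf_le_iff]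
    intro m hm
    exact MvPolynomial.degreeOf_le_iff.mp le_rfl m (MvPolynomial.support_map_subset _ _ hm)
  · intro x hx
    have hx' : ∀ j, ∃ e : ZMod p, g j e = x j := by
      intro j
      obtain ⟨e, -, he⟩ := Finset.mem_image.mp (hx j)
      exact ⟨e, he⟩
    choose e he using hx'
    let ν : Fin n → ZMod p := fun i => if h : i ≠ i₀ then e ⟨i, h⟩ else 0
    have hν : ∀ j, tau p (bb a μ) ν (zz p a μ i₀ j) = x j := by
      intro j
      rw [tau_zz, ← he j]
      have h1 : ν j.1 = e j := by simp [ν, j.2]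
      have h2 : ν i₀ = 0 := by simp [ν]
      rw [h1, h2, map_zero, sub_zero]
    rw [MvPolynomial.eval_map, ← MvPolynomial.aeval_def]
    have := MvPolynomial.comp_aeval_apply (f := zz p a μ i₀) (tau p (bb a μ) ν) P
    rw [hP, map_zero] at this
    rw [this]
    have hx2 : x = fun i => (tau p (bb a μ) ν) (zz p a μ i₀ i) := by
      funext j
      exact (hν j).symm
    rw [hx2]


include ha0 hμ ham in
/-- The kernel of `R[Z] → A`, `Z_j ↦ z_j` is generated by the relations. -/
lemma ker_aeval_zz :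
    RingHom.ker (MvPolynomial.aeval (zz p a μ i₀) : MvPolynomial (JJ i₀) R →ₐ[R] AM p a μ) =
      MonicCI.relIdeal (gpoly p a μ i₀) := by
  have hle : MonicCI.relIdeal (gpoly p a μ i₀) ≤
      RingHom.ker (MvPolynomial.aeval (zz p a μ i₀) : MvPolynomial (JJ i₀) R →ₐ[R] AM p a μ) := by
    have hrel : MonicCI.relIdeal (gpoly p a μ i₀) = Ideal.span (Set.range fun j =>
        Polynomial.aeval (X j : MvPolynomial (JJ i₀) R) (gpoly p a μ i₀ j)) := rfl
    rw [hrel, Ideal.span_le]
    rintro _ ⟨j, rfl⟩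
    rw [SetLike.mem_coe, RingHom.mem_ker]
    change (MvPolynomial.aeval (zz p a μ i₀)) (Polynomial.aeval (X j) (gpoly p a μ i₀ j)) = 0
    rw [← Polynomial.aeval_algHom_apply, MvPolynomial.aeval_X]
    exact aeval_zz_gpoly p a μ i₀ j
  apply le_antisymm _ hle
  intro P hP
  have hd : ∀ j, 0 < (gpoly p a μ i₀ j).natDegree := by
    intro j; rw [gpoly_natDegree]; have := two_le p; omega
  obtain ⟨P₀, h1, h2⟩ := MonicCI.exists_lowDegree_rep (gpoly p a μ i₀) (gpoly_monic p a μ i₀) hd P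
  have h3 : MvPolynomial.aeval (zz p a μ i₀) P₀ = 0 := by
    have h4 := hle h1
    rw [RingHom.mem_ker, map_sub, RingHom.mem_ker.mp hP, zero_sub, neg_eq_zero] at h4
    exact h4
  have h5 : P₀ = 0 := eq_zero_of_aeval_zz p a μ i₀ ha0 hμ ham P₀
    (fun j => by rw [← gpoly_natDegree p a μ i₀ j]; exact h2 j) h3
  rw [h5, sub_zero] at h1
  exact h1

include ha0 hμ ham in
lemma psi_injective : Function.Injective (psi p a μ i₀) := by
  rw [injective_iff_map_eq_zero]
  intro q hq
  obtain ⟨P, rfl⟩ := Ideal.Quotient.mk_surjective q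
  rw [Ideal.Quotient.eq_zero_iff_mem, ← ker_aeval_zz p a μ i₀ ha0 hμ ham, RingHom.mem_ker]
  have : psi p a μ i₀ (Ideal.Quotient.mk _ P) = MvPolynomial.aeval (zz p a μ i₀) P := by
    unfold psi MonicCI.lift
    rw [Ideal.Quotient.liftₐ_apply]
    exact Ideal.Quotient.lift_mk _ _ _
  rw [← this]
  exact hq


omit hpf [CharP k p] in
/-- Pairwise coprime non-units are non-zero. -/
lemma ne_zero_of_isRelPrime (hn : 2 ≤ n) (ham : ∀ i, MvPowerSeries.constantCoeff (a i) = 0)
    (hcop : ∀ i j, i ≠ j → IsRelPrime (a i) (a j)) (i : Fin n) : a i ≠ 0 := by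
  intro h
  have : Nontrivial (Fin n) := Fin.nontrivial_iff_two_le.mpr hn
  obtain ⟨j, hj⟩ := exists_ne i
  have h1 := hcop i j hj.symm
  rw [h, isRelPrime_zero_left] at h1
  have h2 := MvPowerSeries.isUnit_iff_constantCoeff.mp h1
  rw [ham j] at h2
  exact not_isUnit_zero h2

end Minor

end Groth.Agent.Lib.Helper52.AS
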