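import Mathlib
import Groth.Agent.Lib.Helper52.ASMinor

/-!
# Invariants of the diagonal automorphism after inverting `a_{i₀}`
-/

set_option autoImplicit false
universe u

namespace Groth.Agent.Lib.Helper52.AS

open MvPolynomial IsLocalRing

section Inv

variable (p : ℕ) [hpf : Fact p.Prime] {k : Type u} [Field k] [CharP k p] {n : ℕ}
  (a : Fin n → MvPowerSeries (Fin n) k) (μ : MvPowerSeries (Fin n) k) (i₀ : Fin n)

local notation "R" => MvPowerSeries (Fin n) k

/-- The subalgebra generated by the minor elements. -/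
noncomputable def CC : Subalgebra R (AM p a μ) := Algebra.adjoin R (Set.range (zz p a μ i₀))

/-- `u_{i₀}`. -/
noncomputable abbrev UU : AM p a μ := gen p (cc p (bb a μ)) i₀

omit [CharP k p] in
/-- Step A: `a_{i₀}^N t ∈ R[z, u_{i₀}]`. -/
lemma exists_pow_mul_mem (t : AM p a μ) :
    ∃ N : ℕ, algebraMap R (AM p a μ) (a i₀) ^ N * t ∈
      Algebra.adjoin R (Set.range (zz p a μ i₀) ∪ {UU p a μ i₀}) := by
  set C' := Algebra.adjoin R (Set.range (zz p a μ i₀) ∪ {UU p a μ i₀}) with hC'
  have hU : UU p a μ i₀ ∈ C' := Algebra.subset_adjoin (Or.inr rfl)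
  have hz : ∀ j, zz p a μ i₀ j ∈ C' := fun j => Algebra.subset_adjoin (Or.inl ⟨j, rfl⟩)
  have hgen : ∀ i, algebraMap R (AM p a μ) (a i₀) * gen p (cc p (bb a μ)) i ∈ C' := by
    intro i
    by_cases hi : i = i₀
    · subst hi
      exact C'.mul_mem (C'.algebraMap_mem _) hU
    · have : algebraMap R (AM p a μ) (a i₀) * gen p (cc p (bb a μ)) i =
          zz p a μ i₀ ⟨i, hi⟩ + algebraMap R (AM p a μ) (a i) * UU p a μ i₀ := by
        unfold zz; ring
      rw [this]
      exact C'.add_mem (hz _) (C'.mul_mem (C'.algebraMap_mem _) hU)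
  obtain ⟨P, rfl⟩ := Ideal.Quotient.mk_surjective t
  induction P using MvPolynomial.induction_on with
  | C r => exact ⟨0, by rw [pow_zero, one_mul]; exact C'.algebraMap_mem r⟩
  | add P Q hP hQ =>
    obtain ⟨N1, h1⟩ := hP
    obtain ⟨N2, h2⟩ := hQ
    refine ⟨N1 + N2, ?_⟩
    rw [map_add, mul_add]
    refine C'.add_mem ?_ ?_
    · rw [pow_add, mul_comm (_ ^ N1), mul_assoc]
      exact C'.mul_mem (C'.pow_mem (C'.algebraMap_mem _) _) h1
    · rw [pow_add, mul_assoc]
      exact C'.mul_mem (C'.pow_mem (C'.algebraMap_mem _) _) h2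
  | mul_X P i hP =>
    obtain ⟨N, hN⟩ := hP
    refine ⟨N + 1, ?_⟩
    rw [map_mul, pow_succ]
    have : algebraMap R (AM p a μ) (a i₀) ^ N * algebraMap R (AM p a μ) (a i₀) *
        (Ideal.Quotient.mk _ P * Ideal.Quotient.mk _ (X i)) =
        (algebraMap R (AM p a μ) (a i₀) ^ N * Ideal.Quotient.mk _ P) *
        (algebraMap R (AM p a μ) (a i₀) * gen p (cc p (bb a μ)) i) := by
      unfold gen MonicCI.gen; ring
    rw [this]
    exact C'.mul_mem hN (hgen i)


/-- The constant vector `(e, …, e)`. -/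
def constν (e : ZMod p) : Fin n → ZMod p := fun _ => e

lemma tau_const_zz (e : ZMod p) (j : JJ i₀) :
    tau p (bb a μ) (constν p e) (zz p a μ i₀ j) = zz p a μ i₀ j := by
  rw [tau_zz]
  simp [constν]

lemma tau_const_CC (e : ZMod p) (y : AM p a μ) (hy : y ∈ CC p a μ i₀) :
    tau p (bb a μ) (constν p e) y = y := by
  have hle : CC p a μ i₀ ≤ AlgHom.equalizer (tau p (bb a μ) (constν p e)) (AlgHom.id R _) := by
    unfold CC
    rw [Algebra.adjoin_le_iff]
    rintro _ ⟨j, rfl⟩
    exact tau_const_zz p a μ i₀ e j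
  exact hle hy

lemma tau_const_UU (e : ZMod p) :
    tau p (bb a μ) (constν p e) (UU p a μ i₀) =
      UU p a μ i₀ + algebraMap R (AM p a μ) (zc p e * bb a μ i₀) := by
  rw [tau_gen]
  rfl

/-- If `σ u_i = u_i + μ a_i` then `σ = tau (1,…,1)`. -/
lemma sigma_eq_tau (σ : AM p a μ ≃ₐ[R] AM p a μ)
    (hσ : ∀ i, σ (gen p (cc p (bb a μ)) i) =
      gen p (cc p (bb a μ)) i + algebraMap R (AM p a μ) (μ * a i)) (y : AM p a μ) :
    σ y = tau p (bb a μ) (constν p 1) y := by
  have : (σ : AM p a μ →ₐ[R] AM p a μ) = tau p (bb a μ) (constν p 1) := by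
    apply MonicCI.algHom_ext
    intro i
    change σ (gen p (cc p (bb a μ)) i) = tau p (bb a μ) (constν p 1) (gen p (cc p (bb a μ)) i)
    rw [hσ i, tau_gen]
    simp [sh, constν, bb]
  exact DFunLike.congr_fun this y

lemma tau_const_fixed (y : AM p a μ) (hy : tau p (bb a μ) (constν p 1) y = y) (e : ZMod p) :
    tau p (bb a μ) (constν p e) y = y := by
  have hnat : ∀ m : ℕ, tau p (bb a μ) (constν p (m : ZMod p)) y = y := by
    intro m
    induction m with
    | zero =>
      have : constν p ((0 : ℕ) : ZMod p) = (0 : Fin n → ZMod p) := by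
        funext i; simp [constν]
      rw [this, tau_zero]; rfl
    | succ m ih =>
      have : constν p ((m + 1 : ℕ) : ZMod p) = constν p (m : ZMod p) + constν (n := n) p 1 := by
        funext i; simp [constν]
      rw [this, ← tau_comp, AlgHom.comp_apply, hy, ih]
  have := hnat e.val
  rwa [ZMod.natCast_zmod_val] at this


variable (ha0 : ∀ i, a i ≠ 0) (hμ : μ ≠ 0) (ham : ∀ i, MvPowerSeries.constantCoeff (a i) = 0)

include ha0 hμ ham in
/-- Step C: an invariant element of `R[z][u_{i₀}]` lies in `R[z]`. -/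
lemma mem_CC_of_fixed (y : AM p a μ)
    (hyC : y ∈ Algebra.adjoin R (Set.range (zz p a μ i₀) ∪ {UU p a μ i₀}))
    (hy : tau p (bb a μ) (constν p 1) y = y) : y ∈ CC p a μ i₀ := by
  have := isDomain_AA p (bb a μ) (bb_constantCoeff a μ ham)
  have hinj := algebraMap_injective p (bb a μ)
  rw [Algebra.adjoin_union_eq_adjoin_adjoin] at hyC
  have hyC' : y ∈ Algebra.adjoin (CC p a μ i₀) {UU p a μ i₀} := hyC
  rw [Algebra.adjoin_singleton_eq_range_aeval] at hyC'
  obtain ⟨D, hD⟩ := hyC'
  let F₀ : Polynomial (CC p a μ i₀) :=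
    (poly p (cc p (bb a μ)) i₀).map (algebraMap R (CC p a μ i₀))
  have hF₀m : F₀.Monic := (poly_monic p _ (two_le p) i₀).map _
  have hF₀d : F₀.natDegree = p := by
    rw [(poly_monic p _ (two_le p) i₀).natDegree_map, poly_natDegree p _ (two_le p)]
  have hF₀r : Polynomial.aeval (UU p a μ i₀) F₀ = 0 := by
    rw [Polynomial.aeval_map_algebraMap]; exact MonicCI.aeval_gen _ i₀
  have hD' : Polynomial.aeval (UU p a μ i₀) (D %ₘ F₀) = y := by
    rw [Polynomial.aeval_modByMonic_eq_self_of_root hF₀r]; exact hD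
  have hdeg : (D %ₘ F₀).natDegree < p := by
    have h1 : F₀ ≠ 1 := by
      intro h
      rw [h, Polynomial.natDegree_one] at hF₀d
      have := two_le p
      omega
    have := Polynomial.natDegree_modByMonic_lt D hF₀m h1
    rwa [hF₀d] at this
  generalize D %ₘ F₀ = D' at hD' hdeg
  have heval : ∀ e : ZMod p, Polynomial.aeval
      (UU p a μ i₀ + algebraMap R (AM p a μ) (zc p e * bb a μ i₀)) D' = y := by
    intro e
    have h1 := tau_const_fixed p a μ y hy e
    rw [← hD'] at h1
    have hcomp : ((tau p (bb a μ) (constν p e) : AM p a μ →ₐ[R] AM p a μ) : AM p a μ →+* AM p a μ).comp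
        (algebraMap (CC p a μ i₀) (AM p a μ)) = algebraMap (CC p a μ i₀) (AM p a μ) := by
      ext c
      exact tau_const_CC p a μ i₀ e c.1 c.2
    have h2 : tau p (bb a μ) (constν p e) (Polynomial.aeval (UU p a μ i₀) D') =
        Polynomial.aeval (tau p (bb a μ) (constν p e) (UU p a μ i₀)) D' := by
      rw [Polynomial.aeval_def, Polynomial.aeval_def]
      have := Polynomial.hom_eval₂ D' (algebraMap (CC p a μ i₀) (AM p a μ))
        ((tau p (bb a μ) (constν p e) : AM p a μ →ₐ[R] AM p a μ) : AM p a μ →+* AM p a μ)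
        (UU p a μ i₀)
      rw [hcomp] at this
      exact this
    rw [h2, tau_const_UU] at h1
    rw [h1, hD']
  let E : Polynomial (AM p a μ) :=
    D'.map (algebraMap (CC p a μ i₀) (AM p a μ)) - Polynomial.C y
  let f : ZMod p → AM p a μ := fun e =>
    UU p a μ i₀ + algebraMap R (AM p a μ) (zc p e * bb a μ i₀)
  have hf : Function.Injective f := by
    intro e e' hee
    have h1 := hinj (add_left_cancel hee)
    exact zc_injective p (mul_right_cancel₀ (bb_ne_zero a μ ha0 hμ i₀) h1)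
  have hE0 : E = 0 := by
    apply Polynomial.eq_zero_of_natDegree_lt_card_of_eval_eq_zero E hf
    · intro e
      simp only [E, f, Polynomial.eval_sub, Polynomial.eval_C, Polynomial.eval_map_algebraMap]
      rw [heval e, sub_self]
    · rw [ZMod.card]
      refine lt_of_le_of_lt ?_ hdeg
      refine (Polynomial.natDegree_sub_le _ _).trans ?_
      rw [Polynomial.natDegree_C, max_eq_left (Nat.zero_le _)]
      exact Polynomial.natDegree_map_le
  have h3 : D'.map (algebraMap (CC p a μ i₀) (AM p a μ)) = Polynomial.C y := sub_eq_zero.mp hE0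
  have h4 := congrArg (fun q => Polynomial.coeff q 0) h3
  simp only [Polynomial.coeff_map, Polynomial.coeff_C_zero] at h4
  rw [← h4]
  exact (D'.coeff 0).2

include ha0 hμ ham in
/-- For an invariant `t`, some `(μ a_{i₀})^N t` lies in `R[z]`. -/
lemma exists_pow_mul_mem_CC (σ : AM p a μ ≃ₐ[R] AM p a μ)
    (hσ : ∀ i, σ (gen p (cc p (bb a μ)) i) =
      gen p (cc p (bb a μ)) i + algebraMap R (AM p a μ) (μ * a i))
    (t : AM p a μ) (ht : σ t = t) :
    ∃ N : ℕ, algebraMap R (AM p a μ) (μ * a i₀) ^ N * t ∈ CC p a μ i₀ := by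
  obtain ⟨N, hN⟩ := exists_pow_mul_mem p a μ i₀ t
  refine ⟨N, ?_⟩
  have hfix : tau p (bb a μ) (constν p 1) (algebraMap R (AM p a μ) (a i₀) ^ N * t) =
      algebraMap R (AM p a μ) (a i₀) ^ N * t := by
    rw [map_mul, map_pow, AlgHom.commutes, ← sigma_eq_tau p a μ σ hσ, ht]
  have h1 := mem_CC_of_fixed p a μ i₀ ha0 hμ ham _ hN hfix
  rw [map_mul, mul_pow, mul_assoc]
  exact (CC p a μ i₀).mul_mem ((CC p a μ i₀).pow_mem ((CC p a μ i₀).algebraMap_mem _) _) h1

end Inv

end Groth.Agent.Lib.Helper52.AS
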