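import Mathlib

/-!
# Normality of rings of invariants and of localizations identified through an injection
-/

set_option autoImplicit false

namespace Groth.Agent.Lib.Helper52.NormalInv

/-- The ring of invariants of an endomorphism of a normal domain is normal. -/
theorem isIntegrallyClosed_equalizer {R A : Type*} [CommRing R] [CommRing A] [IsDomain A]
    [Algebra R A] [IsIntegrallyClosed A] (σ : A →ₐ[R] A) :
    IsIntegrallyClosed (AlgHom.equalizer σ (AlgHom.id R A)) := by
  set S := AlgHom.equalizer σ (AlgHom.id R A) with hS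
  let L := FractionRing A
  have : IsScalarTower S A L := inferInstance
  have hinj : Function.Injective (algebraMap S L) :=
    (IsFractionRing.injective A L).comp Subtype.val_injective
  have : FaithfulSMul S L := (faithfulSMul_iff_algebraMap_injective S L).mpr hinj
  let ι : FractionRing S →ₐ[S] L := IsFractionRing.liftAlgHom (g := Algebra.ofId S L) hinj
  rw [isIntegrallyClosed_iff (FractionRing S)]
  intro x hx
  have h1 : IsIntegral A (ι x) := (hx.map ι).tower_top
  obtain ⟨t, ht⟩ := IsIntegrallyClosed.algebraMap_eq_of_integral h1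
  obtain ⟨s1, s2, hs2, rfl⟩ := IsFractionRing.div_surjective S x
  have hs20 : s2 ≠ 0 := nonZeroDivisors.ne_zero hs2
  have hs2A : (s2 : A) ≠ 0 := fun h => hs20 (Subtype.ext h)
  have h2 : (s2 : A) * t = s1 := by
    apply IsFractionRing.injective A L
    rw [map_mul, ht, map_div₀, AlgHom.commutes, AlgHom.commutes]
    have : algebraMap S L s2 ≠ 0 := by
      rw [Ne, FaithfulSMul.algebraMap_eq_zero_iff]; exact hs20
    change algebraMap S L s2 * (algebraMap S L s1 / algebraMap S L s2) = algebraMap S L s1
    rw [mul_div_cancel₀ _ this]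
  have h3 : σ t = t := by
    have h4 := congrArg σ h2
    rw [map_mul] at h4
    have e1 : σ (s2 : A) = s2 := s2.2
    have e2 : σ (s1 : A) = s1 := s1.2
    rw [e1, e2, ← h2] at h4
    exact mul_left_cancel₀ hs2A h4
  refine ⟨⟨t, h3⟩, ?_⟩
  rw [eq_div_iff (by rw [Ne, FaithfulSMul.algebraMap_eq_zero_iff]; exact hs20), ← map_mul]
  congr 1
  apply Subtype.ext
  rw [mul_comm]
  exact h2

/-- If `ψ : B → S` is injective into a normal domain and becomes surjective after inverting `m`,
then `B[1/m]` is normal. -/
theorem isIntegrallyClosed_away_of_injective {B S : Type*} [CommRing B] [CommRing S] [IsDomain S]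
    [IsIntegrallyClosed S] (ψ : B →+* S) (hψ : Function.Injective ψ) (m : B) (hm : ψ m ≠ 0)
    (hsurj : ∀ s : S, ∃ (N : ℕ) (b : B), ψ m ^ N * s = ψ b) :
    IsIntegrallyClosed (Localization.Away m) := by
  let Sm := Localization.Away (ψ m)
  have hle : Submonoid.powers (ψ m) ≤ nonZeroDivisors S :=
    Submonoid.powers_le.mpr (mem_nonZeroDivisors_of_ne_zero hm)
  have : IsIntegrallyClosed Sm := isIntegrallyClosed_of_isLocalization Sm (Submonoid.powers (ψ m)) hle
  have hSinj : Function.Injective (algebraMap S Sm) := IsLocalization.injective Sm hle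
  let _ : Algebra B Sm := ((algebraMap S Sm).comp ψ).toAlgebra
  have halg : ∀ b : B, algebraMap B Sm b = algebraMap S Sm (ψ b) := fun _ => rfl
  have : IsLocalization (Submonoid.powers m) Sm := by
    rw [isLocalization_iff]
    refine ⟨?_, ?_, ?_⟩
    · rintro ⟨_, k, rfl⟩
      rw [halg, map_pow, map_pow]
      exact (IsLocalization.Away.algebraMap_isUnit (ψ m)).pow k
    · intro y
      obtain ⟨⟨s, ⟨_, j, rfl⟩⟩, hy⟩ := IsLocalization.surj (Submonoid.powers (ψ m)) y
      obtain ⟨N, b, hb⟩ := hsurj s
      refine ⟨⟨b, ⟨m ^ (N + j), N + j, rfl⟩⟩, ?_⟩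
      simp only at hy ⊢
      rw [halg, halg, ← hb, map_pow, pow_add, map_mul, map_mul, ← hy, map_pow, map_pow]
      ring
    · intro x y hxy
      rw [halg, halg] at hxy
      exact ⟨1, by rw [hψ (hSinj hxy)]⟩
  let e := IsLocalization.algEquiv (Submonoid.powers m) (Localization.Away m) Sm
  exact IsIntegrallyClosed.of_equiv e.symm.toRingEquiv

end Groth.Agent.Lib.Helper52.NormalInv
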