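import Mathlib
import Groth.Agent.Lib.Helper52.ASInv
import Groth.Agent.Lib.Helper52.NormalInv
import Groth.Agent.Lib.Helper94.RegularUFD2

/-!
# The complete intersection ring of the minor elements: domain, normal after inverting `μ a_{i₀}`
-/

set_option autoImplicit false
universe u

namespace Groth.Agent.Lib.Helper52.AS

open MvPolynomial IsLocalRing

section Normal

variable (p : ℕ) [hpf : Fact p.Prime] {k : Type u} [Field k] [CharP k p] {n : ℕ}
  (a : Fin n → MvPowerSeries (Fin n) k) (μ : MvPowerSeries (Fin n) k) (i₀ : Fin n)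
  (ha0 : ∀ i, a i ≠ 0) (hμ : μ ≠ 0) (ham : ∀ i, MvPowerSeries.constantCoeff (a i) = 0)

local notation "R" => MvPowerSeries (Fin n) k

omit [CharP k p] in
lemma free_BM : Module.Free R (BM p a μ i₀) := MonicCI.free _ (gpoly_monic p a μ i₀)

omit [CharP k p] in
lemma finrank_BM : Module.finrank R (BM p a μ i₀) = p ^ (n - 1) := by
  rw [MonicCI.finrank_eq _ (gpoly_monic p a μ i₀)]
  simp [gpoly_natDegree]

include ha0 hμ ham in
lemma isDomain_BM : IsDomain (BM p a μ i₀) := by
  have := isDomain_AA p (bb a μ) (bb_constantCoeff a μ ham)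
  exact (psi_injective p a μ i₀ ha0 hμ ham).isDomain (psi p a μ i₀ : BM p a μ i₀ →+* AM p a μ)

include ham in
lemma isIntegrallyClosed_AM : IsIntegrallyClosed (AM p a μ) := by
  have := isDomain_AA p (bb a μ) (bb_constantCoeff a μ ham)
  have := isRegularLocalRing p (cc p (bb a μ)) (two_le p)
    (cc_constantCoeff p (bb a μ) (bb_constantCoeff a μ ham))
  have := Groth.Agent.Lib.Helper94.RegularUFD.uniqueFactorizationMonoid_of_isRegularLocalRing
    (AM p a μ)
  infer_instance

lemma psi_gen (j : JJ i₀) : psi p a μ i₀ (MonicCI.gen _ j) = zz p a μ i₀ j :=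
  MonicCI.lift_gen _ _ _ j

lemma tau_psi (x : BM p a μ i₀) :
    tau p (bb a μ) (constν p 1) (psi p a μ i₀ x) = psi p a μ i₀ x := by
  have : (tau p (bb a μ) (constν p 1)).comp (psi p a μ i₀) = psi p a μ i₀ := by
    apply MonicCI.algHom_ext
    intro j
    rw [AlgHom.comp_apply, psi_gen, tau_const_zz]
  exact DFunLike.congr_fun this x

lemma CC_le_range : CC p a μ i₀ ≤ (psi p a μ i₀).range := by
  unfold CC
  rw [Algebra.adjoin_le_iff]
  rintro _ ⟨j, rfl⟩
  exact ⟨MonicCI.gen _ j, psi_gen p a μ i₀ j⟩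

include ha0 hμ ham in
lemma isIntegrallyClosed_away_BM :
    IsIntegrallyClosed (Localization.Away (algebraMap R (BM p a μ i₀) (μ * a i₀))) := by
  have := isDomain_AA p (bb a μ) (bb_constantCoeff a μ ham)
  have := isIntegrallyClosed_AM p a μ ham
  let σ : AM p a μ →ₐ[R] AM p a μ := tau p (bb a μ) (constν p 1)
  let S := AlgHom.equalizer σ (AlgHom.id R (AM p a μ))
  have : IsIntegrallyClosed S := NormalInv.isIntegrallyClosed_equalizer σ
  let ψS : BM p a μ i₀ →ₐ[R] S := (psi p a μ i₀).codRestrict S (fun x => tau_psi p a μ i₀ x)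
  have hψS : ∀ x, ((ψS x : S) : AM p a μ) = psi p a μ i₀ x := fun _ => rfl
  apply NormalInv.isIntegrallyClosed_away_of_injective (ψS : BM p a μ i₀ →+* S)
  · intro x y hxy
    apply psi_injective p a μ i₀ ha0 hμ ham
    have := congrArg (fun s : S => (s : AM p a μ)) hxy
    exact this
  · intro h
    have h1 := congrArg (fun s : S => (s : AM p a μ)) h
    simp only [RingHom.coe_coe, hψS, AlgHom.commutes, ZeroMemClass.coe_zero] at h1
    have h2 := algebraMap_injective p (bb a μ) (h1.trans (map_zero _).symm)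
    exact mul_ne_zero hμ (ha0 i₀) h2
  · intro s
    have hs : tauEquiv p (bb a μ) (constν p 1) (s : AM p a μ) = s := s.2
    obtain ⟨N, hN⟩ := exists_pow_mul_mem_CC p a μ i₀ ha0 hμ ham
      (tauEquiv p (bb a μ) (constν p 1)) (fun i => by
        rw [tauEquiv_apply, tau_gen]; simp [sh, constν, bb]) s hs
    obtain ⟨b, hb⟩ := CC_le_range p a μ i₀ hN
    refine ⟨N, b, ?_⟩
    apply Subtype.ext
    simp only [RingHom.coe_coe, AlgHom.commutes, MulMemClass.coe_mul, SubmonoidClass.coe_pow, hψS]
    exact hb.symm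

end Normal

end Groth.Agent.Lib.Helper52.AS
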