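import Mathlib
import Groth.Agent.Lib.Helper52.ASNormal

/-!
# Invariants of the hyperplane subgroups `H_s` of the Artin–Schreier family
-/

set_option autoImplicit false
universe u

namespace Groth.Agent.Lib.Helper52.AS

open MvPolynomial IsLocalRing

section Hs

variable (p : ℕ) [hpf : Fact p.Prime] {k : Type u} [Field k] [CharP k p] {n : ℕ}
  (a : Fin n → MvPowerSeries (Fin n) k) (μ : MvPowerSeries (Fin n) k) (s : Fin n → ZMod p)

local notation "R" => MvPowerSeries (Fin n) k

/-- The support of `s`. -/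
def supp : Finset (Fin n) := Finset.univ.filter (fun i => s i ≠ 0)

/-- `α = ∏_{s_i ≠ 0} a_i`. -/
noncomputable def al : MvPowerSeries (Fin n) k := ∏ i ∈ supp p s, a i

/-- `α_i = ∏_{j ≠ i, s_j ≠ 0} a_j`. -/
noncomputable def ali (i : Fin n) : MvPowerSeries (Fin n) k := ∏ j ∈ (supp p s).erase i, a j

omit [CharP k p] in
lemma al_eq (i : Fin n) (hi : i ∈ supp p s) : al p a s = a i * ali p a s i := by
  unfold al ali
  rw [Finset.mul_prod_erase _ _ hi]

/-- `z_s = Σ_{s_i ≠ 0} s_i α_i u_i`. -/
noncomputable def zs : AM p a μ :=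
  ∑ i ∈ supp p s, algebraMap R (AM p a μ) (zc p (s i) * ali p a s i) * gen p (cc p (bb a μ)) i

/-- The constant term `Σ s_i α_i^p x_i`. -/
noncomputable def ws : MvPowerSeries (Fin n) k :=
  ∑ i ∈ supp p s, zc p (s i) * ali p a s i ^ p * MvPowerSeries.X i

lemma zs_pow : zs p a μ s ^ p =
    algebraMap R (AM p a μ) ((μ * al p a s) ^ (p - 1)) * zs p a μ s +
      algebraMap R (AM p a μ) (ws p a s) := by
  unfold zs ws
  rw [sum_pow_char, Finset.mul_sum, map_sum, ← Finset.sum_add_distrib]
  refine Finset.sum_congr rfl fun i hi => ?_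
  rw [mul_pow, gen_pow, ← map_pow, mul_pow, zc_pow, al_eq p a s i hi]
  simp only [cc, bb, map_mul, map_pow, mul_pow]
  rw [pow_p_eq p (algebraMap R (AM p a μ) (ali p a s i))]
  ring

/-- `f_s = T^p - (μ α)^(p-1) T - Σ s_i α_i^p x_i`. -/
noncomputable def fs : Polynomial (MvPowerSeries (Fin n) k) :=
  Polynomial.X ^ p - Polynomial.C ((μ * al p a s) ^ (p - 1)) * Polynomial.X -
    Polynomial.C (ws p a s)

lemma aeval_zs_fs : Polynomial.aeval (zs p a μ s) (fs p a μ s) = 0 := by
  simp only [fs, map_sub, map_mul, map_pow, Polynomial.aeval_X, Polynomial.aeval_C]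
  rw [zs_pow]
  simp only [map_pow, map_mul, mul_pow]
  ring

lemma fs_eq : fs p a μ s = Polynomial.X ^ p -
    (Polynomial.C ((μ * al p a s) ^ (p - 1)) * Polynomial.X + Polynomial.C (ws p a s)) := by
  unfold fs; ring

lemma fs_monic : (fs p a μ s).Monic := by
  rw [fs_eq]
  apply Polynomial.monic_X_pow_sub
  refine lt_of_le_of_lt Polynomial.degree_linear_le ?_
  exact_mod_cast two_le p

lemma fs_natDegree : (fs p a μ s).natDegree = p := by
  rw [fs_eq]
  have h1 : (Polynomial.C ((μ * al p a s) ^ (p - 1)) * Polynomial.X + Polynomial.C (ws p a s) :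
      Polynomial R).natDegree < ((Polynomial.X : Polynomial R) ^ p).natDegree := by
    rw [Polynomial.natDegree_X_pow]
    refine lt_of_le_of_lt (Polynomial.natDegree_linear_le) ?_
    have := two_le p
    omega
  rw [Polynomial.natDegree_sub_eq_left_of_natDegree_lt h1, Polynomial.natDegree_X_pow]

/-- `ν · s`. -/
def dot (ν : Fin n → ZMod p) : ZMod p := ∑ i, ν i * s i

lemma tau_zs (ν : Fin n → ZMod p) :
    tau p (bb a μ) ν (zs p a μ s) = zs p a μ s +
      algebraMap R (AM p a μ) (zc p (dot p s ν) * (μ * al p a s)) := by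
  unfold zs
  rw [map_sum]
  simp only [map_mul, AlgHom.commutes, tau_gen, mul_add]
  rw [Finset.sum_add_distrib]
  congr 1
  have hdot : dot p s ν = ∑ i ∈ supp p s, ν i * s i := by
    unfold dot supp
    rw [Finset.sum_filter]
    refine Finset.sum_congr rfl fun i _ => ?_
    by_cases h : s i = 0
    · simp [h]
    · simp [h]
  rw [hdot, map_sum, map_sum, Finset.sum_mul]
  refine Finset.sum_congr rfl fun i hi => ?_
  rw [al_eq p a s i hi]
  simp only [sh, bb, map_mul]
  ring


variable (ha0 : ∀ i, a i ≠ 0) (hμ : μ ≠ 0) (ham : ∀ i, MvPowerSeries.constantCoeff (a i) = 0)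
  (hs : s ≠ 0)

omit [CharP k p] in
include ha0 hμ in
lemma mual_ne_zero : μ * al p a s ≠ 0 :=
  mul_ne_zero hμ (Finset.prod_ne_zero_iff.mpr fun i _ => ha0 i)

omit [CharP k p] in
include hs in
lemma exists_mem_supp : ∃ i, i ∈ supp p s := by
  by_contra h
  push Not at h
  apply hs
  funext i
  by_contra hi
  have hi' : s i ≠ 0 := hi
  exact h i (by simp [supp, hi'])

omit [CharP k p] in
include hs in
lemma exists_dot (e : ZMod p) : ∃ ν : Fin n → ZMod p, dot p s ν = e := by
  obtain ⟨i, hi⟩ := exists_mem_supp p s hs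
  have hi' : s i ≠ 0 := by simpa [supp] using hi
  refine ⟨Pi.single i (e / s i), ?_⟩
  unfold dot
  rw [Finset.sum_eq_single i]
  · simp [hi']
  · intro j _ hj; simp [Pi.single_eq_of_ne hj]
  · intro h; exact absurd (Finset.mem_univ i) h

include ha0 hμ ham hs in
/-- `1, z_s, …, z_s^(p-1)` are linearly independent over `R`. -/
lemma eq_zero_of_aeval_zs (D : Polynomial R) (hdeg : D.natDegree < p)
    (hD : Polynomial.aeval (zs p a μ s) D = 0) : D = 0 := by
  have := isDomain_AA p (bb a μ) (bb_constantCoeff a μ ham)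
  have hinj := algebraMap_injective p (bb a μ)
  apply Polynomial.map_injective _ hinj
  rw [Polynomial.map_zero]
  let f : ZMod p → AM p a μ := fun e =>
    zs p a μ s + algebraMap R (AM p a μ) (zc p e * (μ * al p a s))
  have hf : Function.Injective f := by
    intro e e' hee
    have h1 := hinj (add_left_cancel hee)
    exact zc_injective p (mul_right_cancel₀ (mual_ne_zero p a μ s ha0 hμ) h1)
  apply Polynomial.eq_zero_of_natDegree_lt_card_of_eval_eq_zero _ hf
  · intro e
    obtain ⟨ν, hν⟩ := exists_dot p s hs e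
    rw [Polynomial.eval_map_algebraMap]
    have h1 := Polynomial.aeval_algHom_apply (tau p (bb a μ) ν) (zs p a μ s) D
    rw [hD, map_zero, tau_zs, hν] at h1
    exact h1
  · rw [ZMod.card]
    exact lt_of_le_of_lt Polynomial.natDegree_map_le hdeg

include ha0 hμ ham hs in
lemma ker_aeval_zs :
    RingHom.ker (Polynomial.aeval (zs p a μ s) : Polynomial R →ₐ[R] AM p a μ) =
      Ideal.span {fs p a μ s} := by
  apply le_antisymm
  · intro P hP
    rw [Ideal.mem_span_singleton, ← Polynomial.modByMonic_eq_zero_iff_dvd (fs_monic p a μ s)]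
    apply eq_zero_of_aeval_zs p a μ s ha0 hμ ham hs
    · have h1 : fs p a μ s ≠ 1 := by
        intro h
        have := fs_natDegree p a μ s
        rw [h, Polynomial.natDegree_one] at this
        have := two_le p
        omega
      have := Polynomial.natDegree_modByMonic_lt P (fs_monic p a μ s) h1
      rwa [fs_natDegree] at this
    · rw [Polynomial.aeval_modByMonic_eq_self_of_root (aeval_zs_fs p a μ s)]
      exact hP
  · rw [Ideal.span_le]
    intro P hP
    rw [Set.mem_singleton_iff] at hP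
    rw [hP]
    exact aeval_zs_fs p a μ s


omit hs in
include ha0 hμ ham in
/-- One-variable descent: an element of `E[u_j]` fixed by automorphisms that fix `E` and translate
`u_j` by all multiples of `μ a_j` lies in `E`. -/
lemma mem_of_fixed_adjoin_gen (S₀ : Set (AM p a μ)) (j : Fin n)
    (τ : ZMod p → (AM p a μ →ₐ[R] AM p a μ))
    (hτS : ∀ e, ∀ x ∈ S₀, τ e x = x)
    (hτU : ∀ e, τ e (gen p (cc p (bb a μ)) j) =
      gen p (cc p (bb a μ)) j + algebraMap R (AM p a μ) (zc p e * bb a μ j))
    (y : AM p a μ) (hyE : y ∈ Algebra.adjoin R (S₀ ∪ {gen p (cc p (bb a μ)) j}))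
    (hy : ∀ e, τ e y = y) : y ∈ Algebra.adjoin R S₀ := by
  have := isDomain_AA p (bb a μ) (bb_constantCoeff a μ ham)
  have hinj := algebraMap_injective p (bb a μ)
  set E := Algebra.adjoin R S₀ with hE
  set U := gen p (cc p (bb a μ)) j with hU
  have hτE : ∀ e, ∀ x ∈ E, τ e x = x := by
    intro e x hx
    have hle : E ≤ AlgHom.equalizer (τ e) (AlgHom.id R _) := by
      rw [hE, Algebra.adjoin_le_iff]
      intro x hx
      exact hτS e x hx
    exact hle hx
  rw [Algebra.adjoin_union_eq_adjoin_adjoin] at hyE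
  have hyC' : y ∈ Algebra.adjoin E {U} := hyE
  rw [Algebra.adjoin_singleton_eq_range_aeval] at hyC'
  obtain ⟨D, hD⟩ := hyC'
  let F₀ : Polynomial E := (poly p (cc p (bb a μ)) j).map (algebraMap R E)
  have hF₀m : F₀.Monic := (poly_monic p _ (two_le p) j).map _
  have hF₀d : F₀.natDegree = p := by
    rw [(poly_monic p _ (two_le p) j).natDegree_map, poly_natDegree p _ (two_le p)]
  have hF₀r : Polynomial.aeval U F₀ = 0 := by
    rw [Polynomial.aeval_map_algebraMap]; exact MonicCI.aeval_gen _ j
  have hD' : Polynomial.aeval U (D %ₘ F₀) = y := by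
    rw [Polynomial.aeval_modByMonic_eq_self_of_root hF₀r]; exact hD
  have hdeg : (D %ₘ F₀).natDegree < p := by
    have h1 : F₀ ≠ 1 := by
      intro h
      rw [h, Polynomial.natDegree_one] at hF₀d
      have := two_le p
      omega
    have := Polynomial.natDegree_modByMonic_lt D hF₀m h1
    rwa [hF₀d] at this
  generalize D %ₘ F₀ = D' at hD' hdeg
  have heval : ∀ e : ZMod p, Polynomial.aeval
      (U + algebraMap R (AM p a μ) (zc p e * bb a μ j)) D' = y := by
    intro e
    have h1 := hy e
    rw [← hD'] at h1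
    have hcomp : ((τ e : AM p a μ →ₐ[R] AM p a μ) : AM p a μ →+* AM p a μ).comp
        (algebraMap E (AM p a μ)) = algebraMap E (AM p a μ) := by
      ext c
      exact hτE e c.1 c.2
    have h2 : τ e (Polynomial.aeval U D') = Polynomial.aeval (τ e U) D' := by
      rw [Polynomial.aeval_def, Polynomial.aeval_def]
      have := Polynomial.hom_eval₂ D' (algebraMap E (AM p a μ))
        ((τ e : AM p a μ →ₐ[R] AM p a μ) : AM p a μ →+* AM p a μ) U
      rw [hcomp] at this
      exact this
    rw [h2, hτU] at h1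
    rw [h1, hD']
  let EE : Polynomial (AM p a μ) :=
    D'.map (algebraMap E (AM p a μ)) - Polynomial.C y
  let f : ZMod p → AM p a μ := fun e =>
    U + algebraMap R (AM p a μ) (zc p e * bb a μ j)
  have hf : Function.Injective f := by
    intro e e' hee
    have h1 := hinj (add_left_cancel hee)
    exact zc_injective p (mul_right_cancel₀ (bb_ne_zero a μ ha0 hμ j) h1)
  have hE0 : EE = 0 := by
    apply Polynomial.eq_zero_of_natDegree_lt_card_of_eval_eq_zero EE hf
    · intro e
      simp only [EE, f, Polynomial.eval_sub, Polynomial.eval_C, Polynomial.eval_map_algebraMap]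
      rw [heval e, sub_self]
    · rw [ZMod.card]
      refine lt_of_le_of_lt ?_ hdeg
      refine (Polynomial.natDegree_sub_le _ _).trans ?_
      rw [Polynomial.natDegree_C, max_eq_left (Nat.zero_le _)]
      exact Polynomial.natDegree_map_le
  have h3 : D'.map (algebraMap E (AM p a μ)) = Polynomial.C y := sub_eq_zero.mp hE0
  have h4 := congrArg (fun q => Polynomial.coeff q 0) h3
  simp only [Polynomial.coeff_map, Polynomial.coeff_C_zero] at h4
  rw [← h4]
  exact (D'.coeff 0).2


omit hs in
include ha0 hμ ham in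
/-- Multi-variable descent. -/
lemma mem_adjoin_zs_of_fixed (i₁ : Fin n) (hi₁ : s i₁ ≠ 0) (T : Finset (Fin n)) (hT : i₁ ∉ T)
    (y : AM p a μ)
    (hyE : y ∈ Algebra.adjoin R ({zs p a μ s} ∪ (gen p (cc p (bb a μ))) '' (T : Set (Fin n))))
    (hy : ∀ ν : Fin n → ZMod p, dot p s ν = 0 → tau p (bb a μ) ν y = y) :
    y ∈ Algebra.adjoin R {zs p a μ s} := by
  classical
  induction T using Finset.induction_on with
  | empty => simpa using hyE
  | insert j T hj ih =>
    have hji : j ≠ i₁ := fun h => hT (h ▸ Finset.mem_insert_self j T)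
    have hT' : i₁ ∉ T := fun h => hT (Finset.mem_insert_of_mem h)
    apply ih hT'
    have hset : ({zs p a μ s} ∪ (gen p (cc p (bb a μ))) '' ((insert j T : Finset (Fin n)) : Set (Fin n)) :
        Set (AM p a μ)) =
        ({zs p a μ s} ∪ (gen p (cc p (bb a μ))) '' (T : Set (Fin n))) ∪
          {gen p (cc p (bb a μ)) j} := by
      rw [Finset.coe_insert, Set.image_insert_eq]
      ext x
      simp only [Set.mem_union, Set.mem_singleton_iff, Set.mem_insert_iff]
      tauto
    rw [hset] at hyE
    let νe : ZMod p → (Fin n → ZMod p) := fun e =>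
      Pi.single j e + Pi.single i₁ (-(e * s j) / s i₁)
    have hdot : ∀ e, dot p s (νe e) = 0 := by
      intro e
      unfold dot
      simp only [νe, Pi.add_apply, add_mul, Finset.sum_add_distrib]
      rw [Finset.sum_eq_single j, Finset.sum_eq_single i₁]
      · simp only [Pi.single_eq_same]
        field_simp
        ring
      · intro l _ hl; simp [Pi.single_eq_of_ne hl]
      · intro h; exact absurd (Finset.mem_univ _) h
      · intro l _ hl; simp [Pi.single_eq_of_ne hl]
      · intro h; exact absurd (Finset.mem_univ _) h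
    have hνj : ∀ e, νe e j = e := by
      intro e
      simp [νe, Pi.single_eq_of_ne hji]
    have hνl : ∀ e, ∀ l ∈ T, νe e l = 0 := by
      intro e l hl
      have h1 : l ≠ j := fun h => hj (h ▸ hl)
      have h2 : l ≠ i₁ := fun h => hT' (h ▸ hl)
      simp [νe, Pi.single_eq_of_ne h1, Pi.single_eq_of_ne h2]
    apply mem_of_fixed_adjoin_gen p a μ ha0 hμ ham _ j (fun e => tau p (bb a μ) (νe e)) _ _ y hyE
      (fun e => hy _ (hdot e))
    · intro e x hx
      rcases hx with hx | ⟨l, hl, rfl⟩
      · rw [Set.mem_singleton_iff] at hx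
        rw [hx, tau_zs, hdot e]
        simp
      · rw [tau_gen, sh, hνl e l hl]
        simp
    · intro e
      rw [tau_gen, sh, hνj e]


omit hs in
/-- Step A': `α_{i₁}^N t ∈ R[z_s, u_j : j ≠ i₁]`. -/
lemma exists_pow_ali_mul_mem (i₁ : Fin n) (hi₁ : s i₁ ≠ 0) (t : AM p a μ) :
    ∃ N : ℕ, algebraMap R (AM p a μ) (ali p a s i₁) ^ N * t ∈
      Algebra.adjoin R ({zs p a μ s} ∪
        (gen p (cc p (bb a μ))) '' ((Finset.univ.erase i₁ : Finset (Fin n)) : Set (Fin n))) := by
  classical
  set C' := Algebra.adjoin R ({zs p a μ s} ∪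
    (gen p (cc p (bb a μ))) '' ((Finset.univ.erase i₁ : Finset (Fin n)) : Set (Fin n))) with hC'
  have hz : zs p a μ s ∈ C' := Algebra.subset_adjoin (Or.inl rfl)
  have hu : ∀ i, i ≠ i₁ → gen p (cc p (bb a μ)) i ∈ C' := fun i hi =>
    Algebra.subset_adjoin (Or.inr ⟨i, by simp [hi], rfl⟩)
  have hmem : i₁ ∈ supp p s := by simp [supp, hi₁]
  have hgen1 : algebraMap R (AM p a μ) (ali p a s i₁) * gen p (cc p (bb a μ)) i₁ ∈ C' := by
    have h1 : zs p a μ s = algebraMap R (AM p a μ) (zc p (s i₁) * ali p a s i₁) *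
        gen p (cc p (bb a μ)) i₁ + ∑ i ∈ (supp p s).erase i₁,
          algebraMap R (AM p a μ) (zc p (s i) * ali p a s i) * gen p (cc p (bb a μ)) i := by
      unfold zs
      exact (Finset.add_sum_erase _ (fun i => algebraMap R (AM p a μ) (zc p (s i) * ali p a s i) *
        gen p (cc p (bb a μ)) i) hmem).symm
    have h2 : algebraMap R (AM p a μ) (ali p a s i₁) * gen p (cc p (bb a μ)) i₁ =
        algebraMap R (AM p a μ) (zc p (s i₁)⁻¹) * (zs p a μ s - ∑ i ∈ (supp p s).erase i₁,
          algebraMap R (AM p a μ) (zc p (s i) * ali p a s i) * gen p (cc p (bb a μ)) i) := by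
      have h3 : zc p (s i₁)⁻¹ * zc p (s i₁) = (1 : R) := by
        rw [← map_mul, inv_mul_cancel₀ hi₁, map_one]
      rw [h1, add_sub_cancel_right, ← mul_assoc, ← map_mul, ← mul_assoc, h3, one_mul]
    rw [h2]
    refine C'.mul_mem (C'.algebraMap_mem _) (C'.sub_mem hz (C'.sum_mem fun i hi => ?_))
    exact C'.mul_mem (C'.algebraMap_mem _) (hu i (Finset.ne_of_mem_erase hi))
  have hgen : ∀ i, algebraMap R (AM p a μ) (ali p a s i₁) * gen p (cc p (bb a μ)) i ∈ C' := by
    intro i
    by_cases hi : i = i₁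
    · subst hi; exact hgen1
    · exact C'.mul_mem (C'.algebraMap_mem _) (hu i hi)
  obtain ⟨P, rfl⟩ := Ideal.Quotient.mk_surjective t
  induction P using MvPolynomial.induction_on with
  | C r => exact ⟨0, by rw [pow_zero, one_mul]; exact C'.algebraMap_mem r⟩
  | add P Q hP hQ =>
    obtain ⟨N1, h1⟩ := hP
    obtain ⟨N2, h2⟩ := hQ
    refine ⟨N1 + N2, ?_⟩
    rw [map_add, mul_add]
    refine C'.add_mem ?_ ?_
    · rw [pow_add, mul_comm (_ ^ N1), mul_assoc]
      exact C'.mul_mem (C'.pow_mem (C'.algebraMap_mem _) _) h1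
    · rw [pow_add, mul_assoc]
      exact C'.mul_mem (C'.pow_mem (C'.algebraMap_mem _) _) h2
  | mul_X P i hP =>
    obtain ⟨N, hN⟩ := hP
    refine ⟨N + 1, ?_⟩
    rw [map_mul, pow_succ]
    have : algebraMap R (AM p a μ) (ali p a s i₁) ^ N * algebraMap R (AM p a μ) (ali p a s i₁) *
        (Ideal.Quotient.mk _ P * Ideal.Quotient.mk _ (X i)) =
        (algebraMap R (AM p a μ) (ali p a s i₁) ^ N * Ideal.Quotient.mk _ P) *
        (algebraMap R (AM p a μ) (ali p a s i₁) * gen p (cc p (bb a μ)) i) := by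
      unfold gen MonicCI.gen; ring
    rw [this]
    exact C'.mul_mem hN (hgen i)

omit hs in
include ha0 hμ ham in
/-- For `H_s`-invariant `t` and `i₁` in the support, `α_{i₁}^N t ∈ R[z_s]`. -/
lemma exists_pow_ali_mul_mem_adjoin_zs (i₁ : Fin n) (hi₁ : s i₁ ≠ 0) (t : AM p a μ)
    (ht : ∀ ν : Fin n → ZMod p, dot p s ν = 0 → tau p (bb a μ) ν t = t) :
    ∃ N : ℕ, algebraMap R (AM p a μ) (ali p a s i₁) ^ N * t ∈ Algebra.adjoin R {zs p a μ s} := by
  obtain ⟨N, hN⟩ := exists_pow_ali_mul_mem p a μ s i₁ hi₁ t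
  refine ⟨N, ?_⟩
  apply mem_adjoin_zs_of_fixed p a μ s ha0 hμ ham i₁ hi₁ (Finset.univ.erase i₁) (by simp) _ hN
  intro ν hν
  rw [map_mul, map_pow, AlgHom.commutes, ht ν hν]


end Hs

section UFD

variable {k : Type u} [Field k] {n : ℕ}

local notation "R" => MvPowerSeries (Fin n) k

lemma isRegularLocalRing_R : IsRegularLocalRing R := by
  apply IsRegularLocalRing.of_spanFinrank_maximalIdeal_le
  rw [Groth.Agent.S11741.maximalIdeal_mvPowerSeries_eq]
  refine le_trans ?_ (Groth.Agent.S11741.le_ringKrullDim_mvPowerSeries k n)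
  have h1 : (Ideal.span (Set.range (MvPowerSeries.X : Fin n → R))).spanFinrank ≤
      (Set.range (MvPowerSeries.X : Fin n → R)).ncard :=
    Submodule.spanFinrank_span_le_ncard_of_finite (Set.finite_range _)
  have h2 : (Set.range (MvPowerSeries.X : Fin n → R)).ncard ≤ n := by
    rw [← Set.image_univ]
    refine le_trans (Set.ncard_image_le (Set.finite_univ)) ?_
    simp
  exact_mod_cast le_trans h1 h2

instance ufd_R : UniqueFactorizationMonoid R := by
  have := isRegularLocalRing_R (k := k) (n := n)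
  have : IsDomain R := NoZeroDivisors.to_isDomain _
  exact Groth.Agent.Lib.Helper94.RegularUFD.uniqueFactorizationMonoid_of_isRegularLocalRing R

end UFD

section Hs2

variable (p : ℕ) [hpf : Fact p.Prime] {k : Type u} [Field k] [CharP k p] {n : ℕ}
  (a : Fin n → MvPowerSeries (Fin n) k) (μ : MvPowerSeries (Fin n) k) (s : Fin n → ZMod p)
  (ha0 : ∀ i, a i ≠ 0) (hμ : μ ≠ 0) (ham : ∀ i, MvPowerSeries.constantCoeff (a i) = 0)
  (hs : s ≠ 0)

local notation "R" => MvPowerSeries (Fin n) k

lemma adjoin_zs_eq_range :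
    Algebra.adjoin R {zs p a μ s} = (Polynomial.aeval (zs p a μ s)).range :=
  Algebra.adjoin_singleton_eq_range_aeval R _

include ha0 hμ ham hs in
/-- Coprime cancellation. -/
lemma mem_of_coprime_mul_mem (g e1 e2 : R) (hrel : IsRelPrime e1 e2) (he1 : e1 ≠ 0)
    (t : AM p a μ)
    (h1 : algebraMap R (AM p a μ) (g * e1) * t ∈ Algebra.adjoin R {zs p a μ s})
    (h2 : algebraMap R (AM p a μ) (g * e2) * t ∈ Algebra.adjoin R {zs p a μ s}) :
    algebraMap R (AM p a μ) g * t ∈ Algebra.adjoin R {zs p a μ s} := by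
  have := isDomain_AA p (bb a μ) (bb_constantCoeff a μ ham)
  have hinj := algebraMap_injective p (bb a μ)
  rw [adjoin_zs_eq_range] at h1 h2 ⊢
  obtain ⟨P1', hP1'⟩ := h1
  obtain ⟨P2', hP2'⟩ := h2
  have hf1 : fs p a μ s ≠ 1 := by
    intro h
    have := fs_natDegree p a μ s
    rw [h, Polynomial.natDegree_one] at this
    have := two_le p
    omega
  have hred : ∀ P : Polynomial R, (P %ₘ fs p a μ s).natDegree < p ∧
      Polynomial.aeval (zs p a μ s) (P %ₘ fs p a μ s) = Polynomial.aeval (zs p a μ s) P := by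
    intro P
    refine ⟨?_, Polynomial.aeval_modByMonic_eq_self_of_root (aeval_zs_fs p a μ s)⟩
    have := Polynomial.natDegree_modByMonic_lt P (fs_monic p a μ s) hf1
    rwa [fs_natDegree] at this
  obtain ⟨hd1, hv1⟩ := hred P1'
  obtain ⟨hd2, hv2⟩ := hred P2'
  set P1 := P1' %ₘ fs p a μ s
  set P2 := P2' %ₘ fs p a μ s
  have hP1 : Polynomial.aeval (zs p a μ s) P1 = algebraMap R (AM p a μ) (g * e1) * t :=
    hv1.trans hP1'
  have hP2 : Polynomial.aeval (zs p a μ s) P2 = algebraMap R (AM p a μ) (g * e2) * t :=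
    hv2.trans hP2'
  have h0 : Polynomial.C e2 * P1 - Polynomial.C e1 * P2 = 0 := by
    apply eq_zero_of_aeval_zs p a μ s ha0 hμ ham hs
    · refine lt_of_le_of_lt (Polynomial.natDegree_sub_le _ _) (max_lt ?_ ?_)
      · exact lt_of_le_of_lt (Polynomial.natDegree_C_mul_le _ _) hd1
      · exact lt_of_le_of_lt (Polynomial.natDegree_C_mul_le _ _) hd2
    · rw [map_sub, map_mul, map_mul, Polynomial.aeval_C, Polynomial.aeval_C, hP1, hP2]
      simp only [map_mul]
      ring
  have hdvd : Polynomial.C e1 ∣ P1 := by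
    rw [Polynomial.C_dvd_iff_dvd_coeff]
    intro i
    have h3 := congrArg (fun q => Polynomial.coeff q i) (sub_eq_zero.mp h0)
    simp only [Polynomial.coeff_C_mul] at h3
    exact hrel.dvd_of_dvd_mul_left ⟨_, h3⟩
  obtain ⟨Q, hQ⟩ := hdvd
  refine ⟨Q, ?_⟩
  have h4 : algebraMap R (AM p a μ) e1 * Polynomial.aeval (zs p a μ s) Q =
      algebraMap R (AM p a μ) e1 * (algebraMap R (AM p a μ) g * t) := by
    have := hP1
    rw [hQ, map_mul, Polynomial.aeval_C] at this
    rw [this, map_mul]
    ring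
  have he1' : algebraMap R (AM p a μ) e1 ≠ 0 := by
    intro h
    exact he1 (hinj (h.trans (map_zero _).symm))
  exact mul_left_cancel₀ he1' h4


/-- `α_T = ∏_{j ∈ supp ∖ T} a_j`. -/
noncomputable def alT (T : Finset (Fin n)) : MvPowerSeries (Fin n) k := ∏ j ∈ supp p s \ T, a j

include ha0 hμ ham hs in
/-- `H_s`-invariants are polynomials in `z_s`. -/
lemma mem_adjoin_zs_of_invariant (hcop : ∀ i j, i ≠ j → IsRelPrime (a i) (a j)) (t : AM p a μ)
    (ht : ∀ ν : Fin n → ZMod p, dot p s ν = 0 → tau p (bb a μ) ν t = t) :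
    t ∈ Algebra.adjoin R {zs p a μ s} := by
  classical
  set F := Algebra.adjoin R {zs p a μ s} with hF
  -- uniform exponent
  have hex : ∀ i : Fin n, ∃ N : ℕ, i ∈ supp p s →
      algebraMap R (AM p a μ) (ali p a s i) ^ N * t ∈ F := by
    intro i
    by_cases hi : i ∈ supp p s
    · have hi' : s i ≠ 0 := by simpa [supp] using hi
      obtain ⟨N, hN⟩ := exists_pow_ali_mul_mem_adjoin_zs p a μ s ha0 hμ ham i hi' t ht
      exact ⟨N, fun _ => hN⟩
    · exact ⟨0, fun h => absurd h hi⟩
  choose Ni hNi using hex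
  let N := ∑ i, Ni i
  have hN : ∀ i ∈ supp p s, algebraMap R (AM p a μ) (ali p a s i ^ N) * t ∈ F := by
    intro i hi
    have hle : Ni i ≤ N := Finset.single_le_sum (fun _ _ => Nat.zero_le _) (Finset.mem_univ i)
    obtain ⟨d, hd⟩ := Nat.exists_eq_add_of_le hle
    rw [map_pow, hd, pow_add, mul_comm (_ ^ Ni i), mul_assoc]
    exact F.mul_mem (F.pow_mem (F.algebraMap_mem _) _) (hNi i hi)
  have key : ∀ T : Finset (Fin n), T.Nonempty → T ⊆ supp p s →
      algebraMap R (AM p a μ) (alT p a s T ^ N) * t ∈ F := by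
    intro T hT
    induction hT using Finset.Nonempty.cons_induction with
    | singleton i =>
      intro hsub
      have hi : i ∈ supp p s := hsub (Finset.mem_singleton_self i)
      have : alT p a s {i} = ali p a s i := by
        unfold alT ali
        rw [Finset.sdiff_singleton_eq_erase]
      rw [this]
      exact hN i hi
    | cons i' T hi'T hTne ih =>
      intro hsub
      have hi' : i' ∈ supp p s := hsub (Finset.mem_cons_self i' T)
      have hTsub : T ⊆ supp p s := fun x hx => hsub (Finset.mem_cons.mpr (Or.inr hx))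
      have h1 := ih hTsub
      have h2 := hN i' hi'
      -- α_T = a_{i'} * α_{cons}
      have e1 : alT p a s T = alT p a s (Finset.cons i' T hi'T) * a i' := by
        unfold alT
        have : supp p s \ T = insert i' (supp p s \ Finset.cons i' T hi'T) := by
          ext x
          simp only [Finset.mem_sdiff, Finset.mem_insert, Finset.mem_cons]
          constructor
          · rintro ⟨hx, hxT⟩
            by_cases hxi : x = i'
            · exact Or.inl hxi
            · exact Or.inr ⟨hx, fun h => h.elim hxi hxT⟩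
          · rintro (rfl | ⟨hx, hxT⟩)
            · exact ⟨hi', hi'T⟩
            · exact ⟨hx, fun h => hxT (Or.inr h)⟩
        rw [this, Finset.prod_insert (by simp), mul_comm]
      have e2 : ali p a s i' = alT p a s (Finset.cons i' T hi'T) * ∏ j ∈ T, a j := by
        unfold alT ali
        have : (supp p s).erase i' = (supp p s \ Finset.cons i' T hi'T) ∪ T := by
          ext x
          simp only [Finset.mem_erase, Finset.mem_union, Finset.mem_sdiff, Finset.mem_cons]
          constructor
          · rintro ⟨hxi, hx⟩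
            by_cases hxT : x ∈ T
            · exact Or.inr hxT
            · exact Or.inl ⟨hx, fun h => h.elim hxi hxT⟩
          · rintro (⟨hx, hxT⟩ | hxT)
            · exact ⟨fun h => hxT (Or.inl h), hx⟩
            · exact ⟨fun h => hi'T (h ▸ hxT), hTsub hxT⟩
        rw [this, Finset.prod_union]
        rw [Finset.disjoint_left]
        intro x hx hxT
        exact (Finset.mem_sdiff.mp hx).2 (Finset.mem_cons.mpr (Or.inr hxT))
      rw [e1, mul_pow] at h1
      rw [e2, mul_pow] at h2
      have hrel : IsRelPrime (a i' ^ N) ((∏ j ∈ T, a j) ^ N) := by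
        apply IsRelPrime.pow
        apply IsRelPrime.prod_right
        intro j hj
        exact hcop i' j (fun h => hi'T (h ▸ hj))
      exact mem_of_coprime_mul_mem p a μ s ha0 hμ ham hs _ _ _ hrel (pow_ne_zero _ (ha0 i'))
        t h1 h2
  obtain ⟨i, hi⟩ := exists_mem_supp p s hs
  have := key (supp p s) ⟨i, hi⟩ (Finset.Subset.refl _)
  have h1 : alT p a s (supp p s) = 1 := by
    unfold alT
    rw [Finset.sdiff_self, Finset.prod_empty]
  rwa [h1, one_pow, map_one, one_mul] at this


omit [CharP k p] in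
lemma castHom_eq_zc [CharP k p] (x : ZMod p) :
    algebraMap k R (ZMod.castHom (dvd_refl p) k x) = zc p x :=
  RingHom.congr_fun (Subsingleton.elim ((algebraMap k R).comp (ZMod.castHom (dvd_refl p) k))
    (zc p)) x

omit ha0 hμ ham hs in
lemma sigma_eq_tauEquiv (σ : Fin n → (AM p a μ ≃ₐ[R] AM p a μ))
    (hσ : ∀ i j, σ i (gen p (cc p (bb a μ)) j) = gen p (cc p (bb a μ)) j +
      (if i = j then algebraMap R (AM p a μ) (μ * a i) else 0)) (i : Fin n) :
    σ i = tauHom p (bb a μ) (Multiplicative.ofAdd (Pi.single i 1)) := by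
  apply AlgEquiv.coe_toAlgHom_injective
  apply MonicCI.algHom_ext
  intro j
  change σ i (gen p (cc p (bb a μ)) j) = tau p (bb a μ) (Pi.single i 1) (gen p (cc p (bb a μ)) j)
  rw [hσ i j, tau_gen, sh]
  by_cases hij : i = j
  · subst hij
    simp [bb]
  · rw [if_neg hij, Pi.single_eq_of_ne (Ne.symm hij)]
    simp

omit ha0 hμ ham hs in
lemma list_prod_eq (σ : Fin n → (AM p a μ ≃ₐ[R] AM p a μ))
    (hσ : ∀ i j, σ i (gen p (cc p (bb a μ)) j) = gen p (cc p (bb a μ)) j +
      (if i = j then algebraMap R (AM p a μ) (μ * a i) else 0)) (ν : Fin n → ZMod p) :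
    (List.ofFn (fun i : Fin n => σ i ^ (ν i).val)).prod = tauEquiv p (bb a μ) ν := by
  have h1 : (fun i : Fin n => σ i ^ (ν i).val) =
      (tauHom p (bb a μ)) ∘ (fun i => Multiplicative.ofAdd (Pi.single i (ν i))) := by
    funext i
    rw [sigma_eq_tauEquiv p a μ σ hσ i, ← map_pow, Function.comp_apply]
    congr 1
    apply Multiplicative.toAdd.injective
    rw [toAdd_pow, toAdd_ofAdd, toAdd_ofAdd]
    funext j
    by_cases hij : j = i
    · subst hij
      simp
    · simp [Pi.single_eq_of_ne hij]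
  rw [h1, ← List.map_ofFn, ← map_list_prod, List.prod_ofFn]
  change tauEquiv p (bb a μ) (Multiplicative.toAdd _) = _
  congr 1
  rw [toAdd_prod]
  simp only [toAdd_ofAdd]
  exact Finset.univ_sum_single ν

include ha0 hμ ham hs in
/-- The final form of the statement on `H_s`-invariants. -/
theorem hs_main (hcop : ∀ i j, i ≠ j → IsRelPrime (a i) (a j))
    (σ : Fin n → (AM p a μ ≃ₐ[R] AM p a μ))
    (hσ : ∀ i j, σ i (gen p (cc p (bb a μ)) j) = gen p (cc p (bb a μ)) j +
      (if i = j then algebraMap R (AM p a μ) (μ * a i) else 0)) :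
    (∀ t : AM p a μ, (∀ ν : Fin n → ZMod p, ∑ i, ν i * s i = 0 →
        (List.ofFn (fun i : Fin n => σ i ^ (ν i).val)).prod t = t) ↔
      t ∈ (Polynomial.aeval (zs p a μ s) : Polynomial R →ₐ[R] AM p a μ).range) ∧
    RingHom.ker (Polynomial.aeval (zs p a μ s) : Polynomial R →ₐ[R] AM p a μ) =
      Ideal.span {fs p a μ s} := by
  refine ⟨fun t => ⟨fun ht => ?_, fun ht ν hν => ?_⟩, ker_aeval_zs p a μ s ha0 hμ ham hs⟩
  · rw [← adjoin_zs_eq_range]
    apply mem_adjoin_zs_of_invariant p a μ s ha0 hμ ham hs hcop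
    intro ν hν
    have := ht ν hν
    rwa [list_prod_eq p a μ σ hσ ν] at this
  · obtain ⟨P, rfl⟩ := ht
    rw [list_prod_eq p a μ σ hσ ν, tauEquiv_apply]
    have h1 := Polynomial.aeval_algHom_apply (tau p (bb a μ) ν) (zs p a μ s) P
    rw [tau_zs] at h1
    have h2 : dot p s ν = 0 := hν
    rw [h2, map_zero, zero_mul, map_zero, add_zero] at h1
    exact h1.symm

end Hs2

end Groth.Agent.Lib.Helper52.AS
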