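import Mathlib

/-!
# Length over a local ring versus length over a subring with the same residue field
-/

set_option autoImplicit false
universe v

namespace Groth.Agent.Lib.Helper52.LengthRestrict

open IsLocalRing

variable {R A : Type*} [CommRing R] [CommRing A] [Algebra R A] [IsLocalRing A]

lemma exists_sub_mem
    (hsurj : Function.Surjective ((IsLocalRing.residue A).comp (algebraMap R A))) (x : A) :
    ∃ r : R, x - algebraMap R A r ∈ maximalIdeal A := by
  obtain ⟨r, hr⟩ := hsurj (IsLocalRing.residue A x)
  refine ⟨r, ?_⟩
  rw [← IsLocalRing.residue_eq_zero_iff, map_sub, sub_eq_zero]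
  exact hr.symm

theorem isSimpleModule_restrict
    (hsurj : Function.Surjective ((IsLocalRing.residue A).comp (algebraMap R A)))
    (S : Type*) [AddCommGroup S] [Module A S] [Module R S] [IsScalarTower R A S]
    [IsSimpleModule A S] : IsSimpleModule R S := by
  have hann : Module.annihilator A S = maximalIdeal A :=
    IsLocalRing.eq_maximalIdeal (IsSimpleModule.annihilator_isMaximal)
  have key : ∀ T : Submodule R S, ∃ T' : Submodule A S, (T' : Set S) = T := by
    intro T
    refine ⟨{ carrier := T, add_mem' := T.add_mem, zero_mem' := T.zero_mem, smul_mem' := ?_ }, rfl⟩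
    intro x t ht
    obtain ⟨r, hr⟩ := exists_sub_mem hsurj x
    have h0 : (x - algebraMap R A r) • t = 0 := by
      have : x - algebraMap R A r ∈ Module.annihilator A S := hann ▸ hr
      exact Module.mem_annihilator.mp this t
    have : x • t = r • t := by
      rw [sub_smul, sub_eq_zero, algebraMap_smul] at h0; exact h0
    change x • t ∈ T
    rw [this]; exact T.smul_mem r ht
  have : Nontrivial S := IsSimpleModule.nontrivial A S
  rw [isSimpleModule_iff]
  refine { exists_pair_ne := ⟨⊥, ⊤, bot_ne_top⟩, eq_bot_or_eq_top := ?_ }
  intro T
  obtain ⟨T', hT'⟩ := key T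
  rcases eq_bot_or_eq_top T' with h | h
  · left; apply SetLike.coe_injective; rw [← hT', h]; rfl
  · right; apply SetLike.coe_injective; rw [← hT', h]; rfl

theorem length_aux
    (hsurj : Function.Surjective ((IsLocalRing.residue A).comp (algebraMap R A))) (n : ℕ) :
    ∀ (M : Type v) [AddCommGroup M] [Module A M] [Module R M] [IsScalarTower R A M],
      Module.length A M = n → Module.length R M = n := by
  induction n with
  | zero =>
    intro M _ _ _ _ h
    have : Subsingleton M := Module.length_eq_zero_iff.mp (by simpa using h)
    simp [Module.length_eq_zero (R := R) (M := M)]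
  | succ n ih =>
    intro M _ _ _ _ h
    have hfin : IsFiniteLength A M := Module.length_ne_top_iff.mp (by rw [h]; exact ENat.natCast_ne_top _)
    obtain ⟨hN, hAr⟩ := isFiniteLength_iff_isNoetherian_isArtinian.mp hfin
    have : Nontrivial M := Module.length_pos_iff.mp (by rw [h]; simp)
    obtain ⟨S, hS⟩ := IsAtomic.exists_atom (Submodule A M)
    have : IsSimpleModule A S := isSimpleModule_iff_isAtom.mpr hS
    have e1 := Module.length_eq_add_of_exact S.subtype S.mkQ S.injective_subtype
      S.mkQ_surjective (LinearMap.exact_subtype_mkQ S)
    rw [h, Module.length_eq_one] at e1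
    have h2 : Module.length A (M ⧸ S) = n := by
      have h3 : ((n : ℕ∞) + 1) = Module.length A (M ⧸ S) + 1 := by
        rw [add_comm (Module.length A (M ⧸ S))]; exact_mod_cast e1
      exact (WithTop.add_right_cancel (ENat.one_ne_top) h3).symm
    have h3 := ih (M ⧸ S) h2
    have : IsSimpleModule R S := isSimpleModule_restrict hsurj S
    have e2 := Module.length_eq_add_of_exact (S.subtype.restrictScalars R)
      (S.mkQ.restrictScalars R) S.injective_subtype S.mkQ_surjective
      (LinearMap.exact_subtype_mkQ S)
    rw [e2, Module.length_eq_one, h3]
    push_cast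
    rw [add_comm]

/-- If `A` is local and `R → A/𝔪_A` is surjective then lengths over `A` and `R` agree. -/
theorem length_eq
    (hsurj : Function.Surjective ((IsLocalRing.residue A).comp (algebraMap R A)))
    (M : Type v) [AddCommGroup M] [Module A M] [Module R M] [IsScalarTower R A M] :
    Module.length R M = Module.length A M := by
  by_cases h : Module.length A M = ⊤
  · rw [h, eq_top_iff, ← h]
    have := Submodule.length_le_length_restrictScalars R (⊤ : Submodule A M)
    rw [Module.length_top] at this
    refine this.trans ?_
    rw [Submodule.restrictScalars_top, Module.length_top]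
  · obtain ⟨n, hn⟩ := ENat.ne_top_iff_exists.mp h
    rw [← hn]
    exact length_aux hsurj n M hn.symm

end Groth.Agent.Lib.Helper52.LengthRestrict
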