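import Mathlib
import Groth.Agent.Lib.Helper52.ASBasic
import Groth.Agent.Lib.Helper52.LengthRestrict

/-!
# Fixed-point ideal of the Artin–Schreier family and its colength
-/

set_option autoImplicit false
universe u

namespace Groth.Agent.Lib.Helper52.AS

open MvPolynomial IsLocalRing TensorProduct

/-- Length of `A/IA` for a free `R`-algebra `A`. -/
theorem length_quotient_map_of_free {R A ι : Type*} [CommRing R] [CommRing A] [Algebra R A]
    (B : Module.Basis ι R A) (I : Ideal R) :
    Module.length R (A ⧸ I.map (algebraMap R A)) = ENat.card ι * Module.length R (R ⧸ I) := by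
  classical
  let e1 : (A ⧸ (I.map (algebraMap R A)).restrictScalars R) ≃ₗ[R] A ⧸ I.map (algebraMap R A) :=
    Submodule.Quotient.restrictScalarsEquiv R _
  let e1' : (A ⧸ (I • ⊤ : Submodule R A)) ≃ₗ[R] (A ⧸ (I.map (algebraMap R A)).restrictScalars R) :=
    Submodule.quotEquivOfEq _ _ (Ideal.smul_top_eq_map I)
  let e2 : (R ⧸ I) ⊗[R] A ≃ₗ[R] A ⧸ (I • ⊤ : Submodule R A) := quotTensorEquivQuotSMul A I
  let e3 : (R ⧸ I) ⊗[R] A ≃ₗ[R] (R ⧸ I) ⊗[R] (ι →₀ R) := LinearEquiv.lTensor _ B.repr
  let e4 : (R ⧸ I) ⊗[R] (ι →₀ R) ≃ₗ[R] ι →₀ (R ⧸ I) := finsuppScalarRight R R (R ⧸ I) ι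
  rw [← e1.length_eq, ← e1'.length_eq, ← e2.length_eq, e3.length_eq, e4.length_eq,
    Module.length_finsupp]

/-- For an algebra generated by elements `g i`, the ideal generated by all `σ t - t` is generated
by the `σ (g i) - g i`. -/
theorem span_sub_eq {R : Type*} [CommRing R] {ι : Type*} (f : ι → Polynomial R)
    (σ : MonicCI.Q f →ₐ[R] MonicCI.Q f) :
    Ideal.span (Set.range fun t : MonicCI.Q f => σ t - t) =
      Ideal.span (Set.range fun i => σ (MonicCI.gen f i) - MonicCI.gen f i) := by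
  apply le_antisymm
  · rw [Ideal.span_le]
    rintro _ ⟨t, rfl⟩
    obtain ⟨P, rfl⟩ := Ideal.Quotient.mk_surjective t
    set J := Ideal.span (Set.range fun i => σ (MonicCI.gen f i) - MonicCI.gen f i) with hJ
    change σ (Ideal.Quotient.mk _ P) - Ideal.Quotient.mk _ P ∈ J
    induction P using MvPolynomial.induction_on with
    | C r =>
      have : Ideal.Quotient.mk (MonicCI.relIdeal f) (C r) = algebraMap R (MonicCI.Q f) r := rfl
      rw [this, AlgHom.commutes, sub_self]
      exact J.zero_mem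
    | add P Q hP hQ =>
      rw [map_add, map_add]
      have : σ (Ideal.Quotient.mk _ P) + σ (Ideal.Quotient.mk _ Q) -
          (Ideal.Quotient.mk _ P + Ideal.Quotient.mk _ Q) =
          (σ (Ideal.Quotient.mk _ P) - Ideal.Quotient.mk _ P) +
          (σ (Ideal.Quotient.mk _ Q) - Ideal.Quotient.mk _ Q) := by ring
      rw [this]
      exact J.add_mem hP hQ
    | mul_X P i hP =>
      rw [map_mul, map_mul]
      have hi : σ (MonicCI.gen f i) - MonicCI.gen f i ∈ J := Ideal.subset_span ⟨i, rfl⟩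
      have : σ (Ideal.Quotient.mk _ P) * σ (Ideal.Quotient.mk _ (X i)) -
          Ideal.Quotient.mk _ P * Ideal.Quotient.mk _ (X i) =
          σ (Ideal.Quotient.mk _ P) * (σ (MonicCI.gen f i) - MonicCI.gen f i) +
          (σ (Ideal.Quotient.mk _ P) - Ideal.Quotient.mk _ P) * MonicCI.gen f i := by
        unfold MonicCI.gen; ring
      rw [this]
      exact J.add_mem (J.mul_mem_left _ hi) (J.mul_mem_right _ hP)
  · rw [Ideal.span_le]
    rintro _ ⟨i, rfl⟩
    exact Ideal.subset_span ⟨_, rfl⟩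


section AS

variable (p : ℕ) {k : Type u} [Field k] {n : ℕ} (c : Fin n → MvPowerSeries (Fin n) k)
  (hp : 2 ≤ p) (hc : ∀ i, MvPowerSeries.constantCoeff (c i) = 0)

local notation "R" => MvPowerSeries (Fin n) k

include hp hc

lemma algebraMap_mem_baseIdeal (r : R) (hr : MvPowerSeries.constantCoeff r = 0) :
    algebraMap R (A p c) r ∈ baseIdeal p c :=
  Ideal.mem_map_of_mem _ (Groth.Agent.S11740.mem_span_X_of_constantCoeff_eq_zero n r hr)

/-- `𝔪_R A ⊆ (u)^p`. -/
lemma baseIdeal_le_pow : baseIdeal p c ≤ genIdeal p c ^ p := by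
  let _ := isLocalRing p c hp hc
  have hm : genIdeal p c ≤ Ideal.jacobson ⊥ := by
    rw [← maximalIdeal_eq p c hp hc]
    exact IsLocalRing.maximalIdeal_le_jacobson _
  have hfg : (baseIdeal p c).FG := by
    unfold baseIdeal
    exact Ideal.FG.map ⟨(Set.finite_range (MvPowerSeries.X : Fin n → R)).toFinset, by simp⟩ _
  apply Submodule.le_of_le_smul_of_le_jacobson_bot hfg hm
  have hb : baseIdeal p c = Ideal.span (algebraMap R (A p c) '' Set.range MvPowerSeries.X) := by
    unfold baseIdeal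
    rw [Ideal.map_span]
  nth_rewrite 1 [hb]
  rw [Ideal.span_le]
  rintro _ ⟨_, ⟨i, rfl⟩, rfl⟩
  have h := gen_pow p c i
  have h2 : algebraMap R (A p c) (MvPowerSeries.X i) =
      gen p c i ^ p + (-gen p c i) * algebraMap R (A p c) (c i) := by
    rw [h]; ring
  rw [h2]
  have hg : gen p c i ∈ genIdeal p c := Ideal.subset_span ⟨i, rfl⟩
  refine Submodule.add_mem_sup (Ideal.pow_mem_pow hg p) ?_
  rw [smul_eq_mul]
  refine Ideal.mul_mem_mul ((genIdeal p c).neg_mem hg) ?_
  exact algebraMap_mem_baseIdeal p c hp hc _ (hc i)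

lemma residue_surjective [IsLocalRing (A p c)] :
    Function.Surjective ((IsLocalRing.residue (A p c)).comp (algebraMap R (A p c))) := by
  intro y
  obtain ⟨t, rfl⟩ := IsLocalRing.residue_surjective y
  refine ⟨MvPowerSeries.C (aug p c hp t), ?_⟩
  rw [RingHom.comp_apply]
  symm
  rw [← sub_eq_zero, ← map_sub, IsLocalRing.residue_eq_zero_iff]
  have := sub_const_mem p c hp t
  rw [← maximalIdeal_eq p c hp hc] at this
  convert this

/-- Colength of `I A` over `A`. -/
lemma length_quotient_map [IsLocalRing (A p c)] (I : Ideal R) :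
    Module.length (A p c) (A p c ⧸ I.map (algebraMap R (A p c))) =
      (p ^ n : ℕ∞) * Module.length R (R ⧸ I) := by
  rw [← LengthRestrict.length_eq (residue_surjective p c hp hc),
    length_quotient_map_of_free (MonicCI.basis _ (poly_monic p c hp)) I]
  congr 1
  rw [ENat.card_eq_coe_fintype_card]
  simp [poly_natDegree p c hp]


omit hc in
/-- The ideal generated by the `σ t - t` when `σ u_i = u_i + a_i`. -/
lemma fixedIdeal_eq (a : Fin n → R) (σ : A p c ≃ₐ[R] A p c)
    (hσ : ∀ i, σ (gen p c i) = gen p c i + algebraMap R (A p c) (a i)) :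
    Ideal.span (Set.range fun t : A p c => σ t - t) =
      (Ideal.span (Set.range a)).map (algebraMap R (A p c)) := by
  have h := span_sub_eq (poly p c) (σ : A p c →ₐ[R] A p c)
  have h2 : (fun i => (σ : A p c →ₐ[R] A p c) (MonicCI.gen (poly p c) i) - MonicCI.gen (poly p c) i) =
      (algebraMap R (A p c)) ∘ a := by
    funext i
    have := hσ i
    simp only [AlgEquiv.coe_toAlgHom, Function.comp_apply]
    rw [this]; ring
  rw [h2] at h
  rw [Ideal.map_span, ← Set.range_comp]
  exact h

lemma fixedIdeal_le (a : Fin n → R) (ha : ∀ i, MvPowerSeries.constantCoeff (a i) = 0) :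
    (Ideal.span (Set.range a)).map (algebraMap R (A p c)) ≤ genIdeal p c ^ p := by
  refine le_trans ?_ (baseIdeal_le_pow p c hp hc)
  rw [Ideal.map_span, Ideal.span_le]
  rintro _ ⟨_, ⟨i, rfl⟩, rfl⟩
  exact algebraMap_mem_baseIdeal p c hp hc _ (ha i)

end AS

end Groth.Agent.Lib.Helper52.AS
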