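import Mathlib
import Groth.Agent.Lib.Helper52.NilProj

/-!
# Relative projectivity of flat modules that are projective modulo `I`, and splitting of completions

Helper library (helper52).
* `lift_of_projective_quotient`: `R`-linear lifting property of a projective `R ⧸ J`-module against
  surjections of `R`-modules killed by `J`.
* `projective_of_flat_of_nilpotent_of_section`: variant of `NilProj.projective_of_flat_of_nilpotent`
  asking only for a section modulo `I`.
* `exists_lift_of_flat`: if `M` is flat and `M/IM` is projective over `R/I`, then `M` has the lifting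
  property against surjections of `R`-modules killed by `I ^ n`.
-/

set_option autoImplicit false
set_option linter.style.haveILetI false
universe u v
open scoped TensorProduct

namespace Groth.Agent.Lib.Helper52.AdicSplit

open Groth.Agent.Lib.Helper52

variable {R : Type*} [CommRing R]

/-- `R`-linear lifting property of a projective `R ⧸ J`-module against surjections of `R`-modules
killed by `J`. -/
lemma lift_of_projective_quotient (J : Ideal R)
    {N : Type*} [AddCommGroup N] [Module R N] [Module (R ⧸ J) N] [IsScalarTower R (R ⧸ J) N]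
    [Module.Projective (R ⧸ J) N]
    {A B : Type*} [AddCommGroup A] [Module R A] [AddCommGroup B] [Module R B]
    (hA : ∀ r ∈ J, ∀ a : A, r • a = 0)
    (θ : A →ₗ[R] B) (hθ : Function.Surjective θ) (φ : N →ₗ[R] B) :
    ∃ ψ : N →ₗ[R] A, θ ∘ₗ ψ = φ := by
  have hB : ∀ r ∈ J, ∀ b : B, r • b = 0 := by
    intro r hr b
    obtain ⟨a, rfl⟩ := hθ b
    rw [← map_smul, hA r hr a, map_zero]
  have hA' : Module.IsTorsionBySet R A J := fun a r => hA r.1 r.2 a
  have hB' : Module.IsTorsionBySet R B J := fun b r => hB r.1 r.2 b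
  letI : Module (R ⧸ J) A := Module.IsTorsionBySet.module hA'
  letI : Module (R ⧸ J) B := Module.IsTorsionBySet.module hB'
  haveI : IsScalarTower R (R ⧸ J) A := Module.IsTorsionBySet.isScalarTower hA'
  haveI : IsScalarTower R (R ⧸ J) B := Module.IsTorsionBySet.isScalarTower hB'
  have hs : Function.Surjective (algebraMap R (R ⧸ J)) := Ideal.Quotient.mk_surjective
  obtain ⟨ψ', h⟩ := Module.projective_lifting_property
    (θ.extendScalarsOfSurjective hs) (φ.extendScalarsOfSurjective hs) hθ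
  refine ⟨ψ'.restrictScalars R, ?_⟩
  ext x
  exact LinearMap.congr_fun h x

/-- Variant of `NilProj.projective_of_flat_of_nilpotent`: a flat module which admits a section of
the canonical free presentation modulo a nilpotent ideal is projective. -/
theorem projective_of_flat_of_nilpotent_of_section {M : Type*} [AddCommGroup M] [Module R M]
    {I : Ideal R} (hI : IsNilpotent I) [Module.Flat R M]
    (sbar : (R ⧸ I) ⊗[R] M →ₗ[R ⧸ I] (R ⧸ I) ⊗[R] (M →₀ R))
    (hs' : ∀ t, (Finsupp.linearCombination R (id : M → M)).baseChange (R ⧸ I) (sbar t) = t) :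
    Module.Projective R M := by
  let p : (M →₀ R) →ₗ[R] M := Finsupp.linearCombination R id
  have hebar : IsIdempotentElem
      ((sbar ∘ₗ p.baseChange (R ⧸ I) : Module.End (R ⧸ I) ((R ⧸ I) ⊗[R] (M →₀ R)))) := by
    apply LinearMap.ext
    intro t
    simp [Module.End.mul_apply, p, hs']
  obtain ⟨e, he, hee⟩ := NilProj.exists_idempotent_lift hI M _ hebar
  have hbij := NilProj.bijective_of_lift hI p sbar hs' e he (fun t => by rw [hee]; rfl)
  have hP : Module.Projective R (LinearMap.range e) := by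
    refine Module.Projective.of_split (LinearMap.range e).subtype e.rangeRestrict ?_
    apply LinearMap.ext
    rintro ⟨_, y, rfl⟩
    apply Subtype.ext
    have := LinearMap.congr_fun he.eq y
    simpa using this
  exact Module.Projective.of_equiv (LinearEquiv.ofBijective _ hbij)

section quot
variable {M : Type*} [AddCommGroup M] [Module R M]

lemma flat_quotient_smul_top [Module.Flat R M] (J : Ideal R) :
    Module.Flat (R ⧸ J) (M ⧸ (J • ⊤ : Submodule R M)) :=
  Module.Flat.of_linearEquiv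
    (((TensorProduct.quotTensorEquivQuotSMul M J).extendScalarsOfSurjective
      (S := R ⧸ J) Ideal.Quotient.mk_surjective).symm)

/-- If `M` is flat over `R` and `M/IM` is projective over `R/I`, then `M/I^nM` is projective over
`R/I^n` for `n ≥ 1`. -/
theorem projective_quotient_pow [Module.Flat R M] (I : Ideal R)
    [Module.Projective (R ⧸ I) (M ⧸ (I • ⊤ : Submodule R M))] (n : ℕ) (hn : 1 ≤ n) :
    Module.Projective (R ⧸ I ^ n) (M ⧸ (I ^ n • ⊤ : Submodule R M)) := by
  obtain ⟨J, hJ⟩ : ∃ J : Ideal R, J = I ^ n := ⟨_, rfl⟩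
  rw [← hJ]
  have hJI : J ≤ I := hJ ▸ Ideal.pow_le_self (by omega)
  obtain ⟨I', hI'def⟩ : ∃ I' : Ideal (R ⧸ J), I' = I.map (Ideal.Quotient.mk J) := ⟨_, rfl⟩
  have hI' : IsNilpotent I' := by
    refine ⟨n, ?_⟩
    rw [hI'def, ← Ideal.map_pow, ← hJ, Ideal.map_quotient_self]
    rfl
  haveI : Module.Flat (R ⧸ J) (M ⧸ (J • ⊤ : Submodule R M)) := flat_quotient_smul_top J
  -- the free presentation
  let p' : ((M ⧸ (J • ⊤ : Submodule R M)) →₀ (R ⧸ J)) →ₗ[R ⧸ J] (M ⧸ (J • ⊤ : Submodule R M)) :=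
    Finsupp.linearCombination (R ⧸ J) id
  have hp' : Function.Surjective p' := Finsupp.linearCombination_id_surjective _ _
  have hpbar : Function.Surjective (p'.baseChange ((R ⧸ J) ⧸ I')) :=
    LinearMap.lTensor_surjective _ hp'
  -- `I` kills everything over `(R ⧸ J) ⧸ I'`
  have hkill : ∀ r ∈ I, algebraMap R ((R ⧸ J) ⧸ I') r = 0 := by
    intro r hr
    rw [IsScalarTower.algebraMap_apply R (R ⧸ J) ((R ⧸ J) ⧸ I')]
    change Ideal.Quotient.mk I' (Ideal.Quotient.mk J r) = 0
    rw [Ideal.Quotient.eq_zero_iff_mem, hI'def]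
    exact Ideal.mem_map_of_mem _ hr
  have hA : ∀ r ∈ I, ∀ a : ((R ⧸ J) ⧸ I') ⊗[R ⧸ J]
      ((M ⧸ (J • ⊤ : Submodule R M)) →₀ (R ⧸ J)), r • a = 0 := by
    intro r hr a
    rw [← algebraMap_smul ((R ⧸ J) ⧸ I') r a, hkill r hr]
    exact zero_smul ((R ⧸ J) ⧸ I') a
  have hB : ∀ r ∈ I, ∀ a : ((R ⧸ J) ⧸ I') ⊗[R ⧸ J] (M ⧸ (J • ⊤ : Submodule R M)), r • a = 0 := by
    intro r hr a
    rw [← algebraMap_smul ((R ⧸ J) ⧸ I') r a, hkill r hr]
    exact zero_smul ((R ⧸ J) ⧸ I') a
  -- the map `M/IM → (R'/I') ⊗ M'`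
  let φ₀ : M →ₗ[R] ((R ⧸ J) ⧸ I') ⊗[R ⧸ J] (M ⧸ (J • ⊤ : Submodule R M)) :=
    ((TensorProduct.mk (R ⧸ J) ((R ⧸ J) ⧸ I') (M ⧸ (J • ⊤ : Submodule R M)) 1).restrictScalars R) ∘ₗ
      (J • ⊤ : Submodule R M).mkQ
  have hφ₀ : (I • ⊤ : Submodule R M) ≤ LinearMap.ker φ₀ := by
    rw [Submodule.smul_le]
    intro r hr m _
    rw [LinearMap.mem_ker, map_smul, hB r hr]
  let φ : (M ⧸ (I • ⊤ : Submodule R M)) →ₗ[R]
      ((R ⧸ J) ⧸ I') ⊗[R ⧸ J] (M ⧸ (J • ⊤ : Submodule R M)) :=
    (I • ⊤ : Submodule R M).liftQ φ₀ hφ₀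
  obtain ⟨ψ, hψ⟩ := lift_of_projective_quotient I hA
    ((p'.baseChange ((R ⧸ J) ⧸ I')).restrictScalars R) hpbar φ
  have hψ' : ∀ m : M, p'.baseChange ((R ⧸ J) ⧸ I') (ψ (Submodule.Quotient.mk m)) =
      (1 : (R ⧸ J) ⧸ I') ⊗ₜ[R ⧸ J] (Submodule.Quotient.mk m : M ⧸ (J • ⊤ : Submodule R M)) := by
    intro m
    have := LinearMap.congr_fun hψ (Submodule.Quotient.mk m)
    exact this
  have hle : (J • ⊤ : Submodule R M) ≤ I • ⊤ := Submodule.smul_mono_left hJI
  let t : (M ⧸ (J • ⊤ : Submodule R M)) →ₗ[R ⧸ J]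
      ((R ⧸ J) ⧸ I') ⊗[R ⧸ J] ((M ⧸ (J • ⊤ : Submodule R M)) →₀ (R ⧸ J)) :=
    (ψ ∘ₗ Submodule.factor hle).extendScalarsOfSurjective Ideal.Quotient.mk_surjective
  have ht : ∀ m : M, t (Submodule.Quotient.mk m) = ψ (Submodule.Quotient.mk m) := fun m => rfl
  let sbar := LinearMap.liftBaseChange ((R ⧸ J) ⧸ I') t
  refine projective_of_flat_of_nilpotent_of_section hI' sbar ?_
  intro z
  have : (p'.baseChange ((R ⧸ J) ⧸ I')) ∘ₗ sbar = LinearMap.id := by
    apply NilProj.ext_one_tmul
    intro x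
    obtain ⟨m, rfl⟩ := Submodule.Quotient.mk_surjective _ x
    simp only [LinearMap.comp_apply, sbar, LinearMap.liftBaseChange_tmul, one_smul, ht, hψ',
      LinearMap.id_apply]
  exact LinearMap.congr_fun this z

/-- If `M` is flat over `R` and `M/IM` is projective over `R/I`, then `M` has the lifting property
against surjections of `R`-modules killed by `I ^ n`. -/
theorem exists_lift_of_flat [Module.Flat R M] (I : Ideal R)
    [Module.Projective (R ⧸ I) (M ⧸ (I • ⊤ : Submodule R M))] (n : ℕ)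
    {A B : Type*} [AddCommGroup A] [Module R A] [AddCommGroup B] [Module R B]
    (hA : ∀ r ∈ I ^ n, ∀ a : A, r • a = 0)
    (θ : A →ₗ[R] B) (hθ : Function.Surjective θ) (φ : M →ₗ[R] B) :
    ∃ ψ : M →ₗ[R] A, θ ∘ₗ ψ = φ := by
  have hB : ∀ r ∈ I ^ n, ∀ b : B, r • b = 0 := by
    intro r hr b
    obtain ⟨a, rfl⟩ := hθ b
    rw [← map_smul, hA r hr a, map_zero]
  rcases Nat.eq_zero_or_pos n with rfl | hn
  · refine ⟨0, ?_⟩
    ext m
    have := hB 1 (by simp) (φ m)
    simpa using this.symm
  · haveI := projective_quotient_pow (M := M) I n hn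
    have hφ : (I ^ n • ⊤ : Submodule R M) ≤ LinearMap.ker φ := by
      rw [Submodule.smul_le]
      intro r hr m _
      rw [LinearMap.mem_ker, map_smul, hB r hr]
    obtain ⟨ψ, hψ⟩ := lift_of_projective_quotient (I ^ n) hA θ hθ
      ((I ^ n • ⊤ : Submodule R M).liftQ φ hφ)
    refine ⟨ψ ∘ₗ (I ^ n • ⊤ : Submodule R M).mkQ, ?_⟩
    rw [← LinearMap.comp_assoc, hψ]
    ext m
    simp

end quot

section completion
variable {K P M : Type*} [AddCommGroup K] [Module R K] [AddCommGroup P] [Module R P]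
  [AddCommGroup M] [Module R M]
variable (f : K →ₗ[R] P) (g : P →ₗ[R] M)

/-- Flat cokernel: the reduction of an injective map modulo any ideal stays injective. -/
lemma reduceModIdeal_injective [Module.Flat R M] (hf : Function.Injective f)
    (hg : Function.Surjective g) (hfg : Function.Exact f g) (J : Ideal R) :
    Function.Injective (f.reduceModIdeal J) := by
  rw [injective_iff_map_eq_zero]
  intro x hx
  obtain ⟨k, rfl⟩ := Submodule.Quotient.mk_surjective _ x
  rw [LinearMap.reduceModIdeal_apply, Submodule.Quotient.mk_eq_zero] at hx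
  rw [Submodule.Quotient.mk_eq_zero]
  have h1 : f k ∈ LinearMap.ker g ⊓ J • ⊤ := ⟨hfg.apply_apply_eq_zero k, hx⟩
  have h2 := NilProj.ker_inf_smul_top_le g hg J h1
  have h3 : J • LinearMap.ker g = Submodule.map f (J • ⊤) := by
    rw [Submodule.map_smul'', Submodule.map_top, hfg.linearMap_ker_eq]
  rw [h3] at h2
  obtain ⟨k', hk', hkk⟩ := h2
  rwa [← hf hkk]

/-- Right exactness modulo an ideal. -/
lemma exists_of_reduceModIdeal_eq_zero (hg : Function.Surjective g) (hfg : Function.Exact f g)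
    (J : Ideal R) (y : P ⧸ (J • ⊤ : Submodule R P)) (hy : g.reduceModIdeal J y = 0) :
    ∃ x, f.reduceModIdeal J x = y := by
  obtain ⟨p, rfl⟩ := Submodule.Quotient.mk_surjective _ y
  rw [LinearMap.reduceModIdeal_apply, Submodule.Quotient.mk_eq_zero] at hy
  have h3 : (J • ⊤ : Submodule R M) = Submodule.map g (J • ⊤) := by
    rw [Submodule.map_smul'', Submodule.map_top, LinearMap.range_eq_top.mpr hg]
  rw [h3] at hy
  obtain ⟨p', hp', hpp⟩ := hy
  have h4 : g (p - p') = 0 := by rw [map_sub, hpp, sub_self]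
  obtain ⟨k, hk⟩ := (hfg (p - p')).mp h4
  refine ⟨Submodule.Quotient.mk k, ?_⟩
  rw [LinearMap.reduceModIdeal_apply, hk, Submodule.Quotient.mk_sub, sub_eq_self,
    Submodule.Quotient.mk_eq_zero]
  exact hp'

variable (I : Ideal R)

theorem map_injective_of_flat [Module.Flat R M] (hf : Function.Injective f)
    (hg : Function.Surjective g) (hfg : Function.Exact f g) :
    Function.Injective (AdicCompletion.map I f) := by
  rw [injective_iff_map_eq_zero]
  intro x hx
  ext n
  have h1 : (AdicCompletion.map I f x).val n = 0 := by rw [hx]; rfl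
  rw [AdicCompletion.map_val_apply] at h1
  exact reduceModIdeal_injective f g hf hg hfg (I ^ n) (h1.trans (map_zero _).symm)

theorem map_exact_of_flat [Module.Flat R M] (hf : Function.Injective f)
    (hg : Function.Surjective g) (hfg : Function.Exact f g) :
    Function.Exact (AdicCompletion.map I f) (AdicCompletion.map I g) := by
  intro y
  constructor
  · intro hy
    have h1 : ∀ n, g.reduceModIdeal (I ^ n) (y.val n) = 0 := by
      intro n
      have : (AdicCompletion.map I g y).val n = 0 := by rw [hy]; rfl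
      rwa [AdicCompletion.map_val_apply] at this
    choose k hk using fun n => exists_of_reduceModIdeal_eq_zero f g hg hfg (I ^ n) (y.val n) (h1 n)
    have hcompat : ∀ {m n} (hmn : m ≤ n), AdicCompletion.transitionMap I K hmn (k n) = k m := by
      intro m n hmn
      apply reduceModIdeal_injective f g hf hg hfg (I ^ m)
      have h2 := LinearMap.congr_fun (AdicCompletion.transitionMap_comp_reduceModIdeal I f hmn) (k n)
      simp only [LinearMap.comp_apply] at h2
      have h3 : (f.reduceModIdeal (I ^ m)) (AdicCompletion.transitionMap I K hmn (k n)) =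
          AdicCompletion.transitionMap I P hmn ((f.reduceModIdeal (I ^ n)) (k n)) := h2.symm
      rw [h3, hk, hk]
      exact y.property hmn
    refine ⟨(⟨k, hcompat⟩ : AdicCompletion I K), ?_⟩
    ext n
    exact hk n
  · rintro ⟨x, rfl⟩
    rw [AdicCompletion.map_comp_apply, hfg.linearMap_comp_eq_zero, AdicCompletion.map_zero]
    rfl

lemma pow_smul_quotient_eq_zero (n : ℕ) (r : R) (hr : r ∈ I ^ n)
    (a : P ⧸ (I ^ n • ⊤ : Submodule R P)) : r • a = 0 := by
  obtain ⟨p, rfl⟩ := Submodule.Quotient.mk_surjective _ a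
  rw [← Submodule.Quotient.mk_smul, Submodule.Quotient.mk_eq_zero]
  exact Submodule.smul_mem_smul hr Submodule.mem_top

/-- One step of the construction of compatible sections. -/
lemma exists_next [Module.Flat R M]
    [Module.Projective (R ⧸ I) (M ⧸ (I • ⊤ : Submodule R M))]
    (hg : Function.Surjective g) (n : ℕ)
    (σ : M →ₗ[R] P ⧸ (I ^ n • ⊤ : Submodule R P))
    (hσ : ∀ m, g.reduceModIdeal (I ^ n) (σ m) = Submodule.Quotient.mk m) :
    ∃ σ' : M →ₗ[R] P ⧸ (I ^ (n + 1) • ⊤ : Submodule R P),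
      (∀ m, g.reduceModIdeal (I ^ (n + 1)) (σ' m) = Submodule.Quotient.mk m) ∧
      ∀ m, AdicCompletion.transitionMap I P (Nat.le_succ n) (σ' m) = σ m := by
  let gn : (P ⧸ (I ^ n • ⊤ : Submodule R P)) →ₗ[R] (M ⧸ (I ^ n • ⊤ : Submodule R M)) :=
    (g.reduceModIdeal (I ^ n)).restrictScalars R
  let gn1 : (P ⧸ (I ^ (n + 1) • ⊤ : Submodule R P)) →ₗ[R] (M ⧸ (I ^ (n + 1) • ⊤ : Submodule R M)) :=
    (g.reduceModIdeal (I ^ (n + 1))).restrictScalars R
  let τM := AdicCompletion.transitionMap I M (Nat.le_succ n)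
  let τP := AdicCompletion.transitionMap I P (Nat.le_succ n)
  let B : Submodule R ((M ⧸ (I ^ (n + 1) • ⊤ : Submodule R M)) × (P ⧸ (I ^ n • ⊤ : Submodule R P))) :=
    LinearMap.eqLocus (τM ∘ₗ LinearMap.fst R _ _) (gn ∘ₗ LinearMap.snd R _ _)
  have hcomm : ∀ x, τM (gn1 x) = gn (τP x) := by
    intro x
    obtain ⟨p, rfl⟩ := Submodule.Quotient.mk_surjective _ x
    rfl
  let θ : (P ⧸ (I ^ (n + 1) • ⊤ : Submodule R P)) →ₗ[R] B :=
    LinearMap.codRestrict B (LinearMap.prod gn1 τP) (fun x => hcomm x)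
  let φ : M →ₗ[R] B :=
    LinearMap.codRestrict B (LinearMap.prod (I ^ (n + 1) • ⊤ : Submodule R M).mkQ σ)
      (fun m => (hσ m).symm)
  have hθ : Function.Surjective θ := by
    rintro ⟨⟨a, b⟩, hab⟩
    obtain ⟨m₀, rfl⟩ := Submodule.Quotient.mk_surjective _ a
    obtain ⟨p₀, rfl⟩ := Submodule.Quotient.mk_surjective _ b
    have h1 : (Submodule.Quotient.mk m₀ : M ⧸ (I ^ n • ⊤ : Submodule R M)) =
        Submodule.Quotient.mk (g p₀) := hab
    rw [Submodule.Quotient.eq] at h1
    have h3 : (I ^ n • ⊤ : Submodule R M) = Submodule.map g (I ^ n • ⊤) := by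
      rw [Submodule.map_smul'', Submodule.map_top, LinearMap.range_eq_top.mpr hg]
    rw [h3] at h1
    obtain ⟨y, hy, hgy⟩ := h1
    refine ⟨Submodule.Quotient.mk (p₀ + y), ?_⟩
    apply Subtype.ext
    apply Prod.ext
    · change (Submodule.Quotient.mk (g (p₀ + y)) : M ⧸ (I ^ (n + 1) • ⊤ : Submodule R M)) =
        Submodule.Quotient.mk m₀
      rw [map_add, hgy]
      congr 1
      abel
    · change (Submodule.Quotient.mk (p₀ + y) : P ⧸ (I ^ n • ⊤ : Submodule R P)) =
        Submodule.Quotient.mk p₀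
      rw [Submodule.Quotient.mk_add, add_eq_left, Submodule.Quotient.mk_eq_zero]
      exact hy
  obtain ⟨ψ, hψ⟩ := exists_lift_of_flat I (n + 1) (pow_smul_quotient_eq_zero I (n + 1)) θ hθ φ
  refine ⟨ψ, fun m => ?_, fun m => ?_⟩
  · have := congrArg (fun z => z.1.1) (LinearMap.congr_fun hψ m)
    exact this
  · have := congrArg (fun z => z.1.2) (LinearMap.congr_fun hψ m)
    exact this

/-- Compatible family of sections modulo `I ^ n`. -/
lemma exists_compatible_sections [Module.Flat R M]
    [Module.Projective (R ⧸ I) (M ⧸ (I • ⊤ : Submodule R M))]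
    (hg : Function.Surjective g) :
    ∃ σ : ∀ n, M →ₗ[R] P ⧸ (I ^ n • ⊤ : Submodule R P),
      (∀ n m, g.reduceModIdeal (I ^ n) (σ n m) = Submodule.Quotient.mk m) ∧
      ∀ {m n} (hmn : m ≤ n) (x : M), AdicCompletion.transitionMap I P hmn (σ n x) = σ m x := by
  have step := exists_next g I hg
  choose! nxt h1 h2 using step
  let σ : ∀ n, M →ₗ[R] P ⧸ (I ^ n • ⊤ : Submodule R P) := fun n =>
    Nat.rec (motive := fun n => M →ₗ[R] P ⧸ (I ^ n • ⊤ : Submodule R P)) 0 (fun n s => nxt n s) n
  have hσsucc : ∀ n, σ (n + 1) = nxt n (σ n) := fun n => rfl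
  have hσ : ∀ n m, g.reduceModIdeal (I ^ n) (σ n m) = Submodule.Quotient.mk m := by
    intro n
    induction n with
    | zero =>
      intro m
      have : (Submodule.Quotient.mk m : M ⧸ (I ^ 0 • ⊤ : Submodule R M)) = 0 := by
        rw [Submodule.Quotient.mk_eq_zero]
        simp
      rw [this]
      change g.reduceModIdeal (I ^ 0) ((0 : M →ₗ[R] P ⧸ (I ^ 0 • ⊤ : Submodule R P)) m) = 0
      rw [LinearMap.zero_apply, map_zero]
    | succ n ih =>
      rw [hσsucc]
      exact h1 n (σ n) ih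
  refine ⟨σ, hσ, ?_⟩
  intro m n hmn x
  induction n, hmn using Nat.le_induction with
  | base =>
    obtain ⟨p, hp⟩ := Submodule.Quotient.mk_surjective _ (σ m x)
    rw [← hp]
    rfl
  | succ n hmn ih =>
    rw [← ih, hσsucc, ← h2 n (σ n) (hσ n) x]
    obtain ⟨p, hp⟩ := Submodule.Quotient.mk_surjective _ (nxt n (σ n) x)
    rw [← hp]
    rfl

/-- **Splitting of the completed sequence.**  If `0 → K → P → M → 0` is exact with `M` flat and
`M/IM` projective over `R/I`, the map on completions `P^ → M^` has a section linear over the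
completion of `R`. -/
theorem exists_section_map [Module.Flat R M]
    [Module.Projective (R ⧸ I) (M ⧸ (I • ⊤ : Submodule R M))]
    (hg : Function.Surjective g) :
    ∃ s : AdicCompletion I M →ₗ[AdicCompletion I R] AdicCompletion I P,
      AdicCompletion.map I g ∘ₗ s = LinearMap.id := by
  obtain ⟨σ, hσ, hcompat⟩ := exists_compatible_sections g I hg
  have hker : ∀ n, (I ^ n • ⊤ : Submodule R M) ≤ LinearMap.ker (σ n) := by
    intro n
    rw [Submodule.smul_le]
    intro r hr m _
    rw [LinearMap.mem_ker, map_smul, pow_smul_quotient_eq_zero I n r hr]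
  let sn : ∀ n, (M ⧸ (I ^ n • ⊤ : Submodule R M)) →ₗ[R] P ⧸ (I ^ n • ⊤ : Submodule R P) :=
    fun n => (I ^ n • ⊤ : Submodule R M).liftQ (σ n) (hker n)
  have hsn : ∀ n (y : M), sn n (Submodule.Quotient.mk y) = σ n y := fun n y => rfl
  let S0 : AdicCompletion I M →ₗ[R] AdicCompletion I P :=
    AdicCompletion.lift I (fun n => sn n ∘ₗ AdicCompletion.eval I M n) (by
      intro m n hmn
      apply LinearMap.ext
      intro x
      simp only [LinearMap.comp_apply, AdicCompletion.eval_apply]
      rw [← x.property hmn]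
      obtain ⟨y, hy⟩ := Submodule.Quotient.mk_surjective _ (x.val n)
      rw [← hy, hsn, hcompat hmn y]
      rfl)
  have hS0 : ∀ x n, (S0 x).val n = sn n (x.val n) := fun x n => rfl
  let s : AdicCompletion I M →ₗ[AdicCompletion I R] AdicCompletion I P :=
    { toFun := S0
      map_add' := S0.map_add
      map_smul' := by
        intro r x
        apply AdicCompletion.ext
        intro n
        simp only [RingHom.id_apply]
        rw [hS0, AdicCompletion.smul_eval, AdicCompletion.smul_eval, hS0]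
        obtain ⟨c, hc⟩ := Ideal.Quotient.mk_surjective (r.val n)
        rw [← hc]
        have key1 : ∀ z : M ⧸ (I ^ n • ⊤ : Submodule R M),
            (Ideal.Quotient.mk (I ^ n • ⊤ : Ideal R) c) • z = c • z := fun z => rfl
        have key2 : ∀ z : P ⧸ (I ^ n • ⊤ : Submodule R P),
            (Ideal.Quotient.mk (I ^ n • ⊤ : Ideal R) c) • z = c • z := fun z => rfl
        rw [key1, key2, map_smul] }
  refine ⟨s, ?_⟩
  apply LinearMap.ext
  intro x
  apply AdicCompletion.ext
  intro n
  change g.reduceModIdeal (I ^ n) (sn n (x.val n)) = x.val n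
  obtain ⟨y, hy⟩ := Submodule.Quotient.mk_surjective _ (x.val n)
  rw [← hy, hsn, hσ]

end completion

end Groth.Agent.Lib.Helper52.AdicSplit
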