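import Groth.Agent.Lib.Helper52.KapProj
import Mathlib.LinearAlgebra.Transvection.Basic
import Mathlib.LinearAlgebra.Matrix.NonsingularInverse
import Mathlib.LinearAlgebra.Matrix.ToLin
import Mathlib.RingTheory.LocalRing.ResidueField.Basic
import Mathlib.LinearAlgebra.DirectSum.Basis

/-!
# Kaplansky: projective modules over local rings are free
-/

set_option autoImplicit false

namespace Groth.Agent.Lib.Helper52.Kap

open CAlg Submodule

universe u v w

section LemmaA

variable {R : Type u} [CommRing R] [IsLocalRing R]

/-- Over a local ring, every element fixed by an idempotent endomorphism `π` of a free module lies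
in the image of a split injection from a finite free module whose image is fixed by `π`. -/
theorem exists_split_of_idempotent {F : Type v} [AddCommGroup F] [Module R F] {I : Type w}
    (b₀ : Module.Basis I R F) (π : F →ₗ[R] F) (hπ : ∀ v, π (π v) = π v) (x : F) (hx : π x = x) :
    ∃ (J : Finset I) (α : (J → R) →ₗ[R] F) (ρ : F →ₗ[R] (J → R)),
      (∀ v, ρ (α v) = v) ∧ (∀ v, π (α v) = α v) ∧ x ∈ LinearMap.range α := by
  classical
  -- choose a basis minimizing the support of `x`
  have hex : ∃ n, ∃ b : Module.Basis I R F, (b.repr x).support.card = n := ⟨_, b₀, rfl⟩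
  obtain ⟨b, hb⟩ := Nat.find_spec hex
  have hmin : ∀ b' : Module.Basis I R F,
      (b.repr x).support.card ≤ (b'.repr x).support.card := by
    intro b'
    rw [hb]
    exact Nat.find_min' hex ⟨b', rfl⟩
  set a := b.repr x with ha
  set J := a.support with hJ
  have hxsum : x = ∑ i ∈ J, a i • b i := by
    conv_lhs => rw [← b.linearCombination_repr x]
    rw [Finsupp.linearCombination_apply]
    rfl
  -- Claim 1: no coefficient is in the ideal generated by the others
  have claim1 : ∀ j ∈ J, ∀ r : I → R, a j ≠ ∑ i ∈ J.erase j, r i * a i := by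
    intro j hj r heq
    let lam : F →ₗ[R] R := ∑ i ∈ J.erase j, r i • b.coord i
    have hlam : ∀ v, lam v = ∑ i ∈ J.erase j, r i * b.repr v i := by
      intro v
      simp only [lam, LinearMap.coe_sum, Finset.sum_apply, LinearMap.smul_apply,
        Module.Basis.coord_apply, smul_eq_mul]
    have hlamj : lam (b j) = 0 := by
      rw [hlam]
      refine Finset.sum_eq_zero fun i hi => ?_
      rw [b.repr_self, Finsupp.single_apply, if_neg (Finset.ne_of_mem_erase hi).symm, mul_zero]
    let φ := LinearEquiv.transvection hlamj
    let x₀ := x - a j • b j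
    have hrepr₀ : ∀ i, b.repr x₀ i = if i = j then 0 else a i := by
      intro i
      simp only [x₀, map_sub, map_smul, b.repr_self, Finsupp.sub_apply, Finsupp.smul_apply,
        Finsupp.single_apply, smul_eq_mul]
      by_cases hij : i = j
      · subst hij
        simp [ha]
      · rw [if_neg (fun h => hij h.symm), if_neg hij, mul_zero, sub_zero]
    have hφ : φ x₀ = x := by
      rw [LinearEquiv.transvection.apply, hlam]
      have : ∑ i ∈ J.erase j, r i * b.repr x₀ i = a j := by
        rw [heq]
        refine Finset.sum_congr rfl fun i hi => ?_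
        rw [hrepr₀, if_neg (Finset.ne_of_mem_erase hi)]
      rw [this]
      simp [x₀]
    have hsupp : ((b.map φ).repr x).support ⊆ J.erase j := by
      intro i hi
      rw [Finsupp.mem_support_iff, Module.Basis.map_repr, LinearEquiv.trans_apply, ← hφ,
        LinearEquiv.symm_apply_apply, hrepr₀] at hi
      rw [Finset.mem_erase]
      by_cases hij : i = j
      · rw [if_pos hij] at hi
        exact absurd rfl hi
      · rw [if_neg hij] at hi
        exact ⟨hij, Finsupp.mem_support_iff.2 hi⟩
    have h1 := hmin (b.map φ)
    have h2 := Finset.card_le_card hsupp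
    have h3 := Finset.card_erase_lt_of_mem hj
    omega
  -- Claim 2: the matrix of `π` restricted to the support
  let c : I → I → R := fun i j => b.repr (π (b i)) j
  have hcoef : ∀ j, a j = ∑ i ∈ J, a i * c i j := by
    intro j
    have hx' : x = ∑ i ∈ J, a i • π (b i) := by
      conv_lhs => rw [← hx, hxsum, map_sum]
      simp only [map_smul]
    calc a j = b.repr x j := rfl
      _ = b.repr (∑ i ∈ J, a i • π (b i)) j := by rw [← hx']
      _ = _ := by
        simp only [map_sum, map_smul, Finsupp.coe_finsetSum, Finset.sum_apply,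
          Finsupp.smul_apply, smul_eq_mul, c]
  have hdiag : ∀ j ∈ J, IsUnit (c j j) := by
    intro j hj
    by_contra hnu
    obtain ⟨u, hu⟩ := IsLocalRing.isUnit_one_sub_self_of_mem_nonunits _ hnu
    apply claim1 j hj (fun i => ↑u⁻¹ * c i j)
    have h1 := hcoef j
    rw [← Finset.add_sum_erase J _ hj] at h1
    have h2 : a j * (u : R) = ∑ i ∈ J.erase j, a i * c i j := by
      rw [hu]
      linear_combination h1
    calc a j = ↑u⁻¹ * (a j * (u : R)) := by
          rw [mul_comm (a j), Units.inv_mul_cancel_left]
      _ = _ := by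
          rw [h2, Finset.mul_sum]
          exact Finset.sum_congr rfl fun i _ => by ring
  have hoff : ∀ i ∈ J, ∀ j ∈ J, i ≠ j → ¬ IsUnit (c i j) := by
    intro i hi j hj hij hu
    obtain ⟨u, hu⟩ := hu
    apply claim1 i hi (fun k => ↑u⁻¹ * (if k = j then 1 - c j j else - c k j))
    have h1 := hcoef j
    rw [← Finset.add_sum_erase J _ hi] at h1
    have hjmem : j ∈ J.erase i := Finset.mem_erase.2 ⟨hij.symm, hj⟩
    have h2 : a i * (u : R) =
        ∑ k ∈ J.erase i, (if k = j then 1 - c j j else - c k j) * a k := by
      have h3 : a j = ∑ k ∈ J.erase i, (if k = j then 1 else 0) * a k := by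
        simp only [ite_mul, one_mul, zero_mul]
        rw [Finset.sum_ite_eq' (J.erase i) j (fun k => a k), if_pos hjmem]
      have h4 : ∑ k ∈ J.erase i, (if k = j then 1 - c j j else - c k j) * a k =
          ∑ k ∈ J.erase i, (if k = j then 1 else 0) * a k
            - ∑ k ∈ J.erase i, a k * c k j := by
        rw [← Finset.sum_sub_distrib]
        refine Finset.sum_congr rfl fun k _ => ?_
        by_cases hkj : k = j
        · subst hkj
          simp only [if_true]
          ring
        · simp only [if_neg hkj]
          ring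
      rw [h4, ← h3, hu]
      linear_combination -h1
    calc a i = ↑u⁻¹ * (a i * (u : R)) := by
          rw [mul_comm (a i), Units.inv_mul_cancel_left]
      _ = _ := by
          rw [h2, Finset.mul_sum]
          exact Finset.sum_congr rfl fun k _ => by ring
  -- Claim 3: the matrix is invertible
  let C : Matrix J J R := Matrix.of fun i j => c i j
  have hdet : IsUnit C.det := by
    rw [← IsLocalRing.residue_ne_zero_iff_isUnit, RingHom.map_det]
    have hC : (IsLocalRing.residue R).mapMatrix C =
        Matrix.diagonal fun j : J => IsLocalRing.residue R (c j j) := by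
      ext i j
      by_cases hij : i = j
      · subst hij
        simp [C]
      · rw [Matrix.diagonal_apply_ne _ hij]
        have : ¬ IsUnit (c i j) := hoff i i.2 j j.2 (fun h => hij (Subtype.ext h))
        simpa [C, IsLocalRing.residue_eq_zero_iff] using this
    rw [hC, Matrix.det_diagonal, Finset.prod_ne_zero_iff]
    intro j _
    exact (IsLocalRing.residue_ne_zero_iff_isUnit _).2 (hdiag j j.2)
  let α : (J → R) →ₗ[R] F := Fintype.linearCombination R (fun i : J => π (b i))
  have hα : ∀ v, α v = ∑ i : J, v i • π (b i) := fun v => Fintype.linearCombination_apply R _ v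
  let β : F →ₗ[R] (J → R) := LinearMap.pi fun j : J => b.coord j
  have hβα : ∀ v, β (α v) = Matrix.vecMul v C := by
    intro v
    funext j
    simp only [β, LinearMap.pi_apply, Module.Basis.coord_apply, hα, map_sum, map_smul,
      smul_eq_mul]
    rfl
  refine ⟨J, α, (Matrix.vecMulLinear C⁻¹) ∘ₗ β, ?_, ?_, ?_⟩
  · intro v
    rw [LinearMap.comp_apply, hβα, Matrix.vecMulLinear_apply, Matrix.vecMul_vecMul,
      Matrix.mul_nonsing_inv C hdet, Matrix.vecMul_one]
  · intro v
    rw [hα, map_sum]
    simp only [map_smul, hπ]
  · refine ⟨fun i : J => a i, ?_⟩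
    rw [hα, Finset.sum_coe_sort J (fun i => a i • π (b i))]
    conv_rhs => rw [← hx, hxsum, map_sum]
    simp only [map_smul]

end LemmaA

section Step

variable {R : Type u} [CommRing R] [IsLocalRing R] {F : Type v} [AddCommGroup F] [Module R F]

/-- State of the recursive construction: a linearly independent set `B` fixed by `π`, together with
an idempotent `σ` projecting onto its span. -/
structure KState (π : F →ₗ[R] F) where
  B : Set F
  σ : F →ₗ[R] F
  li : LinearIndepOn R id B
  mem : ∀ v, σ v ∈ span R B
  fix : ∀ w ∈ span R B, σ w = w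
  hπ : ∀ w ∈ B, π w = w

/-- The empty state. -/
def KState.empty (π : F →ₗ[R] F) : KState π where
  B := ∅
  σ := 0
  li := linearIndepOn_empty R id
  mem v := by simp
  fix w hw := by
    rw [span_empty, mem_bot] at hw
    simp [hw]
  hπ w hw := absurd hw (Set.notMem_empty w)

theorem KState.exists_next {I : Type w} (b₀ : Module.Basis I R F) {π : F →ₗ[R] F}
    (hππ : ∀ v, π (π v) = π v) (S : KState π) (x : F) (hx : π x = x) :
    ∃ S' : KState π, S.B ⊆ S'.B ∧ x ∈ span R S'.B := by
  classical
  obtain ⟨B, σ, li, mem, fix, hπB⟩ := S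
  have hπspan : ∀ w ∈ span R B, π w = w := by
    intro w hw
    induction hw using span_induction with
    | mem w hw => exact hπB w hw
    | zero => simp
    | add a b _ _ ha hb => rw [map_add, ha, hb]
    | smul r a _ ha => rw [map_smul, ha]
  have hπσ : ∀ v, π (σ v) = σ v := fun v => hπspan _ (mem v)
  have hσσ : ∀ v, σ (σ v) = σ v := fun v => fix _ (mem v)
  set π' : F →ₗ[R] F := π - σ ∘ₗ π with hπ'def
  have hπ'v : ∀ v, π' v = π v - σ (π v) := fun v => rfl
  have hπ'π' : ∀ v, π' (π' v) = π' v := by
    intro v
    simp only [hπ'v, map_sub, hππ, hπσ, hσσ]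
    abel
  have hσπ' : ∀ v, σ (π' v) = 0 := by
    intro v
    rw [hπ'v, map_sub, hσσ, sub_self]
  have hππ' : ∀ v, π (π' v) = π' v := by
    intro v
    rw [hπ'v, map_sub, hππ, hπσ]
  set x' := x - σ x with hx'def
  have hx' : π' x' = x' := by
    rw [hπ'v, hx'def, map_sub, hx, hπσ, map_sub, hσσ, sub_self, sub_zero]
  obtain ⟨J, α, ρ, hρα, hπ'α, hx'α⟩ := exists_split_of_idempotent b₀ π' hπ'π' x' hx'
  have hσα : ∀ u, σ (α u) = 0 := fun u => by rw [← hπ'α, hσπ']
  have hπα : ∀ u, π (α u) = α u := fun u => by rw [← hπ'α, hππ', hπ'α]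
  have hπ'span : ∀ w ∈ span R B, π' w = 0 := by
    intro w hw
    rw [hπ'v, hπspan w hw, fix w hw, sub_self]
  let vv : J → F := fun i => α (Pi.basisFun R J i)
  have hvspan : span R (Set.range vv) = LinearMap.range α := by
    have : Set.range vv = α '' Set.range (Pi.basisFun R J) := by
      rw [← Set.range_comp]
      rfl
    rw [this, ← Submodule.map_span, (Pi.basisFun R J).span_eq, Submodule.map_top]
  have hkerα : LinearMap.ker α = ⊥ :=
    LinearMap.ker_eq_bot_of_inverse (g := ρ) (LinearMap.ext fun v => hρα v)
  have hvli : LinearIndependent R vv := (Pi.basisFun R J).linearIndependent.map' α hkerα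
  have hdisj : Disjoint (span R B) (span R (Set.range vv)) := by
    rw [Submodule.disjoint_def, hvspan]
    rintro w hw ⟨u, rfl⟩
    rw [← fix _ hw, hσα]
  let τ : F →ₗ[R] F := α ∘ₗ ρ ∘ₗ π'
  have hτv : ∀ v, τ v = α (ρ (π' v)) := fun v => rfl
  have hspan' : span R (B ∪ Set.range vv) = span R B ⊔ LinearMap.range α := by
    rw [span_union, hvspan]
  refine ⟨⟨B ∪ Set.range vv, σ + τ, li.id_union hvli.linearIndepOn_id hdisj, ?_, ?_, ?_⟩,
    Set.subset_union_left, ?_⟩
  · intro v
    rw [hspan', LinearMap.add_apply]
    exact add_mem (mem_sup_left (mem v)) (mem_sup_right ⟨_, rfl⟩)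
  · intro w hw
    rw [hspan'] at hw
    obtain ⟨w₁, hw₁, w₂, ⟨u, rfl⟩, rfl⟩ := Submodule.mem_sup.1 hw
    rw [LinearMap.add_apply, map_add, map_add, fix w₁ hw₁, hσα, hτv, hτv, hπ'span w₁ hw₁,
      map_zero, map_zero, hπ'α, hρα]
    abel
  · rintro w (hw | ⟨i, rfl⟩)
    · exact hπB w hw
    · exact hπα _
  · show x ∈ span R (B ∪ Set.range vv)
    rw [hspan']
    have : x = σ x + x' := by rw [hx'def]; abel
    rw [this]
    exact add_mem (mem_sup_left (mem x)) (mem_sup_right hx'α)

/-- Kaplansky's theorem, countably generated case, in terms of an idempotent of a free module. -/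
theorem exists_basis_range_of_idempotent {I : Type w} (b₀ : Module.Basis I R F) {π : F →ₗ[R] F}
    (hππ : ∀ v, π (π v) = π v) (x : ℕ → F) (hx : ∀ n, π (x n) = x n)
    (hgen : LinearMap.range π ≤ span R (Set.range x)) :
    ∃ B : Set F, LinearIndepOn R id B ∧ span R B = LinearMap.range π := by
  classical
  choose next hnext using fun (S : KState π) (n : ℕ) => S.exists_next b₀ hππ (x n) (hx n)
  let seq : ℕ → KState π := fun n => Nat.rec (KState.empty π) (fun n S => next S n) n
  have hseq : ∀ n, seq (n + 1) = next (seq n) n := fun n => rfl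
  have hmono : Monotone fun n => (seq n).B := by
    apply monotone_nat_of_le_succ
    intro n
    rw [hseq]
    exact (hnext (seq n) n).1
  refine ⟨⋃ n, (seq n).B, linearIndepOn_iUnion_of_directed hmono.directed_le
    (fun n => (seq n).li), le_antisymm ?_ ?_⟩
  · rw [span_le]
    intro w hw
    obtain ⟨n, hn⟩ := Set.mem_iUnion.1 hw
    exact ⟨w, (seq n).hπ w hn⟩
  · refine hgen.trans (span_le.2 ?_)
    rintro _ ⟨n, rfl⟩
    have h1 : x n ∈ span R (seq (n + 1)).B := by
      rw [hseq]
      exact (hnext (seq n) n).2
    exact span_mono (Set.subset_iUnion (fun n => (seq n).B) (n + 1)) h1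

end Step

section Final

variable {R : Type u} [CommRing R] [IsLocalRing R]

/-- A countably generated projective module over a local ring is free. -/
theorem free_of_projective_of_countablyGenerated (P : Type u) [AddCommGroup P] [Module R P]
    [Module.Projective R P] (hc : IsCountablyGenerated R P) : Module.Free R P := by
  classical
  obtain ⟨s, hs⟩ := Module.projective_def'.1 (inferInstance : Module.Projective R P)
  set p : (P →₀ R) →ₗ[R] P := Finsupp.linearCombination R id with hp
  have hps : ∀ m, p (s m) = m := fun m => LinearMap.congr_fun hs m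
  obtain ⟨t, ht, hspan⟩ := hc
  obtain ⟨g, hg⟩ := (ht.insert 0).exists_eq_range (Set.insert_nonempty 0 t)
  have hgspan : span R (Set.range g) = ⊤ := by
    rw [← hg, eq_top_iff, ← hspan]
    exact span_mono (Set.subset_insert 0 t)
  let π : (P →₀ R) →ₗ[R] (P →₀ R) := s ∘ₗ p
  have hπv : ∀ v, π v = s (p v) := fun v => rfl
  have hππ : ∀ v, π (π v) = π v := fun v => by rw [hπv, hπv, hps]
  have hgen : LinearMap.range π ≤ span R (Set.range fun n => s (g n)) := by
    rintro _ ⟨v, rfl⟩
    rw [hπv]
    have h1 : p v ∈ span R (Set.range g) := hgspan ▸ mem_top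
    have h2 := Submodule.mem_map_of_mem (f := s) h1
    rw [Submodule.map_span, ← Set.range_comp] at h2
    exact h2
  obtain ⟨B, hB, hBspan⟩ := exists_basis_range_of_idempotent
    (Finsupp.basisSingleOne (R := R) (ι := P)) hππ (fun n => s (g n))
    (fun n => by rw [hπv, hps]) hgen
  have hB' : LinearIndependent R (fun w : B => (w : P →₀ R)) := hB
  have hfree : Module.Free R (LinearMap.range π) := by
    have h1 : span R (Set.range fun w : B => (w : P →₀ R)) = LinearMap.range π := by
      rw [Subtype.range_coe, hBspan]
    exact Module.Free.of_equiv' (Module.Free.of_basis (Module.Basis.span hB'))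
      (LinearEquiv.ofEq _ _ h1)
  let gg : LinearMap.range π →ₗ[R] P := p ∘ₗ (LinearMap.range π).subtype
  have hgg : Function.Bijective gg := by
    constructor
    · rw [injective_iff_map_eq_zero]
      rintro ⟨x, y, rfl⟩ hx
      have hx' : p (s (p y)) = 0 := hx
      rw [hps] at hx'
      apply Subtype.ext
      show s (p y) = 0
      rw [hx', map_zero]
    · intro m
      exact ⟨⟨s m, s m, by rw [hπv, hps]⟩, hps m⟩
  exact Module.Free.of_equiv (LinearEquiv.ofBijective gg hgg)

/-- **Kaplansky's theorem**: a projective module over a local ring is free. -/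
theorem free_of_projective_of_isLocalRing (P : Type u) [AddCommGroup P] [Module R P]
    [Module.Projective R P] : Module.Free R P := by
  classical
  obtain ⟨ι, N, hN, hc⟩ := exists_isInternal_of_projective (R := R) P
  let e : (DirectSum ι fun i => N i) ≃ₗ[R] P :=
    LinearEquiv.ofBijective (DirectSum.coeLinearMap N) hN
  have hretr : ∀ i, (DirectSum.component R ι (fun i => N i) i ∘ₗ e.symm.toLinearMap) ∘ₗ
      (N i).subtype = LinearMap.id := by
    intro i
    ext x : 1
    have h1 : e.symm (x : P) = DirectSum.lof R ι (fun i => N i) i x := by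
      rw [LinearEquiv.symm_apply_eq]
      exact (DirectSum.coeLinearMap_of N i x).symm
    show DirectSum.component R ι (fun i => N i) i (e.symm (x : P)) = x
    rw [h1, DirectSum.component.lof_self]
  have hfree : ∀ i, Module.Free R (N i) := by
    intro i
    have : Module.Projective R (N i) := Module.Projective.of_split _ _ (hretr i)
    exact free_of_projective_of_countablyGenerated (N i) (hc i)
  exact Module.Free.of_equiv e

end Final

end Groth.Agent.Lib.Helper52.Kap
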