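import Mathlib
import Groth.Agent.Lib.Helper52.KapLocal

/-!
# Bass: big projective modules (part 1)

Helper library (helper52).  `Big R P` says that `P` has infinite rank at every maximal ideal.
Main result of this file: `exists_unimodular_add` (Stacks, "Big projective modules are free",
Lemma 4): if `R/rad R` is Noetherian, `P` is projective and big, and `R s + M = P`, then `s + m` is
unimodular for some `m ∈ M`.
-/

set_option autoImplicit false
set_option linter.style.haveILetI false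

namespace Groth.Agent.Lib.Helper52.Bass

universe u

open Submodule

/-- `P` has infinite rank at every maximal ideal: no finitely generated submodule generates `P`
modulo a maximal ideal. -/
def Big (R : Type*) [CommRing R] (P : Type*) [AddCommGroup P] [Module R P] : Prop :=
  ∀ (𝔪 : Ideal R), 𝔪.IsMaximal → ∀ N : Submodule R P, N.FG → N ⊔ 𝔪 • (⊤ : Submodule R P) ≠ ⊤

section basic
variable {R : Type*} [CommRing R] {E P : Type*} [AddCommGroup E] [Module R E]
  [AddCommGroup P] [Module R P]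

lemma Big.of_surjective (g : E →ₗ[R] P) (hg : Function.Surjective g) (hP : Big R P) : Big R E := by
  intro 𝔪 h𝔪 N hN hEq
  apply hP 𝔪 h𝔪 (N.map g) (hN.map g)
  have h1 : (𝔪 • (⊤ : Submodule R P)) = Submodule.map g (𝔪 • ⊤) := by
    rw [Submodule.map_smul'', Submodule.map_top, LinearMap.range_eq_top.mpr hg]
  rw [h1, ← Submodule.map_sup, hEq, Submodule.map_top, LinearMap.range_eq_top.mpr hg]

lemma Big.of_sup_fg (hE : Big R E) (K C : Submodule R E) (hKC : K ⊔ C = ⊤) (hK : K.FG) :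
    Big R C := by
  intro 𝔪 h𝔪 N hN hEq
  apply hE 𝔪 h𝔪 (N.map C.subtype ⊔ K) ((hN.map _).sup hK)
  rw [eq_top_iff]
  intro v _
  have hv : v ∈ K ⊔ C := by rw [hKC]; exact mem_top
  obtain ⟨k, hk, c, hc, rfl⟩ := Submodule.mem_sup.1 hv
  have hc' : (⟨c, hc⟩ : C) ∈ N ⊔ 𝔪 • (⊤ : Submodule R C) := by rw [hEq]; exact mem_top
  obtain ⟨n, hn, z, hz, hnz⟩ := Submodule.mem_sup.1 hc'
  have hz' : C.subtype z ∈ 𝔪 • (⊤ : Submodule R E) := by
    have h2 : C.subtype z ∈ Submodule.map C.subtype (𝔪 • (⊤ : Submodule R C)) :=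
      Submodule.mem_map_of_mem hz
    rw [Submodule.map_smul''] at h2
    exact Submodule.smul_mono le_rfl le_top h2
  have hc2 : c = C.subtype n + C.subtype z := by
    rw [← map_add, hnz]
    rfl
  rw [hc2]
  have e1 : k + (C.subtype n + C.subtype z) = (C.subtype n + k) + C.subtype z := by abel
  rw [e1]
  exact Submodule.add_mem_sup
    (Submodule.add_mem_sup (Submodule.mem_map_of_mem hn) hk) hz'

end basic

section coords
variable {R : Type*} [CommRing R] {P : Type*} [AddCommGroup P] [Module R P]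
variable (σ : P →ₗ[R] (P →₀ R)) (hσ : ∀ x, Finsupp.linearCombination R (id : P → P) (σ x) = x)

include hσ in
/-- Membership in `I • ⊤` is detected by dual-basis coordinates. -/
lemma mem_smul_top_iff (I : Ideal R) (x : P) :
    x ∈ I • (⊤ : Submodule R P) ↔ ∀ q, (σ x) q ∈ I := by
  constructor
  · intro hx q
    have h1 : ∀ y ∈ I • (⊤ : Submodule R P), ((Finsupp.lapply q) ∘ₗ σ) y ∈ I := by
      intro y hy
      refine Submodule.smul_induction_on hy (fun r hr m _ => ?_) (fun a b ha hb => ?_)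
      · rw [map_smul]
        exact I.mul_mem_right _ hr
      · rw [map_add]
        exact I.add_mem ha hb
    exact h1 x hx
  · intro h
    rw [← hσ x, Finsupp.linearCombination_apply, Finsupp.sum]
    refine Submodule.sum_mem _ (fun q _ => ?_)
    exact Submodule.smul_mem_smul (h q) mem_top

include hσ in
lemma exists_dual_eq_one_of_coords (p : P)
    (h : ∀ 𝔪 : Ideal R, 𝔪.IsMaximal → p ∉ 𝔪 • (⊤ : Submodule R P)) :
    ∃ φ : P →ₗ[R] R, φ p = 1 := by
  let o : Ideal R := LinearMap.range (LinearMap.applyₗ p : (P →ₗ[R] R) →ₗ[R] R)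
  by_cases ho : o = ⊤
  · have h1 : (1 : R) ∈ o := ho ▸ mem_top
    obtain ⟨φ, hφ⟩ := h1
    exact ⟨φ, hφ⟩
  · exfalso
    obtain ⟨𝔪, h𝔪, hle⟩ := Ideal.exists_le_maximal o ho
    apply h 𝔪 h𝔪
    rw [mem_smul_top_iff σ hσ]
    intro q
    apply hle
    exact ⟨(Finsupp.lapply q) ∘ₗ σ, rfl⟩

end coords

/-- Unimodularity criterion in a projective module. -/
lemma exists_dual_eq_one {R : Type*} [CommRing R] {P : Type*} [AddCommGroup P] [Module R P]
    [Module.Projective R P] (p : P)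
    (h : ∀ 𝔪 : Ideal R, 𝔪.IsMaximal → p ∉ 𝔪 • (⊤ : Submodule R P)) :
    ∃ φ : P →ₗ[R] R, φ p = 1 := by
  obtain ⟨σ, hσ⟩ := Module.projective_def'.1 (inferInstance : Module.Projective R P)
  exact exists_dual_eq_one_of_coords σ (fun x => LinearMap.congr_fun hσ x) p h

section step
variable {R : Type*} [CommRing R] [IsNoetherianRing (R ⧸ (⊥ : Ideal R).jacobson)]
  {P : Type*} [AddCommGroup P] [Module R P]
variable (σ : P →ₗ[R] (P →₀ R)) (hσ : ∀ x, Finsupp.linearCombination R (id : P → P) (σ x) = x)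

omit [IsNoetherianRing (R ⧸ (⊥ : Ideal R).jacobson)] in
lemma jacobson_bot_le_of_isMaximal (𝔪 : Ideal R) (h𝔪 : 𝔪.IsMaximal) :
    (⊥ : Ideal R).jacobson ≤ 𝔪 :=
  sInf_le ⟨bot_le, h𝔪⟩

include hσ in
lemma exists_shrink (hP : Big R P) (s : P) (M : Submodule R P)
    (hM : Submodule.span R {s} ⊔ M = ⊤) (p : P) (𝔪₁ : Ideal R) (h𝔪₁ : 𝔪₁.IsMaximal)
    (hp : p ∈ 𝔪₁ • (⊤ : Submodule R P)) :
    ∃ m' ∈ M, (∀ 𝔪 : Ideal R, 𝔪.IsMaximal → p + m' ∈ 𝔪 • (⊤ : Submodule R P) →
      p ∈ 𝔪 • (⊤ : Submodule R P)) ∧ p + m' ∉ 𝔪₁ • (⊤ : Submodule R P) := by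
  classical
  obtain ⟨J, hJ⟩ : ∃ J : Ideal R, J = (⊥ : Ideal R).jacobson := ⟨_, rfl⟩
  haveI : IsNoetherianRing (R ⧸ J) := hJ ▸ inferInstance
  have hJle : ∀ 𝔪 : Ideal R, 𝔪.IsMaximal → J ≤ 𝔪 := fun 𝔪 h𝔪 =>
    hJ ▸ jacobson_bot_le_of_isMaximal 𝔪 h𝔪
  let Λ₀ : Finset P := (σ p).support
  let c : P →ₗ[R] (Λ₀ → R ⧸ J) := LinearMap.pi (fun q =>
    (Ideal.Quotient.mkₐ R J).toLinearMap ∘ₗ (Finsupp.lapply q.1) ∘ₗ σ)
  have hc : ∀ x (q : Λ₀), c x q = Ideal.Quotient.mk J ((σ x) q.1) := fun x q => rfl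
  have hii : ∀ m' ∈ LinearMap.ker c, ∀ 𝔪 : Ideal R, 𝔪.IsMaximal →
      p + m' ∈ 𝔪 • (⊤ : Submodule R P) → p ∈ 𝔪 • (⊤ : Submodule R P) := by
    intro m' hm' 𝔪 h𝔪 hpm
    rw [mem_smul_top_iff σ hσ] at hpm ⊢
    intro q
    by_cases hq : q ∈ Λ₀
    · have h1 : c m' ⟨q, hq⟩ = 0 := by rw [LinearMap.mem_ker.1 hm']; rfl
      rw [hc, Ideal.Quotient.eq_zero_iff_mem] at h1
      have h2 := hpm q
      rw [map_add, Finsupp.add_apply] at h2
      have h3 : (σ p) q = ((σ p) q + (σ m') q) - (σ m') q := by ring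
      rw [h3]
      exact 𝔪.sub_mem h2 (hJle 𝔪 h𝔪 h1)
    · rw [Finsupp.notMem_support_iff.1 hq]
      exact 𝔪.zero_mem
  have hi : ¬ (M ⊓ LinearMap.ker c ≤ 𝔪₁ • (⊤ : Submodule R P)) := by
    intro hle
    have hfg : (Submodule.map c M).FG := by
      let NS : Submodule (R ⧸ J) (Λ₀ → R ⧸ J) :=
        { carrier := Submodule.map c M
          add_mem' := fun ha hb => (Submodule.map c M).add_mem ha hb
          zero_mem' := (Submodule.map c M).zero_mem
          smul_mem' := by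
            intro a x hx
            obtain ⟨r, rfl⟩ := Ideal.Quotient.mk_surjective a
            have h1 : (Ideal.Quotient.mk J r) • x = r • x := by
              ext q
              simp [Algebra.smul_def]
            rw [h1]
            exact (Submodule.map c M).smul_mem r hx }
      have h1 : NS.FG := IsNoetherian.noetherian NS
      have h2 := Submodule.FG.restrictScalars_of_surjective (R := R) h1
        Ideal.Quotient.mk_surjective
      have h3 : Submodule.restrictScalars R NS = Submodule.map c M := by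
        ext x
        rfl
      rwa [h3] at h2
    obtain ⟨T, hT⟩ := hfg
    have hTm : ∀ y ∈ T, ∃ x ∈ M, c x = y := by
      intro y hy
      have : y ∈ Submodule.map c M := hT ▸ subset_span hy
      exact this
    choose! g hg1 hg2 using hTm
    apply hP 𝔪₁ h𝔪₁ (span R {s} ⊔ span R (g '' (T : Set (Λ₀ → R ⧸ J))))
      ((fg_span_singleton s).sup (fg_span (T.finite_toSet.image g)))
    rw [eq_top_iff]
    intro v _
    have hv : v ∈ span R {s} ⊔ M := by rw [hM]; exact mem_top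
    obtain ⟨a, ha, m, hm, rfl⟩ := mem_sup.1 hv
    have h1 : c m ∈ span R (T : Set (Λ₀ → R ⧸ J)) := by rw [hT]; exact mem_map_of_mem hm
    have h2 : span R (T : Set (Λ₀ → R ⧸ J)) ≤
        Submodule.map c (span R (g '' (T : Set (Λ₀ → R ⧸ J)))) := by
      rw [span_le]
      intro y hy
      exact ⟨g y, subset_span ⟨y, hy, rfl⟩, hg2 y hy⟩
    obtain ⟨t, ht, htm⟩ := h2 h1
    have htM : t ∈ M := by
      refine (span_le.2 ?_) ht
      rintro _ ⟨y, hy, rfl⟩
      exact hg1 y hy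
    have h3 : m - t ∈ M ⊓ LinearMap.ker c :=
      ⟨M.sub_mem hm htM, by
        change m - t ∈ LinearMap.ker c
        rw [LinearMap.mem_ker, map_sub, htm, sub_self]⟩
    have h4 := hle h3
    have e1 : a + m = (a + t) + (m - t) := by abel
    rw [e1]
    exact add_mem_sup (add_mem_sup ha ht) h4
  rw [SetLike.not_le_iff_exists] at hi
  obtain ⟨m', ⟨hm'M, hm'c⟩, hm'⟩ := hi
  refine ⟨m', hm'M, hii m' hm'c, fun hcon => hm' ?_⟩
  have e2 : m' = (p + m') - p := by abel
  rw [e2]
  exact Submodule.sub_mem _ hcon hp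

end step

/-- **Bass, Lemma 4.**  If `R/rad R` is Noetherian, `P` is a big projective module and
`R s + M = P`, then `s + m` is unimodular for some `m ∈ M`. -/
theorem exists_unimodular_add {R : Type*} [CommRing R]
    [IsNoetherianRing (R ⧸ (⊥ : Ideal R).jacobson)]
    {P : Type*} [AddCommGroup P] [Module R P] [Module.Projective R P] (hP : Big R P)
    (s : P) (M : Submodule R P) (hM : Submodule.span R {s} ⊔ M = ⊤) :
    ∃ m ∈ M, ∃ φ : P →ₗ[R] R, φ (s + m) = 1 := by
  obtain ⟨σ, hσ'⟩ := Module.projective_def'.1 (inferInstance : Module.Projective R P)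
  have hσ : ∀ x, Finsupp.linearCombination R (id : P → P) (σ x) = x :=
    fun x => LinearMap.congr_fun hσ' x
  obtain ⟨J, hJ⟩ : ∃ J : Ideal R, J = (⊥ : Ideal R).jacobson := ⟨_, rfl⟩
  haveI : IsNoetherianRing (R ⧸ J) := hJ ▸ inferInstance
  have hJle : ∀ 𝔪 : Ideal R, 𝔪.IsMaximal → J ≤ 𝔪 := fun 𝔪 h𝔪 =>
    hJ ▸ jacobson_bot_le_of_isMaximal 𝔪 h𝔪
  let Z : P → Set (Ideal R) := fun p => {𝔪 | 𝔪.IsMaximal ∧ p ∈ 𝔪 • (⊤ : Submodule R P)}
  let vI : P → Ideal R := fun p => sInf (Z p)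
  have hJvI : ∀ p, J ≤ vI p := fun p => le_sInf (fun 𝔪 h𝔪 => hJle 𝔪 h𝔪.1)
  have hclosed : ∀ p (𝔪 : Ideal R), 𝔪.IsMaximal → vI p ≤ 𝔪 →
      p ∈ 𝔪 • (⊤ : Submodule R P) := by
    intro p 𝔪 h𝔪 hle
    rw [mem_smul_top_iff σ hσ]
    intro q
    apply hle
    rw [Submodule.mem_sInf]
    intro 𝔫 h𝔫
    exact (mem_smul_top_iff σ hσ 𝔫 p).1 h𝔫.2 q
  have hcomap : ∀ p, ((vI p).map (Ideal.Quotient.mk J)).comap (Ideal.Quotient.mk J) = vI p := by
    intro p
    rw [Ideal.comap_map_of_surjective _ Ideal.Quotient.mk_surjective, ← RingHom.ker_eq_comap_bot,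
      Ideal.mk_ker, sup_eq_left]
    exact hJvI p
  have key : ∀ (𝔞 : Ideal (R ⧸ J)), ∀ m₀ ∈ M, (vI (s + m₀)).map (Ideal.Quotient.mk J) = 𝔞 →
      ∃ m ∈ M, ∀ 𝔪 : Ideal R, 𝔪.IsMaximal → s + m ∉ 𝔪 • (⊤ : Submodule R P) := by
    intro 𝔞
    refine WellFoundedGT.induction (motive := fun 𝔞 => ∀ m₀ ∈ M,
      (vI (s + m₀)).map (Ideal.Quotient.mk J) = 𝔞 →
      ∃ m ∈ M, ∀ 𝔪 : Ideal R, 𝔪.IsMaximal → s + m ∉ 𝔪 • (⊤ : Submodule R P)) 𝔞 ?_
    intro 𝔞 ih m₀ hm₀ h𝔞
    by_cases hZ : ∀ 𝔪 : Ideal R, 𝔪.IsMaximal → s + m₀ ∉ 𝔪 • (⊤ : Submodule R P)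
    · exact ⟨m₀, hm₀, hZ⟩
    · push Not at hZ
      obtain ⟨𝔪₁, h𝔪₁, hp⟩ := hZ
      obtain ⟨m', hm', hsub, hnot⟩ := exists_shrink σ hσ hP s M hM (s + m₀) 𝔪₁ h𝔪₁ hp
      have hadd : s + (m₀ + m') = s + m₀ + m' := by abel
      have hle : vI (s + m₀) ≤ vI (s + (m₀ + m')) := by
        apply sInf_le_sInf
        rintro 𝔪 ⟨h𝔪, hmem⟩
        rw [hadd] at hmem
        exact ⟨h𝔪, hsub 𝔪 h𝔪 hmem⟩
      have hlt : 𝔞 < (vI (s + (m₀ + m'))).map (Ideal.Quotient.mk J) := by
        rw [← h𝔞]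
        refine lt_of_le_of_ne (Ideal.map_mono hle) ?_
        intro heq
        have h1 : vI (s + (m₀ + m')) = vI (s + m₀) := by
          rw [← hcomap (s + (m₀ + m')), ← heq, hcomap]
        have h2 : vI (s + m₀) ≤ 𝔪₁ := sInf_le ⟨h𝔪₁, hp⟩
        have h3 := hclosed (s + (m₀ + m')) 𝔪₁ h𝔪₁ (h1 ▸ h2)
        rw [hadd] at h3
        exact hnot h3
      exact ih _ hlt (m₀ + m') (M.add_mem hm₀ hm') rfl
  obtain ⟨m, hm, h⟩ := key _ 0 M.zero_mem rfl
  exact ⟨m, hm, exists_dual_eq_one_of_coords σ hσ (s + m) h⟩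

section conversion
variable {R : Type u} [CommRing R] {P : Type u} [AddCommGroup P] [Module R P]
  [Module.Projective R P]

/-- If no localization of the projective module `P` at a maximal ideal is finitely generated,
then `P` is big. -/
theorem big_of_localization
    (hP : ∀ (m : Ideal R) [m.IsMaximal],
      ¬ Module.Finite (Localization.AtPrime m) (LocalizedModule m.primeCompl P)) : Big R P := by
  classical
  intro 𝔪 h𝔪 N hN hEq
  haveI := h𝔪
  apply hP 𝔪
  let A := Localization.AtPrime 𝔪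
  let P' := LocalizedModule 𝔪.primeCompl P
  let ℓ : P →ₗ[R] P' := LocalizedModule.mkLinearMap 𝔪.primeCompl P
  haveI : Module.Free A P' := Kap.free_of_projective_of_isLocalRing P'
  let b := Module.Free.chooseBasis A P'
  obtain ⟨T, hT⟩ := hN
  let N' : Submodule A P' := span A (ℓ '' (T : Set P))
  have hcl : N' ⊔ (IsLocalRing.maximalIdeal A) • (⊤ : Submodule A P') = ⊤ := by
    rw [eq_top_iff]
    intro y _
    induction y using LocalizedModule.induction_on with | _ p t
    have h1 : LocalizedModule.mk p t = (Localization.mk 1 t : A) • ℓ p := by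
      change _ = (Localization.mk 1 t : A) • LocalizedModule.mk p 1
      rw [LocalizedModule.mk_smul_mk, one_smul, mul_one]
    rw [h1]
    refine Submodule.smul_mem _ _ ?_
    have hp : p ∈ N ⊔ 𝔪 • (⊤ : Submodule R P) := by rw [hEq]; exact mem_top
    obtain ⟨n, hn, z, hz, rfl⟩ := mem_sup.1 hp
    rw [map_add]
    refine add_mem_sup ?_ ?_
    · rw [← hT] at hn
      have h2 : ∀ n ∈ span R (T : Set P), ℓ n ∈ N' := by
        intro n hn
        induction hn using span_induction with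
        | mem x hx => exact subset_span ⟨x, hx, rfl⟩
        | zero => rw [map_zero]; exact zero_mem _
        | add a c _ _ ha hc => rw [map_add]; exact add_mem ha hc
        | smul r a _ ha =>
          rw [map_smul, ← algebraMap_smul A r (ℓ a)]
          exact Submodule.smul_mem _ _ ha
      exact h2 n hn
    · refine Submodule.smul_induction_on hz (fun r hr x _ => ?_) (fun a c ha hc => ?_)
      · rw [map_smul, ← algebraMap_smul A r (ℓ x)]
        refine Submodule.smul_mem_smul ?_ mem_top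
        exact (IsLocalization.AtPrime.to_map_mem_maximal_iff A 𝔪 r).2 hr
      · rw [map_add]
        exact add_mem ha hc
  let T' : Finset (Module.Free.ChooseBasisIndex A P') :=
    T.biUnion (fun x => (b.repr (ℓ x)).support)
  have hall : ∀ i, i ∈ T' := by
    intro i
    by_contra hi
    have h1 : ∀ y ∈ N', b.coord i y = 0 := by
      intro y hy
      induction hy using span_induction with
      | mem y hy =>
        obtain ⟨x, hx, rfl⟩ := hy
        rw [Module.Basis.coord_apply]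
        by_contra hne
        exact hi (Finset.mem_biUnion.2 ⟨x, hx, Finsupp.mem_support_iff.2 hne⟩)
      | zero => rw [map_zero]
      | add a c _ _ ha hc => rw [map_add, ha, hc, add_zero]
      | smul r a _ ha => rw [map_smul, ha, smul_zero]
    have h2 : ∀ y ∈ (IsLocalRing.maximalIdeal A) • (⊤ : Submodule A P'),
        b.coord i y ∈ IsLocalRing.maximalIdeal A := by
      intro y hy
      refine Submodule.smul_induction_on hy (fun r hr x _ => ?_) (fun a c ha hc => ?_)
      · rw [map_smul]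
        exact Ideal.mul_mem_right _ _ hr
      · rw [map_add]
        exact add_mem ha hc
    have h3 : b i ∈ N' ⊔ (IsLocalRing.maximalIdeal A) • (⊤ : Submodule A P') := by
      rw [hcl]; exact mem_top
    obtain ⟨n, hn, z, hz, hnz⟩ := mem_sup.1 h3
    have h4 : b.coord i (b i) ∈ IsLocalRing.maximalIdeal A := by
      rw [← hnz, map_add, h1 n hn, zero_add]
      exact h2 z hz
    rw [Module.Basis.coord_apply, Module.Basis.repr_self, Finsupp.single_eq_same] at h4
    exact (Ideal.ne_top_iff_one _).1 (IsLocalRing.maximalIdeal.isMaximal A).ne_top h4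
  haveI : Finite (Module.Free.ChooseBasisIndex A P') :=
    Set.finite_univ_iff.mp (T'.finite_toSet.subset (fun i _ => hall i))
  exact Module.Finite.of_basis b

end conversion

end Groth.Agent.Lib.Helper52.Bass
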