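import Mathlib
import Groth.Agent.Lib.Helper52.Bass
import Groth.Agent.S7109

/-!
# Bass: big projective modules (part 2)

Helper library (helper52).  Relative form of Lemma 4 (`exists_unimodular_rel`), finite free summand
states `FState`, and Lemma 5: every element of a big projective module lies in a finite stably free
direct summand (`exists_stablyFree_summand`).
-/

set_option autoImplicit false
set_option linter.style.haveILetI false

namespace Groth.Agent.Lib.Helper52.Bass

universe u

open Submodule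

section rel
variable {R : Type*} [CommRing R] [IsNoetherianRing (R ⧸ (⊥ : Ideal R).jacobson)]
  {E : Type*} [AddCommGroup E] [Module R E] [Module.Projective R E]

omit [IsNoetherianRing (R ⧸ (⊥ : Ideal R).jacobson)] in
lemma projective_ker_of_idempotent (σ : E →ₗ[R] E) (hσ : ∀ v, σ (σ v) = σ v) :
    Module.Projective R (LinearMap.ker σ) := by
  let κ : E →ₗ[R] LinearMap.ker σ := (LinearMap.id - σ).codRestrict (LinearMap.ker σ) (by
    intro v
    rw [LinearMap.mem_ker, LinearMap.sub_apply, LinearMap.id_apply, map_sub, hσ, sub_self])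
  refine Module.Projective.of_split (LinearMap.ker σ).subtype κ ?_
  apply LinearMap.ext
  rintro ⟨c, hc⟩
  apply Subtype.ext
  change c - σ c = c
  rw [LinearMap.mem_ker.1 hc, sub_zero]

omit [IsNoetherianRing (R ⧸ (⊥ : Ideal R).jacobson)] [Module.Projective R E] in
lemma big_ker_of_idempotent (hE : Big R E) (σ : E →ₗ[R] E) (hσ : ∀ v, σ (σ v) = σ v)
    (hfg : (LinearMap.range σ).FG) : Big R (LinearMap.ker σ) := by
  refine Big.of_sup_fg hE (LinearMap.range σ) (LinearMap.ker σ) ?_ hfg
  rw [eq_top_iff]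
  intro v _
  have : v = σ v + (v - σ v) := by abel
  rw [this]
  refine add_mem_sup ⟨v, rfl⟩ ?_
  rw [LinearMap.mem_ker, map_sub, hσ, sub_self]

/-- **Relative form of Lemma 4**: inside the kernel of an idempotent with finitely generated
image. -/
theorem exists_unimodular_rel (hE : Big R E) (σ : E →ₗ[R] E) (hσ : ∀ v, σ (σ v) = σ v)
    (hfg : (LinearMap.range σ).FG) (s : E) (hs : σ s = 0) (M : Submodule R E)
    (hMle : M ≤ LinearMap.ker σ) (hM : LinearMap.ker σ ≤ span R {s} ⊔ M) :
    ∃ m ∈ M, ∃ φ : E →ₗ[R] R, φ (s + m) = 1 ∧ ∀ v, φ (σ v) = 0 := by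
  haveI := projective_ker_of_idempotent σ hσ
  have hbig := big_ker_of_idempotent hE σ hσ hfg
  let κ : E →ₗ[R] LinearMap.ker σ := (LinearMap.id - σ).codRestrict (LinearMap.ker σ) (by
    intro v
    rw [LinearMap.mem_ker, LinearMap.sub_apply, LinearMap.id_apply, map_sub, hσ, sub_self])
  let s' : LinearMap.ker σ := ⟨s, LinearMap.mem_ker.2 hs⟩
  let M' : Submodule R (LinearMap.ker σ) := Submodule.comap (LinearMap.ker σ).subtype M
  have hM' : span R {s'} ⊔ M' = ⊤ := by
    rw [eq_top_iff]
    rintro ⟨c, hc⟩ _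
    obtain ⟨a, ha, m, hm, hc'⟩ := mem_sup.1 (hM hc)
    obtain ⟨r, rfl⟩ := mem_span_singleton.1 ha
    have e1 : (⟨c, hc⟩ : LinearMap.ker σ) = r • s' + ⟨m, hMle hm⟩ := by
      apply Subtype.ext
      exact hc'.symm
    rw [e1]
    exact add_mem_sup (Submodule.smul_mem _ _ (mem_span_singleton_self s')) hm
  obtain ⟨m', hm', φ', hφ'⟩ := exists_unimodular_add hbig s' M' hM'
  refine ⟨m'.1, hm', φ' ∘ₗ κ, ?_, ?_⟩
  · have e2 : κ (s + m'.1) = s' + m' := by
      apply Subtype.ext
      change (s + m'.1) - σ (s + m'.1) = s + m'.1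
      rw [map_add, hs, LinearMap.mem_ker.1 m'.2, add_zero, sub_zero]
    rw [LinearMap.comp_apply, e2, hφ']
  · intro v
    have e3 : κ (σ v) = 0 := by
      apply Subtype.ext
      change σ v - σ (σ v) = 0
      rw [hσ, sub_self]
    rw [LinearMap.comp_apply, e3, map_zero]

end rel

section fstate
variable {R : Type*} [CommRing R] {E : Type*} [AddCommGroup E] [Module R E]

lemma linearIndepOn_singleton_of_smul {w : E} (h : ∀ r : R, r • w = 0 → r = 0) :
    LinearIndepOn R id ({w} : Set E) := by
  rw [LinearIndepOn, linearIndependent_iff']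
  intro s g hs i hi
  have hsub : s = {i} := by
    ext j
    have : j = i := Subsingleton.elim j i
    simp [this, hi]
  rw [hsub, Finset.sum_singleton] at hs
  have hi' : (i : E) = w := i.2
  apply h
  simpa [hi'] using hs

/-- A finite free direct summand of `E`: a finite linearly independent set `B` together with an
idempotent `σ` projecting onto its span. -/
structure FState (R : Type*) [CommRing R] (E : Type*) [AddCommGroup E] [Module R E] where
  B : Set E
  σ : E →ₗ[R] E
  li : LinearIndepOn R id B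
  mem : ∀ v, σ v ∈ span R B
  fix : ∀ w ∈ span R B, σ w = w
  fin : B.Finite

namespace FState

variable (S : FState R E)

lemma idem (v : E) : S.σ (S.σ v) = S.σ v := S.fix _ (S.mem v)

lemma range_eq : LinearMap.range S.σ = span R S.B := by
  apply le_antisymm
  · rintro _ ⟨v, rfl⟩
    exact S.mem v
  · intro w hw
    exact ⟨w, S.fix w hw⟩

lemma range_fg : (LinearMap.range S.σ).FG := by
  rw [S.range_eq]
  exact fg_span S.fin

/-- The empty state. -/
def empty (R : Type*) [CommRing R] (E : Type*) [AddCommGroup E] [Module R E] : FState R E where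
  B := ∅
  σ := 0
  li := linearIndepOn_empty R id
  mem v := by simp
  fix w hw := by
    rw [span_empty, mem_bot] at hw
    simp [hw]
  fin := Set.finite_empty

/-- Extend a state by a unimodular element of the complement. -/
def extend (w : E) (φ : E →ₗ[R] R) (hw : S.σ w = 0) (hφw : φ w = 1)
    (hφσ : ∀ v, φ (S.σ v) = 0) : FState R E where
  B := S.B ∪ {w}
  σ := S.σ + LinearMap.smulRight φ w
  li := by
    have hφB : ∀ y ∈ span R S.B, φ y = 0 := fun y hy => by rw [← S.fix y hy, hφσ]
    refine S.li.id_union ?_ ?_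
    · apply linearIndepOn_singleton_of_smul
      intro r hr
      have := congrArg φ hr
      simpa [hφw] using this
    · rw [Submodule.disjoint_def]
      intro x hx hx'
      obtain ⟨r, rfl⟩ := mem_span_singleton.1 hx'
      rw [← S.fix _ hx, map_smul, hw, smul_zero]
  mem v := by
    rw [span_union, LinearMap.add_apply, LinearMap.smulRight_apply]
    exact add_mem_sup (S.mem v) (Submodule.smul_mem _ _ (mem_span_singleton_self w))
  fix x hx := by
    have hφB : ∀ y ∈ span R S.B, φ y = 0 := fun y hy => by rw [← S.fix y hy, hφσ]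
    rw [span_union] at hx
    obtain ⟨y, hy, z, hz, rfl⟩ := mem_sup.1 hx
    obtain ⟨r, rfl⟩ := mem_span_singleton.1 hz
    rw [LinearMap.add_apply, LinearMap.smulRight_apply, map_add, map_add, S.fix y hy, map_smul, hw,
      smul_zero, hφB y hy, map_smul, hφw]
    simp
  fin := S.fin.union (Set.finite_singleton w)

lemma subset_extend (w : E) (φ : E →ₗ[R] R) (hw : S.σ w = 0) (hφw : φ w = 1)
    (hφσ : ∀ v, φ (S.σ v) = 0) : S.B ⊆ (S.extend w φ hw hφw hφσ).B :=
  Set.subset_union_left

lemma mem_extend (w : E) (φ : E →ₗ[R] R) (hw : S.σ w = 0) (hφw : φ w = 1)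
    (hφσ : ∀ v, φ (S.σ v) = 0) : w ∈ (S.extend w φ hw hφw hφσ).B :=
  Set.mem_union_right _ rfl

end FState

end fstate

section absorb
variable {R : Type*} [CommRing R] [IsNoetherianRing (R ⧸ (⊥ : Ideal R).jacobson)]
  {E : Type*} [AddCommGroup E] [Module R E] [Module.Projective R E]

/-- One absorption step. -/
lemma FState.exists_absorb_one (hE : Big R E) (P₀ : Submodule R E) (S : FState R E) (e : E)
    (T : Submodule R E) (hT : span R S.B ⊔ P₀ ⊔ (span R {e} ⊔ T) = ⊤) :
    ∃ S' : FState R E, S.B ⊆ S'.B ∧ span R S'.B ⊔ P₀ ⊔ T = ⊤ := by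
  let τ : E →ₗ[R] E := LinearMap.id - S.σ
  have hτ : ∀ v, τ v = v - S.σ v := fun v => rfl
  have hστ : ∀ v, S.σ (τ v) = 0 := fun v => by rw [hτ, map_sub, S.idem, sub_self]
  let M : Submodule R E := Submodule.map τ (P₀ ⊔ T)
  have hMle : M ≤ LinearMap.ker S.σ := by
    rintro _ ⟨v, _, rfl⟩
    exact LinearMap.mem_ker.2 (hστ v)
  have hM : LinearMap.ker S.σ ≤ span R {τ e} ⊔ M := by
    intro c hc
    have hc' : c ∈ span R S.B ⊔ P₀ ⊔ (span R {e} ⊔ T) := by rw [hT]; exact mem_top
    obtain ⟨x, hx, y, hy, rfl⟩ := mem_sup.1 hc'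
    obtain ⟨b, hb, p, hp, rfl⟩ := mem_sup.1 hx
    obtain ⟨a, ha, t, ht, rfl⟩ := mem_sup.1 hy
    obtain ⟨r, rfl⟩ := mem_span_singleton.1 ha
    have e1 : b + p + (r • e + t) = τ (b + p + (r • e + t)) := by
      rw [hτ, LinearMap.mem_ker.1 hc, sub_zero]
    have e2 : τ (b + p + (r • e + t)) = r • τ e + τ (p + t) := by
      have hb' : τ b = 0 := by rw [hτ, S.fix b hb, sub_self]
      simp only [map_add, map_smul, hb']
      abel
    rw [e1, e2]
    exact add_mem_sup (Submodule.smul_mem _ _ (mem_span_singleton_self _))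
      (Submodule.mem_map_of_mem (add_mem_sup hp ht))
  obtain ⟨m, hm, φ, hφ1, hφσ⟩ := exists_unimodular_rel hE S.σ S.idem S.range_fg (τ e) (hστ e) M
    hMle hM
  have hw : S.σ (τ e + m) = 0 := by
    rw [map_add, hστ, LinearMap.mem_ker.1 (hMle hm), add_zero]
  obtain ⟨S', hS'sub, hwmem⟩ : ∃ S' : FState R E, S.B ⊆ S'.B ∧ τ e + m ∈ span R S'.B :=
    ⟨S.extend (τ e + m) φ hw hφ1 hφσ, S.subset_extend _ _ hw hφ1 hφσ,
      subset_span (S.mem_extend _ _ hw hφ1 hφσ)⟩
  refine ⟨S', hS'sub, ?_⟩
  have hBle : span R S.B ≤ span R S'.B := span_mono hS'sub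
  obtain ⟨y₀, hy₀, rfl⟩ := hm
  have he : e ∈ span R S'.B ⊔ P₀ ⊔ T := by
    have e3 : e = (τ e + τ y₀) + S.σ (e + y₀) + (-y₀) := by
      rw [hτ, hτ, map_add]
      abel
    rw [e3, sup_assoc]
    refine add_mem_sup (add_mem hwmem (hBle (S.mem _))) (Submodule.neg_mem _ hy₀)
  rw [eq_top_iff, ← hT]
  refine sup_le (sup_le (le_sup_of_le_left (le_sup_of_le_left hBle))
    (le_sup_of_le_left le_sup_right)) (sup_le ?_ le_sup_right)
  rw [span_singleton_le_iff_mem]
  exact he

/-- Absorb finitely many elements. -/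
lemma FState.exists_absorb (hE : Big R E) (P₀ : Submodule R E) (t : Finset E) :
    ∀ S : FState R E, span R S.B ⊔ P₀ ⊔ span R (t : Set E) = ⊤ →
      ∃ S' : FState R E, S.B ⊆ S'.B ∧ span R S'.B ⊔ P₀ = ⊤ := by
  classical
  induction t using Finset.induction_on with
  | empty =>
    intro S hS
    refine ⟨S, subset_rfl, ?_⟩
    simpa using hS
  | insert e t _ ih =>
    intro S hS
    rw [Finset.coe_insert, span_insert] at hS
    obtain ⟨S₁, h1, h2⟩ := S.exists_absorb_one hE P₀ e (span R (t : Set E)) hS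
    obtain ⟨S₂, h3, h4⟩ := ih S₁ h2
    exact ⟨S₂, h1.trans h3, h4⟩

end absorb

section extract

lemma isCompl_ker_range {R : Type*} [CommRing R] {A B : Type*} [AddCommGroup A] [Module R A]
    [AddCommGroup B] [Module R B] (f : A →ₗ[R] B) (g : B →ₗ[R] A) (h : ∀ b, f (g b) = b) :
    IsCompl (LinearMap.ker f) (LinearMap.range g) := by
  constructor
  · rw [Submodule.disjoint_def]
    rintro x hx ⟨b, rfl⟩
    rw [LinearMap.mem_ker, h] at hx
    rw [hx, map_zero]
  · rw [codisjoint_iff, eq_top_iff]
    intro x _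
    have : x = (x - g (f x)) + g (f x) := by abel
    rw [this]
    refine add_mem_sup ?_ ⟨f x, rfl⟩
    rw [LinearMap.mem_ker, map_sub, h, sub_self]

variable {R : Type u} [CommRing R] {P : Type u} [AddCommGroup P] [Module R P]
  [Module.Projective R P]

lemma exists_summand_of_state (n : ℕ) (S : FState R ((Fin n → R) × P))
    (hS : span R S.B ⊔ LinearMap.range (LinearMap.inr R (Fin n → R) P) = ⊤) :
    ∃ K' : Submodule R P,
      IsCompl (Submodule.comap (LinearMap.inr R (Fin n → R) P) (span R S.B)) K' ∧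
      Module.Finite R (Submodule.comap (LinearMap.inr R (Fin n → R) P) (span R S.B)) ∧
      Module.IsStablyFree R (Submodule.comap (LinearMap.inr R (Fin n → R) P) (span R S.B)) := by
  classical
  obtain ⟨Kt, hKt⟩ : ∃ Kt : Submodule R ((Fin n → R) × P), Kt = span R S.B := ⟨_, rfl⟩
  rw [← hKt] at hS ⊢
  obtain ⟨KP, hKP⟩ : ∃ KP : Submodule R P,
      KP = Submodule.comap (LinearMap.inr R (Fin n → R) P) Kt := ⟨_, rfl⟩
  rw [← hKP]
  have hmemKP : ∀ x : P, x ∈ KP ↔ ((0 : Fin n → R), x) ∈ Kt := by
    intro x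
    rw [hKP]
    rfl
  -- freeness and finiteness of `Kt`
  have hli : LinearIndependent R (fun w : S.B => (w : (Fin n → R) × P)) := S.li
  have hfreeKt : Module.Free R Kt := by
    have h1 : span R (Set.range fun w : S.B => (w : (Fin n → R) × P)) = Kt := by
      rw [Subtype.range_coe, hKt]
    exact Module.Free.of_equiv' (Module.Free.of_basis (Module.Basis.span hli))
      (LinearEquiv.ofEq _ _ h1)
  have hfinKt : Module.Finite R Kt := by
    rw [hKt]
    exact Module.Finite.span_of_finite R S.fin
  -- a section of the first projection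
  have hk : ∀ j : Fin n, ∃ k ∈ Kt, k.1 = (Pi.single j 1 : Fin n → R) := by
    intro j
    have h1 : ((Pi.single j 1 : Fin n → R), (0 : P)) ∈
        Kt ⊔ LinearMap.range (LinearMap.inr R (Fin n → R) P) := by rw [hS]; exact mem_top
    obtain ⟨k, hk, z, ⟨p, rfl⟩, hkz⟩ := mem_sup.1 h1
    refine ⟨k, hk, ?_⟩
    have := congrArg Prod.fst hkz
    simpa using this
  choose k hk1 hk2 using hk
  let g : (Fin n → R) →ₗ[R] Kt := (Pi.basisFun R (Fin n)).constr R (fun j => ⟨k j, hk1 j⟩)
  have hg : ∀ v, (g v : (Fin n → R) × P).1 = v := by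
    intro v
    have h1 : (LinearMap.fst R (Fin n → R) P) ∘ₗ Kt.subtype ∘ₗ g = LinearMap.id := by
      apply (Pi.basisFun R (Fin n)).ext
      intro j
      simp only [LinearMap.comp_apply, g, Module.Basis.constr_basis, LinearMap.id_apply]
      rw [Pi.basisFun_apply]
      exact hk2 j
    exact LinearMap.congr_fun h1 v
  let ι₀ : KP →ₗ[R] Kt := LinearMap.codRestrict Kt ((LinearMap.inr R (Fin n → R) P) ∘ₗ KP.subtype)
    (fun x => (hmemKP x.1).1 x.2)
  let Ψ : (KP × (Fin n → R)) →ₗ[R] Kt := ι₀.coprod g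
  have hΨ : ∀ x v, (Ψ (x, v) : (Fin n → R) × P) = ((0 : Fin n → R), (x : P)) + (g v : _) := by
    intro x v
    rfl
  have hΨbij : Function.Bijective Ψ := by
    constructor
    · rw [injective_iff_map_eq_zero]
      rintro ⟨x, v⟩ hxv
      have h1 := congrArg (fun z : Kt => (z : (Fin n → R) × P)) hxv
      simp only [hΨ] at h1
      have h2 := congrArg Prod.fst h1
      simp only [Prod.fst_add, zero_add, hg] at h2
      have hv : v = 0 := h2
      subst hv
      rw [map_zero] at h1
      have h3 := congrArg Prod.snd h1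
      simp only [ZeroMemClass.coe_zero, add_zero] at h3
      have hx : x = 0 := Subtype.ext h3
      rw [hx]
      rfl
    · intro z
      have hz' : (z : (Fin n → R) × P) - (g (z : (Fin n → R) × P).1 : _) ∈ Kt :=
        Kt.sub_mem z.2 (g _).2
      have hfst : ((z : (Fin n → R) × P) - (g (z : (Fin n → R) × P).1 : _)).1 = 0 := by
        rw [Prod.fst_sub, hg, sub_self]
      have hx : ((z : (Fin n → R) × P) - (g (z : (Fin n → R) × P).1 : _)).2 ∈ KP := by
        rw [hmemKP]
        convert hz' using 1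
        exact Prod.ext hfst.symm rfl
      refine ⟨(⟨_, hx⟩, (z : (Fin n → R) × P).1), ?_⟩
      apply Subtype.ext
      rw [hΨ]
      apply Prod.ext
      · simp [hg]
      · simp
  let e := LinearEquiv.ofBijective Ψ hΨbij
  haveI : Module.Free R (KP × (Fin n → R)) := Module.Free.of_equiv e.symm
  have hstab : Module.IsStablyFree R KP := Module.IsStablyFree.of_free_prod R KP (Fin n → R)
  have hfinKP : Module.Finite R KP := by
    refine Module.Finite.of_surjective
      ((LinearMap.fst R KP (Fin n → R)) ∘ₗ e.symm.toLinearMap) ?_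
    intro x
    exact ⟨e (x, 0), by simp⟩
  -- the complement
  haveI : Module.Projective R (LinearMap.ker S.σ) := projective_ker_of_idempotent S.σ S.idem
  let f' : P →ₗ[R] LinearMap.ker S.σ :=
    LinearMap.codRestrict (LinearMap.ker S.σ)
      ((LinearMap.id - S.σ) ∘ₗ (LinearMap.inr R (Fin n → R) P)) (by
        intro x
        rw [LinearMap.mem_ker, LinearMap.comp_apply, LinearMap.sub_apply, LinearMap.id_apply,
          map_sub, S.idem, sub_self])
  have hf' : ∀ x : P, (f' x : (Fin n → R) × P) =
      ((0 : Fin n → R), x) - S.σ ((0 : Fin n → R), x) := fun x => rfl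
  have hkerf' : LinearMap.ker f' = KP := by
    ext x
    rw [LinearMap.mem_ker, hmemKP, hKt]
    constructor
    · intro hx
      have h1 := congrArg (fun z : LinearMap.ker S.σ => (z : (Fin n → R) × P)) hx
      simp only [hf', ZeroMemClass.coe_zero, sub_eq_zero] at h1
      rw [h1]
      exact S.mem _
    · intro hx
      apply Subtype.ext
      rw [hf', S.fix _ hx, sub_self]
      rfl
  have hsurj : Function.Surjective f' := by
    rintro ⟨c, hc⟩
    have hc' : c ∈ Kt ⊔ LinearMap.range (LinearMap.inr R (Fin n → R) P) := by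
      rw [hS]; exact mem_top
    obtain ⟨k, hk, z, ⟨x, rfl⟩, rfl⟩ := mem_sup.1 hc'
    refine ⟨x, ?_⟩
    apply Subtype.ext
    rw [hf']
    rw [LinearMap.mem_ker, map_add] at hc
    rw [hKt] at hk
    rw [S.fix k hk] at hc
    change _ = k + (LinearMap.inr R (Fin n → R) P) x
    have e1 : S.σ ((LinearMap.inr R (Fin n → R) P) x) = -k := by
      rw [eq_neg_iff_add_eq_zero, add_comm]; exact hc
    change ((0 : Fin n → R), x) - S.σ ((LinearMap.inr R (Fin n → R) P) x) = _
    rw [e1]
    simp [add_comm]
  obtain ⟨g', hg'⟩ := Module.projective_lifting_property f' LinearMap.id hsurj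
  refine ⟨LinearMap.range g', ?_, hfinKP, hstab⟩
  rw [← hkerf']
  exact isCompl_ker_range f' g' (fun b => LinearMap.congr_fun hg' b)

end extract

section lemma5
variable {R : Type u} [CommRing R] [IsNoetherianRing (R ⧸ (⊥ : Ideal R).jacobson)]
  {P : Type u} [AddCommGroup P] [Module R P] [Module.Projective R P]

omit [IsNoetherianRing (R ⧸ (⊥ : Ideal R).jacobson)] [Module.Projective R P] in
/-- A finite free direct summand gives a state. -/
lemma exists_state_of_isCompl {E : Type*} [AddCommGroup E] [Module R E] (K K' : Submodule R E)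
    (hc : IsCompl K K') [Module.Free R K] [Module.Finite R K] :
    ∃ S : FState R E, span R S.B = K := by
  classical
  let b := Module.Free.chooseBasis R K
  let v : Module.Free.ChooseBasisIndex R K → E := fun i => (b i : E)
  have hli : LinearIndependent R v := b.linearIndependent.map' K.subtype (Submodule.ker_subtype _)
  have hspan : span R (Set.range v) = K := by
    have : Set.range v = K.subtype '' Set.range b := by
      rw [← Set.range_comp]
      rfl
    rw [this, ← Submodule.map_span, b.span_eq, Submodule.map_subtype_top]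
  refine ⟨⟨Set.range v, K.subtype ∘ₗ (Submodule.projectionOnto K K' hc),
    hli.linearIndepOn_id, ?_, ?_, Set.finite_range v⟩, hspan⟩
  · intro x
    rw [hspan]
    exact (Submodule.projectionOnto K K' hc x).2
  · intro w hw
    rw [hspan] at hw
    rw [LinearMap.comp_apply]
    have := Submodule.projectionOnto_apply_left hc ⟨w, hw⟩
    change ((Submodule.projectionOnto K K' hc) w : E) = w
    have h2 : (Submodule.projectionOnto K K' hc) w = ⟨w, hw⟩ := this
    rw [h2]

/-- **Bass, Lemma 5.**  Every element of a big projective module lies in a finite stably free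
direct summand. -/
theorem exists_stablyFree_summand (hP : Big R P) (s : P) :
    ∃ (K K' : Submodule R P), IsCompl K K' ∧ Module.Finite R K ∧ Module.IsStablyFree R K ∧
      s ∈ K := by
  classical
  obtain ⟨n, K₀, K₀', hc, hfree, hfin, hs⟩ := Groth.Agent.S7109.result R P s
  obtain ⟨S₀, hS₀⟩ := exists_state_of_isCompl K₀ K₀' hc
  have hE : Big R ((Fin n → R) × P) :=
    Big.of_surjective (LinearMap.snd R (Fin n → R) P) LinearMap.snd_surjective hP
  let t : Finset ((Fin n → R) × P) :=
    Finset.univ.image (fun j : Fin n => ((Pi.single j 1 : Fin n → R), (0 : P)))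
  have hspan : span R S₀.B ⊔ LinearMap.range (LinearMap.inr R (Fin n → R) P) ⊔
      span R (t : Set ((Fin n → R) × P)) = ⊤ := by
    rw [eq_top_iff]
    rintro ⟨v, p⟩ _
    have e1 : ((v, p) : (Fin n → R) × P) = (LinearMap.inr R (Fin n → R) P) p +
        ∑ j : Fin n, v j • ((Pi.single j 1 : Fin n → R), (0 : P)) := by
      apply Prod.ext
      · simp only [LinearMap.coe_inr, Prod.fst_add, Prod.fst_sum, Prod.smul_fst, zero_add]
        ext i
        simp [Finset.sum_apply, Pi.single_apply]
      · simp [Prod.snd_sum]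
    rw [e1]
    refine add_mem_sup (mem_sup_right ⟨p, rfl⟩) ?_
    refine Submodule.sum_mem _ (fun j _ => Submodule.smul_mem _ _ (subset_span ?_))
    exact Finset.mem_coe.2 (Finset.mem_image.2 ⟨j, Finset.mem_univ j, rfl⟩)
  obtain ⟨S', hsub, htop⟩ := S₀.exists_absorb hE _ t hspan
  obtain ⟨K', hcompl, hfinK, hstab⟩ := exists_summand_of_state n S' htop
  refine ⟨_, K', hcompl, hfinK, hstab, ?_⟩
  change (LinearMap.inr R (Fin n → R) P) s ∈ span R S'.B
  apply span_mono hsub
  rw [hS₀]
  exact hs

end lemma5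

end Groth.Agent.Lib.Helper52.Bass
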