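import Mathlib
import Groth.Agent.Lib.Helper52.Bass2

/-!
# Bass: big projective modules (part 3)

Helper library (helper52).  Splitting off free summands of given rank from a big projective module,
finite free summands containing a given element, and Bass' theorem: a countably generated big
projective module over a ring with Noetherian `R/rad R` is free (`free_of_big`).
-/

set_option autoImplicit false
set_option linter.style.haveILetI false

namespace Groth.Agent.Lib.Helper52.Bass

universe u

open Submodule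

section rank
variable {R : Type u} [CommRing R] [IsNoetherianRing (R ⧸ (⊥ : Ideal R).jacobson)]

/-- A big projective module has free direct summands of every finite rank. -/
theorem exists_free_summand_rank (a : ℕ) :
    ∀ (Q : Type u) [AddCommGroup Q] [Module R Q] [Module.Projective R Q], Big R Q →
      ∃ (α : (Fin a → R) →ₗ[R] Q) (ρ : Q →ₗ[R] (Fin a → R)), ∀ v, ρ (α v) = v := by
  induction a with
  | zero =>
    intro Q _ _ _ _
    exact ⟨0, 0, fun v => Subsingleton.elim _ _⟩
  | succ a ih =>
    intro Q _ _ _ hQ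
    obtain ⟨w, _, φ, hφ⟩ := exists_unimodular_add hQ (0 : Q) ⊤ (by simp)
    rw [zero_add] at hφ
    let σ : Q →ₗ[R] Q := LinearMap.smulRight φ w
    have hσ : ∀ v, σ v = φ v • w := fun v => rfl
    have hσσ : ∀ v, σ (σ v) = σ v := by
      intro v
      rw [hσ, hσ, map_smul, hφ, smul_eq_mul, mul_one]
    have hfg : (LinearMap.range σ).FG := by
      have : LinearMap.range σ ≤ span R {w} := by
        rintro _ ⟨v, rfl⟩
        exact Submodule.smul_mem _ _ (mem_span_singleton_self w)
      have h2 : span R {w} ≤ LinearMap.range σ := by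
        rw [span_singleton_le_iff_mem]
        exact ⟨w, by rw [hσ, hφ, one_smul]⟩
      rw [le_antisymm this h2]
      exact fg_span_singleton w
    haveI := projective_ker_of_idempotent σ hσσ
    have hbig := big_ker_of_idempotent hQ σ hσσ hfg
    obtain ⟨α₁, ρ₁, h₁⟩ := ih (LinearMap.ker σ) hbig
    let κ : Q →ₗ[R] LinearMap.ker σ := (LinearMap.id - σ).codRestrict (LinearMap.ker σ) (by
      intro v
      rw [LinearMap.mem_ker, LinearMap.sub_apply, LinearMap.id_apply, map_sub, hσσ, sub_self])
    have hφker : ∀ c : LinearMap.ker σ, φ (c : Q) = 0 := by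
      intro c
      have h1 : σ (c : Q) = 0 := LinearMap.mem_ker.1 c.2
      have h2 := congrArg φ h1
      rwa [hσ, map_smul, hφ, smul_eq_mul, mul_one, map_zero] at h2
    have hκ : ∀ c : LinearMap.ker σ, κ (c : Q) = c := by
      intro c
      apply Subtype.ext
      change (c : Q) - σ (c : Q) = c
      rw [LinearMap.mem_ker.1 c.2, sub_zero]
    have hκw : κ w = 0 := by
      apply Subtype.ext
      change w - σ w = 0
      rw [hσ, hφ, one_smul, sub_self]
    let e := Fin.consLinearEquiv R (fun _ : Fin (a + 1) => R)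
    refine ⟨(LinearMap.coprod (LinearMap.toSpanSingleton R Q w)
        ((LinearMap.ker σ).subtype ∘ₗ α₁)) ∘ₗ e.symm.toLinearMap,
      e.toLinearMap ∘ₗ (LinearMap.prod φ (ρ₁ ∘ₗ κ)), ?_⟩
    intro v
    obtain ⟨⟨r, u⟩, rfl⟩ := e.surjective v
    have h2 : (LinearMap.coprod (LinearMap.toSpanSingleton R Q w)
        ((LinearMap.ker σ).subtype ∘ₗ α₁)) (r, u) = r • w + (α₁ u : Q) := rfl
    have h3 : φ (r • w + (α₁ u : Q)) = r := by
      rw [map_add, map_smul, hφ, hφker, add_zero, smul_eq_mul, mul_one]
    have h4 : ρ₁ (κ (r • w + (α₁ u : Q))) = u := by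
      rw [map_add, map_smul, hκw, smul_zero, zero_add, hκ, h₁]
    change e (φ _, ρ₁ (κ _)) = _
    rw [LinearMap.comp_apply, LinearEquiv.coe_coe, LinearEquiv.symm_apply_apply, h2, h3, h4]

end rank

section mem
variable {R : Type u} [CommRing R] [IsNoetherianRing (R ⧸ (⊥ : Ideal R).jacobson)]
  {Q : Type u} [AddCommGroup Q] [Module R Q] [Module.Projective R Q]

omit [IsNoetherianRing (R ⧸ (⊥ : Ideal R).jacobson)] in
/-- A finite free module is isomorphic to some `Fin a → R`. -/
lemma exists_equiv_fin_fun (N : Type*) [AddCommGroup N] [Module R N] [Module.Free R N]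
    [Module.Finite R N] : ∃ (a : ℕ), Nonempty (N ≃ₗ[R] (Fin a → R)) := by
  classical
  let bN := Module.Free.chooseBasis R N
  exact ⟨Fintype.card (Module.Free.ChooseBasisIndex R N),
    ⟨bN.equivFun ≪≫ₗ (LinearEquiv.funCongrLeft R R (Fintype.equivFin _).symm)⟩⟩

/-- **Lemma 6.**  Every element of a big projective module lies in a finite free direct summand. -/
theorem exists_free_summand_mem (hQ : Big R Q) (c : Q) :
    ∃ (b : ℕ) (α : (Fin b → R) →ₗ[R] Q) (ρ : Q →ₗ[R] (Fin b → R)),
      (∀ v, ρ (α v) = v) ∧ c ∈ LinearMap.range α := by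
  classical
  obtain ⟨K, K', hc, hfin, hstab, hcK⟩ := exists_stablyFree_summand hQ c
  obtain ⟨N, _, _, _, _, hfreeKN⟩ := Module.IsStablyFree.exist_free_prod R K
  obtain ⟨a, ⟨eN⟩⟩ := exists_equiv_fin_fun (R := R) N
  obtain ⟨b, ⟨θ⟩⟩ := exists_equiv_fin_fun (R := R) (K × N)
  let πK : Q →ₗ[R] K := Submodule.projectionOnto K K' hc
  let πK' : Q →ₗ[R] K' := Submodule.projectionOnto K' K hc.symm
  haveI : Module.Projective R K' := by
    refine Module.Projective.of_split K'.subtype πK' ?_
    apply LinearMap.ext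
    intro k'
    exact Submodule.projectionOnto_apply_left hc.symm k'
  have hbig : Big R K' :=
    Big.of_sup_fg hQ K K' hc.sup_eq_top (Module.Finite.iff_fg.1 hfin)
  obtain ⟨α', ρ', h'⟩ := exists_free_summand_rank a K' hbig
  let A : (K × N) →ₗ[R] Q := LinearMap.coprod K.subtype (K'.subtype ∘ₗ α' ∘ₗ eN.toLinearMap)
  let B : Q →ₗ[R] (K × N) := LinearMap.prod πK (eN.symm.toLinearMap ∘ₗ ρ' ∘ₗ πK')
  have hA : ∀ (k : K) (n : N), A (k, n) = (k : Q) + (α' (eN n) : Q) := fun k n => rfl
  have hBA : ∀ z, B (A z) = z := by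
    rintro ⟨k, n⟩
    have h1 : πK ((k : Q) + (α' (eN n) : Q)) = k := by
      rw [map_add, Submodule.projectionOnto_apply_left hc k,
        Submodule.projectionOnto_apply_right hc (α' (eN n)), add_zero]
    have h2 : πK' ((k : Q) + (α' (eN n) : Q)) = α' (eN n) := by
      rw [map_add, Submodule.projectionOnto_apply_right hc.symm k,
        Submodule.projectionOnto_apply_left hc.symm (α' (eN n)), zero_add]
    rw [hA]
    change (πK _, eN.symm (ρ' (πK' _))) = _
    rw [h1, h2, h', LinearEquiv.symm_apply_apply]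
  refine ⟨b, A ∘ₗ θ.symm.toLinearMap, θ.toLinearMap ∘ₗ B, ?_, ?_⟩
  · intro v
    simp only [LinearMap.comp_apply, LinearEquiv.coe_coe, hBA, LinearEquiv.apply_symm_apply]
  · refine ⟨θ (⟨c, hcK⟩, 0), ?_⟩
    simp only [LinearMap.comp_apply, LinearEquiv.coe_coe, LinearEquiv.symm_apply_apply, hA,
      map_zero, ZeroMemClass.coe_zero, add_zero]

end mem

section final
variable {R : Type u} [CommRing R] [IsNoetherianRing (R ⧸ (⊥ : Ideal R).jacobson)]
  {P : Type u} [AddCommGroup P] [Module R P] [Module.Projective R P]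

/-- Enlarge a finite free summand of a big projective module to contain a given element. -/
theorem FState.exists_next (hP : Big R P) (S : FState R P) (x : P) :
    ∃ S' : FState R P, S.B ⊆ S'.B ∧ x ∈ span R S'.B := by
  classical
  haveI := projective_ker_of_idempotent S.σ S.idem
  have hbig := big_ker_of_idempotent hP S.σ S.idem S.range_fg
  let κ : P →ₗ[R] LinearMap.ker S.σ := (LinearMap.id - S.σ).codRestrict (LinearMap.ker S.σ) (by
    intro v
    rw [LinearMap.mem_ker, LinearMap.sub_apply, LinearMap.id_apply, map_sub, S.idem, sub_self])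
  have hκ : ∀ c : LinearMap.ker S.σ, κ (c : P) = c := by
    intro c
    apply Subtype.ext
    change (c : P) - S.σ (c : P) = c
    rw [LinearMap.mem_ker.1 c.2, sub_zero]
  have hκσ : ∀ v, κ (S.σ v) = 0 := by
    intro v
    apply Subtype.ext
    change S.σ v - S.σ (S.σ v) = 0
    rw [S.idem, sub_self]
  obtain ⟨b, α₀, ρ₀, h₀, hx₀⟩ := exists_free_summand_mem hbig (κ x)
  obtain ⟨α, hαdef⟩ : ∃ α : (Fin b → R) →ₗ[R] P, ∀ u, α u = (α₀ u : P) :=
    ⟨(LinearMap.ker S.σ).subtype ∘ₗ α₀, fun u => rfl⟩
  obtain ⟨ρ, hρdef⟩ : ∃ ρ : P →ₗ[R] (Fin b → R), ∀ v, ρ v = ρ₀ (κ v) :=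
    ⟨ρ₀ ∘ₗ κ, fun v => rfl⟩
  have hσα : ∀ u, S.σ (α u) = 0 := fun u => by
    rw [hαdef]
    exact LinearMap.mem_ker.1 (α₀ u).2
  have hρα : ∀ u, ρ (α u) = u := by
    intro u
    rw [hρdef, hαdef, hκ, h₀]
  have hρσ : ∀ v, ρ (S.σ v) = 0 := by
    intro v
    rw [hρdef, hκσ, map_zero]
  have hρB : ∀ y ∈ span R S.B, ρ y = 0 := fun y hy => by rw [← S.fix y hy, hρσ]
  let vv : Fin b → P := fun i => α (Pi.basisFun R (Fin b) i)
  have hvspan : span R (Set.range vv) = LinearMap.range α := by
    have : Set.range vv = α '' Set.range (Pi.basisFun R (Fin b)) := by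
      rw [← Set.range_comp]
      rfl
    rw [this, ← Submodule.map_span, (Pi.basisFun R (Fin b)).span_eq, Submodule.map_top]
  have hkerα : LinearMap.ker α = ⊥ :=
    LinearMap.ker_eq_bot_of_inverse (g := ρ) (LinearMap.ext fun v => hρα v)
  have hvli : LinearIndependent R vv := (Pi.basisFun R (Fin b)).linearIndependent.map' α hkerα
  have hdisj : Disjoint (span R S.B) (span R (Set.range vv)) := by
    rw [Submodule.disjoint_def, hvspan]
    rintro w hw ⟨u, rfl⟩
    rw [← S.fix _ hw, hσα]
  have hspan' : span R (S.B ∪ Set.range vv) = span R S.B ⊔ LinearMap.range α := by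
    rw [span_union, hvspan]
  refine ⟨⟨S.B ∪ Set.range vv, S.σ + α ∘ₗ ρ, S.li.id_union hvli.linearIndepOn_id hdisj, ?_, ?_,
    S.fin.union (Set.finite_range vv)⟩, Set.subset_union_left, ?_⟩
  · intro v
    rw [hspan', LinearMap.add_apply]
    exact add_mem_sup (S.mem v) ⟨_, rfl⟩
  · intro w hw
    rw [hspan'] at hw
    obtain ⟨y, hy, z, ⟨u, hu⟩, rfl⟩ := mem_sup.1 hw
    rw [← hu, LinearMap.add_apply, LinearMap.comp_apply, map_add, map_add, S.fix y hy, hσα,
      hρB y hy, hρα]
    simp
  · change x ∈ span R (S.B ∪ Set.range vv)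
    rw [hspan']
    have e1 : x = S.σ x + (κ x : P) := by
      change x = S.σ x + (x - S.σ x)
      abel
    rw [e1]
    obtain ⟨u, hu⟩ := hx₀
    refine add_mem_sup (S.mem x) ⟨u, ?_⟩
    rw [hαdef, hu]

/-- **Bass' theorem.**  If `R/rad R` is Noetherian, every countably generated big projective
`R`-module is free. -/
theorem free_of_big (hP : Big R P)
    (hc : ∃ s : Set P, s.Countable ∧ Submodule.span R s = ⊤) : Module.Free R P := by
  classical
  obtain ⟨t, ht, hspan⟩ := hc
  obtain ⟨g, hg⟩ := (ht.insert 0).exists_eq_range (Set.insert_nonempty 0 t)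
  have hgspan : span R (Set.range g) = ⊤ := by
    rw [← hg, eq_top_iff, ← hspan]
    exact span_mono (Set.subset_insert 0 t)
  choose next hnext using fun (S : FState R P) (n : ℕ) => S.exists_next hP (g n)
  let seq : ℕ → FState R P := fun n => Nat.rec (FState.empty R P) (fun n S => next S n) n
  have hseq : ∀ n, seq (n + 1) = next (seq n) n := fun n => rfl
  have hmono : Monotone fun n => (seq n).B := by
    apply monotone_nat_of_le_succ
    intro n
    rw [hseq]
    exact (hnext (seq n) n).1
  have hli : LinearIndepOn R id (⋃ n, (seq n).B) :=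
    linearIndepOn_iUnion_of_directed hmono.directed_le (fun n => (seq n).li)
  have htop : ⊤ ≤ span R (⋃ n, (seq n).B) := by
    rw [← hgspan, span_le]
    rintro _ ⟨n, rfl⟩
    have h1 : g n ∈ span R (seq (n + 1)).B := by
      rw [hseq]
      exact (hnext (seq n) n).2
    exact span_mono (Set.subset_iUnion (fun n => (seq n).B) (n + 1)) h1
  have hli' : LinearIndependent R (fun w : (⋃ n, (seq n).B) => (w : P)) := hli
  refine Module.Free.of_basis (Module.Basis.mk hli' ?_)
  rw [Subtype.range_coe]
  exact htop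

end final

end Groth.Agent.Lib.Helper52.Bass
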