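import Mathlib

/-!
# Small algebra lemmas for the char-p purity argument (helper52)
-/
universe u v
set_option autoImplicit false
open IsLocalRing

namespace Groth.Agent.Lib.Helper52.CPAlg

/-- An ideal of a Noetherian local ring not contained in any non-maximal prime contains a power of
the maximal ideal. -/
theorem exists_pow_le {R : Type u} [CommRing R] [IsLocalRing R] [IsNoetherianRing R]
    (𝔞 : Ideal R) (h : ∀ q : Ideal R, q.IsPrime → q ≠ maximalIdeal R → ¬ 𝔞 ≤ q) :
    ∃ n : ℕ, maximalIdeal R ^ n ≤ 𝔞 := by
  have hrad : maximalIdeal R ≤ 𝔞.radical := by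
    rw [Ideal.radical_eq_sInf]
    refine le_sInf ?_
    rintro q ⟨hq, hqp⟩
    by_cases hqm : q = maximalIdeal R
    · rw [hqm]
    · exact absurd hq (h q hqp hqm)
  exact Ideal.exists_pow_le_of_le_radical_of_fg hrad (IsNoetherian.noetherian _)

/-- regularity of `y` modulo `x` -/
def RegMod {A : Type v} [CommRing A] (x y : A) : Prop :=
  ∀ c e : A, y * c = x * e → ∃ c', c = x * c'

theorem RegMod.pow_left {A : Type v} [CommRing A] [IsDomain A] {x y : A} (hx : x ≠ 0)
    (h : RegMod x y) : ∀ n : ℕ, RegMod (x ^ n) y := by
  intro n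
  induction n with
  | zero => intro c e _; exact ⟨c, by simp⟩
  | succ n ih =>
    intro c e hce
    obtain ⟨c', rfl⟩ := h c (x ^ n * e) (by rw [hce]; ring)
    have h1 : y * c' = x ^ n * e := by
      apply mul_left_cancel₀ hx
      rw [← mul_assoc, mul_comm x y, mul_assoc, hce]; ring
    obtain ⟨c'', rfl⟩ := ih c' e h1
    exact ⟨c'', by ring⟩

theorem RegMod.pow_right {A : Type v} [CommRing A] {x y : A} (h : RegMod x y) :
    ∀ n : ℕ, RegMod x (y ^ n) := by
  intro n
  induction n with
  | zero => intro c e hce; exact ⟨e, by simpa using hce⟩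
  | succ n ih =>
    intro c e hce
    obtain ⟨c', hc'⟩ := h (y ^ n * c) e (by rw [← hce]; ring)
    exact ih c c' hc'

theorem RegMod.pow {A : Type v} [CommRing A] [IsDomain A] {x y : A} (hx : x ≠ 0)
    (h : RegMod x y) (n k : ℕ) : RegMod (x ^ n) (y ^ k) :=
  (h.pow_left hx n).pow_right k

/-- A square matrix over a local ring congruent to the identity modulo the maximal ideal has unit
determinant. -/
theorem isUnit_det_of_sub_one_mem {R : Type u} [CommRing R] [IsLocalRing R] {n : ℕ}
    (N : Matrix (Fin n) (Fin n) R)
    (h : ∀ i j, (N - 1) i j ∈ maximalIdeal R) : IsUnit N.det := by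
  have h1 : N.map (residue R) = 1 := by
    ext i j
    have := h i j
    rw [← residue_eq_zero_iff, Matrix.sub_apply, map_sub, sub_eq_zero] at this
    rw [Matrix.map_apply, this]
    by_cases hij : i = j
    · subst hij; simp
    · simp [Matrix.one_apply_ne hij]
  have h2 : residue R N.det = 1 := by
    rw [RingHom.map_det, RingHom.mapMatrix_apply, h1, Matrix.det_one]
  by_contra hu
  have : N.det ∈ maximalIdeal R := (mem_maximalIdeal _).mpr hu
  rw [← residue_eq_zero_iff, h2] at this
  exact one_ne_zero this


section gens
variable {R : Type u} [CommRing R] {M : Type v} [AddCommGroup M] [Module R M]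

theorem exists_gens (K : Submodule R M) (hK : K.FG) :
    ∃ g : Fin K.spanFinrank → M, Submodule.span R (Set.range g) = K := by
  classical
  have hfin := hK.finite_generators
  have hcard := hK.generators_ncard
  haveI : Fintype ↥K.generators := hfin.fintype
  have hc : Fintype.card ↥K.generators = K.spanFinrank := by
    rw [← hcard, Set.ncard_eq_toFinset_card', Set.toFinset_card]
  let e : ↥K.generators ≃ Fin K.spanFinrank := Fintype.equivFinOfCardEq hc
  refine ⟨fun i => ((e.symm i : ↥K.generators) : M), ?_⟩
  have : Set.range (fun i => ((e.symm i : ↥K.generators) : M)) = K.generators := by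
    ext x
    constructor
    · rintro ⟨i, rfl⟩
      exact (e.symm i).2
    · intro hx
      exact ⟨e ⟨x, hx⟩, by simp⟩
  rw [this, K.span_generators]

/-- In a minimal generating family over a local ring, every relation has coefficients in the
maximal ideal. -/
theorem coeff_mem_of_minimal [IsLocalRing R] (K : Submodule R M)
    (g : Fin K.spanFinrank → M) (hg : Submodule.span R (Set.range g) = K)
    (w : Fin K.spanFinrank → R) (hw : ∑ j, w j • g j = 0) (j : Fin K.spanFinrank) :
    w j ∈ maximalIdeal R := by
  classical
  by_contra hj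
  have hu : IsUnit (w j) := by
    by_contra h
    exact hj ((IsLocalRing.mem_maximalIdeal _).mpr h)
  obtain ⟨u, hu⟩ := hu
  set T : Set M := g '' {l | l ≠ j} with hT
  have hgj : g j ∈ Submodule.span R T := by
    have h1 : w j • g j = - ∑ l ∈ Finset.univ.erase j, w l • g l := by
      rw [eq_neg_iff_add_eq_zero,
        Finset.add_sum_erase Finset.univ (fun l => w l • g l) (Finset.mem_univ j)]
      exact hw
    have h2 : g j = (↑u⁻¹ : R) • (w j • g j) := by
      rw [smul_smul, ← hu, Units.inv_mul, one_smul]
    rw [h2, h1]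
    refine Submodule.smul_mem _ _ (Submodule.neg_mem _ (Submodule.sum_mem _ (fun l hl => ?_)))
    refine Submodule.smul_mem _ _ (Submodule.subset_span ⟨l, ?_, rfl⟩)
    simpa using Finset.ne_of_mem_erase hl
  have hK : K = Submodule.span R T := by
    apply le_antisymm
    · rw [← hg, Submodule.span_le]
      rintro _ ⟨l, rfl⟩
      by_cases hl : l = j
      · rw [hl]; exact hgj
      · exact Submodule.subset_span ⟨l, hl, rfl⟩
    · rw [← hg]
      exact Submodule.span_mono (Set.image_subset_range _ _)
  have hTfin : T.Finite := Set.Finite.image _ (Set.toFinite _)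
  have h3 : K.spanFinrank ≤ T.ncard := by
    conv_lhs => rw [hK]
    exact Submodule.spanFinrank_span_le_ncard_of_finite hTfin
  have h4 : T.ncard ≤ ({l | l ≠ j} : Set (Fin K.spanFinrank)).ncard :=
    Set.ncard_image_le (Set.toFinite _)
  have h5 : ({l | l ≠ j} : Set (Fin K.spanFinrank)).ncard = K.spanFinrank - 1 := by
    have : ({l | l ≠ j} : Set (Fin K.spanFinrank)) = ({j} : Set _)ᶜ := by
      ext l; simp
    rw [this, Set.ncard_compl, Set.ncard_singleton, Nat.card_fin]
  have h6 : 0 < K.spanFinrank := by
    have := j.2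
    omega
  omega

end gens

end Groth.Agent.Lib.Helper52.CPAlg
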