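import Mathlib

/-!
# Flat base change of linear systems: the equational form (helper52)
-/
universe u
set_option autoImplicit false
open TensorProduct

namespace Groth.Agent.Lib.Helper52.CPTwist

variable {R S : Type u} [CommRing R] [CommRing S] [Algebra R S]

theorem piScalarRight_lTensor {ι κ : Type*} [Fintype ι] [Fintype κ] [DecidableEq ι]
    [DecidableEq κ] (B : Matrix ι κ R) (t : S ⊗[R] (κ → R)) :
    TensorProduct.piScalarRight R S S ι ((Matrix.mulVecLin B).lTensor S t) =
      (B.map (algebraMap R S)).mulVec (TensorProduct.piScalarRight R S S κ t) := by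
  induction t using TensorProduct.induction_on with
  | zero => simp
  | tmul s v =>
    ext i
    simp only [LinearMap.lTensor_tmul, TensorProduct.piScalarRight_apply,
      TensorProduct.piScalarRightHom_tmul, Matrix.mulVecLin_apply, Matrix.mulVec, dotProduct,
      Matrix.map_apply]
    rw [Finset.sum_smul]
    refine Finset.sum_congr rfl (fun j _ => ?_)
    rw [Algebra.smul_def, Algebra.smul_def, map_mul]
    ring
  | add x y hx hy =>
    rw [map_add, map_add, hx, hy, map_add, Matrix.mulVec_add]

theorem twist_exact [Module.Flat R S] {ι κ μ : Type*} [Fintype ι] [Fintype κ] [Fintype μ]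
    [DecidableEq ι] [DecidableEq κ] [DecidableEq μ] (A : Matrix ι κ R)
    (B : Matrix κ μ R) (hAB : A * B = 0)
    (hex : ∀ v : κ → R, A.mulVec v = 0 → ∃ w : μ → R, B.mulVec w = v)
    (v : κ → S) (hv : (A.map (algebraMap R S)).mulVec v = 0) :
    ∃ w : μ → S, (B.map (algebraMap R S)).mulVec w = v := by
  have hfg : Function.Exact (Matrix.mulVecLin B) (Matrix.mulVecLin A) := by
    intro y
    constructor
    · intro hy
      obtain ⟨w, hw⟩ := hex y (by simpa using hy)
      exact ⟨w, by simpa using hw⟩
    · rintro ⟨w, rfl⟩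
      simp only [Matrix.mulVecLin_apply, Matrix.mulVec_mulVec, hAB, Matrix.zero_mulVec]
  have hex' := Module.Flat.lTensor_exact S hfg
  set t := (TensorProduct.piScalarRight R S S κ).symm v with ht
  have h1 : (Matrix.mulVecLin A).lTensor S t = 0 := by
    apply (TensorProduct.piScalarRight R S S ι).injective
    rw [piScalarRight_lTensor, ht, LinearEquiv.apply_symm_apply, hv, map_zero]
  obtain ⟨u, hu⟩ := (hex' t).mp h1
  refine ⟨TensorProduct.piScalarRight R S S μ u, ?_⟩
  rw [← piScalarRight_lTensor, hu, ht, LinearEquiv.apply_symm_apply]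

/-- Equational criterion in matrix form: over a flat algebra, every solution of the base-changed
linear system is a combination of base changes of solutions. -/
theorem twist_solutions [IsNoetherianRing R] [Module.Flat R S] {ι κ : Type*} [Fintype ι]
    [Fintype κ] [DecidableEq ι] [DecidableEq κ] (M : Matrix ι κ R) (z : κ → S)
    (hz : (M.map (algebraMap R S)).mulVec z = 0) :
    ∃ (n : ℕ) (v : Fin n → κ → R) (s : Fin n → S), (∀ k, M.mulVec (v k) = 0) ∧
      z = ∑ k, s k • (fun j => algebraMap R S (v k j)) := by
  classical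
  set K := LinearMap.ker (Matrix.mulVecLin M) with hK
  obtain ⟨n, g, hg⟩ := Submodule.fg_iff_exists_fin_generating_family.mp
    (IsNoetherian.noetherian K)
  have hgK : ∀ k, M.mulVec (g k) = 0 := by
    intro k
    have : g k ∈ K := by rw [← hg]; exact Submodule.subset_span ⟨k, rfl⟩
    simpa [hK] using this
  let B : Matrix κ (Fin n) R := Matrix.of fun j k => g k j
  have hB : ∀ w : Fin n → R, B.mulVec w = ∑ k, w k • g k := by
    intro w
    ext j
    simp [B, Matrix.mulVec, dotProduct, mul_comm]
  have hMB : M * B = 0 := by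
    ext i k
    have h1 := congrFun (hgK k) i
    simp only [Matrix.mulVec, dotProduct, Pi.zero_apply] at h1
    simp only [Matrix.mul_apply, Matrix.zero_apply, B, Matrix.of_apply]
    exact h1
  have hex : ∀ v : κ → R, M.mulVec v = 0 → ∃ w : Fin n → R, B.mulVec w = v := by
    intro v hv
    have h1 : v ∈ K := by simpa [hK] using hv
    rw [← hg] at h1
    obtain ⟨c, hc⟩ := (Submodule.mem_span_range_iff_exists_fun R).mp h1
    exact ⟨c, by rw [hB]; exact hc⟩
  obtain ⟨w, hw⟩ := twist_exact M B hMB hex z hz
  refine ⟨n, g, w, hgK, ?_⟩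
  rw [← hw]
  ext j
  simp only [Matrix.mulVec, dotProduct, Matrix.map_apply, B, Matrix.of_apply, Finset.sum_apply,
    Pi.smul_apply, smul_eq_mul]
  exact Finset.sum_congr rfl (fun k _ => mul_comm _ _)

end Groth.Agent.Lib.Helper52.CPTwist
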