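import Mathlib
import Groth.Agent.Lib.Helper52.CPTwist
import Groth.Agent.Lib.Helper52.CPAlg

/-!
# Core of purity in characteristic `p`: relative Frobenius iso on the punctured spectrum plus
depth two gives freeness (helper52)
-/
universe u v
set_option autoImplicit false
open IsLocalRing

namespace Groth.Agent.Lib.Helper52.CPCore

open Groth.Agent.Lib.Helper52 CPAlg

section Basic

variable {R : Type u} [CommRing R] (p : ℕ) [Fact p.Prime] [CharP R p]
  {A : Type v} [CommRing A] [Algebra R A] [CharP A p]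

/-- coordinatewise `p`-th power -/
def tw {b : ℕ} (r : Fin b → R) : Fin b → R := fun j => r j ^ p

omit [Fact (Nat.Prime p)] [CharP R p] in
@[simp] theorem tw_apply {b : ℕ} (r : Fin b → R) (j : Fin b) : tw p r j = r j ^ p := rfl

theorem tw_add {b : ℕ} (r r' : Fin b → R) : tw p (r + r') = tw p r + tw p r' := by
  funext j
  simp only [tw_apply, Pi.add_apply]
  exact add_pow_char (r j) (r' j) p

omit [Fact (Nat.Prime p)] [CharP R p] in
theorem tw_smul {b : ℕ} (t : R) (r : Fin b → R) : tw p (t • r) = t ^ p • tw p r := by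
  funext j
  simp only [tw_apply, Pi.smul_apply, smul_eq_mul, mul_pow]

omit [CharP R p] in
theorem tw_zero {b : ℕ} : tw p (0 : Fin b → R) = 0 := by
  funext j
  simp only [tw_apply, Pi.zero_apply]
  exact zero_pow (Fact.out : p.Prime).ne_zero

theorem tw_sum {b : ℕ} {ι : Type*} (s : Finset ι) (f : ι → Fin b → R) :
    tw p (∑ i ∈ s, f i) = ∑ i ∈ s, tw p (f i) := by
  classical
  induction s using Finset.induction_on with
  | empty => simp [tw_zero]
  | insert a s ha ih => rw [Finset.sum_insert ha, Finset.sum_insert ha, tw_add, ih]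

/-- linear combination map of a family -/
noncomputable def lc {b : ℕ} (g : Fin b → A) : (Fin b → R) →ₗ[R] A := Fintype.linearCombination R g

omit [Fact (Nat.Prime p)] [CharP R p] [CharP A p] in
theorem lc_apply {b : ℕ} (g : Fin b → A) (v : Fin b → R) : lc g v = ∑ j, v j • g j := by
  simp [lc, Fintype.linearCombination_apply]

theorem lc_tw {b : ℕ} (g : Fin b → A) (r : Fin b → R) :
    lc (fun j => g j ^ p) (tw p r) = (lc g r) ^ p := by
  rw [lc_apply, lc_apply, sum_pow_char]
  refine Finset.sum_congr rfl (fun j _ => ?_)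
  rw [tw_apply, Algebra.smul_def, Algebra.smul_def, mul_pow, map_pow]

/-- relations among the generators -/
noncomputable def Rel {b : ℕ} (g : Fin b → A) : Submodule R (Fin b → R) := LinearMap.ker (lc g)

/-- relations among the `p`-th powers -/
noncomputable def RelP {b : ℕ} (g : Fin b → A) : Submodule R (Fin b → R) :=
  LinearMap.ker (lc (R := R) (fun j => g j ^ p))

/-- the span of the twisted relations -/
noncomputable def RelT {b : ℕ} (g : Fin b → A) : Submodule R (Fin b → R) :=
  Submodule.span R (tw p '' (Rel (R := R) g : Set (Fin b → R)))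

theorem RelT_le_RelP {b : ℕ} (g : Fin b → A) : RelT (R := R) p g ≤ RelP (R := R) p g := by
  rw [RelT, Submodule.span_le]
  rintro _ ⟨r, hr, rfl⟩
  have hr' : lc g r = 0 := hr
  show lc (fun j => g j ^ p) (tw p r) = 0
  rw [lc_tw, hr', zero_pow (Fact.out : p.Prime).ne_zero]

theorem tw_mem_RelT {b : ℕ} (g : Fin b → A) {r : Fin b → R} (hr : r ∈ Rel (R := R) g) :
    tw p r ∈ RelT (R := R) p g :=
  Submodule.subset_span ⟨r, hr, rfl⟩

theorem RelT_eq_span {b a : ℕ} (g : Fin b → A) (d : Fin a → Fin b → R)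
    (hd : Submodule.span R (Set.range d) = Rel (R := R) g) :
    RelT (R := R) p g = Submodule.span R (Set.range fun k => tw p (d k)) := by
  apply le_antisymm
  · rw [RelT, Submodule.span_le]
    rintro _ ⟨r, hr, rfl⟩
    rw [SetLike.mem_coe, ← hd] at hr
    obtain ⟨c, rfl⟩ := (Submodule.mem_span_range_iff_exists_fun R).mp hr
    rw [tw_sum]
    refine Submodule.sum_mem _ (fun k _ => ?_)
    rw [tw_smul]
    exact Submodule.smul_mem _ _ (Submodule.subset_span ⟨k, rfl⟩)
  · rw [Submodule.span_le]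
    rintro _ ⟨k, rfl⟩
    apply tw_mem_RelT
    rw [← hd]
    exact Submodule.subset_span ⟨k, rfl⟩

end Basic


section Matrices

variable {R : Type u} [CommRing R]

/-- the matrix of the system `x' v = ∑ w_k d_k` -/
def M1 {a b : ℕ} (x' : R) (d : Fin a → Fin b → R) : Matrix (Fin b) (Fin b ⊕ Fin a) R :=
  Matrix.of fun i c => Sum.elim (fun j => if i = j then x' else 0) (fun k => - d k i) c

theorem M1_mulVec {a b : ℕ} (x' : R) (d : Fin a → Fin b → R) (z : Fin b ⊕ Fin a → R)
    (i : Fin b) :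
    (M1 x' d).mulVec z i = x' * z (Sum.inl i) - ∑ k, d k i * z (Sum.inr k) := by
  simp only [M1, Matrix.mulVec, dotProduct, Matrix.of_apply, Fintype.sum_sum_type, Sum.elim_inl,
    Sum.elim_inr, ite_mul, zero_mul, Finset.sum_ite_eq, Finset.mem_univ, if_true, neg_mul,
    Finset.sum_neg_distrib, sub_eq_add_neg]

theorem M1_map {a b : ℕ} (φ : R →+* R) (x' : R) (d : Fin a → Fin b → R) :
    (M1 x' d).map φ = M1 (φ x') (fun k j => φ (d k j)) := by
  ext i c
  rcases c with j | k
  · simp only [M1, Matrix.map_apply, Matrix.of_apply, Sum.elim_inl]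
    split_ifs <;> simp
  · simp [M1]

/-- the matrix of the system `y' v = x' v' + ∑ w_k d_k` -/
def M2 {a b : ℕ} (y' x' : R) (d : Fin a → Fin b → R) :
    Matrix (Fin b) (Fin b ⊕ (Fin b ⊕ Fin a)) R :=
  Matrix.of fun i c => Sum.elim (fun j => if i = j then y' else 0)
    (Sum.elim (fun j => if i = j then - x' else 0) (fun k => - d k i)) c

theorem M2_mulVec {a b : ℕ} (y' x' : R) (d : Fin a → Fin b → R)
    (z : Fin b ⊕ (Fin b ⊕ Fin a) → R) (i : Fin b) :
    (M2 y' x' d).mulVec z i = y' * z (Sum.inl i) - x' * z (Sum.inr (Sum.inl i)) -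
      ∑ k, d k i * z (Sum.inr (Sum.inr k)) := by
  simp only [M2, Matrix.mulVec, dotProduct, Matrix.of_apply, Fintype.sum_sum_type, Sum.elim_inl,
    Sum.elim_inr, ite_mul, zero_mul, Finset.sum_ite_eq, Finset.mem_univ, if_true, neg_mul,
    Finset.sum_neg_distrib, sub_eq_add_neg]
  ring

theorem M2_map {a b : ℕ} (φ : R →+* R) (y' x' : R) (d : Fin a → Fin b → R) :
    (M2 y' x' d).map φ = M2 (φ y') (φ x') (fun k j => φ (d k j)) := by
  ext i c
  rcases c with j | j | k
  · simp only [M2, Matrix.map_apply, Matrix.of_apply, Sum.elim_inl]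
    split_ifs <;> simp
  · simp only [M2, Matrix.map_apply, Matrix.of_apply, Sum.elim_inl, Sum.elim_inr]
    split_ifs <;> simp
  · simp [M2]

end Matrices


section Twisted

variable {R : Type u} [CommRing R] [IsNoetherianRing R] (p : ℕ) [Fact p.Prime] [CharP R p]
  {A : Type v} [CommRing A] [IsDomain A] [Algebra R A] [CharP A p]
  (hflat : (frobenius R p).Flat) (hinj : Function.Injective (algebraMap R A))
  {b : ℕ} (g : Fin b → A)

include hinj in
omit [IsNoetherianRing R] in
theorem mem_Rel_of_smul (x' : R) (hx' : x' ≠ 0) (v : Fin b → R)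
    (h : x' • v ∈ Rel (R := R) g) : v ∈ Rel (R := R) g := by
  have h1 : lc g (x' • v) = 0 := h
  rw [map_smul, Algebra.smul_def] at h1
  rcases mul_eq_zero.mp h1 with h2 | h2
  · exact absurd ((map_eq_zero_iff _ hinj).mp h2) hx'
  · exact h2

include hflat hinj in
theorem T1 {a : ℕ} (d : Fin a → Fin b → R)
    (hd : Submodule.span R (Set.range d) = Rel (R := R) g) (x' : R) (hx' : x' ≠ 0)
    (w : Fin b → R) (hw : x' ^ p • w ∈ RelT (R := R) p g) : w ∈ RelT (R := R) p g := by
  classical
  rw [RelT_eq_span p g d hd] at hw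
  obtain ⟨c, hc⟩ := (Submodule.mem_span_range_iff_exists_fun R).mp hw
  let z : Fin b ⊕ Fin a → R := Sum.elim w c
  have hz : ((M1 x' d).map (frobenius R p)).mulVec z = 0 := by
    rw [M1_map]
    funext i
    rw [M1_mulVec]
    have h1 := congrFun hc i
    simp only [Finset.sum_apply, Pi.smul_apply, tw_apply, smul_eq_mul] at h1
    simp only [z, Sum.elim_inl, Sum.elim_inr, frobenius_def, Pi.zero_apply]
    rw [← h1, sub_eq_zero]
    exact Finset.sum_congr rfl (fun k _ => mul_comm _ _)
  obtain ⟨n, v, s, hv, hzv⟩ := @CPTwist.twist_solutions R R _ _ (frobenius R p).toAlgebra _ hflat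
    _ _ _ _ _ _ (M1 x' d) z hz
  have hvt : ∀ t, (fun j => v t (Sum.inl j)) ∈ Rel (R := R) g := by
    intro t
    apply mem_Rel_of_smul hinj g x' hx'
    have h2 : x' • (fun j => v t (Sum.inl j)) = ∑ k, v t (Sum.inr k) • d k := by
      funext i
      have h3 := congrFun (hv t) i
      rw [M1_mulVec, Pi.zero_apply, sub_eq_zero] at h3
      simp only [Pi.smul_apply, smul_eq_mul, Finset.sum_apply]
      rw [h3]
      exact Finset.sum_congr rfl (fun k _ => mul_comm _ _)
    rw [h2]
    refine Submodule.sum_mem _ (fun k _ => Submodule.smul_mem _ _ ?_)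
    rw [← hd]
    exact Submodule.subset_span ⟨k, rfl⟩
  have hw' : w = ∑ t, s t • tw p (fun j => v t (Sum.inl j)) := by
    funext j
    have h4 := congrFun hzv (Sum.inl j)
    simp only [z, Sum.elim_inl, Finset.sum_apply, Pi.smul_apply, smul_eq_mul] at h4
    simp only [Finset.sum_apply, Pi.smul_apply, tw_apply, smul_eq_mul]
    rw [h4]
    rfl
  rw [hw']
  exact Submodule.sum_mem _ (fun t _ => Submodule.smul_mem _ _ (tw_mem_RelT p g (hvt t)))

include hflat hinj in
theorem T2 {a : ℕ} (d : Fin a → Fin b → R)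
    (hd : Submodule.span R (Set.range d) = Rel (R := R) g)
    (hg : Submodule.span R (Set.range g) = ⊤) (x' y' : R)
    (hreg : RegMod (algebraMap R A x') (algebraMap R A y'))
    (w w' ρ : Fin b → R) (hρ : ρ ∈ RelT (R := R) p g)
    (h : y' ^ p • w = x' ^ p • w' + ρ) :
    ∃ w'' ρ' : Fin b → R, ρ' ∈ RelT (R := R) p g ∧ w = x' ^ p • w'' + ρ' := by
  classical
  rw [RelT_eq_span p g d hd] at hρ
  obtain ⟨c, hc⟩ := (Submodule.mem_span_range_iff_exists_fun R).mp hρ
  let z : Fin b ⊕ (Fin b ⊕ Fin a) → R := Sum.elim w (Sum.elim w' c)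
  have hz : ((M2 y' x' d).map (frobenius R p)).mulVec z = 0 := by
    rw [M2_map]
    funext i
    rw [M2_mulVec]
    have h1 := congrFun hc i
    have h2 := congrFun h i
    simp only [Finset.sum_apply, Pi.smul_apply, tw_apply, smul_eq_mul, Pi.add_apply] at h1 h2
    simp only [z, Sum.elim_inl, Sum.elim_inr, frobenius_def, Pi.zero_apply]
    rw [h2, ← h1]
    have : ∑ k, d k i ^ p * c k = ∑ k, c k * d k i ^ p :=
      Finset.sum_congr rfl (fun k _ => mul_comm _ _)
    rw [this]
    ring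
  obtain ⟨n, v, s, hv, hzv⟩ := @CPTwist.twist_solutions R R _ _ (frobenius R p).toAlgebra _ hflat
    _ _ _ _ _ _ (M2 y' x' d) z hz
  have hsurj : Function.Surjective (lc (R := R) g) := by
    rw [← LinearMap.range_eq_top, lc, Fintype.range_linearCombination, hg]
  have hvt : ∀ t, ∃ v'' ρt : Fin b → R, ρt ∈ Rel (R := R) g ∧
      (fun j => v t (Sum.inl j)) = x' • v'' + ρt := by
    intro t
    have h2 : y' • (fun j => v t (Sum.inl j)) = x' • (fun j => v t (Sum.inr (Sum.inl j))) +
        ∑ k, v t (Sum.inr (Sum.inr k)) • d k := by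
      funext i
      have h3 := congrFun (hv t) i
      rw [M2_mulVec, Pi.zero_apply] at h3
      simp only [Pi.smul_apply, smul_eq_mul, Finset.sum_apply, Pi.add_apply]
      have : ∑ k, d k i * v t (Sum.inr (Sum.inr k)) = ∑ k, v t (Sum.inr (Sum.inr k)) * d k i :=
        Finset.sum_congr rfl (fun k _ => mul_comm _ _)
      rw [this] at h3
      linear_combination h3
    have h4 : (∑ k, v t (Sum.inr (Sum.inr k)) • d k) ∈ Rel (R := R) g := by
      refine Submodule.sum_mem _ (fun k _ => Submodule.smul_mem _ _ ?_)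
      rw [← hd]
      exact Submodule.subset_span ⟨k, rfl⟩
    have h5 := congrArg (lc (R := R) g) h2
    rw [map_add, map_smul, map_smul, (show lc g (∑ k, v t (Sum.inr (Sum.inr k)) • d k) = 0 from h4),
      add_zero, Algebra.smul_def, Algebra.smul_def] at h5
    obtain ⟨c', hc'⟩ := hreg _ _ h5
    obtain ⟨v'', rfl⟩ := hsurj c'
    refine ⟨v'', (fun j => v t (Sum.inl j)) - x' • v'', ?_, by abel⟩
    show lc g ((fun j => v t (Sum.inl j)) - x' • v'') = 0
    rw [map_sub, map_smul, hc', Algebra.smul_def, sub_self]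
  choose v'' ρt hρt hv'' using hvt
  have hw' : w = ∑ t, s t • tw p (fun j => v t (Sum.inl j)) := by
    funext j
    have h4 := congrFun hzv (Sum.inl j)
    simp only [z, Sum.elim_inl, Finset.sum_apply, Pi.smul_apply, smul_eq_mul] at h4
    simp only [Finset.sum_apply, Pi.smul_apply, tw_apply, smul_eq_mul]
    rw [h4]
    rfl
  refine ⟨∑ t, s t • tw p (v'' t), ∑ t, s t • tw p (ρt t), ?_, ?_⟩
  · exact Submodule.sum_mem _ (fun t _ => Submodule.smul_mem _ _ (tw_mem_RelT p g (hρt t)))
  · rw [hw', Finset.smul_sum, ← Finset.sum_add_distrib]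
    refine Finset.sum_congr rfl (fun t _ => ?_)
    rw [hv'' t, tw_add, tw_smul, smul_add, smul_comm]

end Twisted


section Main

variable {R : Type u} [CommRing R] [IsLocalRing R] [IsNoetherianRing R] (p : ℕ) [Fact p.Prime]
  [CharP R p] {A : Type v} [CommRing A] [IsDomain A] [Algebra R A] [Module.Finite R A] [CharP A p]

variable (A) in
/-- the relative Frobenius is an isomorphism up to an element outside `q` -/
def LocalData (q : Ideal R) : Prop :=
  ∃ s : R, s ∉ q ∧ ∀ (b : ℕ) (g : Fin b → A), Submodule.span R (Set.range g) = ⊤ →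
    (∀ c : A, ∃ α : Fin b → R, s ^ p • c = lc (fun j => g j ^ p) α) ∧
    (∀ r ∈ RelP (R := R) p g, s ^ p • r ∈ RelT (R := R) p g)

theorem free_of_local_data (hflat : (frobenius R p).Flat)
    (hinj : Function.Injective (algebraMap R A)) (x y : R) (hxm : x ∈ maximalIdeal R)
    (hym : y ∈ maximalIdeal R) (hx0 : x ≠ 0)
    (hreg : RegMod (algebraMap R A x) (algebraMap R A y))
    (hloc : ∀ q : Ideal R, q.IsPrime → q ≠ maximalIdeal R → LocalData p A q) :
    Module.Free R A := by
  classical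
  haveI : IsDomain R := hinj.isDomain (algebraMap R A)
  have hp0 : p ≠ 0 := (Fact.out : p.Prime).ne_zero
  obtain ⟨b, g, hg, hmin⟩ : ∃ (b : ℕ) (g : Fin b → A), Submodule.span R (Set.range g) = ⊤ ∧
      ∀ r ∈ Rel (R := R) g, ∀ j, r j ∈ maximalIdeal R := by
    obtain ⟨g, hg⟩ := CPAlg.exists_gens (⊤ : Submodule R A) Module.Finite.fg_top
    refine ⟨_, g, hg, ?_⟩
    intro r hr j
    refine CPAlg.coeff_mem_of_minimal ⊤ g hg r ?_ j
    rw [← lc_apply]; exact hr
  obtain ⟨a, d, hd⟩ := Submodule.fg_iff_exists_fin_generating_family.mp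
    (IsNoetherian.noetherian (Rel (R := R) g))
  have hsurj : Function.Surjective (lc (R := R) g) := by
    rw [← LinearMap.range_eq_top, lc, Fintype.range_linearCombination, hg]
  let 𝔞1 : Ideal R := (LinearMap.range (lc (R := R) (fun j => g j ^ p))).colon (Set.univ : Set A)
  let 𝔞2 : Ideal R := (RelT (R := R) p g).colon (RelP (R := R) p g : Set (Fin b → R))
  have hq : ∀ q : Ideal R, q.IsPrime → q ≠ maximalIdeal R → ¬ (𝔞1 ⊓ 𝔞2 ≤ q) := by
    intro q hqp hqm hle
    obtain ⟨s, hsq, hs⟩ := hloc q hqp hqm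
    obtain ⟨h1, h2⟩ := hs b g hg
    have hs1 : s ^ p ∈ 𝔞1 := by
      rw [Submodule.mem_colon]
      intro c _
      obtain ⟨α, hα⟩ := h1 c
      exact ⟨α, hα.symm⟩
    have hs2 : s ^ p ∈ 𝔞2 := by
      rw [Submodule.mem_colon]
      intro r hr
      exact h2 r hr
    exact hsq (hqp.mem_of_pow_mem p (hle ⟨hs1, hs2⟩))
  obtain ⟨N, hN⟩ := CPAlg.exists_pow_le (𝔞1 ⊓ 𝔞2) hq
  set x' := x ^ N with hx'
  set y' := y ^ N with hy'
  have hx'0 : x' ≠ 0 := pow_ne_zero _ hx0
  have hmemN : ∀ t ∈ maximalIdeal R, (t ^ N) ^ p ∈ 𝔞1 ⊓ 𝔞2 := by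
    intro t ht
    apply hN
    exact Ideal.pow_le_self hp0 (Ideal.pow_mem_pow (Ideal.pow_mem_pow ht N) p)
  have hu := hmemN x hxm
  have hv := hmemN y hym
  have hreg' : RegMod (algebraMap R A x') (algebraMap R A y') := by
    rw [hx', hy', map_pow, map_pow]
    exact hreg.pow (by rwa [Ne, map_eq_zero_iff _ hinj]) N N
  -- injectivity of the relative Frobenius
  have K1 : ∀ r ∈ RelP (R := R) p g, r ∈ RelT (R := R) p g := by
    intro r hr
    exact T1 p hflat hinj g d hd x' hx'0 r ((Submodule.mem_colon.mp hu.2) r hr)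
  -- surjectivity of the relative Frobenius
  have K2 : ∀ c : A, ∃ α : Fin b → R, c = lc (fun j => g j ^ p) α := by
    intro c
    obtain ⟨α, hα⟩ := (Submodule.mem_colon.mp hu.1) c (Set.mem_univ c)
    obtain ⟨β, hβ⟩ := (Submodule.mem_colon.mp hv.1) c (Set.mem_univ c)
    have h3 : y' ^ p • α - x' ^ p • β ∈ RelP (R := R) p g := by
      show lc (fun j => g j ^ p) (y' ^ p • α - x' ^ p • β) = 0
      rw [map_sub, map_smul, map_smul, hα, hβ, smul_comm, sub_self]
    have h4 := K1 _ h3
    obtain ⟨w'', ρ', hρ', hw''⟩ := T2 p hflat hinj g d hd hg x' y' hreg' α β _ h4 (by abel)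
    refine ⟨w'', ?_⟩
    have h5 : lc (fun j => g j ^ p) ρ' = 0 := RelT_le_RelP p g hρ'
    have h6 : x' ^ p • c = x' ^ p • lc (fun j => g j ^ p) w'' := by
      rw [← hα, hw'', map_add, map_smul, h5, add_zero]
    rw [Algebra.smul_def, Algebra.smul_def] at h6
    exact mul_left_cancel₀ (by
      rw [Ne, map_eq_zero_iff _ hinj]; exact pow_ne_zero _ hx'0) h6
  choose C hC using fun j => K2 (g j)
  choose E hE using fun l => hsurj (g l ^ p)
  let Cm : Matrix (Fin b) (Fin b) R := Matrix.of C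
  let Em : Matrix (Fin b) (Fin b) R := Matrix.of E
  have hCE : ∀ j, (fun j' => (Cm * Em - 1) j j') ∈ Rel (R := R) g := by
    intro j
    show lc g (fun j' => (Cm * Em - 1) j j') = 0
    rw [lc_apply]
    have h1 : ∀ j', (Cm * Em - 1) j j' • g j' = (∑ l, C j l * E l j') • g j' - (1 : Matrix _ _ R) j j' • g j' := by
      intro j'
      rw [Matrix.sub_apply, Matrix.mul_apply, sub_smul]
      rfl
    simp_rw [h1]
    rw [Finset.sum_sub_distrib]
    have h2 : ∑ j', (1 : Matrix (Fin b) (Fin b) R) j j' • g j' = g j := by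
      simp [Matrix.one_apply]
    have h3 : ∑ j', (∑ l, C j l * E l j') • g j' = g j := by
      conv_rhs => rw [hC j, lc_apply]
      simp_rw [Finset.sum_smul, mul_smul]
      rw [Finset.sum_comm]
      refine Finset.sum_congr rfl (fun l _ => ?_)
      rw [← Finset.smul_sum, ← lc_apply, hE l]
    rw [h2, h3, sub_self]
  have hdetCE : IsUnit (Cm * Em).det :=
    CPAlg.isUnit_det_of_sub_one_mem _ (fun i j => hmin _ (hCE i) j)
  have hdetC : IsUnit Cm.det := by
    rw [Matrix.det_mul] at hdetCE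
    exact isUnit_of_mul_isUnit_left hdetCE
  -- the ideal of coefficients of relations
  let I : Ideal R := Ideal.span {t | ∃ r ∈ Rel (R := R) g, ∃ j, t = r j}
  have hIm : I ≤ maximalIdeal R := by
    rw [Ideal.span_le]
    rintro _ ⟨r, hr, j, rfl⟩
    exact hmin r hr j
  let Ip : Ideal R := I.map (frobenius R p)
  have hcoord : ∀ ρ ∈ RelT (R := R) p g, ∀ j, ρ j ∈ Ip := by
    intro ρ hρ
    refine Submodule.span_induction ?_ ?_ ?_ ?_ hρ
    · rintro _ ⟨r, hr, rfl⟩ j
      rw [tw_apply, ← frobenius_def]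
      exact Ideal.mem_map_of_mem _ (Ideal.subset_span ⟨r, hr, j, rfl⟩)
    · intro j; exact Ip.zero_mem
    · intro ρ₁ ρ₂ _ _ h1 h2 j; exact Ip.add_mem (h1 j) (h2 j)
    · intro t ρ₁ _ h1 j; exact Ip.mul_mem_left _ (h1 j)
  have hkey : ∀ r ∈ Rel (R := R) g, ∀ j, r j ∈ Ip := by
    intro r hr j
    have h1 : Matrix.vecMul r Cm ∈ RelP (R := R) p g := by
      show lc (fun j => g j ^ p) (Matrix.vecMul r Cm) = 0
      rw [lc_apply]
      have h2 : ∀ l, Matrix.vecMul r Cm l • g l ^ p = ∑ j, r j • (C j l • g l ^ p) := by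
        intro l
        simp only [Matrix.vecMul, dotProduct, Cm, Matrix.of_apply, Finset.sum_smul, mul_smul]
      simp_rw [h2]
      rw [Finset.sum_comm]
      have h3 : ∀ j, ∑ l, r j • (C j l • g l ^ p) = r j • g j := by
        intro j
        rw [← Finset.smul_sum, ← lc_apply, ← hC j]
      simp_rw [h3]
      rw [← lc_apply]; exact hr
    have h4 := hcoord _ (K1 _ h1)
    have h5 : r = Matrix.vecMul (Matrix.vecMul r Cm) Cm⁻¹ := by
      rw [Matrix.vecMul_vecMul, Matrix.mul_nonsing_inv _ hdetC, Matrix.vecMul_one]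
    rw [h5]
    simp only [Matrix.vecMul, dotProduct]
    exact Ideal.sum_mem _ (fun l _ => Ip.mul_mem_right _ (h4 l))
  have hIIp : I ≤ Ip := by
    rw [Ideal.span_le]
    rintro _ ⟨r, hr, j, rfl⟩
    exact hkey r hr j
  have hIpm : Ip ≤ maximalIdeal R • I := by
    rw [Ideal.map_le_iff_le_comap]
    intro t ht
    rw [Ideal.mem_comap, frobenius_def]
    obtain ⟨k, hk⟩ : ∃ k, p = k + 1 + 1 := ⟨p - 2, by have := (Fact.out : p.Prime).two_le; omega⟩
    rw [hk, pow_succ, smul_eq_mul]
    exact Ideal.mul_mem_mul (Ideal.pow_mem_of_mem _ (hIm ht) _ (by omega)) ht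
  have hI0 : I = ⊥ :=
    Submodule.eq_bot_of_le_smul_of_le_jacobson_bot (maximalIdeal R) I (IsNoetherian.noetherian I)
      (hIIp.trans hIpm) (maximalIdeal_le_jacobson _)
  have hRel0 : ∀ r ∈ Rel (R := R) g, r = 0 := by
    intro r hr
    funext j
    have : r j ∈ I := Ideal.subset_span ⟨r, hr, j, rfl⟩
    rw [hI0] at this
    exact this
  have hinjlc : Function.Injective (lc (R := R) g) := by
    rw [← LinearMap.ker_eq_bot, eq_bot_iff]
    intro r hr
    rw [Submodule.mem_bot]
    exact hRel0 r hr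
  exact Module.Free.of_equiv (LinearEquiv.ofBijective (lc (R := R) g) ⟨hinjlc, hsurj⟩)

end Main

end Groth.Agent.Lib.Helper52.CPCore
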