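import Mathlib
import Groth.Agent.Lib.Helper52.CPAlg
import Groth.Agent.S10957

/-!
# A regular pair on a normal finite extension (helper52)
-/
universe u v
set_option autoImplicit false
open IsLocalRing

namespace Groth.Agent.Lib.Helper52.CPDepth

open Groth.Agent.Lib.Helper52 CPAlg

/-- In a normal Noetherian domain, a prime of the form `(x : c)` has height at most one. -/
theorem height_le_one_of_colon {A : Type v} [CommRing A] [IsDomain A] [IsNoetherianRing A]
    [IsIntegrallyClosed A] (x : A) (hx : x ≠ 0) (P : Ideal A) [P.IsPrime] (c : A)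
    (hP : ∀ a, a ∈ P ↔ a * c ∈ Ideal.span {x}) : P.height ≤ 1 := by
  let Ap := Localization.AtPrime P
  have hinjloc : Function.Injective (algebraMap A Ap) :=
    IsLocalization.injective Ap P.primeCompl_le_nonZeroDivisors
  have hx' : algebraMap A Ap x ≠ 0 := by
    rw [Ne, map_eq_zero_iff _ hinjloc]; exact hx
  haveI : IsIntegrallyClosed Ap :=
    isIntegrallyClosed_of_isLocalization Ap P.primeCompl P.primeCompl_le_nonZeroDivisors
  have hass : maximalIdeal Ap ∈ associatedPrimes Ap (Ap ⧸ Ideal.span {algebraMap A Ap x}) := by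
    rw [AssociatedPrimes.mem_iff, isAssociatedPrime_iff]
    refine ⟨inferInstance, Ideal.Quotient.mk _ (algebraMap A Ap c), ?_⟩
    have hmem : ∀ t : Ap, t ∈ Submodule.colon (⊥ : Submodule Ap (Ap ⧸ Ideal.span {algebraMap A Ap x}))
        {Ideal.Quotient.mk _ (algebraMap A Ap c)} ↔
        t * algebraMap A Ap c ∈ Ideal.span {algebraMap A Ap x} := by
      intro t
      rw [Submodule.mem_colon_singleton, Submodule.mem_bot, ← Ideal.Quotient.eq_zero_iff_mem,
        map_mul]
      rfl
    have hc : algebraMap A Ap c ∉ Ideal.span {algebraMap A Ap x} := by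
      intro h
      rw [Ideal.mem_span_singleton'] at h
      obtain ⟨w, hw⟩ := h
      obtain ⟨d, s, rfl⟩ := IsLocalization.exists_mk'_eq P.primeCompl w
      rw [mul_comm, IsLocalization.mul_mk'_eq_mk'_of_mul, IsLocalization.mk'_eq_iff_eq_mul, ← map_mul] at hw
      have hw' := hinjloc hw
      have h1 : (s : A) ∈ P := by
        rw [hP, Ideal.mem_span_singleton']
        exact ⟨d, by rw [mul_comm d x, hw', mul_comm]⟩
      exact s.2 h1
    ext t
    rw [hmem]
    constructor
    · intro ht
      obtain ⟨a, s, rfl⟩ := IsLocalization.exists_mk'_eq P.primeCompl t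
      rw [IsLocalization.AtPrime.mk'_mem_maximal_iff Ap P] at ht
      obtain ⟨d, hd⟩ := Ideal.mem_span_singleton'.mp ((hP a).mp ht)
      rw [Ideal.mem_span_singleton']
      refine ⟨IsLocalization.mk' Ap d s, ?_⟩
      rw [mul_comm, IsLocalization.mul_mk'_eq_mk'_of_mul, mul_comm (IsLocalization.mk' Ap a s),
        IsLocalization.mul_mk'_eq_mk'_of_mul, mul_comm x d, hd, mul_comm]
    · intro ht
      by_contra hnot
      have hu : IsUnit t := by
        by_contra hu
        exact hnot ((mem_maximalIdeal t).mpr hu)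
      apply hc
      have := Ideal.mul_mem_left _ (↑hu.unit⁻¹ : Ap) ht
      rwa [← mul_assoc, IsUnit.val_inv_mul, one_mul] at this
  haveI : IsDiscreteValuationRing Ap := Groth.Agent.S10957.result Ap _ hx' hass
  have h1 : ringKrullDim Ap = 1 := IsDiscreteValuationRing.ringKrullDim_eq_one Ap
  have h2 : ringKrullDim Ap = P.height := IsLocalization.AtPrime.ringKrullDim_eq_height P Ap
  rw [h2] at h1
  have : (P.height : WithBot ℕ∞) = ((1 : ℕ∞) : WithBot ℕ∞) := h1
  exact (WithBot.coe_injective this).le

/-- A regular pair from the base on a normal finite extension, in dimension at least two. -/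
theorem exists_regMod {R : Type u} [CommRing R] [IsDomain R] [IsLocalRing R] [IsNoetherianRing R]
    [IsIntegrallyClosed R] {A : Type v} [CommRing A] [IsDomain A] [IsIntegrallyClosed A]
    [Algebra R A] [Module.Finite R A] (hinj : Function.Injective (algebraMap R A))
    (hdim : 2 ≤ ringKrullDim R) :
    ∃ x y : R, x ∈ maximalIdeal R ∧ y ∈ maximalIdeal R ∧ x ≠ 0 ∧
      RegMod (algebraMap R A x) (algebraMap R A y) := by
  classical
  haveI : IsNoetherianRing A := IsNoetherianRing.of_finite R A
  haveI : Algebra.IsIntegral R A := Algebra.IsIntegral.of_finite R A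
  haveI : FaithfulSMul R A := (faithfulSMul_iff_algebraMap_injective R A).mpr hinj
  obtain ⟨x, hxm, hx0⟩ : ∃ x ∈ maximalIdeal R, x ≠ 0 := by
    by_contra hcon
    push Not at hcon
    have hbot : maximalIdeal R = ⊥ :=
      le_antisymm (fun x hx => by rw [hcon x hx]; exact Submodule.zero_mem _) bot_le
    have hf : IsField R := IsLocalRing.isField_iff_maximalIdeal_eq.mpr hbot
    letI := hf.toField
    rw [ringKrullDim_eq_zero_of_field] at hdim
    exact absurd hdim (by decide)
  set x' := algebraMap R A x with hx'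
  have hx'0 : x' ≠ 0 := by rw [hx', Ne, map_eq_zero_iff _ hinj]; exact hx0
  have hfin : (associatedPrimes A (A ⧸ Ideal.span {x'})).Finite := associatedPrimes.finite A _
  have hne : ∀ P ∈ associatedPrimes A (A ⧸ Ideal.span {x'}), P.under R ≠ maximalIdeal R := by
    intro P hP
    obtain ⟨hPp, z, hz⟩ := (isAssociatedPrime_iff).mp hP
    obtain ⟨c, rfl⟩ := Ideal.Quotient.mk_surjective z
    haveI := hPp
    have hcol : ∀ a, a ∈ P ↔ a * c ∈ Ideal.span {x'} := by
      intro a
      rw [hz, Submodule.mem_colon_singleton, Submodule.mem_bot, ← Ideal.Quotient.eq_zero_iff_mem,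
        map_mul]
      rfl
    have hht := height_le_one_of_colon x' hx'0 P c hcol
    intro hmax
    haveI : P.LiesOver (P.under R) := ⟨rfl⟩
    have h1 := Ideal.height_eq_height_add_of_liesOver_of_hasGoingDown (P.under R) P
    have h2 : (P.under R).height ≤ P.height := by rw [h1]; exact le_self_add
    rw [hmax] at h2
    have h3 : ((maximalIdeal R).height : WithBot ℕ∞) = ringKrullDim R :=
      IsLocalRing.maximalIdeal_height_eq_ringKrullDim
    rw [← h3] at hdim
    have h4 : (2 : ℕ∞) ≤ (maximalIdeal R).height := by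
      have : ((2 : ℕ∞) : WithBot ℕ∞) ≤ ((maximalIdeal R).height : WithBot ℕ∞) := hdim
      exact WithBot.coe_le_coe.mp this
    have h5 : (2 : ℕ∞) ≤ 1 := h4.trans (h2.trans hht)
    exact absurd h5 (by decide)
  obtain ⟨y, hym, hy⟩ : ∃ y ∈ maximalIdeal R,
      ∀ P ∈ associatedPrimes A (A ⧸ Ideal.span {x'}), y ∉ P.under R := by
    by_contra hcon
    push Not at hcon
    have hsub : ((maximalIdeal R : Ideal R) : Set R) ⊆
        ⋃ P ∈ (↑hfin.toFinset : Set (Ideal A)), ((P.under R : Ideal R) : Set R) := by
      intro y hy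
      obtain ⟨P, hP, hyP⟩ := hcon y hy
      exact Set.mem_iUnion₂.mpr ⟨P, by simpa using hP, hyP⟩
    rw [Ideal.subset_union_prime (⊤ : Ideal A) ⊤] at hsub
    · obtain ⟨P, hP, hle⟩ := hsub
      have hP' : P ∈ associatedPrimes A (A ⧸ Ideal.span {x'}) := by simpa using hP
      haveI : P.IsPrime := hP'.isPrime
      have hprime : (P.under R).IsPrime := inferInstance
      exact hne P hP' (le_antisymm (IsLocalRing.le_maximalIdeal hprime.ne_top) hle)
    · intro P hP _ _
      have hP' : P ∈ associatedPrimes A (A ⧸ Ideal.span {x'}) := by simpa using hP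
      haveI : P.IsPrime := hP'.isPrime
      infer_instance
  refine ⟨x, y, hxm, hym, hx0, ?_⟩
  intro c e hce
  by_contra hnot
  push Not at hnot
  have hz : Ideal.Quotient.mk (Ideal.span {x'}) c ≠ 0 := by
    intro h
    rw [Ideal.Quotient.eq_zero_iff_mem, Ideal.mem_span_singleton'] at h
    obtain ⟨c', hc'⟩ := h
    exact hnot c' (by rw [← hc', mul_comm])
  have hmem : algebraMap R A y ∈ {r : A | ∃ z : A ⧸ Ideal.span {x'}, z ≠ 0 ∧ r • z = 0} := by
    refine ⟨_, hz, ?_⟩
    show Ideal.Quotient.mk (Ideal.span {x'}) (algebraMap R A y * c) = 0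
    rw [hce, Ideal.Quotient.eq_zero_iff_mem]
    exact Ideal.mul_mem_right _ _ (Ideal.mem_span_singleton_self x')
  rw [← biUnion_associatedPrimes_eq_zero_divisors A] at hmem
  obtain ⟨P, hP, hyP⟩ := Set.mem_iUnion₂.mp hmem
  exact hy P hP hyP

end Groth.Agent.Lib.Helper52.CPDepth
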