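import Groth.Agent.Lib.Helper52.WQGalois
import Groth.Agent.Lib.Helper77.RegularLocalization
import Groth.Agent.S0565
import Mathlib.LinearAlgebra.TensorProduct.Finiteness
import Mathlib.RingTheory.Flat.Localization
import Mathlib.RingTheory.Localization.LocalizationLocalization

/-!
# Free actions are Galois: the dual basis relation and flatness over the invariants
-/

set_option autoImplicit false
universe u v w

namespace Groth.Agent.Lib.Helper52.WQ

open IsLocalRing
open scoped TensorProduct

section Trace

variable {A : Type u} [CommRing A] {G : Type w} [Group G] [Fintype G] [MulSemiringAction G A]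

/-- The `G`-trace, as a linear map to the ring of invariants. -/
noncomputable def trace : A →ₗ[FixedPoints.subring A G] FixedPoints.subring A G where
  toFun a := ⟨∑ σ : G, σ • a, fun τ => by
    rw [Finset.smul_sum]
    exact Fintype.sum_equiv (Equiv.mulLeft τ) _ _ (fun σ => by simp [mul_smul])⟩
  map_add' a b := by
    apply Subtype.ext
    simp [smul_add, Finset.sum_add_distrib]
  map_smul' b a := by
    apply Subtype.ext
    simp only [RingHom.id_apply, Subring.coe_mul, smul_eq_mul]
    rw [Finset.mul_sum]
    refine Finset.sum_congr rfl fun σ _ => ?_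
    rw [Algebra.smul_def, smul_mul']
    congr 1
    exact b.2 σ

lemma coe_trace (a : A) : ((trace (G := G) a : FixedPoints.subring A G) : A) = ∑ σ : G, σ • a := rfl

/-- The maps `a ⊗ b ↦ a * τ b`. -/
noncomputable def H (τ : G) :
    A ⊗[FixedPoints.subring A G] A →ₐ[FixedPoints.subring A G] A :=
  Algebra.TensorProduct.productMap (AlgHom.id _ A)
    (MulSemiringAction.toAlgHom (FixedPoints.subring A G) A τ)

lemma H_tmul (τ : G) (a b : A) : H τ (a ⊗ₜ[FixedPoints.subring A G] b) = a * τ • b := by
  simp [H]

variable [DecidableEq G]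

/-- The Chase–Harrison–Rosenberg element. -/
theorem exists_tensor (P : Ideal (FixedPoints.subring A G)) [P.IsPrime]
    (h : ∀ σ : G, σ ≠ 1 → ∃ s : FixedPoints.subring A G, s ∉ P ∧
      (s : A) ∈ Ideal.span (Set.range fun a : A => σ • a - a)) :
    ∃ (t : A ⊗[FixedPoints.subring A G] A) (s : FixedPoints.subring A G), s ∉ P ∧
      H (1 : G) t = s ∧ ∀ τ : G, τ ≠ 1 → H τ t = 0 := by
  have h' : ∀ σ : G, ∃ t : A ⊗[FixedPoints.subring A G] A, σ ≠ 1 →
      (H σ t = 0 ∧ ∃ s : FixedPoints.subring A G, s ∉ P ∧ H (1 : G) t = s) := by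
    intro σ
    by_cases hσ : σ = 1
    · exact ⟨0, fun h1 => absurd hσ h1⟩
    obtain ⟨s, hsP, hs⟩ := h σ hσ
    obtain ⟨c, hc⟩ := Finsupp.mem_span_range_iff_exists_finsupp.mp hs
    refine ⟨(∑ a ∈ c.support, (-c a) ⊗ₜ[FixedPoints.subring A G] a) +
      (∑ a ∈ c.support, c a * σ • a) ⊗ₜ[FixedPoints.subring A G] 1, fun _ => ⟨?_, s, hsP, ?_⟩⟩
    · rw [map_add, map_sum, H_tmul, smul_one, mul_one]
      simp only [H_tmul, neg_mul, Finset.sum_neg_distrib]
      exact neg_add_cancel _
    · rw [map_add, map_sum, H_tmul, one_smul, mul_one]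
      simp only [H_tmul, one_smul, neg_mul, Finset.sum_neg_distrib]
      rw [← hc, Finsupp.sum, neg_add_eq_sub, ← Finset.sum_sub_distrib]
      refine Finset.sum_congr rfl fun a _ => ?_
      rw [smul_eq_mul]; ring
  choose T hT using h'
  refine ⟨∏ σ ∈ Finset.univ.erase (1 : G), T σ, ?_⟩
  have hs' : ∀ σ : G, ∃ s : FixedPoints.subring A G, σ ≠ 1 → (s ∉ P ∧ H (1 : G) (T σ) = s) := by
    intro σ
    by_cases hσ : σ = 1
    · exact ⟨0, fun h1 => absurd hσ h1⟩
    · obtain ⟨-, s, hs1, hs2⟩ := hT σ hσ
      exact ⟨s, fun _ => ⟨hs1, hs2⟩⟩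
  choose S hS using hs'
  refine ⟨∏ σ ∈ Finset.univ.erase (1 : G), S σ, ?_, ?_, ?_⟩
  · rw [Ideal.IsPrime.prod_mem_iff]
    rintro ⟨σ, hσ, hmem⟩
    exact (hS σ (Finset.ne_of_mem_erase hσ)).1 hmem
  · rw [map_prod]
    have : ((∏ σ ∈ Finset.univ.erase (1 : G), S σ : FixedPoints.subring A G) : A) =
        ∏ σ ∈ Finset.univ.erase (1 : G), ((S σ : FixedPoints.subring A G) : A) :=
      map_prod (FixedPoints.subring A G).subtype _ _
    rw [this]
    exact Finset.prod_congr rfl fun σ hσ => (hS σ (Finset.ne_of_mem_erase hσ)).2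
  · intro τ hτ
    rw [map_prod]
    exact Finset.prod_eq_zero (Finset.mem_erase.mpr ⟨hτ, Finset.mem_univ τ⟩) (hT τ hτ).1

/-- The dual basis relation. -/
theorem exists_dual_basis (P : Ideal (FixedPoints.subring A G)) [P.IsPrime]
    (h : ∀ σ : G, σ ≠ 1 → ∃ s : FixedPoints.subring A G, s ∉ P ∧
      (s : A) ∈ Ideal.span (Set.range fun a : A => σ • a - a)) :
    ∃ (s : FixedPoints.subring A G) (F : Finset (A × A)), s ∉ P ∧
      ∀ a : A, ∑ i ∈ F, i.1 * ((trace (G := G) (i.2 * a) : FixedPoints.subring A G) : A) =
        s * a := by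
  obtain ⟨t, s, hsP, h1, hτ⟩ := exists_tensor P h
  obtain ⟨F, hF⟩ := TensorProduct.exists_finset t
  refine ⟨s, F, hsP, fun a => ?_⟩
  have hH : ∀ τ : G, H τ t = ∑ i ∈ F, i.1 * τ • i.2 := by
    intro τ
    rw [hF, map_sum]
    exact Finset.sum_congr rfl fun i _ => H_tmul τ i.1 i.2
  calc ∑ i ∈ F, i.1 * ((trace (G := G) (i.2 * a) : FixedPoints.subring A G) : A)
      = ∑ i ∈ F, ∑ τ : G, (τ • a) * (i.1 * τ • i.2) := by
        refine Finset.sum_congr rfl fun i _ => ?_
        rw [coe_trace, Finset.mul_sum]
        refine Finset.sum_congr rfl fun τ _ => ?_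
        rw [smul_mul']; ring
    _ = ∑ τ : G, (τ • a) * H τ t := by
        rw [Finset.sum_comm]
        refine Finset.sum_congr rfl fun τ _ => ?_
        rw [hH τ, Finset.mul_sum]
    _ = s * a := by
        rw [Finset.sum_eq_single (1 : G)]
        · rw [one_smul, h1, mul_comm]
        · intro τ _ hτ1
          rw [hτ τ hτ1, mul_zero]
        · intro h; exact absurd (Finset.mem_univ _) h

end Trace


section Flat

/-- If `β ∘ α = s` for maps `A → Bⁿ → A` and `s` lies in the multiplicative set `S`, then the
localization of `A` at `S` is flat over `B`. -/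
theorem flat_of_split_localization {B A : Type*} [CommRing B] [CommRing A] [Algebra B A]
    (S : Submonoid B) (s : B) (hs : s ∈ S) {ι : Type*} [Fintype ι]
    (α : A →ₗ[B] (ι → B)) (β : (ι → B) →ₗ[B] A) (hαβ : ∀ a, β (α a) = s • a)
    (A' : Type*) [CommRing A'] [Algebra A A'] [Algebra B A'] [IsScalarTower B A A']
    [IsLocalization (Algebra.algebraMapSubmonoid A S) A'] : Module.Flat B A' := by
  let f : A →ₗ[B] A' := (IsScalarTower.toAlgHom B A A').toLinearMap
  let g := LocalizedModule.mkLinearMap S (ι → B)
  let α' := IsLocalizedModule.map S f g α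
  let β' := IsLocalizedModule.map S g f β
  have h1 : β' ∘ₗ α' = s • LinearMap.id := by
    have h2 : β ∘ₗ α = s • LinearMap.id := LinearMap.ext hαβ
    rw [← IsLocalizedModule.map_comp' S f g f α β, h2, map_smul, IsLocalizedModule.map_id]
  have hu : IsUnit (algebraMap B (Module.End B A') s) := IsLocalizedModule.map_units f ⟨s, hs⟩
  haveI : Module.Flat B (Localization S) := IsLocalization.flat (Localization S) S
  haveI : Module.Flat B (LocalizedModule S (ι → B)) :=
    Module.Flat.trans B (Localization S) (LocalizedModule S (ι → B))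
  refine Module.Flat.of_retract α' ((↑hu.unit⁻¹ : Module.End B A') ∘ₗ β') ?_
  rw [LinearMap.comp_assoc, h1]
  have h3 : (s • LinearMap.id : A' →ₗ[B] A') = algebraMap B (Module.End B A') s := by
    ext x
    simp [Module.algebraMap_end_apply]
  rw [h3]
  exact hu.val_inv_mul

end Flat


section Regular

variable {A : Type u} [CommRing A] [IsRegularLocalRing A]
  [IsAdicComplete (maximalIdeal A) A] {k : Type v} [Field k] [Algebra k A]
  {G : Type w} [Group G] [Finite G] [MulSemiringAction G A]

/-- For an action ramified precisely at the origin, the invariant ring is regular away from the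
closed point. -/
theorem isRegularLocalRing_localization_fixed
    (hk : Function.Surjective (residue A ∘ algebraMap k A))
    (hGk : ∀ (σ : G) (c : k), σ • algebraMap k A c = algebraMap k A c)
    (hram : ∀ P : Ideal A, P.IsPrime → P ≠ maximalIdeal A → P.inertia G = ⊥)
    (P : Ideal (FixedPoints.subring A G)) [P.IsPrime] (hP : ¬ P.IsMaximal) :
    IsRegularLocalRing (Localization.AtPrime P) := by
  classical
  haveI : Fintype G := Fintype.ofFinite G
  haveI : IsNoetherianRing (FixedPoints.subring A G) := isNoetherianRing_fixed' hk hGk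
  -- primes over `P` are not maximal
  have hQne : ∀ Q : Ideal A, Q.comap (algebraMap (FixedPoints.subring A G) A) = P →
      Q ≠ maximalIdeal A := by
    rintro Q hQc rfl
    apply hP
    rw [← hQc]
    have := maximalIdeal_fixed (A := A) (G := G)
    change maximalIdeal _ = Ideal.comap (algebraMap (FixedPoints.subring A G) A) _ at this
    rw [← this]
    exact maximalIdeal.isMaximal _
  -- the dual basis relation
  have hcond : ∀ σ : G, σ ≠ 1 → ∃ s : FixedPoints.subring A G, s ∉ P ∧
      (s : A) ∈ Ideal.span (Set.range fun a : A => σ • a - a) := by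
    intro σ hσ
    by_contra hcon
    push Not at hcon
    have hle : (Ideal.span (Set.range fun a : A => σ • a - a)).comap
        (algebraMap (FixedPoints.subring A G) A) ≤ P := by
      intro s hs
      by_contra hsP
      exact hcon s hsP hs
    obtain ⟨Q, hQle, hQp, hQc⟩ := Ideal.exists_ideal_over_prime_of_isIntegral P _ hle
    have hin := hram Q hQp (hQne Q hQc)
    have hσin : σ ∈ Q.inertia G := fun a => hQle (Ideal.subset_span ⟨a, rfl⟩)
    rw [hin, Subgroup.mem_bot] at hσin
    exact hσ hσin
  obtain ⟨s, F, hsP, hrel⟩ := exists_dual_basis P hcond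
  -- a prime over `P`
  obtain ⟨Q, -, hQp, hQc⟩ := Ideal.exists_ideal_over_prime_of_isIntegral P (⊥ : Ideal A)
    (by
      intro x hx
      rw [Ideal.mem_comap, Ideal.mem_bot] at hx
      have : x = 0 := Subtype.val_injective (by simpa using hx)
      rw [this]; exact P.zero_mem)
  haveI : Q.IsPrime := hQp
  haveI : Q.LiesOver P := ⟨hQc.symm⟩
  -- flatness of the semilocal localization
  let α : A →ₗ[FixedPoints.subring A G] (↥F → FixedPoints.subring A G) :=
    LinearMap.pi fun i => (trace (G := G)).comp (LinearMap.mulLeft _ (i : A × A).2)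
  let β : (↥F → FixedPoints.subring A G) →ₗ[FixedPoints.subring A G] A :=
    Fintype.linearCombination _ (fun i : ↥F => (i : A × A).1)
  have hαβ : ∀ a, β (α a) = s • a := by
    intro a
    rw [Fintype.linearCombination_apply]
    simp only [α, LinearMap.pi_apply, LinearMap.comp_apply, LinearMap.mulLeft_apply]
    rw [Algebra.smul_def]
    change _ = (s : A) * a
    rw [← hrel a, ← Finset.sum_coe_sort F]
    refine Finset.sum_congr rfl fun i _ => ?_
    rw [Algebra.smul_def, mul_comm]
    rfl
  set M := Algebra.algebraMapSubmonoid A P.primeCompl with hM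
  haveI hflat1 : Module.Flat (FixedPoints.subring A G) (Localization M) :=
    flat_of_split_localization P.primeCompl s hsP α β hαβ (Localization M)
  have hMN : M ≤ Q.primeCompl := by
    rintro _ ⟨b, hb, rfl⟩
    intro hbQ
    apply hb
    rw [← hQc]
    exact hbQ
  letI := IsLocalization.localizationAlgebraOfSubmonoidLe (Localization M)
    (Localization.AtPrime Q) M Q.primeCompl hMN
  haveI : IsScalarTower A (Localization M) (Localization.AtPrime Q) :=
    IsLocalization.localization_isScalarTower_of_submonoid_le (Localization M)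
      (Localization.AtPrime Q) M Q.primeCompl hMN
  haveI : IsLocalization (Q.primeCompl.map (algebraMap A (Localization M)))
      (Localization.AtPrime Q) :=
    IsLocalization.isLocalization_of_submonoid_le (Localization M) (Localization.AtPrime Q)
      M Q.primeCompl hMN
  haveI : Module.Flat (Localization M) (Localization.AtPrime Q) :=
    IsLocalization.flat (Localization.AtPrime Q) (Q.primeCompl.map (algebraMap A (Localization M)))
  haveI : IsScalarTower (FixedPoints.subring A G) (Localization M) (Localization.AtPrime Q) := by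
    refine IsScalarTower.of_algebraMap_eq fun b => ?_
    rw [IsScalarTower.algebraMap_apply (FixedPoints.subring A G) A (Localization.AtPrime Q),
      IsScalarTower.algebraMap_apply A (Localization M) (Localization.AtPrime Q),
      ← IsScalarTower.algebraMap_apply (FixedPoints.subring A G) A (Localization M)]
  haveI hflat2 : Module.Flat (FixedPoints.subring A G) (Localization.AtPrime Q) :=
    Module.Flat.trans (FixedPoints.subring A G) (Localization M) (Localization.AtPrime Q)
  letI := Localization.AtPrime.algebraOfLiesOver P Q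
  haveI : Module.Flat (Localization.AtPrime P) (Localization.AtPrime Q) :=
    (Module.flat_iff_of_isLocalization (Localization.AtPrime P) P.primeCompl
      (Localization.AtPrime Q)).mpr hflat2
  haveI : IsLocalHom (algebraMap (Localization.AtPrime P) (Localization.AtPrime Q)) :=
    Localization.isLocalHom_localRingHom P Q (algebraMap (FixedPoints.subring A G) A)
      Ideal.LiesOver.over
  haveI : IsRegularLocalRing (Localization.AtPrime Q) :=
    Groth.Agent.Lib.Helper77.RegularLocalization.localization_regular A Q
  exact Groth.Agent.S0565.result (Localization.AtPrime P) (Localization.AtPrime Q)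

end Regular

end Groth.Agent.Lib.Helper52.WQ
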