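import Groth.Agent.Lib.Helper52.WQProd1
import Groth.Agent.Lib.Helper52.WQEtale

/-!
# The Chase–Harrison–Rosenberg relation and generation by invariant rings away from a prime
-/

set_option autoImplicit false
universe u v w

namespace Groth.Agent.Lib.Helper52.WQ

open scoped Pointwise TensorProduct

section CHR

variable {R : Type u} [CommRing R] {A : Type v} [CommRing A] [Algebra R A]
  {G : Type w} [Group G] [Finite G] [MulSemiringAction G A] [SMulCommClass G R A]
  [Algebra.IsInvariant R A G]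

/-- The Chase–Harrison–Rosenberg relation for the quotient group `G ⧸ N` acting on `A^N`, at a
prime `q` of `R` all of whose inertia groups are contained in `N`. -/
theorem exists_chr (hinj : Function.Injective (algebraMap R A)) (N : Subgroup G) [N.Normal]
    (q : Ideal R) [q.IsPrime]
    (hN : ∀ P : Ideal A, P.IsPrime → P.under R = q → P.inertia G ≤ N) :
    ∃ (s : R) (F : Finset (FixedPoints.subalgebra R A N × FixedPoints.subalgebra R A N)), s ∉ q ∧
      ∀ τ : G, ∑ i ∈ F, (i.1 : A) * τ • (i.2 : A) =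
        letI := Classical.propDecidable (τ ∈ N)
        if τ ∈ N then algebraMap R A s else 0 := by
  classical
  set B := FixedPoints.subalgebra R A N with hB
  haveI : Fintype (G ⧸ N) := Fintype.ofFinite _
  haveI : Algebra.IsIntegral R A := Algebra.IsInvariant.isIntegral R A G
  obtain ⟨P₁, -, hP₁, hP₁q⟩ := Ideal.exists_ideal_over_prime_of_isIntegral q (⊥ : Ideal A)
    (by rw [Ideal.comap_bot_of_injective _ hinj]; exact bot_le)
  haveI := hP₁
  let ψ : FixedPoints.subring ↥B (G ⧸ N) →+* A :=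
    (B.val : ↥B →+* A).comp (FixedPoints.subring ↥B (G ⧸ N)).subtype
  let P₀ : Ideal (FixedPoints.subring ↥B (G ⧸ N)) := P₁.comap ψ
  haveI : P₀.IsPrime := Ideal.comap_isPrime ψ P₁
  haveI : Algebra.IsIntegral ↥B A := Algebra.IsIntegral.tower_top R
  have hcond : ∀ σ' : G ⧸ N, σ' ≠ 1 → ∃ s : FixedPoints.subring ↥B (G ⧸ N), s ∉ P₀ ∧
      (s : ↥B) ∈ Ideal.span (Set.range fun b : ↥B => σ' • b - b) := by
    intro σ' hσ'
    by_contra hcon
    push Not at hcon
    have hle : (Ideal.span (Set.range fun b : ↥B => σ' • b - b)).comap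
        (algebraMap (FixedPoints.subring ↥B (G ⧸ N)) ↥B) ≤ P₀ := by
      intro s hs
      by_contra hsP
      exact hcon s hsP hs
    obtain ⟨Q', hQ'le, hQ'p, hQ'c⟩ := Ideal.exists_ideal_over_prime_of_isIntegral P₀ _ hle
    haveI := hQ'p
    obtain ⟨P'', -, hP''p, hP''c⟩ := Ideal.exists_ideal_over_prime_of_isIntegral Q' (⊥ : Ideal A)
      (by
        rw [Ideal.comap_bot_of_injective _ (Subtype.val_injective : Function.Injective (algebraMap ↥B A))]
        exact bot_le)
    haveI := hP''p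
    have hP''q : P''.under R = q := by
      ext r
      rw [Ideal.under_def, Ideal.mem_comap, ← hP₁q, Ideal.mem_comap]
      have hinv : ∀ g : G ⧸ N, g • (algebraMap R ↥B r) = algebraMap R ↥B r := by
        intro g
        rw [Algebra.algebraMap_eq_smul_one, smul_comm, smul_one]
      have h1 : algebraMap R A r ∈ P'' ↔ algebraMap R ↥B r ∈ Q' := by rw [← hP''c]; rfl
      have h2 : algebraMap R ↥B r ∈ Q' ↔
          (⟨algebraMap R ↥B r, hinv⟩ : FixedPoints.subring ↥B (G ⧸ N)) ∈ P₀ := by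
        rw [← hQ'c]; rfl
      rw [h1, h2]
      rfl
    obtain ⟨σ, rfl⟩ := QuotientGroup.mk_surjective σ'
    have hσ : ∀ b : A, (∀ ν : N, ν • b = b) → σ • b - b ∈ P'' := by
      intro b hb
      have h1 : ((QuotientGroup.mk σ : G ⧸ N) • (⟨b, hb⟩ : ↥B) - ⟨b, hb⟩) ∈ Q' :=
        hQ'le (Ideal.subset_span ⟨⟨b, hb⟩, rfl⟩)
      rw [← hP''c] at h1
      exact h1
    have h3 := mem_sup_inertia N P'' σ hσ
    rw [sup_eq_left.mpr (hN P'' hP''p hP''q)] at h3
    exact hσ' ((QuotientGroup.eq_one_iff σ).mpr h3)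
  obtain ⟨t, s₀, hs₀, h1, hτ⟩ := exists_tensor P₀ hcond
  obtain ⟨F, hF⟩ := TensorProduct.exists_finset t
  have hs₀fix : ∀ g : G, g • ((s₀ : ↥B) : A) = ((s₀ : ↥B) : A) := by
    intro g
    have := s₀.2 (QuotientGroup.mk g)
    exact congrArg Subtype.val this
  obtain ⟨s, hs⟩ := Algebra.IsInvariant.isInvariant (A := R) (G := G) _ hs₀fix
  refine ⟨s, F, ?_, ?_⟩
  · intro hsq
    apply hs₀
    change ((s₀ : ↥B) : A) ∈ P₁
    rw [← hs]
    have : s ∈ P₁.comap (algebraMap R A) := by rw [hP₁q]; exact hsq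
    exact this
  · intro τ
    have hH : ((H (QuotientGroup.mk τ : G ⧸ N) t : ↥B) : A) =
        ∑ i ∈ F, (i.1 : A) * τ • (i.2 : A) := by
      rw [hF, map_sum]
      simp only [H_tmul]
      rw [AddSubmonoidClass.coe_finsetSum]
      rfl
    split_ifs with hτN
    · have : (QuotientGroup.mk τ : G ⧸ N) = 1 := (QuotientGroup.eq_one_iff τ).mpr hτN
      rw [← hH, this, h1, hs]
    · rw [← hH, hτ _ (fun h => hτN ((QuotientGroup.eq_one_iff τ).mp h))]; rfl

end CHR

section Step

variable {R : Type u} [CommRing R] {A : Type v} [CommRing A] [Algebra R A]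
  {G : Type w} [Group G] [Finite G] [MulSemiringAction G A] [SMulCommClass G R A]

variable (R A) in
/-- The invariants of a subgroup, as a submodule. -/
def fixSub (K : Subgroup G) : Submodule R A :=
  Subalgebra.toSubmodule (FixedPoints.subalgebra R A ↥K)

lemma mem_fixSub {K : Subgroup G} {a : A} : a ∈ fixSub R A K ↔ ∀ k : K, k • a = a := Iff.rfl

lemma fixSub_bot : fixSub R A (⊥ : Subgroup G) = ⊤ := by
  rw [eq_top_iff]
  intro a _
  rw [mem_fixSub]
  intro k
  have : (k : G) = 1 := Subgroup.mem_bot.mp k.2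
  change (k : G) • a = a
  rw [this, one_smul]

/-- The generation step: an `M`-invariant element, multiplied by `s`, is a combination of
elements of `A^N` with `M ⊔ Γ`-invariant coefficients. -/
theorem chr_step (hcomm : ∀ g h : G, g * h = h * g) (N Γ : Subgroup G) (hΓN : Γ ⊓ N = ⊥) (s : R)
    (F : Finset (FixedPoints.subalgebra R A N × FixedPoints.subalgebra R A N))
    (hrel : ∀ τ : G, ∑ i ∈ F, (i.1 : A) * τ • (i.2 : A) =
        letI := Classical.propDecidable (τ ∈ N)
        if τ ∈ N then algebraMap R A s else 0)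
    (M : Subgroup G) (hM : M ≤ N) (a : A) (ha : a ∈ fixSub R A M) :
    s • a ∈ fixSub R A N * fixSub R A (M ⊔ Γ) := by
  classical
  haveI : Fintype Γ := Fintype.ofFinite _
  have key : s • a = ∑ i ∈ F, (i.1 : A) * ∑ τ : Γ, (τ : G) • ((i.2 : A) * a) := by
    have h1 : ∀ τ : Γ, τ ≠ 1 → (τ : G) ∉ N := by
      intro τ hτ h
      apply hτ
      have : (τ : G) ∈ Γ ⊓ N := ⟨τ.2, h⟩
      rw [hΓN, Subgroup.mem_bot] at this
      exact Subtype.ext this
    calc s • a = ∑ τ : Γ, ((τ : G) • a) * ∑ i ∈ F, (i.1 : A) * (τ : G) • (i.2 : A) := by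
          rw [Finset.sum_eq_single (1 : Γ)]
          · rw [hrel]
            simp [Algebra.smul_def, mul_comm]
          · intro τ _ hτ
            rw [hrel]
            simp [h1 τ hτ]
          · intro h; exact absurd (Finset.mem_univ _) h
      _ = ∑ i ∈ F, (i.1 : A) * ∑ τ : Γ, (τ : G) • ((i.2 : A) * a) := by
          simp_rw [Finset.mul_sum]
          rw [Finset.sum_comm]
          refine Finset.sum_congr rfl fun i _ => Finset.sum_congr rfl fun τ _ => ?_
          rw [smul_mul']; ring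
  rw [key]
  refine Submodule.sum_mem _ fun i _ => Submodule.mul_mem_mul i.1.2 ?_
  rw [mem_fixSub]
  intro g
  have hstab : M ⊔ Γ ≤ MulAction.stabilizer G (∑ τ : Γ, (τ : G) • ((i.2 : A) * a)) := by
    rw [sup_le_iff]
    constructor
    · intro m hm
      rw [MulAction.mem_stabilizer_iff, Finset.smul_sum]
      refine Finset.sum_congr rfl fun τ _ => ?_
      rw [smul_smul, hcomm, mul_smul]
      congr 1
      rw [smul_mul']
      congr 1
      · exact i.2.2 ⟨m, hM hm⟩
      · exact ha ⟨m, hm⟩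
    · intro γ hγ
      rw [MulAction.mem_stabilizer_iff, Finset.smul_sum]
      exact Fintype.sum_equiv (Equiv.mulLeft (⟨γ, hγ⟩ : Γ)) _ _ (fun τ => by simp [mul_smul])
  exact hstab g.2

/-- Saturation of a submodule with respect to the complement of a prime. -/
def sat (q : Ideal R) [q.IsPrime] (D : Submodule R A) : Submodule R A where
  carrier := {a | ∃ s : R, s ∉ q ∧ s • a ∈ D}
  add_mem' := by
    rintro a b ⟨s, hs, hsa⟩ ⟨t, ht, htb⟩
    refine ⟨s * t, fun h => (‹q.IsPrime›.mem_or_mem h).elim hs ht, ?_⟩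
    rw [smul_add]
    refine D.add_mem ?_ ?_
    · rw [mul_comm, mul_smul]; exact D.smul_mem t hsa
    · rw [mul_smul]; exact D.smul_mem s htb
  zero_mem' := ⟨1, ‹q.IsPrime›.one_notMem, by simp⟩
  smul_mem' := by
    rintro r a ⟨s, hs, hsa⟩
    exact ⟨s, hs, by rw [smul_comm]; exact D.smul_mem r hsa⟩

lemma mem_sat {q : Ideal R} [q.IsPrime] {D : Submodule R A} {a : A} :
    a ∈ sat q D ↔ ∃ s : R, s ∉ q ∧ s • a ∈ D := Iff.rfl

lemma le_sat (q : Ideal R) [q.IsPrime] (D : Submodule R A) : D ≤ sat q D :=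
  fun a ha => ⟨1, ‹q.IsPrime›.one_notMem, by rwa [one_smul]⟩

lemma sat_mono (q : Ideal R) [q.IsPrime] {D D' : Submodule R A} (h : D ≤ D') :
    sat q D ≤ sat q D' :=
  fun _ ⟨s, hs, hsa⟩ => ⟨s, hs, h hsa⟩

lemma sat_sat (q : Ideal R) [q.IsPrime] (D : Submodule R A) : sat q (sat q D) ≤ sat q D := by
  rintro a ⟨s, hs, t, ht, hta⟩
  exact ⟨t * s, fun h => (‹q.IsPrime›.mem_or_mem h).elim ht hs, by rwa [mul_smul]⟩

lemma sat_mul_le (q : Ideal R) [q.IsPrime] (D D' : Submodule R A) :
    sat q D * D' ≤ sat q (D * D') := by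
  rw [Submodule.mul_le]
  rintro x ⟨s, hs, hsx⟩ y hy
  exact ⟨s, hs, by rw [← smul_mul_assoc]; exact Submodule.mul_mem_mul hsx hy⟩

end Step

section Induction

variable {R : Type u} [CommRing R] {A : Type v} [CommRing A] [Algebra R A]
  {G : Type w} [Group G] [Finite G] [MulSemiringAction G A] [SMulCommClass G R A]
  [Algebra.IsInvariant R A G]

/-- Away from a prime `q` of `R` whose inertia groups lie in one of the `G_i`, the ring `A` is
generated by the invariant rings of the complements. -/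
theorem top_le_sat_prod (hinj : Function.Injective (algebraMap R A))
    (hcomm : ∀ g h : G, g * h = h * g) (p n : ℕ) (hcard : Nat.card G = p ^ n)
    (Gi : Fin n → Subgroup G) (hGi : ∀ i, Nat.card (Gi i) = p) (hsup : (⨆ i, Gi i) = ⊤)
    (q : Ideal R) [q.IsPrime] (i₀ : Fin n)
    (hq : ∀ P : Ideal A, P.IsPrime → P.under R = q → P.inertia G ≤ Gi i₀) :
    ⊤ ≤ sat q (∏ i : Fin n,
      fixSub R A (⨆ j ∈ (Finset.univ.erase i : Finset (Fin n)), Gi j)) := by
  classical
  set B : Fin n → Submodule R A := fun i =>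
    fixSub R A (⨆ j ∈ (Finset.univ.erase i : Finset (Fin n)), Gi j) with hB
  have key : ∀ J : Finset (Fin n), J ⊆ Finset.univ.erase i₀ →
      ⊤ ≤ sat q (fixSub R A (⨆ j ∈ J, Gi j) * ∏ j ∈ J, B j) := by
    intro J
    induction J using Finset.induction_on with
    | empty =>
      intro _
      simp only [Finset.notMem_empty, iSup_false, iSup_bot, Finset.prod_empty, mul_one]
      rw [fixSub_bot]
      exact le_sat q ⊤
    | insert j J hj ih =>
      intro hsub
      have hJ : J ⊆ Finset.univ.erase i₀ := (Finset.subset_insert _ _).trans hsub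
      have hji₀ : j ≠ i₀ := Finset.ne_of_mem_erase (hsub (Finset.mem_insert_self j J))
      specialize ih hJ
      set Nj : Subgroup G := ⨆ i ∈ (Finset.univ.erase j : Finset (Fin n)), Gi i with hNj
      haveI : Nj.Normal := normal_of_comm hcomm _
      have hi₀ : Gi i₀ ≤ Nj :=
        le_biSup Gi (Finset.mem_erase.mpr ⟨hji₀.symm, Finset.mem_univ _⟩)
      obtain ⟨s, F, hsq, hrel⟩ := exists_chr hinj Nj q
        (fun P hP hPq => (hq P hP hPq).trans hi₀)
      have hM : (⨆ i ∈ J, Gi i) ≤ Nj :=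
        biSup_mono fun i hi => Finset.mem_erase.mpr
          ⟨ne_of_mem_of_not_mem hi hj, Finset.mem_univ i⟩
      have hinf := (compl_facts hcomm p n hcard Gi hGi hsup j).2.1
      have hstep : fixSub R A (⨆ i ∈ J, Gi i) ≤
          sat q (B j * fixSub R A ((⨆ i ∈ J, Gi i) ⊔ Gi j)) := by
        intro a ha
        exact ⟨s, hsq, chr_step hcomm Nj (Gi j) hinf s F hrel _ hM a ha⟩
      calc ⊤ ≤ sat q (fixSub R A (⨆ i ∈ J, Gi i) * ∏ i ∈ J, B i) := ih
        _ ≤ sat q (sat q (B j * fixSub R A ((⨆ i ∈ J, Gi i) ⊔ Gi j)) * ∏ i ∈ J, B i) :=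
            sat_mono q (mul_le_mul' hstep le_rfl)
        _ ≤ sat q (sat q (B j * fixSub R A ((⨆ i ∈ J, Gi i) ⊔ Gi j) * ∏ i ∈ J, B i)) :=
            sat_mono q (sat_mul_le q _ _)
        _ ≤ sat q (B j * fixSub R A ((⨆ i ∈ J, Gi i) ⊔ Gi j) * ∏ i ∈ J, B i) := sat_sat q _
        _ = sat q (fixSub R A (⨆ i ∈ insert j J, Gi i) * ∏ i ∈ insert j J, B i) := by
            rw [Finset.prod_insert hj, Finset.iSup_insert, sup_comm]
            congr 1
            ac_rfl
  have h1 := key (Finset.univ.erase i₀) subset_rfl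
  have h2 : fixSub R A (⨆ j ∈ (Finset.univ.erase i₀ : Finset (Fin n)), Gi j) *
      ∏ j ∈ Finset.univ.erase i₀, B j = ∏ i : Fin n, B i :=
    Finset.mul_prod_erase Finset.univ B (Finset.mem_univ i₀)
  rwa [h2] at h1

end Induction

end Groth.Agent.Lib.Helper52.WQ
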