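import Mathlib
import Groth.Agent.Lib.Helper52.CPCore
import Groth.Agent.Lib.Helper52.WQProd2

/-!
# The local data for the relative Frobenius from the Chase–Harrison–Rosenberg relation (helper52)
-/
universe u v w
set_option autoImplicit false
open IsLocalRing

namespace Groth.Agent.Lib.Helper52.CPCore

open Groth.Agent.Lib.Helper52 CPAlg

section Local

variable {R : Type u} [CommRing R] [IsLocalRing R] [IsNoetherianRing R] (p : ℕ) [Fact p.Prime]
  [CharP R p] {A : Type v} [CommRing A] [IsDomain A] [Algebra R A] [Module.Finite R A] [CharP A p]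
  {G : Type w} [Group G] [Finite G] [MulSemiringAction G A] [SMulCommClass G R A]
  [Algebra.IsInvariant R A G]

theorem localData_of_inertia (hinj : Function.Injective (algebraMap R A)) (q : Ideal R)
    [q.IsPrime]
    (hq : ∀ P : Ideal A, P.IsPrime → P.under R = q → P.inertia G = ⊥) :
    LocalData p A q := by
  classical
  haveI : Fintype G := Fintype.ofFinite G
  have hp0 : p ≠ 0 := (Fact.out : p.Prime).ne_zero
  obtain ⟨s, F, hsq, hrel⟩ := WQ.exists_chr hinj (⊥ : Subgroup G) q
    (fun P hP hPq => by rw [hq P hP hPq])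
  -- the trace
  have htr : ∀ a : A, ∃ r : R, algebraMap R A r = ∑ τ : G, τ • a := by
    intro a
    refine Algebra.IsInvariant.isInvariant (A := R) (G := G) _ ?_
    intro σ
    rw [Finset.smul_sum]
    exact Fintype.sum_equiv (Equiv.mulLeft σ) _ _ (fun τ => by simp [mul_smul])
  choose tr htr using htr
  have hrel' : ∀ τ : G, ∑ i ∈ F, (i.1 : A) * τ • (i.2 : A) =
      if τ = 1 then algebraMap R A s else 0 := by
    intro τ
    rw [hrel τ]
    by_cases h : τ = 1
    · rw [if_pos h, if_pos (by rw [h]; exact Subgroup.one_mem _)]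
    · rw [if_neg h, if_neg (by rw [Subgroup.mem_bot]; exact h)]
  have hrelp : ∀ τ : G, ∑ i ∈ F, (i.1 : A) ^ p * τ • ((i.2 : A) ^ p) =
      if τ = 1 then algebraMap R A (s ^ p) else 0 := by
    intro τ
    have h1 : (∑ i ∈ F, (i.1 : A) * τ • (i.2 : A)) ^ p =
        (if τ = 1 then algebraMap R A s else 0) ^ p := by rw [hrel' τ]
    rw [sum_pow_char] at h1
    have h2 : ∀ i ∈ F, ((i.1 : A) * τ • (i.2 : A)) ^ p = (i.1 : A) ^ p * τ • ((i.2 : A) ^ p) := by
      intro i _
      rw [mul_pow, smul_pow']
    rw [Finset.sum_congr rfl h2] at h1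
    rw [h1]
    by_cases h : τ = 1
    · rw [if_pos h, if_pos h, map_pow]
    · rw [if_neg h, if_neg h, zero_pow hp0]
  -- the dual basis relations
  have L0 : ∀ a : A, ∑ i ∈ F, (i.1 : A) * algebraMap R A (tr ((i.2 : A) * a)) =
      algebraMap R A s * a := by
    intro a
    calc ∑ i ∈ F, (i.1 : A) * algebraMap R A (tr ((i.2 : A) * a))
        = ∑ i ∈ F, ∑ τ : G, (τ • a) * ((i.1 : A) * τ • (i.2 : A)) := by
          refine Finset.sum_congr rfl fun i _ => ?_
          rw [htr, Finset.mul_sum]
          refine Finset.sum_congr rfl fun τ _ => ?_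
          rw [smul_mul']; ring
      _ = ∑ τ : G, (τ • a) * ∑ i ∈ F, (i.1 : A) * τ • (i.2 : A) := by
          rw [Finset.sum_comm]
          refine Finset.sum_congr rfl fun τ _ => ?_
          rw [Finset.mul_sum]
      _ = algebraMap R A s * a := by
          rw [Finset.sum_eq_single (1 : G)]
          · rw [one_smul, hrel' 1, if_pos rfl, mul_comm]
          · intro τ _ hτ1
            rw [hrel' τ, if_neg hτ1, mul_zero]
          · intro h; exact absurd (Finset.mem_univ _) h
  have L0p : ∀ a : A, ∑ i ∈ F, (i.1 : A) ^ p * algebraMap R A (tr ((i.2 : A) ^ p * a)) =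
      algebraMap R A (s ^ p) * a := by
    intro a
    calc ∑ i ∈ F, (i.1 : A) ^ p * algebraMap R A (tr ((i.2 : A) ^ p * a))
        = ∑ i ∈ F, ∑ τ : G, (τ • a) * ((i.1 : A) ^ p * τ • ((i.2 : A) ^ p)) := by
          refine Finset.sum_congr rfl fun i _ => ?_
          rw [htr, Finset.mul_sum]
          refine Finset.sum_congr rfl fun τ _ => ?_
          rw [smul_mul']; ring
      _ = ∑ τ : G, (τ • a) * ∑ i ∈ F, (i.1 : A) ^ p * τ • ((i.2 : A) ^ p) := by
          rw [Finset.sum_comm]
          refine Finset.sum_congr rfl fun τ _ => ?_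
          rw [Finset.mul_sum]
      _ = algebraMap R A (s ^ p) * a := by
          rw [Finset.sum_eq_single (1 : G)]
          · rw [one_smul, hrelp 1, if_pos rfl, mul_comm]
          · intro τ _ hτ1
            rw [hrelp τ, if_neg hτ1, mul_zero]
          · intro h; exact absurd (Finset.mem_univ _) h
  refine ⟨s, hsq, fun b g hg => ?_⟩
  have hsurj : Function.Surjective (lc (R := R) g) := by
    rw [← LinearMap.range_eq_top, lc, Fintype.range_linearCombination, hg]
  choose coef hcoef using hsurj
  -- `x_i ^ p` in terms of the `g_j ^ p`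
  have hxp : ∀ a : A, lc (fun j => g j ^ p) (tw p (coef a)) = a ^ p := by
    intro a
    rw [lc_tw, hcoef]
  constructor
  · intro c
    refine ⟨∑ i ∈ F, tr ((i.2 : A) ^ p * c) • tw p (coef (i.1 : A)), ?_⟩
    rw [map_sum]
    simp_rw [map_smul, hxp]
    rw [Algebra.smul_def, ← L0p c]
    refine Finset.sum_congr rfl fun i _ => ?_
    rw [Algebra.smul_def, mul_comm]
  · intro r hr
    have hr' : ∑ l, r l • g l ^ p = 0 := by
      have : lc (fun j => g j ^ p) r = 0 := hr
      rwa [lc_apply] at this
    -- the relations `ρ_l`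
    let ρ : Fin b → Fin b → R := fun l =>
      (∑ i ∈ F, tr ((i.2 : A) * g l) • coef (i.1 : A)) - Pi.single l s
    have hρ : ∀ l, ρ l ∈ Rel (R := R) g := by
      intro l
      show lc g (ρ l) = 0
      simp only [ρ]
      rw [map_sub, map_sum]
      simp_rw [map_smul, hcoef]
      have h1 : lc (R := R) g (Pi.single l s) = algebraMap R A s * g l := by
        rw [lc_apply, Finset.sum_eq_single l]
        · rw [Pi.single_eq_same, Algebra.smul_def]
        · intro j _ hjl
          rw [Pi.single_eq_of_ne hjl, zero_smul]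
        · intro h; exact absurd (Finset.mem_univ _) h
      rw [h1, ← L0 (g l), sub_eq_zero]
      refine Finset.sum_congr rfl fun i _ => ?_
      rw [Algebra.smul_def, mul_comm]
    have htwρ : ∀ l, tw p (ρ l) =
        (∑ i ∈ F, tr ((i.2 : A) * g l) ^ p • tw p (coef (i.1 : A))) - Pi.single l (s ^ p) := by
      intro l
      funext j
      simp only [ρ, tw_apply, Pi.sub_apply, Finset.sum_apply, Pi.smul_apply, smul_eq_mul]
      rw [sub_pow_char, sum_pow_char]
      congr 1
      · refine Finset.sum_congr rfl fun i _ => ?_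
        rw [mul_pow]
      · by_cases hjl : j = l
        · subst hjl; rw [Pi.single_eq_same, Pi.single_eq_same]
        · rw [Pi.single_eq_of_ne hjl, Pi.single_eq_of_ne hjl, zero_pow hp0]
    -- the vanishing of the cross terms
    have hvan : ∀ i ∈ F, ∑ l, r l * tr ((i.2 : A) * g l) ^ p = 0 := by
      intro i _
      apply hinj
      rw [map_zero, map_sum]
      have h1 : ∀ l, algebraMap R A (r l * tr ((i.2 : A) * g l) ^ p) =
          ∑ τ : G, τ • ((i.2 : A) ^ p * (r l • g l ^ p)) := by
        intro l
        rw [map_mul, map_pow, htr, sum_pow_char, Finset.mul_sum]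
        refine Finset.sum_congr rfl fun τ _ => ?_
        rw [← smul_pow', mul_pow, Algebra.smul_def, smul_mul', smul_mul']
        rw [smul_mul' τ (algebraMap R A (r l)), smul_algebraMap]
        ring
      simp_rw [h1]
      rw [Finset.sum_comm]
      refine Finset.sum_eq_zero fun τ _ => ?_
      rw [← Finset.smul_sum, ← Finset.mul_sum, hr', mul_zero, smul_zero]
    have hsum : s ^ p • r = - ∑ l, r l • tw p (ρ l) := by
      funext j
      simp only [Pi.smul_apply, Pi.neg_apply, Finset.sum_apply, smul_eq_mul, htwρ, Pi.sub_apply]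
      have h2 : ∑ l, r l * (∑ i ∈ F, tr ((i.2 : A) * g l) ^ p * tw p (coef (i.1 : A)) j -
          (Pi.single l (s ^ p) : Fin b → R) j) =
          ∑ i ∈ F, tw p (coef (i.1 : A)) j * ∑ l, r l * tr ((i.2 : A) * g l) ^ p -
            r j * s ^ p := by
        simp_rw [mul_sub, Finset.sum_sub_distrib]
        congr 1
        · simp_rw [Finset.mul_sum]
          rw [Finset.sum_comm]
          refine Finset.sum_congr rfl fun i _ => ?_
          refine Finset.sum_congr rfl fun l _ => ?_
          ring
        · rw [Finset.sum_eq_single j]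
          · rw [Pi.single_eq_same]
          · intro l _ hlj
            rw [Pi.single_eq_of_ne (Ne.symm hlj), mul_zero]
          · intro h; exact absurd (Finset.mem_univ _) h
      rw [h2]
      have h3 : ∑ i ∈ F, tw p (coef (i.1 : A)) j * ∑ l, r l * tr ((i.2 : A) * g l) ^ p = 0 := by
        refine Finset.sum_eq_zero fun i hi => ?_
        rw [hvan i hi, mul_zero]
      rw [h3]
      ring
    rw [hsum]
    exact Submodule.neg_mem _ (Submodule.sum_mem _ fun l _ =>
      Submodule.smul_mem _ _ (tw_mem_RelT p g (hρ l)))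

end Local

end Groth.Agent.Lib.Helper52.CPCore
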