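import Mathlib
import Groth.Agent.Lib.Helper67.Depth

/-!
# Exactness modulo a regular sequence: an element-wise diagram chase (helper52)
-/
universe u
set_option autoImplicit false
open IsLocalRing

namespace Groth.Agent.Lib.Helper52.KunzChase

variable {R : Type u} [CommRing R]

/-- all coordinates lie in `J` -/
def InJ (J : Ideal R) {m : ℕ} (v : Fin m → R) : Prop := ∀ a, v a ∈ J

theorem InJ.mulVec {J : Ideal R} {m k : ℕ} (A : Matrix (Fin m) (Fin k) R) {v : Fin k → R}
    (hv : InJ J v) : InJ J (A.mulVec v) := by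
  intro a
  simp only [Matrix.mulVec, dotProduct]
  exact Ideal.sum_mem _ (fun b _ => Ideal.mul_mem_left _ _ (hv b))

/-- exactness modulo `J` at the middle term of `R^c --B--> R^b --A--> R^a` -/
def ExactMod (J : Ideal R) {a b c : ℕ} (A : Matrix (Fin a) (Fin b) R)
    (B : Matrix (Fin b) (Fin c) R) : Prop :=
  ∀ β : Fin b → R, InJ J (A.mulVec β) → ∃ α : Fin c → R, InJ J (β - B.mulVec α)

theorem chase {J : Ideal R} {y : R} (hy : ∀ r, y * r ∈ J → r ∈ J) {a b c d : ℕ}
    (A0 : Matrix (Fin a) (Fin b) R) (A1 : Matrix (Fin b) (Fin c) R)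
    (A2 : Matrix (Fin c) (Fin d) R) (h01 : A0 * A1 = 0)
    (hex1 : ExactMod J A0 A1) (hex2 : ExactMod J A1 A2) :
    ExactMod (J ⊔ Ideal.span {y}) A1 A2 := by
  intro β hβ
  have hdec : ∀ i, ∃ j ∈ J, ∃ g, (A1.mulVec β) i = j + y * g := by
    intro i
    obtain ⟨j, hj, z, hz, e⟩ := Submodule.mem_sup.mp (hβ i)
    obtain ⟨g, rfl⟩ := Ideal.mem_span_singleton'.mp hz
    exact ⟨j, hj, g, by rw [← e]; ring⟩
  choose j hj γ hγ using hdec
  have e1 : A1.mulVec β = j + y • γ := by
    funext i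
    simp [hγ i]
  have e2 : A0.mulVec j + y • A0.mulVec γ = 0 := by
    rw [← Matrix.mulVec_smul, ← Matrix.mulVec_add, ← e1, Matrix.mulVec_mulVec, h01,
      Matrix.zero_mulVec]
  have h3 : InJ J (A0.mulVec γ) := by
    intro i
    apply hy
    have h := congrFun e2 i
    simp only [Pi.add_apply, Pi.smul_apply, smul_eq_mul, Pi.zero_apply] at h
    have h' : y * (A0.mulVec γ) i = -((A0.mulVec j) i) := by
      rw [eq_neg_iff_add_eq_zero, add_comm]; exact h
    rw [h']
    exact J.neg_mem (InJ.mulVec A0 hj i)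
  obtain ⟨β', hβ'⟩ := hex1 γ h3
  have h4 : InJ J (A1.mulVec (β - y • β')) := by
    intro i
    have : (A1.mulVec (β - y • β')) i = j i + y * (γ - A1.mulVec β') i := by
      rw [Matrix.mulVec_sub, Matrix.mulVec_smul, e1]
      simp only [Pi.sub_apply, Pi.add_apply, Pi.smul_apply, smul_eq_mul]
      ring
    rw [this]
    exact J.add_mem (hj i) (J.mul_mem_left _ (hβ' i))
  obtain ⟨α, hα⟩ := hex2 (β - y • β') h4
  refine ⟨α, fun i => ?_⟩
  have : (β - A2.mulVec α) i = (β - y • β' - A2.mulVec α) i + β' i * y := by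
    simp only [Pi.sub_apply, Pi.smul_apply, smul_eq_mul]
    ring
  rw [this]
  exact Submodule.add_mem_sup (hα i) (Ideal.mem_span_singleton'.mpr ⟨β' i, rfl⟩)

variable [IsLocalRing R]

/-- ideals generated by a regular sequence in the maximal ideal, with the length recorded -/
inductive Reach : ℕ → Ideal R → Prop
  | zero : Reach 0 ⊥
  | step {s : ℕ} {J : Ideal R} {y : R} : Reach s J → y ∈ maximalIdeal R →
      (∀ r, y * r ∈ J → r ∈ J) → Reach (s + 1) (J ⊔ Ideal.span {y})

theorem Reach.le_maximalIdeal {s : ℕ} {J : Ideal R} (h : Reach s J) : J ≤ maximalIdeal R := by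
  induction h with
  | zero => exact bot_le
  | step _ hy _ ih =>
    exact sup_le ih ((Ideal.span_singleton_le_iff_mem _).mpr hy)

theorem exactMod_of_reach {n : ℕ → ℕ} (A : ∀ i, Matrix (Fin (n i)) (Fin (n (i + 1))) R)
    (hmul : ∀ i, A i * A (i + 1) = 0)
    (hex : ∀ i (v : Fin (n (i + 1)) → R), (A i).mulVec v = 0 → ∃ w, (A (i + 1)).mulVec w = v)
    {s : ℕ} {J : Ideal R} (h : Reach s J) :
    ∀ i, s ≤ i → ExactMod J (A i) (A (i + 1)) := by
  induction h with
  | zero =>
    intro i _ β hβ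
    have h0 : (A i).mulVec β = 0 := by
      funext a
      exact (Submodule.mem_bot R).mp (hβ a)
    obtain ⟨w, hw⟩ := hex i β h0
    refine ⟨w, fun a => ?_⟩
    rw [hw, sub_self]
    exact Submodule.zero_mem _
  | @step s J y _ _ hreg ih =>
    intro i hi
    obtain ⟨k, rfl⟩ : ∃ k, i = k + 1 := ⟨i - 1, by omega⟩
    exact chase hreg (A k) (A (k + 1)) (A (k + 1 + 1)) (hmul k) (ih k (by omega))
      (ih (k + 1) (by omega))

/-- A maximal regular sequence: the quotient has depth zero, witnessed by a socle element. -/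
theorem exists_socle [IsNoetherianRing R] :
    ∃ (s : ℕ) (J : Ideal R), Reach s J ∧ ∃ z, z ∉ J ∧ ∀ y ∈ maximalIdeal R, y * z ∈ J := by
  classical
  let 𝒮 : Set (Ideal R) := {J | ∃ s, Reach s J}
  have hne : 𝒮.Nonempty := ⟨⊥, 0, Reach.zero⟩
  obtain ⟨J, ⟨s, hJ⟩, hmax⟩ :=
    (set_has_maximal_iff_noetherian (R := R) (M := R)).mpr inferInstance 𝒮 hne
  refine ⟨s, J, hJ, ?_⟩
  have hJm := hJ.le_maximalIdeal
  have hJtop : J ≠ ⊤ := fun h => (maximalIdeal.isMaximal R).ne_top (top_le_iff.mp (h ▸ hJm))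
  have hzd : ∀ y ∈ maximalIdeal R, ∃ r, r ∉ J ∧ y * r ∈ J := by
    intro y hy
    by_contra hcon
    push Not at hcon
    have hreg : ∀ r, y * r ∈ J → r ∈ J := fun r hr => by
      by_contra hr'
      exact hcon r hr' hr
    have h1 : Reach (s + 1) (J ⊔ Ideal.span {y}) := Reach.step hJ hy hreg
    have h2 : ¬ J < J ⊔ Ideal.span {y} := hmax _ ⟨s + 1, h1⟩
    have h3 : y ∈ J := by
      by_contra hyJ
      apply h2
      refine lt_of_le_of_ne le_sup_left (fun h => hyJ ?_)
      rw [h]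
      exact Ideal.mem_sup_right (Ideal.mem_span_singleton_self y)
    have h4 : (1 : R) ∈ J := hreg 1 (by rwa [mul_one])
    exact hJtop ((Ideal.eq_top_iff_one J).mpr h4)
  haveI : Nontrivial (R ⧸ J) := Ideal.Quotient.nontrivial_iff.mpr hJtop
  have hnr : ∀ r ∈ maximalIdeal R, ¬ IsSMulRegular (R ⧸ J) r := by
    intro y hy hreg
    obtain ⟨r, hr, hyr⟩ := hzd y hy
    have h1 : y • (Ideal.Quotient.mk J r) = y • (0 : R ⧸ J) := by
      rw [smul_zero, Algebra.smul_def, Ideal.Quotient.algebraMap_eq, ← map_mul]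
      exact Ideal.Quotient.eq_zero_iff_mem.mpr hyr
    exact hr (Ideal.Quotient.eq_zero_iff_mem.mp (hreg h1))
  obtain ⟨P, hP, hle⟩ :=
    (Groth.Agent.Lib.Helper67.forall_not_isSMulRegular_iff (maximalIdeal R) (R ⧸ J)).mp hnr
  have hPp : P.IsPrime := IsAssociatedPrime.isPrime hP
  have hPm : P = maximalIdeal R :=
    ((maximalIdeal.isMaximal R).eq_of_le hPp.ne_top hle).symm
  obtain ⟨_, x, hx⟩ := isAssociatedPrime_iff.mp hP
  obtain ⟨z, rfl⟩ := Ideal.Quotient.mk_surjective x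
  refine ⟨z, ?_, ?_⟩
  · intro hz
    have h1 : (1 : R) ∈ Submodule.colon (⊥ : Submodule R (R ⧸ J)) {Ideal.Quotient.mk J z} := by
      rw [Submodule.mem_colon_singleton, one_smul, Submodule.mem_bot]
      exact Ideal.Quotient.eq_zero_iff_mem.mpr hz
    rw [← hx, hPm] at h1
    exact (maximalIdeal.isMaximal R).ne_top ((Ideal.eq_top_iff_one _).mpr h1)
  · intro y hy
    have h1 : y ∈ Submodule.colon (⊥ : Submodule R (R ⧸ J)) {Ideal.Quotient.mk J z} := by
      rw [← hx, hPm]; exact hy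
    rw [Submodule.mem_colon_singleton, Submodule.mem_bot, Algebra.smul_def,
      Ideal.Quotient.algebraMap_eq, ← map_mul] at h1
    exact Ideal.Quotient.eq_zero_iff_mem.mp h1

end Groth.Agent.Lib.Helper52.KunzChase
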