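import Mathlib

/-!
# Flat base change of an exact sequence of finite free modules given by matrices (helper52)
-/
universe u
set_option autoImplicit false
open TensorProduct

namespace Groth.Agent.Lib.Helper52.KunzTwist

variable {R S : Type u} [CommRing R] [CommRing S] [Algebra R S]

/-- the comparison `S ⊗ R^n ≃ S^n` intertwines `lTensor` of a matrix map with the mapped matrix -/
theorem piScalarRight_lTensor {b c : ℕ} (B : Matrix (Fin b) (Fin c) R) (t : S ⊗[R] (Fin c → R)) :
    TensorProduct.piScalarRight R S S (Fin b) ((Matrix.mulVecLin B).lTensor S t) =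
      (B.map (algebraMap R S)).mulVec (TensorProduct.piScalarRight R S S (Fin c) t) := by
  induction t using TensorProduct.induction_on with
  | zero => simp
  | tmul s v =>
    ext i
    simp only [LinearMap.lTensor_tmul, TensorProduct.piScalarRight_apply,
      TensorProduct.piScalarRightHom_tmul, Matrix.mulVecLin_apply, Matrix.mulVec, dotProduct,
      Matrix.map_apply]
    rw [Finset.sum_smul]
    refine Finset.sum_congr rfl (fun j _ => ?_)
    rw [Algebra.smul_def, Algebra.smul_def, map_mul]
    ring
  | add x y hx hy =>
    rw [map_add, map_add, hx, hy, map_add, Matrix.mulVec_add]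

/-- Flat base change preserves exactness of a sequence of finite free modules given by matrices. -/
theorem twist_exact [Module.Flat R S] {a b c : ℕ} (A : Matrix (Fin a) (Fin b) R)
    (B : Matrix (Fin b) (Fin c) R) (hAB : A * B = 0)
    (hex : ∀ v : Fin b → R, A.mulVec v = 0 → ∃ w : Fin c → R, B.mulVec w = v)
    (v : Fin b → S) (hv : (A.map (algebraMap R S)).mulVec v = 0) :
    ∃ w : Fin c → S, (B.map (algebraMap R S)).mulVec w = v := by
  have hfg : Function.Exact (Matrix.mulVecLin B) (Matrix.mulVecLin A) := by
    intro y
    constructor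
    · intro hy
      obtain ⟨w, hw⟩ := hex y (by simpa using hy)
      exact ⟨w, by simpa using hw⟩
    · rintro ⟨w, rfl⟩
      simp only [Matrix.mulVecLin_apply, Matrix.mulVec_mulVec, hAB, Matrix.zero_mulVec]
  have hex' := Module.Flat.lTensor_exact S hfg
  set t := (TensorProduct.piScalarRight R S S (Fin b)).symm v with ht
  have h1 : (Matrix.mulVecLin A).lTensor S t = 0 := by
    apply (TensorProduct.piScalarRight R S S (Fin a)).injective
    rw [piScalarRight_lTensor, ht, LinearEquiv.apply_symm_apply, hv, map_zero]
  obtain ⟨u, hu⟩ := (hex' t).mp h1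
  refine ⟨TensorProduct.piScalarRight R S S (Fin c) u, ?_⟩
  rw [← piScalarRight_lTensor, hu, ht, LinearEquiv.apply_symm_apply]

end Groth.Agent.Lib.Helper52.KunzTwist
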