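import Mathlib
import Groth.Agent.Lib.Helper52.KunzTwist
import Groth.Agent.Lib.Helper52.KunzRes
import Groth.Agent.Lib.Helper52.KunzChase
import Groth.Agent.Lib.Helper77.Serre
import Groth.Agent.Lib.Helper77.MiracleFlat
import Groth.Agent.Lib.Helper77.RegularCM

/-!
# Kunz's theorem, local form (helper52)
-/
universe u
set_option autoImplicit false
open IsLocalRing CategoryTheory

namespace Groth.Agent.Lib.Helper52.KunzLocal

open Groth.Agent.Lib.Helper52

/-- A Noetherian local ring with a flat `p`-th power endomorphism (`p ≥ 2`) is regular. -/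
theorem regular_of_flat (R : Type u) [CommRing R] [IsLocalRing R] [IsNoetherianRing R]
    (p : ℕ) (hp : 2 ≤ p) (φ : R →+* R) (hφ : ∀ x, φ x = x ^ p) (hflat : φ.Flat) :
    IsRegularLocalRing R := by
  classical
  obtain ⟨n, D, hmul, hex, hmem, hpd⟩ := KunzRes.exists_minRes R
  obtain ⟨s, J, hreach, z, hzJ, hz⟩ := KunzChase.exists_socle (R := R)
  have key : ∀ e : ℕ, ∃ T : ∀ i, Matrix (Fin (n i)) (Fin (n (i + 1))) R,
      (∀ i, T i * T (i + 1) = 0) ∧
      (∀ i (v : Fin (n (i + 1)) → R), (T i).mulVec v = 0 → ∃ w, (T (i + 1)).mulVec w = v) ∧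
      ∀ i a b, T i a b = (D i a b) ^ (p ^ e) := by
    intro e
    induction e with
    | zero => exact ⟨D, hmul, hex, by simp⟩
    | succ e ih =>
      obtain ⟨T, h1, h2, h3⟩ := ih
      refine ⟨fun i => (T i).map φ, ?_, ?_, ?_⟩
      · intro i
        rw [← Matrix.map_mul, h1 i]
        exact Matrix.map_zero _ (map_zero φ)
      · intro i v hv
        exact @KunzTwist.twist_exact R R _ _ φ.toAlgebra hflat _ _ _ (T i) (T (i + 1)) (h1 i)
          (h2 i) v hv
      · intro i a b
        show φ (T i a b) = D i a b ^ p ^ (e + 1)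
        rw [hφ, h3, ← pow_mul, pow_succ]
  by_cases hn : n (s + 1) = 0
  · exact Helper77.Serre.isRegularLocalRing_of_residueField_hasProjectiveDimensionLT R (s + 1)
      (hpd s hn)
  exfalso
  have b : Fin (n (s + 1)) := ⟨0, Nat.pos_of_ne_zero hn⟩
  have hzk : ∀ e : ℕ, z ∈ J ⊔ maximalIdeal R ^ (p ^ e) := by
    intro e
    obtain ⟨T, h1, h2, h3⟩ := key e
    have hexm := KunzChase.exactMod_of_reach T h1 h2 hreach s le_rfl
    have hpe : p ^ e ≠ 0 := by positivity
    have hβ : KunzChase.InJ J ((T s).mulVec (Pi.single b z)) := by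
      intro a
      have : ((T s).mulVec (Pi.single b z)) a = T s a b * z := by
        simp [Matrix.mulVec, dotProduct, Pi.single_apply]
      rw [this]
      apply hz
      rw [h3]
      exact Ideal.pow_mem_of_mem _ (hmem s a b) _ (Nat.pos_of_ne_zero hpe)
    obtain ⟨α, hα⟩ := hexm (Pi.single b z) hβ
    have h4 := hα b
    have h5 : ((T (s + 1)).mulVec α) b ∈ maximalIdeal R ^ (p ^ e) := by
      simp only [Matrix.mulVec, dotProduct]
      refine Ideal.sum_mem _ (fun c _ => Ideal.mul_mem_right _ _ ?_)
      rw [h3]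
      exact Ideal.pow_mem_pow (hmem (s + 1) b c) _
    have h6 : z = ((Pi.single b z : Fin (n (s + 1)) → R) - (T (s + 1)).mulVec α) b +
        ((T (s + 1)).mulVec α) b := by
      simp
    rw [h6]
    exact Submodule.add_mem_sup h4 h5
  have hzk' : ∀ k : ℕ, z ∈ J ⊔ maximalIdeal R ^ k := by
    intro k
    have hk : k ≤ p ^ k := (Nat.lt_pow_self (by omega)).le
    exact (sup_le_sup_left (Ideal.pow_le_pow_right hk) J) (hzk k)
  have hkrull := Ideal.iInf_pow_smul_eq_bot_of_le_jacobson (R := R) (M := R ⧸ J)
    (maximalIdeal R) (maximalIdeal_le_jacobson _)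
  have hz0 : Ideal.Quotient.mk J z ∈
      (⨅ i : ℕ, maximalIdeal R ^ i • ⊤ : Submodule R (R ⧸ J)) := by
    rw [Submodule.mem_iInf]
    intro k
    obtain ⟨j, hj, x, hx, e⟩ := Submodule.mem_sup.mp (hzk' k)
    have h1 : Ideal.Quotient.mk J z = x • (Ideal.Quotient.mk J 1) := by
      rw [← e, map_add, Ideal.Quotient.eq_zero_iff_mem.mpr hj, zero_add, Algebra.smul_def,
        Ideal.Quotient.algebraMap_eq, ← map_mul, mul_one]
    rw [h1]
    exact Submodule.smul_mem_smul hx Submodule.mem_top
  rw [hkrull, Submodule.mem_bot] at hz0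
  exact hzJ (Ideal.Quotient.eq_zero_iff_mem.mp hz0)

/-- On a regular local ring, a `p`-th power endomorphism (`p ≥ 1`) is flat (miracle flatness). -/
theorem flat_of_regular (R : Type u) [CommRing R] [IsRegularLocalRing R]
    (p : ℕ) (hp : 1 ≤ p) (φ : R →+* R) (hφ : ∀ x, φ x = x ^ p) : φ.Flat := by
  haveI hCM : LocCoh.IsCohenMacaulayLocalRing R :=
    Groth.Agent.Lib.Helper77.RegularCM.isCohenMacaulayLocalRing R
  have hloc : IsLocalHom φ := ⟨fun a ha => by
    rw [hφ] at ha
    exact (isUnit_pow_iff (by omega)).mp ha⟩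
  set I : Ideal R := (maximalIdeal R).map φ with hI
  have hIm : I ≤ maximalIdeal R := by
    rw [hI, Ideal.map_le_iff_le_comap]
    intro x hx
    rw [Ideal.mem_comap, hφ]
    exact Ideal.pow_mem_of_mem _ hx _ (by omega)
  have hItop : I ≠ ⊤ := fun h => (maximalIdeal.isMaximal R).ne_top (top_le_iff.mp (h ▸ hIm))
  haveI : Nontrivial (R ⧸ I) := Ideal.Quotient.nontrivial_iff.mpr hItop
  have hdim0 : Ring.KrullDimLE 0 (R ⧸ I) := by
    rw [Ring.krullDimLE_zero_iff]
    intro P hP
    have hQ : (P.comap (Ideal.Quotient.mk I)).IsPrime := hP.comap _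
    have hIQ : I ≤ P.comap (Ideal.Quotient.mk I) := by
      intro x hx
      rw [Ideal.mem_comap, Ideal.Quotient.eq_zero_iff_mem.mpr hx]
      exact P.zero_mem
    have hmQ : maximalIdeal R ≤ P.comap (Ideal.Quotient.mk I) := by
      intro x hx
      have h1 : x ^ p ∈ P.comap (Ideal.Quotient.mk I) := by
        apply hIQ
        rw [← hφ]
        exact Ideal.mem_map_of_mem _ hx
      exact hQ.mem_of_pow_mem _ h1
    have hQm : P.comap (Ideal.Quotient.mk I) = maximalIdeal R :=
      ((maximalIdeal.isMaximal R).eq_of_le hQ.ne_top hmQ).symm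
    have hPmap : P = (maximalIdeal R).map (Ideal.Quotient.mk I) := by
      rw [← hQm, Ideal.map_comap_of_surjective _ Ideal.Quotient.mk_surjective]
    rcases Ideal.map_eq_top_or_isMaximal_of_surjective (Ideal.Quotient.mk I)
      Ideal.Quotient.mk_surjective (maximalIdeal.isMaximal R) with h | h
    · exact absurd (hPmap.trans h) hP.ne_top
    · rw [hPmap]; exact h
  have hd0 : ringKrullDim (R ⧸ I) = 0 :=
    le_antisymm (by exact_mod_cast Ring.krullDimLE_iff.mp hdim0) ringKrullDim_nonneg_of_nontrivial
  have key : @Module.Flat R R _ _ φ.toAlgebra.toModule := by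
    letI : Algebra R R := φ.toAlgebra
    haveI : IsLocalHom (algebraMap R R) := hloc
    refine Groth.Agent.Lib.Helper77.MiracleFlat.miracle_flatness (R := R) (S := R) ?_
    show ringKrullDim R = ringKrullDim R + ringKrullDim (R ⧸ I)
    rw [hd0, add_zero]
  exact key


section Global

variable {R : Type u} [CommRing R] (p : ℕ) [Fact p.Prime] [CharP R p]

theorem comap_frobenius (P : Ideal R) [P.IsPrime] : P = Ideal.comap (frobenius R p) P := by
  ext x
  rw [Ideal.mem_comap, frobenius_def]
  exact (Ideal.IsPrime.pow_mem_iff_mem ‹P.IsPrime› p (Fact.out : p.Prime).pos).symm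

theorem localRingHom_pow (P : Ideal R) [P.IsPrime] (h : P = Ideal.comap (frobenius R p) P)
    (y : Localization.AtPrime P) :
    Localization.localRingHom P P (frobenius R p) h y = y ^ p := by
  obtain ⟨⟨a, s⟩, hy⟩ := IsLocalization.surj P.primeCompl y
  have hu : IsUnit (algebraMap R (Localization.AtPrime P) ((s : R) ^ p)) := by
    rw [map_pow]
    exact (IsLocalization.map_units _ s).pow p
  have e1 : Localization.localRingHom P P (frobenius R p) h y *
      algebraMap R (Localization.AtPrime P) ((s : R) ^ p) =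
      algebraMap R (Localization.AtPrime P) (a ^ p) := by
    rw [← frobenius_def, ← frobenius_def, ← Localization.localRingHom_to_map P P _ h,
      ← Localization.localRingHom_to_map P P _ h, ← map_mul, hy]
  have e2 : y ^ p * algebraMap R (Localization.AtPrime P) ((s : R) ^ p) =
      algebraMap R (Localization.AtPrime P) (a ^ p) := by
    rw [map_pow, map_pow, ← mul_pow, hy]
  exact hu.mul_right_cancel (e1.trans e2.symm)

theorem flat_localRingHom_of_regular [IsRegularRing R] (Q J : Ideal R) [Q.IsPrime] [J.IsPrime]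
    (h : Q = Ideal.comap (frobenius R p) J) :
    (Localization.localRingHom Q J (frobenius R p) h).Flat := by
  have hQJ : Q = J := by rw [h]; exact (comap_frobenius p J).symm
  subst hQJ
  exact flat_of_regular (Localization.AtPrime Q) p (Fact.out : p.Prime).one_le _
    (localRingHom_pow p Q h)

/-- **Kunz's theorem.** -/
theorem kunz [IsNoetherianRing R] : IsRegularRing R ↔ (frobenius R p).Flat := by
  constructor
  · intro hreg
    apply RingHom.Flat.ofLocalizationPrime
    intro J hJ
    exact flat_localRingHom_of_regular p _ J rfl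
  · intro hF
    rw [isRegularRing_iff]
    intro P hP
    have h := comap_frobenius p P
    have hflat := RingHom.Flat.localRingHom hF P P h
    exact regular_of_flat (Localization.AtPrime P) p (Fact.out : p.Prime).two_le _
      (localRingHom_pow p P h) hflat

end Global

end Groth.Agent.Lib.Helper52.KunzLocal
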