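import Groth.Agent.Lib.Helper52.WQProd2
import Mathlib.LinearAlgebra.Dimension.Localization
import Mathlib.RingTheory.Ideal.KrullsHeightTheorem
import Groth.Agent.Lib.Helper94.RegularUFD2

/-!
# Generation of a normal local domain by the invariant rings of complementary subgroups
-/

set_option autoImplicit false
universe u v w

namespace Groth.Agent.Lib.Helper52.WQ

open scoped Pointwise

section Rank

variable {R : Type u} [CommRing R] {A : Type v} [CommRing A] [IsDomain A] [Algebra R A]
  {G : Type w} [Group G] [Finite G] [MulSemiringAction G A] [SMulCommClass G R A]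
  [Algebra.IsInvariant R A G] [FaithfulSMul G A]

omit [Finite G] in
lemma inertia_bot : (⊥ : Ideal A).inertia G = ⊥ := by
  rw [eq_bot_iff]
  intro σ hσ
  rw [Subgroup.mem_bot]
  apply FaithfulSMul.eq_of_smul_eq_smul (α := A)
  intro a
  have := hσ a
  rw [Submodule.mem_toAddSubgroup, Ideal.mem_bot, sub_eq_zero] at this
  rw [this, one_smul]

theorem finrank_eq_card (hinj : Function.Injective (algebraMap R A)) :
    Module.finrank R A = Nat.card G := by
  haveI : FaithfulSMul R A := (faithfulSMul_iff_algebraMap_injective R A).mpr hinj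
  haveI : IsGaloisGroup G R A := ⟨inferInstance, inferInstance, inferInstance⟩
  exact (IsGaloisGroup.card_eq_finrank' G R A).symm

theorem finrank_fixed_eq_card (hinj : Function.Injective (algebraMap R A)) (N : Subgroup G)
    [N.Normal] :
    Module.finrank R (FixedPoints.subalgebra R A N) = Nat.card (G ⧸ N) := by
  set B := FixedPoints.subalgebra R A N with hB
  haveI : FaithfulSMul R ↥B := by
    rw [faithfulSMul_iff_algebraMap_injective]
    intro x y hxy
    apply hinj
    exact congrArg Subtype.val hxy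
  haveI : FaithfulSMul (G ⧸ N) ↥B := by
    refine ⟨fun {g₁ g₂} h => ?_⟩
    obtain ⟨σ₁, rfl⟩ := QuotientGroup.mk_surjective g₁
    obtain ⟨σ₂, rfl⟩ := QuotientGroup.mk_surjective g₂
    rw [QuotientGroup.eq]
    have h1 : ∀ b : A, (∀ ν : N, ν • b = b) → (σ₁⁻¹ * σ₂) • b - b ∈ (⊥ : Ideal A) := by
      intro b hb
      have h2 := congrArg Subtype.val (h ⟨b, hb⟩)
      change σ₁ • b = σ₂ • b at h2
      rw [Ideal.mem_bot, sub_eq_zero, mul_smul, ← h2, inv_smul_smul]
    have h3 := mem_sup_inertia N (⊥ : Ideal A) (σ₁⁻¹ * σ₂) h1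
    rwa [inertia_bot, sup_bot_eq] at h3
  haveI : IsGaloisGroup (G ⧸ N) R ↥B := ⟨inferInstance, inferInstance, inferInstance⟩
  exact (IsGaloisGroup.card_eq_finrank' (G ⧸ N) R ↥B).symm

end Rank

section Reflexive

variable {R : Type u} [CommRing R] [IsDomain R] {A : Type v} [CommRing A] [IsDomain A]
  [Algebra R A] {ι : Type*} [Fintype ι] (m : ι → A)

/-- A family of `rank A` elements whose span has torsion cokernel is linearly independent. -/
theorem linearIndependent_of_torsion_quotient
    (hcard : Fintype.card ι = Module.finrank R A)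
    (h0 : ∀ a : A, ∃ s : R, s ≠ 0 ∧ s • a ∈ Submodule.span R (Set.range m)) :
    LinearIndependent R m := by
  rw [linearIndependent_iff_card_eq_finrank_span, hcard]
  set N' := Submodule.span R (Set.range m) with hN'
  have h1 : Module.rank R (A ⧸ N') = 0 := by
    rw [rank_eq_zero_iff]
    intro x
    obtain ⟨a, rfl⟩ := Submodule.Quotient.mk_surjective N' x
    obtain ⟨s, hs0, hsa⟩ := h0 a
    exact ⟨s, hs0, by rw [← Submodule.Quotient.mk_smul, Submodule.Quotient.mk_eq_zero]; exact hsa⟩
  have h2 := rank_quotient_add_rank_of_isDomain N'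
  rw [h1, zero_add] at h2
  change Module.finrank R A = Module.finrank R N'
  rw [Module.finrank, Module.finrank, h2]

variable {m}

/-- The prime step: if `A` is generated by the family away from the prime `π`, then `π` is a
nonzerodivisor on the cokernel of the span. -/
theorem mem_span_of_prime_smul_mem (hinj : Function.Injective (algebraMap R A))
    (hli : LinearIndependent R m) {π : R} (hπ : Prime π)
    (hloc : ∀ a : A, ∃ t : R, ¬ π ∣ t ∧ t • a ∈ Submodule.span R (Set.range m))
    (a : A) (ha : π • a ∈ Submodule.span R (Set.range m)) :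
    a ∈ Submodule.span R (Set.range m) := by
  obtain ⟨c, hc⟩ := (Submodule.mem_span_range_iff_exists_fun R).mp ha
  obtain ⟨t, ht, hta⟩ := hloc a
  obtain ⟨b, hb⟩ := (Submodule.mem_span_range_iff_exists_fun R).mp hta
  have h1 : ∑ i, (π * b i - t * c i) • m i = 0 := by
    simp_rw [sub_smul, mul_smul]
    rw [Finset.sum_sub_distrib, ← Finset.smul_sum, ← Finset.smul_sum, hb, hc, smul_comm,
      sub_self]
  have h2 := Fintype.linearIndependent_iff.mp hli _ h1
  have h3 : ∀ i, π ∣ c i := by
    intro i
    have h4 : π * b i = t * c i := sub_eq_zero.mp (h2 i)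
    have h5 : π ∣ t * c i := ⟨b i, h4.symm⟩
    exact (hπ.dvd_or_dvd h5).resolve_left ht
  choose c' hc' using h3
  rw [Submodule.mem_span_range_iff_exists_fun]
  refine ⟨c', ?_⟩
  have h6 : π • (∑ i, c' i • m i) = π • a := by
    rw [← hc, Finset.smul_sum]
    refine Finset.sum_congr rfl fun i _ => ?_
    rw [hc' i, mul_smul]
  have hπA : algebraMap R A π ≠ 0 := by
    rw [Ne, ← map_zero (algebraMap R A)]
    exact fun h => hπ.ne_zero (hinj h)
  rw [Algebra.smul_def, Algebra.smul_def] at h6
  exact mul_left_cancel₀ hπA h6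

/-- A linearly independent family which spans `A` away from `0` and away from every prime
element of the UFD `R` spans `A`. -/
theorem span_eq_top_of_forall_prime [UniqueFactorizationMonoid R]
    (hinj : Function.Injective (algebraMap R A)) (hli : LinearIndependent R m)
    (h0 : ∀ a : A, ∃ s : R, s ≠ 0 ∧ s • a ∈ Submodule.span R (Set.range m))
    (hloc : ∀ π : R, Prime π → ∀ a : A, ∃ t : R, ¬ π ∣ t ∧
      t • a ∈ Submodule.span R (Set.range m)) :
    Submodule.span R (Set.range m) = ⊤ := by
  rw [eq_top_iff]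
  intro a _
  obtain ⟨s, hs0, hsa⟩ := h0 a
  have key : ∀ s : R, s ≠ 0 → ∀ a : A, s • a ∈ Submodule.span R (Set.range m) →
      a ∈ Submodule.span R (Set.range m) := by
    intro s
    induction s using UniqueFactorizationMonoid.induction_on_prime with
    | h₁ => intro h; exact absurd rfl h
    | h₂ x hx =>
      intro _ a ha
      obtain ⟨u, rfl⟩ := hx
      have := Submodule.smul_mem _ (↑u⁻¹ : R) ha
      rwa [smul_smul, Units.inv_mul, one_smul] at this
    | h₃ s π hs hπ ih =>
      intro _ a ha
      apply ih hs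
      apply mem_span_of_prime_smul_mem hinj hli hπ (hloc π hπ)
      rwa [smul_smul]
  exact key s hs0 a hsa

end Reflexive

section Height

variable {R : Type u} [CommRing R] {A : Type v} [CommRing A] [IsDomain A]
  [Algebra R A] [Algebra.IsIntegral R A] [IsNoetherianRing A]

theorem height_eq_one_of_under_eq_span (hinj : Function.Injective (algebraMap R A)) {π : R}
    (hπ : π ≠ 0) (P : Ideal A) [P.IsPrime] (hP : P.under R = Ideal.span {π}) : P.height = 1 := by
  have hmem : algebraMap R A π ∈ P := by
    have : π ∈ P.under R := hP ▸ Ideal.mem_span_singleton_self π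
    exact this
  have hmin : P ∈ (Ideal.span {algebraMap R A π}).minimalPrimes := by
    refine ⟨⟨inferInstance, (Ideal.span_singleton_le_iff_mem _).mpr hmem⟩, fun Q ⟨hQ, hQle⟩ hQP => ?_⟩
    by_contra hne
    have hlt : Q < P := lt_of_le_of_ne hQP (fun h => hne (h ▸ le_rfl))
    haveI := hQ
    have h1 := Ideal.IsIntegral.comap_lt_comap (R := R) hlt
    have h2 : P.comap (algebraMap R A) ≤ Q.comap (algebraMap R A) := by
      rw [← Ideal.under_def, hP, Ideal.span_singleton_le_iff_mem]
      exact hQle (Ideal.mem_span_singleton_self _)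
    exact absurd h1 (not_lt_of_ge h2)
  refine le_antisymm (Ideal.height_le_one_of_isPrincipal_of_mem_minimalPrimes _ P hmin) ?_
  rw [Order.one_le_iff_pos, pos_iff_ne_zero, Ne, Ideal.height_eq_zero_iff_eq_bot]
  intro h
  rw [h, Ideal.mem_bot] at hmem
  exact hπ (hinj (by rw [hmem, map_zero]))

end Height

section Main

open Groth.Agent.Lib.Helper94.RegularUFD

/-- The invariant rings of the complements generate. -/
theorem iSup_fixed_compl_eq_top (p : ℕ) [Fact p.Prime] (R : Type u) [CommRing R]
    [IsRegularLocalRing R] (A : Type v) [CommRing A] [IsDomain A] [Algebra R A]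
    [Module.Finite R A] (hinj : Function.Injective (algebraMap R A))
    (G : Type w) [Group G] [Finite G] [MulSemiringAction G A] [SMulCommClass G R A]
    [FaithfulSMul G A]
    (hfix : ∀ a : A, (∀ h : G, h • a = a) → a ∈ Set.range (algebraMap R A))
    (hcomm : ∀ g h : G, g * h = h * g)
    (n : ℕ) (hcard : Nat.card G = p ^ n) (Gi : Fin n → Subgroup G)
    (hGi : ∀ i, Nat.card (Gi i) = p) (hsup : (⨆ i, Gi i) = ⊤)
    (hMR3 : ∀ P : Ideal A, P.IsPrime → P.height = 1 → P.inertia G ≠ ⊥ →
      ∃ i, P.inertia G = Gi i)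
    (hMR4 : ∀ i, Module.Free R
      (FixedPoints.subalgebra R A ↥(⨆ j ∈ (Finset.univ.erase i : Finset (Fin n)), Gi j : Subgroup G))) :
    (⨆ i, FixedPoints.subalgebra R A
      ↥(⨆ j ∈ (Finset.univ.erase i : Finset (Fin n)), Gi j : Subgroup G)) = ⊤ := by
  classical
  haveI : Algebra.IsInvariant R A G := ⟨fun a ha => hfix a ha⟩
  haveI : IsDomain R := hinj.isDomain (algebraMap R A)
  haveI : UniqueFactorizationMonoid R := uniqueFactorizationMonoid_of_isRegularLocalRing R
  haveI : Algebra.IsIntegral R A := Algebra.IsIntegral.of_finite R A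
  haveI : IsNoetherianRing A := IsNoetherianRing.of_finite R A
  rcases Nat.eq_zero_or_pos n with hn | hn
  · subst hn
    rw [eq_top_iff]
    intro a _
    have hG : ∀ g : G, g = 1 := by
      rw [pow_zero, Nat.card_eq_one_iff_unique] at hcard
      haveI := hcard.1
      exact fun g => Subsingleton.elim _ _
    obtain ⟨r, rfl⟩ := hfix a (fun g => by rw [hG g, one_smul])
    exact Subalgebra.algebraMap_mem _ r
  set B : Fin n → Subalgebra R A := fun i =>
    FixedPoints.subalgebra R A ↥(⨆ j ∈ (Finset.univ.erase i : Finset (Fin n)), Gi j : Subgroup G)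
    with hB
  have hrank : ∀ i, Module.finrank R (B i) = p := by
    intro i
    haveI := normal_of_comm hcomm (⨆ j ∈ (Finset.univ.erase i : Finset (Fin n)), Gi j)
    have h1 := finrank_fixed_eq_card (R := R) (A := A) hinj
      (⨆ j ∈ (Finset.univ.erase i : Finset (Fin n)), Gi j)
    rw [(compl_facts hcomm p n hcard Gi hGi hsup i).2.2] at h1
    exact h1
  haveI : IsNoetherian R A := isNoetherian_of_isNoetherianRing_of_finite R A
  haveI hfin : ∀ i, Module.Finite R (B i) := fun i =>
    Module.Finite.of_injective (B i).val.toLinearMap Subtype.val_injective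
  haveI := hMR4
  let e : ∀ i, Module.Basis (Fin p) R (B i) := fun i =>
    Module.finBasisOfFinrankEq R (B i) (hrank i)
  let m : (Fin n → Fin p) → A := fun f => ∏ i, ((e i (f i) : B i) : A)
  have hprod : ∏ i : Fin n, fixSub R A (⨆ j ∈ (Finset.univ.erase i : Finset (Fin n)), Gi j) =
      Submodule.span R (Set.range m) := by
    have h1 : ∀ i, fixSub R A (⨆ j ∈ (Finset.univ.erase i : Finset (Fin n)), Gi j) =
        Submodule.span R (Set.range fun k => ((e i k : B i) : A)) := by
      intro i
      have h2 := congrArg (Submodule.map (B i).val.toLinearMap) (e i).span_eq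
      rw [Submodule.map_span, Submodule.map_top, ← Set.range_comp] at h2
      change _ = Submodule.span R (Set.range ((B i).val.toLinearMap ∘ (e i)))
      rw [h2]
      ext x
      constructor
      · intro hx; exact ⟨⟨x, hx⟩, rfl⟩
      · rintro ⟨y, rfl⟩; exact y.2
    rw [Finset.prod_congr rfl (fun i _ => h1 i), Submodule.prod_span]
    congr 1
    ext x
    rw [Set.mem_fintype_prod]
    constructor
    · rintro ⟨g, hg, rfl⟩
      choose f hf using hg
      exact ⟨f, Finset.prod_congr rfl fun i _ => hf i⟩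
    · rintro ⟨f, rfl⟩
      exact ⟨fun i => ((e i (f i) : B i) : A), fun i => ⟨f i, rfl⟩, rfl⟩
  have hcardι : Fintype.card (Fin n → Fin p) = Module.finrank R A := by
    rw [finrank_eq_card (G := G) hinj, hcard, Fintype.card_fun, Fintype.card_fin, Fintype.card_fin]
  have h0 : ∀ a : A, ∃ s : R, s ≠ 0 ∧ s • a ∈ Submodule.span R (Set.range m) := by
    have hq : ∀ P : Ideal A, P.IsPrime → P.under R = ⊥ → P.inertia G ≤ Gi ⟨0, hn⟩ := by
      intro P hP hPq
      have : P = ⊥ := Ideal.eq_bot_of_comap_eq_bot hPq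
      rw [this, inertia_bot]
      exact bot_le
    have h1 := top_le_sat_prod hinj hcomm p n hcard Gi hGi hsup ⊥ ⟨0, hn⟩ hq
    intro a
    obtain ⟨s, hs, hsa⟩ := h1 (Submodule.mem_top : a ∈ ⊤)
    exact ⟨s, fun h => hs (h ▸ Ideal.zero_mem _), hprod ▸ hsa⟩
  have hli := linearIndependent_of_torsion_quotient m hcardι h0
  have hloc : ∀ π : R, Prime π → ∀ a : A, ∃ t : R, ¬ π ∣ t ∧
      t • a ∈ Submodule.span R (Set.range m) := by
    intro π hπ
    haveI : (Ideal.span {π}).IsPrime := (Ideal.span_singleton_prime hπ.ne_zero).mpr hπ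
    obtain ⟨P₁, -, hP₁, hP₁q⟩ := Ideal.exists_ideal_over_prime_of_isIntegral (Ideal.span {π})
      (⊥ : Ideal A) (by rw [Ideal.comap_bot_of_injective _ hinj]; exact bot_le)
    haveI := hP₁
    have hht : P₁.height = 1 := height_eq_one_of_under_eq_span hinj hπ.ne_zero P₁ hP₁q
    obtain ⟨i₀, hi₀⟩ : ∃ i₀, P₁.inertia G ≤ Gi i₀ := by
      by_cases hI : P₁.inertia G = ⊥
      · exact ⟨⟨0, hn⟩, hI ▸ bot_le⟩
      · obtain ⟨i, hi⟩ := hMR3 P₁ hP₁ hht hI
        exact ⟨i, hi.le⟩
    have hq : ∀ P : Ideal A, P.IsPrime → P.under R = Ideal.span {π} → P.inertia G ≤ Gi i₀ := by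
      intro P hP hPq
      haveI := hP
      obtain ⟨g, rfl⟩ := Algebra.IsInvariant.exists_smul_of_under_eq R A G P₁ P
        (hP₁q.trans hPq.symm)
      intro σ hσ
      apply hi₀
      intro b
      have h1 := hσ (g • b)
      rw [Submodule.mem_toAddSubgroup, Ideal.mem_pointwise_smul_iff_inv_smul_mem, smul_sub,
        inv_smul_smul, smul_smul, smul_smul, mul_assoc, hcomm σ g, inv_mul_cancel_left] at h1
      exact h1
    have h1 := top_le_sat_prod hinj hcomm p n hcard Gi hGi hsup (Ideal.span {π}) i₀ hq
    intro a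
    obtain ⟨t, ht, hta⟩ := h1 (Submodule.mem_top : a ∈ ⊤)
    exact ⟨t, fun h => ht (Ideal.mem_span_singleton.mpr h), hprod ▸ hta⟩
  have htop := span_eq_top_of_forall_prime hinj hli h0 hloc
  rw [eq_top_iff]
  intro a _
  have ha : a ∈ Submodule.span R (Set.range m) := htop ▸ Submodule.mem_top
  have hle : Submodule.span R (Set.range m) ≤ Subalgebra.toSubmodule (⨆ i, B i) := by
    rw [Submodule.span_le]
    rintro _ ⟨f, rfl⟩
    exact Subalgebra.prod_mem _ (fun i _ => (le_iSup B i) (e i (f i)).2)
  exact hle ha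

end Main

end Groth.Agent.Lib.Helper52.WQ
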