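import Mathlib
import Groth.Agent.Lib.Helper52.CPLocal
import Groth.Agent.Lib.Helper52.CPDepth
import Groth.Agent.Lib.Helper52.KunzLocal
import Groth.Agent.Lib.Helper52.WQProd3
import Groth.Agent.S9829

/-!
# Purity of the branch locus in characteristic `p` for Galois covers of a regular local ring
(helper52)
-/
universe u v w
set_option autoImplicit false
open IsLocalRing

namespace Groth.Agent.Lib.Helper52.CPPurity

open Groth.Agent.Lib.Helper52 CPAlg

section Free

/-- Freeness: the relative Frobenius argument. -/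
theorem free_of_charP (p : ℕ) [Fact p.Prime] {R : Type u} [CommRing R] [IsRegularLocalRing R]
    [CharP R p] {C : Type v} [CommRing C] [IsDomain C] [IsIntegrallyClosed C] [Algebra R C]
    [Module.Finite R C] [CharP C p] {Γ : Type w} [Group Γ] [Finite Γ] [MulSemiringAction Γ C]
    [SMulCommClass Γ R C] [Algebra.IsInvariant R C Γ] (hinj : Function.Injective (algebraMap R C)) (hdim : 2 ≤ ringKrullDim R)
    (hram : ∀ Q : Ideal C, Q.IsPrime → Q.under R ≠ maximalIdeal R → Q.inertia Γ = ⊥) :
    Module.Free R C := by
  haveI : IsDomain R := hinj.isDomain _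
  haveI : IsIntegrallyClosed R := Groth.Agent.S9829.result R
  have hflat : (frobenius R p).Flat :=
    KunzLocal.flat_of_regular R p (Fact.out : p.Prime).one_le _ (fun x => frobenius_def p x)
  obtain ⟨x, y, hxm, hym, hx0, hreg⟩ := CPDepth.exists_regMod (A := C) hinj hdim
  refine CPCore.free_of_local_data p hflat hinj x y hxm hym hx0 hreg ?_
  intro q hqp hqm
  haveI := hqp
  exact CPCore.localData_of_inertia (G := Γ) p hinj q
    (fun P hP hPq => hram P hP (by rw [hPq]; exact hqm))

end Free

section Height

/-- A prime of height at most one in an integral extension of a normal local domain of dimension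
at least two does not lie over the maximal ideal. -/
theorem under_ne_maximalIdeal_of_height_le_one {R : Type u} [CommRing R] [IsDomain R]
    [IsLocalRing R] [IsNoetherianRing R] [IsIntegrallyClosed R] {C : Type v} [CommRing C] [IsDomain C]
    [IsNoetherianRing C] [Algebra R C] [Algebra.IsIntegral R C]
    (hinj : Function.Injective (algebraMap R C)) (hdim : 2 ≤ ringKrullDim R) (P : Ideal C)
    [P.IsPrime] (hht : P.height ≤ 1) : P.under R ≠ maximalIdeal R := by
  haveI : FaithfulSMul R C := (faithfulSMul_iff_algebraMap_injective R C).mpr hinj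
  intro hmax
  haveI : P.LiesOver (P.under R) := ⟨rfl⟩
  have h1 := Ideal.height_eq_height_add_of_liesOver_of_hasGoingDown (P.under R) P
  have h2 : (P.under R).height ≤ P.height := by rw [h1]; exact le_self_add
  rw [hmax] at h2
  have h3 : ((maximalIdeal R).height : WithBot ℕ∞) = ringKrullDim R :=
    IsLocalRing.maximalIdeal_height_eq_ringKrullDim
  rw [← h3] at hdim
  have h4 : (2 : ℕ∞) ≤ (maximalIdeal R).height := by
    have : ((2 : ℕ∞) : WithBot ℕ∞) ≤ ((maximalIdeal R).height : WithBot ℕ∞) := hdim
    exact WithBot.coe_le_coe.mp this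
  have h5 : (2 : ℕ∞) ≤ 1 := h4.trans (h2.trans hht)
  exact absurd h5 (by decide)

end Height

section Det

variable {R : Type u} [CommRing R] {C : Type v} [CommRing C] [Algebra R C]
  {Γ : Type w} [Group Γ] [Fintype Γ] [DecidableEq Γ] [MulSemiringAction Γ C]
  [SMulCommClass Γ R C]
  {ι : Type*} [Fintype ι] (b : Module.Basis ι R C) (e : ι ≃ Γ)

/-- Dedekind independence at a prime all of whose translates have trivial inertia. -/
theorem det_notMem (P : Ideal C) [P.IsPrime]
    (hin : ∀ τ : Γ, (P.comap (MulSemiringAction.toRingHom Γ C τ)).inertia Γ = ⊥) :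
    (Matrix.of fun (σ τ : Γ) => σ • b (e.symm τ)).det ∉ P := by
  classical
  intro hdet
  set M : Matrix Γ Γ C := Matrix.of fun (σ τ : Γ) => σ • b (e.symm τ) with hM
  let q := Ideal.Quotient.mk P
  have hdet' : (M.map q).det = 0 := by
    have := RingHom.map_det q M
    rw [RingHom.mapMatrix_apply] at this
    rw [← this]
    exact Ideal.Quotient.eq_zero_iff_mem.mpr hdet
  obtain ⟨v, hv0, hv⟩ := Matrix.exists_vecMul_eq_zero_iff.mpr hdet'
  let χ : Γ → (C →* (C ⧸ P)) := fun σ => (q.comp (MulSemiringAction.toRingHom Γ C σ) : C →* (C ⧸ P))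
  have hχ : ∀ σ a, χ σ a = q (σ • a) := fun σ a => rfl
  have hχinj : Function.Injective χ := by
    intro σ τ hστ
    have h1 : τ⁻¹ * σ ∈ (P.comap (MulSemiringAction.toRingHom Γ C τ)).inertia Γ := by
      intro a
      change (τ⁻¹ * σ) • a - a ∈ P.comap (MulSemiringAction.toRingHom Γ C τ)
      rw [Ideal.mem_comap, MulSemiringAction.toRingHom_apply, smul_sub, mul_smul,
        smul_inv_smul, ← Ideal.Quotient.mk_eq_mk_iff_sub_mem]
      have := DFunLike.congr_fun hστ a
      rwa [hχ, hχ] at this
    rw [hin τ, Subgroup.mem_bot] at h1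
    exact (inv_mul_eq_one.mp h1).symm
  have hli : LinearIndependent (C ⧸ P) (fun σ : Γ => (χ σ : C → C ⧸ P)) :=
    (linearIndependent_monoidHom C (C ⧸ P)).comp χ hχinj
  rw [Fintype.linearIndependent_iff] at hli
  apply hv0
  funext σ
  refine hli v ?_ σ
  funext a
  simp only [Finset.sum_apply, Pi.smul_apply, smul_eq_mul, Pi.zero_apply, hχ]
  have ha : ∀ σ : Γ, σ • a = ∑ j, algebraMap R C (b.repr a j) * σ • b j := by
    intro σ
    conv_lhs => rw [← b.sum_repr a]
    rw [Finset.smul_sum]
    refine Finset.sum_congr rfl fun j _ => ?_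
    rw [smul_comm, Algebra.smul_def]
  have hvτ : ∀ j : ι, ∑ σ, v σ * q (σ • b j) = 0 := by
    intro j
    have := congrFun hv (e j)
    simp only [Matrix.vecMul, dotProduct, Matrix.map_apply, hM, Matrix.of_apply,
      Equiv.symm_apply_apply, Pi.zero_apply] at this
    exact this
  calc ∑ σ, v σ * q (σ • a)
      = ∑ σ, ∑ j, q (algebraMap R C (b.repr a j)) * (v σ * q (σ • b j)) := by
        refine Finset.sum_congr rfl fun σ _ => ?_
        rw [ha σ, map_sum, Finset.mul_sum]
        refine Finset.sum_congr rfl fun j _ => ?_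
        rw [map_mul]; ring
    _ = ∑ j, q (algebraMap R C (b.repr a j)) * ∑ σ, v σ * q (σ • b j) := by
        rw [Finset.sum_comm]
        refine Finset.sum_congr rfl fun j _ => ?_
        rw [Finset.mul_sum]
    _ = 0 := by
        refine Finset.sum_eq_zero fun j _ => ?_
        rw [hvτ j, mul_zero]

omit [SMulCommClass Γ R C] in
/-- If the determinant is a unit then every inertia group is trivial. -/
theorem inertia_eq_bot_of_isUnit_det
    (hD : IsUnit (Matrix.of fun (σ τ : Γ) => σ • b (e.symm τ)).det) (Q : Ideal C) (hQ : Q ≠ ⊤) :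
    Q.inertia Γ = ⊥ := by
  rw [eq_bot_iff]
  intro σ hσ
  rw [Subgroup.mem_bot]
  by_contra hne
  apply hQ
  apply Ideal.eq_top_of_isUnit_mem _ _ hD
  rw [← Ideal.Quotient.eq_zero_iff_mem, RingHom.map_det]
  apply Matrix.det_zero_of_row_eq hne
  funext τ
  simp only [RingHom.mapMatrix_apply, Matrix.map_apply, Matrix.of_apply, one_smul]
  rw [Ideal.Quotient.mk_eq_mk_iff_sub_mem]
  exact hσ _

end Det

section Main


/-- **Purity of the branch locus**, characteristic `p`, Galois form: a Galois cover of a regular
local ring of dimension at least two which is unramified (trivial inertia) away from the closed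
point is free with trivial inertia everywhere. -/
theorem purity (p : ℕ) [Fact p.Prime] {R : Type u} [CommRing R] [IsRegularLocalRing R]
    [CharP R p] {C : Type v} [CommRing C] [IsDomain C] [IsIntegrallyClosed C] [Algebra R C]
    [Module.Finite R C] [CharP C p] {Γ : Type w} [Group Γ] [Finite Γ] [MulSemiringAction Γ C]
    [SMulCommClass Γ R C] [Algebra.IsInvariant R C Γ] [FaithfulSMul Γ C] (hinj : Function.Injective (algebraMap R C)) (hdim : 2 ≤ ringKrullDim R)
    (hram : ∀ Q : Ideal C, Q.IsPrime → Q.under R ≠ maximalIdeal R → Q.inertia Γ = ⊥) :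
    Module.Free R C ∧ Module.finrank R C = Nat.card Γ ∧
      ∀ Q : Ideal C, Q ≠ ⊤ → Q.inertia Γ = ⊥ := by
  classical
  haveI : Fintype Γ := Fintype.ofFinite Γ
  haveI : IsDomain R := hinj.isDomain _
  haveI : IsIntegrallyClosed R := Groth.Agent.S9829.result R
  haveI : IsNoetherianRing C := IsNoetherianRing.of_finite R C
  haveI : Algebra.IsIntegral R C := Algebra.IsIntegral.of_finite R C
  haveI hfree : Module.Free R C := free_of_charP (Γ := Γ) p hinj hdim hram
  have hrank : Module.finrank R C = Nat.card Γ := WQ.finrank_eq_card hinj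
  refine ⟨hfree, hrank, ?_⟩
  let b := Module.finBasis R C
  let e : Fin (Module.finrank R C) ≃ Γ :=
    Fintype.equivOfCardEq (by rw [Fintype.card_fin, hrank, Nat.card_eq_fintype_card])
  have hD : IsUnit (Matrix.of fun (σ τ : Γ) => σ • b (e.symm τ)).det := by
    by_contra hnu
    have hspan : Ideal.span {(Matrix.of fun (σ τ : Γ) => σ • b (e.symm τ)).det} ≠ ⊤ := by
      rw [Ne, Ideal.span_singleton_eq_top]
      exact hnu
    obtain ⟨P, hP⟩ := Ideal.nonempty_minimalPrimes hspan
    haveI : P.IsPrime := hP.1.1
    have hht : P.height ≤ 1 :=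
      Ideal.height_le_one_of_isPrincipal_of_mem_minimalPrimes _ P hP
    have hPm : P.under R ≠ maximalIdeal R :=
      under_ne_maximalIdeal_of_height_le_one hinj hdim P hht
    refine det_notMem b e P ?_ (hP.1.2 (Ideal.mem_span_singleton_self _))
    intro τ
    haveI : (P.comap (MulSemiringAction.toRingHom Γ C τ)).IsPrime := Ideal.comap_isPrime _ _
    apply hram _ inferInstance
    have : (P.comap (MulSemiringAction.toRingHom Γ C τ)).under R = P.under R := by
      ext r
      simp only [Ideal.under_def, Ideal.mem_comap, MulSemiringAction.toRingHom_apply]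
      rw [smul_algebraMap]
    rw [this]
    exact hPm
  intro Q hQ
  exact inertia_eq_bot_of_isUnit_det b e hD Q hQ

end Main

end Groth.Agent.Lib.Helper52.CPPurity
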