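import Mathlib
import Groth.Agent.Lib.Helper52.CPPurity
import Groth.Agent.Lib.Helper9.HenselSplit

/-!
# A complete regular local ring whose coefficient field has no Galois extension of degree `p` has
no Galois cover of degree `p` unramified outside the closed point (helper52)
-/
universe u u' v w
set_option autoImplicit false
open IsLocalRing

namespace Groth.Agent.Lib.Helper52.CPEnd

open Groth.Agent.Lib.Helper52

/-- A domain finite over a complete local ring is local. -/
theorem isLocalRing_of_finite_of_complete (A : Type u) [CommRing A] [IsLocalRing A]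
    [IsAdicComplete (maximalIdeal A) A] (C : Type u') [CommRing C] [IsDomain C] [Algebra A C]
    [Module.Finite A C] : IsLocalRing C := by
  haveI : HenselianLocalRing A := by
    refine ⟨fun f hf a₀ h1 h2 => ?_⟩
    exact HenselianRing.is_henselian f hf a₀ h1 (h2.map (Ideal.Quotient.mk _))
  obtain ⟨n, e, he, hloc⟩ :=
    Groth.Agent.Lib.Helper9.exists_completeOrthogonalIdempotents_of_finite (R := A) C
  have h01 : ∀ i, e i = 0 ∨ e i = 1 := by
    intro i
    have h1 := he.idem i
    have h : e i * (e i - 1) = 0 := by rw [mul_sub, mul_one, h1.eq, sub_self]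
    rcases mul_eq_zero.mp h with h | h
    · left; exact h
    · right; exact sub_eq_zero.mp h
  obtain ⟨i, hi⟩ : ∃ i, e i = 1 := by
    by_contra hcon
    push Not at hcon
    have h0 : ∑ i, e i = 0 := Finset.sum_eq_zero (fun i _ => (h01 i).resolve_right (hcon i))
    rw [he.complete] at h0
    exact one_ne_zero h0
  have h2 := hloc i
  have hbot : Ideal.span ({1 - e i} : Set C) = ⊥ := by
    rw [hi, sub_self]; exact Ideal.span_singleton_eq_bot.mpr rfl
  exact ((Ideal.quotEquivOfEq hbot).trans (RingEquiv.quotientBot C)).isLocalRing

theorem false_of_cover (p : ℕ) [Fact p.Prime] (A : Type u) [CommRing A] [IsRegularLocalRing A]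
    [CharP A p] [IsAdicComplete (maximalIdeal A) A] (hdim : 2 ≤ ringKrullDim A)
    (k : Type v) [Field k] [Algebra k A]
    (hk : Function.Surjective (residue A ∘ algebraMap k A))
    (hkp : ∀ (L : Type v) [Field L] [Algebra k L], IsGalois k L → Module.finrank k L ≠ p)
    (C : Type u') [CommRing C] [IsDomain C] [IsIntegrallyClosed C] [Algebra A C]
    [Module.Finite A C] [Algebra k C] [IsScalarTower k A C]
    (Γ : Type w) [Group Γ] [Finite Γ] [MulSemiringAction Γ C] [SMulCommClass Γ A C]
    [Algebra.IsInvariant A C Γ] [FaithfulSMul Γ C] (hcard : Nat.card Γ = p)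
    (hinj : Function.Injective (algebraMap A C))
    (hram : ∀ Q : Ideal C, Q.IsPrime → Q.under A ≠ maximalIdeal A → Q.inertia Γ = ⊥) :
    False := by
  classical
  haveI : CharP C p := charP_of_injective_algebraMap hinj p
  obtain ⟨hfree, hrank, hin⟩ := CPPurity.purity (Γ := Γ) p hinj hdim hram
  haveI : IsLocalRing C := isLocalRing_of_finite_of_complete A C
  haveI : FaithfulSMul A C := (faithfulSMul_iff_algebraMap_injective A C).mpr hinj
  haveI : Algebra.IsIntegral A C := Algebra.IsIntegral.of_finite A C
  haveI : IsLocalHom (algebraMap A C) := inferInstance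
  have hsmulk : ∀ (γ : Γ) (c : k), γ • algebraMap k C c = algebraMap k C c := by
    intro γ c
    rw [IsScalarTower.algebraMap_apply k A C, smul_algebraMap]
  have halg : ∀ c : k, algebraMap k (ResidueField C) c = residue C (algebraMap k C c) :=
    fun c => rfl
  haveI : SMulCommClass Γ k (ResidueField C) := ⟨by
    intro γ c x
    obtain ⟨x, rfl⟩ := residue_surjective x
    rw [Algebra.smul_def, Algebra.smul_def, halg, ← map_mul, ← ResidueField.residue_smul,
      ← ResidueField.residue_smul, ← map_mul, smul_mul', hsmulk]⟩
  have hfinj : Function.Injective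
      (fun γ : Γ => MulSemiringAction.toAlgEquiv k (ResidueField C) γ) := by
    intro γ γ' h
    have h1 : γ'⁻¹ * γ ∈ (maximalIdeal C).inertia Γ := by
      intro x
      show (γ'⁻¹ * γ) • x - x ∈ maximalIdeal C
      rw [← residue_eq_zero_iff, map_sub, sub_eq_zero, ResidueField.residue_smul, mul_smul]
      have h2 := DFunLike.congr_fun h (residue C x)
      simp only [MulSemiringAction.toAlgEquiv_apply] at h2
      rw [h2, inv_smul_smul]
    rw [hin _ (Ideal.IsPrime.ne_top inferInstance), Subgroup.mem_bot] at h1
    exact (inv_mul_eq_one.mp h1).symm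
  let b := Module.finBasis A C
  have hspan : Submodule.span k (Set.range fun j => residue C (b j)) = ⊤ := by
    rw [eq_top_iff]
    intro x _
    obtain ⟨c, rfl⟩ := residue_surjective x
    rw [← b.sum_repr c, map_sum]
    refine Submodule.sum_mem _ fun j _ => ?_
    obtain ⟨l, hl⟩ := hk (residue A (b.repr c j))
    have hl' : residue A (algebraMap k A l) = residue A (b.repr c j) := hl
    have h1 : b.repr c j - algebraMap k A l ∈ maximalIdeal A := by
      rw [← residue_eq_zero_iff, map_sub, sub_eq_zero]; exact hl'.symm
    have h2 : algebraMap A C (b.repr c j - algebraMap k A l) ∈ maximalIdeal C :=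
      map_nonunit _ _ h1
    rw [map_sub, ← IsScalarTower.algebraMap_apply, ← residue_eq_zero_iff, map_sub,
      sub_eq_zero] at h2
    have h3 : residue C (b.repr c j • b j) = l • residue C (b j) := by
      rw [Algebra.smul_def, map_mul, Algebra.smul_def, halg, h2]
    rw [h3]
    exact Submodule.smul_mem _ _ (Submodule.subset_span ⟨j, rfl⟩)
  haveI : Module.Finite k (ResidueField C) :=
    ⟨⟨Finset.univ.image (fun j => residue C (b j)), by
      rw [Finset.coe_image, Finset.coe_univ, Set.image_univ]; exact hspan⟩⟩
  have hle : Module.finrank k (ResidueField C) ≤ p := by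
    calc Module.finrank k (ResidueField C)
        = Module.finrank k (⊤ : Submodule k (ResidueField C)) := (finrank_top k _).symm
      _ = Module.finrank k (Submodule.span k (Set.range fun j => residue C (b j))) := by
          rw [hspan]
      _ ≤ Fintype.card (Fin (Module.finrank A C)) := finrank_range_le_card _
      _ = p := by rw [Fintype.card_fin, hrank, hcard]
  have hcardle : Nat.card Γ ≤ Nat.card (ResidueField C ≃ₐ[k] ResidueField C) :=
    Nat.card_le_card_of_injective _ hfinj
  have hautle : Nat.card (ResidueField C ≃ₐ[k] ResidueField C) ≤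
      Module.finrank k (ResidueField C) := by
    rw [Nat.card_eq_fintype_card]; exact AlgEquiv.card_le
  have heq : Nat.card (ResidueField C ≃ₐ[k] ResidueField C) =
      Module.finrank k (ResidueField C) := le_antisymm hautle (by omega)
  haveI : IsGalois k (ResidueField C) := IsGalois.of_card_aut_eq_finrank k _ heq
  have hfr : Module.finrank k (ResidueField C) = p := by omega
  haveI : Small.{v} (ResidueField C) :=
    ⟨⟨Fin (Module.finrank k (ResidueField C)) → k,
      ⟨(Module.finBasis k (ResidueField C)).equivFun.toEquiv⟩⟩⟩
  let e := Shrink.algEquiv.{v} k (ResidueField C)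
  haveI : IsGalois k (Shrink.{v} (ResidueField C)) := IsGalois.of_algEquiv e.symm
  exact hkp (Shrink.{v} (ResidueField C)) inferInstance (by
    rw [e.toLinearEquiv.finrank_eq]; exact hfr)

end Groth.Agent.Lib.Helper52.CPEnd
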