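import Mathlib

/-!
# Ring-level helper lemmas for lifting automorphisms of a ring of invariants (helper52)
-/
universe u u' w
set_option autoImplicit false

namespace Groth.Agent.Lib.Helper52.CPLiftA

/-- A ring homomorphism into `Ω` with values in the image of an embedding `j` factors
through `j`. -/
theorem exists_ringHom_of_forall_mem_range {A : Type u} {Ω : Type u'} [CommRing A] [CommRing Ω]
    (j : A →+* Ω) (hj : Function.Injective j) (f : A →+* Ω) (h : ∀ a, f a ∈ Set.range j) :
    ∃ g : A →+* A, ∀ a, j (g a) = f a := by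
  choose g hg using h
  refine ⟨{ toFun := g, map_one' := ?_, map_mul' := ?_, map_zero' := ?_, map_add' := ?_ }, hg⟩
  · apply hj; rw [hg, map_one, map_one]
  · intro x y; apply hj; rw [hg, map_mul, map_mul, hg, hg]
  · apply hj; rw [hg, map_zero, map_zero]
  · intro x y; apply hj; rw [hg, map_add, map_add, hg, hg]

section Endo

variable {A : Type u} [CommRing A] [IsDomain A] {G : Type w} [Group G] [Finite G]
  [MulSemiringAction G A]

/-- A ring endomorphism fixing the invariants is bijective. -/
theorem endo_bijective (θ : A →+* A) (hθ : ∀ b : A, (∀ σ : G, σ • b = b) → θ b = b) :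
    Function.Bijective θ := by
  classical
  haveI : Fintype G := Fintype.ofFinite G
  have hinj : Function.Injective θ := by
    rw [injective_iff_map_eq_zero]
    intro x hx
    have hN : ∀ τ : G, τ • (∏ σ : G, σ • x) = ∏ σ : G, σ • x := by
      intro τ
      rw [Finset.smul_prod']
      exact Fintype.prod_equiv (Equiv.mulLeft τ) _ _ (fun σ => by simp [mul_smul])
    have h1 := hθ _ hN
    rw [map_prod] at h1
    have h2 : ∏ σ : G, θ (σ • x) = 0 :=
      Finset.prod_eq_zero (Finset.mem_univ (1 : G)) (by rw [one_smul, hx])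
    rw [h2] at h1
    obtain ⟨σ, -, hσ⟩ := Finset.prod_eq_zero_iff.mp h1.symm
    have := congrArg (fun z => σ⁻¹ • z) hσ
    simpa using this
  refine ⟨hinj, fun a => ?_⟩
  set P := MulSemiringAction.charpoly G a with hP
  have hPθ : P.map θ = P := by
    ext n
    rw [Polynomial.coeff_map]
    exact hθ _ (fun σ => MulSemiringAction.smul_coeff_charpoly a n σ)
  have hP0 : P ≠ 0 := (MulSemiringAction.monic_charpoly G a).ne_zero
  let S : Set A := {x | P.IsRoot x}
  have hSfin : S.Finite := Polynomial.finite_setOfPred_isRoot hP0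
  have hmaps : Set.MapsTo θ S S := by
    intro x hx
    show P.IsRoot (θ x)
    have h1 : (P.map θ).eval (θ x) = θ (P.eval x) := by
      rw [Polynomial.eval_map, Polynomial.eval₂_at_apply]
    rw [Polynomial.IsRoot.def, ← hPθ, h1, hx, map_zero]
  have hbij := (Set.Finite.injOn_iff_bijOn_of_mapsTo hSfin hmaps).mp hinj.injOn
  have haS : a ∈ S := MulSemiringAction.eval_charpoly G a
  obtain ⟨x, -, hx⟩ := hbij.surjOn haS
  exact ⟨x, hx⟩

end Endo

section Frac

variable {A : Type u} [CommRing A] [IsDomain A] {G : Type w} [Group G] [Finite G]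
  [MulSemiringAction G A] {L : Type u'} [Field L] [Algebra A L] [IsFractionRing A L]
  [MulSemiringAction G L] [SMulDistribClass G A L]

/-- An invariant element of the fraction field is a quotient of invariant elements. -/
theorem invariant_eq_div (x : L) (hx : ∀ σ : G, σ • x = x) :
    ∃ b b' : A, (∀ σ : G, σ • b = b) ∧ (∀ σ : G, σ • b' = b') ∧ b' ≠ 0 ∧
      x = algebraMap A L b / algebraMap A L b' := by
  classical
  haveI : Fintype G := Fintype.ofFinite G
  obtain ⟨a, a', ha', rfl⟩ := IsFractionRing.div_surjective A x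
  have ha'0 : a' ≠ 0 := nonZeroDivisors.ne_zero ha'
  set N := ∏ σ : G, σ • a' with hN
  set c := ∏ σ ∈ Finset.univ.erase (1 : G), σ • a' with hc
  have hNc : N = a' * c := by
    rw [hN, hc, ← Finset.mul_prod_erase Finset.univ _ (Finset.mem_univ (1 : G)), one_smul]
  have hNinv : ∀ τ : G, τ • N = N := by
    intro τ
    rw [hN, Finset.smul_prod']
    exact Fintype.prod_equiv (Equiv.mulLeft τ) _ _ (fun σ => by simp [mul_smul])
  have hN0 : N ≠ 0 := by
    rw [hN, Finset.prod_ne_zero_iff]
    intro σ _ h
    apply ha'0
    have := congrArg (fun z => σ⁻¹ • z) h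
    simpa using this
  have hinjL : Function.Injective (algebraMap A L) := IsFractionRing.injective A L
  have hN0' : algebraMap A L N ≠ 0 := by rwa [Ne, map_eq_zero_iff _ hinjL]
  have ha'0' : algebraMap A L a' ≠ 0 := by rwa [Ne, map_eq_zero_iff _ hinjL]
  have hx' : algebraMap A L a / algebraMap A L a' = algebraMap A L (a * c) / algebraMap A L N := by
    rw [hNc, map_mul, map_mul]
    have hc0 : algebraMap A L c ≠ 0 := by
      intro h
      apply hN0'
      rw [hNc, map_mul, h, mul_zero]
    field_simp
  refine ⟨a * c, N, ?_, hNinv, hN0, hx'⟩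
  intro σ
  apply hinjL
  have h1 : algebraMap A L (a * c) = (algebraMap A L a / algebraMap A L a') * algebraMap A L N := by
    rw [hx']; field_simp
  rw [algebraMap.smul' σ (a * c) L, h1, smul_mul', hx σ, ← algebraMap.smul' σ N L, hNinv]

end Frac

end Groth.Agent.Lib.Helper52.CPLiftA
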