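import Mathlib

/-!
# The compositum of a Galois extension with a twisted copy of itself (helper52)

`L` is a field with a faithful action of a finite group `G`, `Ω` is a normal extension of `L` and
`tw : L → Ω` is a second embedding which maps the invariants `L^G` into `L`.
-/
universe u u' w
set_option autoImplicit false
open IntermediateField

namespace Groth.Agent.Lib.Helper52.CPTw

section Helper

variable {K : Type*} {L : Type*} [Field K] [Field L] [Algebra K L]

/-- A subfield containing the base and a primitive element is everything. -/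
theorem forall_mem_of_adjoin_eq_top (θ : L) (hθ : K⟮θ⟯ = ⊤) (S : Subfield L)
    (hK : ∀ x : K, algebraMap K L x ∈ S) (h : θ ∈ S) (a : L) : a ∈ S := by
  let E : IntermediateField K L := S.toIntermediateField hK
  have hθE : θ ∈ E := h
  have htop : E = ⊤ := by
    rw [eq_top_iff, ← hθ]
    exact IntermediateField.adjoin_le_iff.mpr (Set.singleton_subset_iff.mpr hθE)
  have : a ∈ E := by rw [htop]; trivial
  exact this

/-- Ring homomorphisms agreeing on the base and on a primitive element agree. -/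
theorem ringHom_eq_of_adjoin_eq_top {Ω : Type*} [Field Ω] (θ : L) (hθ : K⟮θ⟯ = ⊤)
    (f₁ f₂ : L →+* Ω) (hK : ∀ x : K, f₁ (algebraMap K L x) = f₂ (algebraMap K L x))
    (h : f₁ θ = f₂ θ) (a : L) : f₁ a = f₂ a :=
  forall_mem_of_adjoin_eq_top θ hθ (RingHom.eqLocusField f₁ f₂) hK h a

end Helper

section TW

variable {L : Type u} [Field L] {G : Type w} [Group G] [Finite G] [MulSemiringAction G L]
  [FaithfulSMul G L] {Ω : Type u'} [Field Ω] [Algebra L Ω] (tw : L →+* Ω)
  (hK : ∀ x : L, (∀ σ : G, σ • x = x) → tw x ∈ Set.range (algebraMap L Ω))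

include hK in
omit [FaithfulSMul G L] in
theorem tw_pointwise (γ : Ω →ₐ[L] Ω) (a : L) : ∃ σ : G, γ (tw a) = tw (σ • a) := by
  classical
  haveI : Fintype G := Fintype.ofFinite G
  set P := MulSemiringAction.charpoly G a with hP
  have hfix : ∀ n, γ (tw (P.coeff n)) = tw (P.coeff n) := by
    intro n
    obtain ⟨y, hy⟩ := hK (P.coeff n) (fun σ => MulSemiringAction.smul_coeff_charpoly a n σ)
    rw [← hy, γ.commutes]
  have hmap : (P.map tw).map (γ : Ω →+* Ω) = P.map tw := by
    ext n
    simp only [Polynomial.coeff_map]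
    exact hfix n
  have hroot : (P.map tw).eval (tw a) = 0 := by
    rw [Polynomial.eval_map, Polynomial.eval₂_at_apply, MulSemiringAction.eval_charpoly, map_zero]
  have hroot' : (P.map tw).eval (γ (tw a)) = 0 := by
    have h1 : ((P.map tw).map (γ : Ω →+* Ω)).eval (γ (tw a)) = γ ((P.map tw).eval (tw a)) := by
      rw [Polynomial.eval_map]
      exact Polynomial.eval₂_at_apply (γ : Ω →+* Ω) (tw a)
    rw [hmap, hroot, map_zero] at h1
    exact h1
  rw [hP, MulSemiringAction.charpoly_eq, Polynomial.map_prod, Polynomial.eval_prod,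
    Finset.prod_eq_zero_iff] at hroot'
  obtain ⟨σ, -, hσ⟩ := hroot'
  refine ⟨σ, ?_⟩
  simpa [sub_eq_zero] using hσ

include hK in
omit [Finite G] [FaithfulSMul G L] in
/-- the invariants, mapped into `Ω` by `tw`, are fixed by every `L`-automorphism -/
theorem fixed_of_invariant (γ : Ω →ₐ[L] Ω) (x : L) (hx : ∀ σ : G, σ • x = x) :
    γ (tw x) = tw x := by
  obtain ⟨y, hy⟩ := hK x hx
  rw [← hy, γ.commutes]

include hK in
theorem tw_uniform (γ : Ω →ₐ[L] Ω) : ∃ σ : G, ∀ a : L, γ (tw a) = tw (σ • a) := by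
  classical
  obtain ⟨θ, hθ⟩ := Field.exists_primitive_element (FixedPoints.subfield G L) L
  obtain ⟨σ, hσ⟩ := tw_pointwise tw hK γ θ
  refine ⟨σ, fun a => ?_⟩
  refine ringHom_eq_of_adjoin_eq_top (K := FixedPoints.subfield G L) θ hθ
    ((γ : Ω →+* Ω).comp tw) (tw.comp (MulSemiringAction.toRingHom G L σ)) ?_ hσ a
  intro x
  show γ (tw (x : L)) = tw (σ • (x : L))
  rw [fixed_of_invariant tw hK γ x (fun τ => x.2 τ), x.2 σ]

omit [Finite G] in
/-- the group element is unique -/
theorem tw_unique (σ σ' : G) (h : ∀ a : L, tw (σ • a) = tw (σ' • a)) : σ = σ' := by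
  apply FaithfulSMul.eq_of_smul_eq_smul (α := L)
  intro a
  exact tw.injective (h a)

end TW

section Dichotomy

variable {L : Type u} [Field L] {G : Type w} [Group G] [Finite G] [MulSemiringAction G L]
  [FaithfulSMul G L] {Ω : Type u'} [Field Ω] [Algebra L Ω] [Normal L Ω] (tw : L →+* Ω)
  (hK : ∀ x : L, (∀ σ : G, σ • x = x) → tw x ∈ Set.range (algebraMap L Ω))

include hK in
theorem dichotomy (hp : (Nat.card G).Prime) :
    (∀ a, tw a ∈ Set.range (algebraMap L Ω)) ∨
    ∃ M : IntermediateField L Ω, FiniteDimensional L M ∧ IsGalois L M ∧ (∀ a, tw a ∈ M) ∧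
      Nat.card (M ≃ₐ[L] M) = Nat.card G ∧
      ∃ ρ : (M ≃ₐ[L] M) → G, Function.Injective ρ ∧
        ∀ (γ : M ≃ₐ[L] M) (a : L) (ha : tw a ∈ M), (γ ⟨tw a, ha⟩ : Ω) = tw (ρ γ • a) := by
  classical
  haveI : Fintype G := Fintype.ofFinite G
  obtain ⟨θ, hθ⟩ := Field.exists_primitive_element (FixedPoints.subfield G L) L
  have hint : IsIntegral L (tw θ) := Normal.isIntegral inferInstance _
  let M : IntermediateField L Ω := L⟮tw θ⟯
  haveI hfd : FiniteDimensional L M := IntermediateField.adjoin.finiteDimensional hint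
  -- the twisted copy lies in `M`
  have hmem : ∀ a, tw a ∈ M := by
    intro a
    have := forall_mem_of_adjoin_eq_top (K := FixedPoints.subfield G L) θ hθ
      (M.toSubfield.comap tw) ?_ ?_ a
    · exact this
    · intro x
      show tw (x : L) ∈ M
      obtain ⟨y, hy⟩ := hK x (fun τ => x.2 τ)
      rw [← hy]
      exact M.algebraMap_mem y
    · show tw θ ∈ M
      exact IntermediateField.mem_adjoin_simple_self L (tw θ)
  -- normality
  haveI hnorm : Normal L M := by
    rw [IntermediateField.normal_iff_forall_map_le']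
    intro σ
    show (L⟮tw θ⟯).map (σ : Ω →ₐ[L] Ω) ≤ M
    rw [IntermediateField.adjoin_map, IntermediateField.adjoin_le_iff]
    rintro _ ⟨x, hx, rfl⟩
    rw [Set.mem_singleton_iff] at hx
    subst hx
    obtain ⟨τ, hτ⟩ := tw_pointwise tw hK (σ : Ω →ₐ[L] Ω) θ
    show (σ : Ω →ₐ[L] Ω) (tw θ) ∈ M
    rw [hτ]
    exact hmem _
  -- separability
  have horb : Function.Injective (fun σ : G => σ • θ) := by
    intro σ σ' h
    apply FaithfulSMul.eq_of_smul_eq_smul (α := L)
    intro a
    refine ringHom_eq_of_adjoin_eq_top (K := FixedPoints.subfield G L) θ hθ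
      (MulSemiringAction.toRingHom G L σ) (MulSemiringAction.toRingHom G L σ') ?_ h a
    intro x
    show σ • (x : L) = σ' • (x : L)
    rw [x.2 σ, x.2 σ']
  have hsep : IsSeparable L (tw θ) := by
    set P := MulSemiringAction.charpoly G θ with hP
    have hPsep : P.Separable := by
      rw [hP, MulSemiringAction.charpoly_eq]
      exact Polynomial.separable_prod_X_sub_C_iff.mpr horb
    have hlift : P.map tw ∈ Polynomial.lifts (algebraMap L Ω) := by
      rw [Polynomial.lifts_iff_coeff_lifts]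
      intro n
      rw [Polynomial.coeff_map]
      exact hK _ (fun σ => MulSemiringAction.smul_coeff_charpoly θ n σ)
    obtain ⟨Q, hQ⟩ := (Polynomial.mem_lifts _).mp hlift
    have hQsep : Q.Separable := by
      rw [← Polynomial.separable_map (algebraMap L Ω), hQ, Polynomial.separable_map]
      exact hPsep
    have hQroot : Polynomial.aeval (tw θ) Q = 0 := by
      rw [Polynomial.aeval_def, ← Polynomial.eval_map, hQ, Polynomial.eval_map,
        Polynomial.eval₂_at_apply, MulSemiringAction.eval_charpoly, map_zero]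
    exact hQsep.of_dvd (minpoly.dvd L (tw θ) hQroot)
  haveI hsepM : Algebra.IsSeparable L M :=
    (isSeparable_adjoin_simple_iff_isSeparable L Ω).mpr hsep
  haveI hgal : IsGalois L M := ⟨⟩
  -- the comparison map
  have hρ : ∀ γ : M ≃ₐ[L] M, ∃ σ : G, ∀ (a : L) (ha : tw a ∈ M),
      (γ ⟨tw a, ha⟩ : Ω) = tw (σ • a) := by
    intro γ
    obtain ⟨σ, hσ⟩ := tw_uniform tw hK ((γ.liftNormal Ω : Ω ≃ₐ[L] Ω) : Ω →ₐ[L] Ω)
    refine ⟨σ, fun a ha => ?_⟩
    rw [← hσ a]
    exact (AlgEquiv.liftNormal_commutes γ Ω ⟨tw a, ha⟩).symm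
  choose ρ hρ using hρ
  have hρmul : ∀ γ γ' : M ≃ₐ[L] M, ρ (γ * γ') = ρ γ * ρ γ' := by
    intro γ γ'
    apply tw_unique tw
    intro a
    rw [← hρ (γ * γ') a (hmem a), AlgEquiv.mul_apply, mul_smul, ← hρ γ (ρ γ' • a) (hmem _)]
    congr 2
    apply Subtype.ext
    exact hρ γ' a (hmem a)
  have hρinj : Function.Injective ρ := by
    intro γ γ' h
    have h1 : (γ : M →ₐ[L] M) = (γ' : M →ₐ[L] M) := by
      apply (IntermediateField.adjoin.powerBasis hint).algHom_ext
      rw [IntermediateField.adjoin.powerBasis_gen]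
      apply Subtype.ext
      have h2 := hρ γ θ (hmem θ)
      have h3 := hρ γ' θ (hmem θ)
      rw [h] at h2
      have h4 : IntermediateField.AdjoinSimple.gen L (tw θ) = ⟨tw θ, hmem θ⟩ := rfl
      rw [h4]
      show ((γ ⟨tw θ, hmem θ⟩ : M) : Ω) = ((γ' ⟨tw θ, hmem θ⟩ : M) : Ω)
      rw [h2, h3]
    exact AlgEquiv.coe_toAlgHom_injective h1
  -- cardinality
  have hcard : Nat.card (M ≃ₐ[L] M) ∣ Nat.card G := by
    let ρ' : (M ≃ₐ[L] M) →* G := ⟨⟨ρ, by
      apply tw_unique tw
      intro a
      rw [← hρ 1 a (hmem a), one_smul]; rfl⟩, hρmul⟩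
    have h1 : Nat.card (M ≃ₐ[L] M) = Nat.card ρ'.range :=
      Nat.card_congr (Equiv.ofInjective ρ hρinj)
    rw [h1]
    exact Subgroup.card_subgroup_dvd_card _
  rcases (Nat.dvd_prime hp).mp hcard with h1 | h1
  · left
    intro a
    have h2 : Module.finrank L M = 1 := by rw [← IsGalois.card_aut_eq_finrank, h1]
    have h3 : M = ⊥ := IntermediateField.finrank_eq_one_iff.mp h2
    have h4 := hmem a
    rw [h3, IntermediateField.mem_bot] at h4
    exact h4
  · right
    exact ⟨M, hfd, hgal, hmem, h1, ρ, hρinj, hρ⟩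

end Dichotomy

end Groth.Agent.Lib.Helper52.CPTw
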