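import Groth.Agent.Lib.Helper52.WQInv

/-!
# Actions ramified precisely at the origin: the invariant ring is not a flat base
-/

set_option autoImplicit false
universe u v w

namespace Groth.Agent.Lib.Helper52.WQ

open IsLocalRing

section Faithful

variable {A : Type u} [CommRing A] [IsLocalRing A] [IsDomain A]
  {G : Type w} [Group G] [MulSemiringAction G A]

/-- Trivial inertia at the zero ideal means that the action is faithful. -/
theorem faithful_of_hram (hne : (⊥ : Ideal A) ≠ maximalIdeal A)
    (hram : ∀ P : Ideal A, P.IsPrime → P ≠ maximalIdeal A → P.inertia G = ⊥) :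
    FaithfulSMul G A := by
  refine ⟨fun {σ τ} h => ?_⟩
  have h1 : τ⁻¹ * σ ∈ (⊥ : Ideal A).inertia G := by
    intro a
    have : (τ⁻¹ * σ) • a - a = 0 := by
      rw [mul_smul, h a, inv_smul_smul, sub_self]
    rw [this]
    exact (⊥ : Ideal A).zero_mem
  rw [hram ⊥ Ideal.isPrime_bot hne, Subgroup.mem_bot] at h1
  exact (inv_mul_eq_one.mp h1).symm

theorem isGaloisGroup_fixed [FaithfulSMul G A] : IsGaloisGroup G (FixedPoints.subring A G) A :=
  ⟨inferInstance, inferInstance, inferInstance⟩

theorem finrank_fixed [Finite G] [FaithfulSMul G A] :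
    Module.finrank (FixedPoints.subring A G) A = Nat.card G := by
  haveI := isGaloisGroup_fixed (A := A) (G := G)
  exact (IsGaloisGroup.card_eq_finrank' G (FixedPoints.subring A G) A).symm

end Faithful

section Dedekind

variable {A : Type u} [CommRing A] [IsLocalRing A]
  {G : Type w} [Group G] [Fintype G] [DecidableEq G] [MulSemiringAction G A]

/-- Pulling back a non-maximal prime along an automorphism gives a non-maximal prime. -/
lemma comap_smul_ne (τ : G) {P : Ideal A} [P.IsPrime] (hP : P ≠ maximalIdeal A) :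
    P.comap (MulSemiringAction.toRingHom G A τ) ≠ maximalIdeal A := by
  intro h
  apply hP
  have hle : maximalIdeal A ≤ P := by
    intro y hy
    have h1 : τ⁻¹ • y ∈ maximalIdeal A := smul_mem_maximalIdeal τ⁻¹ hy
    rw [← h, Ideal.mem_comap, MulSemiringAction.toRingHom_apply, smul_inv_smul] at h1
    exact h1
  exact ((maximalIdeal.isMaximal A).eq_of_le (Ideal.IsPrime.ne_top inferInstance) hle).symm

variable (hram : ∀ P : Ideal A, P.IsPrime → P ≠ maximalIdeal A → P.inertia G = ⊥)
  {ι : Type*} [Fintype ι] (b : Module.Basis ι (FixedPoints.subring A G) A) (e : ι ≃ G)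

include hram in
/-- Dedekind independence: the conjugation matrix of a basis is invertible modulo every
non-maximal prime. -/
theorem det_notMem (P : Ideal A) [P.IsPrime] (hP : P ≠ maximalIdeal A) :
    (Matrix.of fun (σ τ : G) => σ • b (e.symm τ)).det ∉ P := by
  classical
  intro hdet
  set M : Matrix G G A := Matrix.of fun (σ τ : G) => σ • b (e.symm τ) with hM
  let q := Ideal.Quotient.mk P
  have hdet' : (M.map q).det = 0 := by
    have := RingHom.map_det q M
    rw [RingHom.mapMatrix_apply] at this
    rw [← this]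
    exact Ideal.Quotient.eq_zero_iff_mem.mpr hdet
  obtain ⟨v, hv0, hv⟩ := Matrix.exists_vecMul_eq_zero_iff.mpr hdet'
  -- the characters
  let χ : G → (A →* (A ⧸ P)) := fun σ => (q.comp (MulSemiringAction.toRingHom G A σ) : A →* (A ⧸ P))
  have hχ : ∀ σ a, χ σ a = q (σ • a) := fun σ a => rfl
  have hχinj : Function.Injective χ := by
    intro σ τ hστ
    have h1 : τ⁻¹ * σ ∈ (P.comap (MulSemiringAction.toRingHom G A τ)).inertia G := by
      intro a
      change (τ⁻¹ * σ) • a - a ∈ P.comap (MulSemiringAction.toRingHom G A τ)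
      rw [Ideal.mem_comap, MulSemiringAction.toRingHom_apply, smul_sub, mul_smul,
        smul_inv_smul, ← Ideal.Quotient.mk_eq_mk_iff_sub_mem]
      have := DFunLike.congr_fun hστ a
      rwa [hχ, hχ] at this
    haveI : (P.comap (MulSemiringAction.toRingHom G A τ)).IsPrime := Ideal.comap_isPrime _ _
    rw [hram _ inferInstance (comap_smul_ne τ hP), Subgroup.mem_bot] at h1
    exact (inv_mul_eq_one.mp h1).symm
  have hli : LinearIndependent (A ⧸ P) (fun σ : G => (χ σ : A → A ⧸ P)) :=
    (linearIndependent_monoidHom A (A ⧸ P)).comp χ hχinj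
  rw [Fintype.linearIndependent_iff] at hli
  apply hv0
  funext σ
  refine hli v ?_ σ
  funext a
  simp only [Finset.sum_apply, Pi.smul_apply, smul_eq_mul, Pi.zero_apply, hχ]
  -- expand `a` in the basis
  have ha : ∀ σ : G, σ • a = ∑ j, ((b.repr a j : FixedPoints.subring A G) : A) * σ • b j := by
    intro σ
    conv_lhs => rw [← b.sum_repr a]
    rw [Finset.smul_sum]
    refine Finset.sum_congr rfl fun j _ => ?_
    rw [Algebra.smul_def, smul_mul']
    congr 1
    exact (b.repr a j).2 σ
  have hvτ : ∀ j : ι, ∑ σ, v σ * q (σ • b j) = 0 := by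
    intro j
    have := congrFun hv (e j)
    simp only [Matrix.vecMul, dotProduct, Matrix.map_apply, hM, Matrix.of_apply,
      Equiv.symm_apply_apply, Pi.zero_apply] at this
    exact this
  calc ∑ σ, v σ * q (σ • a)
      = ∑ σ, ∑ j, q ((b.repr a j : FixedPoints.subring A G) : A) * (v σ * q (σ • b j)) := by
        refine Finset.sum_congr rfl fun σ _ => ?_
        rw [ha σ, map_sum, Finset.mul_sum]
        refine Finset.sum_congr rfl fun j _ => ?_
        rw [map_mul]; ring
    _ = ∑ j, q ((b.repr a j : FixedPoints.subring A G) : A) * ∑ σ, v σ * q (σ • b j) := by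
        rw [Finset.sum_comm]
        refine Finset.sum_congr rfl fun j _ => ?_
        rw [Finset.mul_sum]
    _ = 0 := by
        refine Finset.sum_eq_zero fun j _ => ?_
        rw [hvτ j, mul_zero]

end Dedekind


section NotFlat

variable {A : Type u} [CommRing A] [IsLocalRing A] [IsNoetherianRing A] [IsDomain A]
  [IsAdicComplete (maximalIdeal A) A] {k : Type v} [Field k] [Algebra k A]
  {G : Type w} [Group G] [Finite G] [MulSemiringAction G A]

lemma bot_ne_maximalIdeal (hdim : 2 ≤ ringKrullDim A) : (⊥ : Ideal A) ≠ maximalIdeal A := by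
  intro h
  have h1 : ((maximalIdeal A).height : WithBot ℕ∞) = ringKrullDim A :=
    IsLocalRing.maximalIdeal_height_eq_ringKrullDim
  rw [← h, Ideal.height_bot] at h1
  rw [← h1] at hdim
  exact absurd hdim (by decide)

lemma ne_maximalIdeal_of_height_le_one (hdim : 2 ≤ ringKrullDim A) {P : Ideal A}
    (hP : P.height ≤ 1) : P ≠ maximalIdeal A := by
  intro h
  have h1 : ((maximalIdeal A).height : WithBot ℕ∞) = ringKrullDim A :=
    IsLocalRing.maximalIdeal_height_eq_ringKrullDim
  rw [← h1, ← h] at hdim
  have h2 : (2 : ℕ∞) ≤ P.height := by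
    have : ((2 : ℕ∞) : WithBot ℕ∞) ≤ (P.height : WithBot ℕ∞) := hdim
    exact WithBot.coe_le_coe.mp this
  have h3 : (2 : ℕ∞) ≤ 1 := h2.trans hP
  exact absurd h3 (by decide)

/-- If the action is ramified precisely at the origin (and `dim A ≥ 2`, `G ≠ 1`), then `A` is not
flat over the ring of invariants. -/
theorem not_flat_fixed (hdim : 2 ≤ ringKrullDim A)
    (hk : Function.Surjective (residue A ∘ algebraMap k A))
    (hGk : ∀ (σ : G) (c : k), σ • algebraMap k A c = algebraMap k A c) [Nontrivial G]
    (hram : ∀ P : Ideal A, P.IsPrime → P ≠ maximalIdeal A → P.inertia G = ⊥) :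
    ¬ Module.Flat (FixedPoints.subring A G) A := by
  classical
  intro hflat
  haveI : Fintype G := Fintype.ofFinite G
  haveI := finite_fixed' (A := A) (G := G) hk hGk
  haveI : Module.Free (FixedPoints.subring A G) A := Module.free_of_flat_of_isLocalRing
  have hne := bot_ne_maximalIdeal hdim
  haveI := faithful_of_hram hne hram
  have hrank : Module.finrank (FixedPoints.subring A G) A = Nat.card G := finrank_fixed
  let b := Module.finBasis (FixedPoints.subring A G) A
  let e : Fin (Module.finrank (FixedPoints.subring A G) A) ≃ G :=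
    Fintype.equivOfCardEq (by rw [Fintype.card_fin, hrank, Nat.card_eq_fintype_card])
  set D := (Matrix.of fun (σ τ : G) => σ • b (e.symm τ)).det with hD
  have hDm : D ∈ maximalIdeal A := by
    obtain ⟨σ₁, σ₂, h12⟩ := exists_pair_ne G
    rw [← residue_eq_zero_iff, hD, RingHom.map_det]
    apply Matrix.det_zero_of_row_eq h12
    funext τ
    simp only [RingHom.mapMatrix_apply, Matrix.map_apply, Matrix.of_apply]
    have h1 : ∀ (σ : G) (x : A), residue A (σ • x) = residue A x := by
      intro σ x
      rw [← sub_eq_zero, ← map_sub, residue_eq_zero_iff]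
      exact smul_sub_mem hk hGk σ x
    rw [h1, h1]
  have hspan : Ideal.span {D} ≠ ⊤ := by
    rw [Ne, Ideal.span_singleton_eq_top]
    exact hDm
  obtain ⟨P, hP⟩ := Ideal.nonempty_minimalPrimes hspan
  haveI : P.IsPrime := hP.1.1
  have hht : P.height ≤ 1 :=
    Ideal.height_le_one_of_isPrincipal_of_mem_minimalPrimes _ P hP
  exact det_notMem hram b e P (ne_maximalIdeal_of_height_le_one hdim hht)
    (hP.1.2 (Ideal.mem_span_singleton_self D))

end NotFlat

end Groth.Agent.Lib.Helper52.WQ
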