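import Groth.Agent.Lib.Helper52.WQFinite
import Groth.Agent.Lib.Helper52.ASBasic
import Groth.Agent.Lib.Helper73.DimFT.Basic
import Mathlib.FieldTheory.Galois.IsGaloisGroup

/-!
# The ring of invariants of a finite group acting on a complete local ring
-/

set_option autoImplicit false
universe u v w

namespace Groth.Agent.Lib.Helper52.WQ

open IsLocalRing

section General

variable {A : Type u} [CommRing A] {G : Type w} [Group G] [MulSemiringAction G A]

instance isInvariant_fixed : Algebra.IsInvariant (FixedPoints.subring A G) A G :=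
  ⟨fun a h => ⟨⟨a, h⟩, rfl⟩⟩

instance smulCommClass_fixed : SMulCommClass G (FixedPoints.subring A G) A :=
  ⟨fun σ b a => by
    rw [Algebra.smul_def, Algebra.smul_def, smul_mul']
    congr 1
    exact b.2 σ⟩

lemma smul_coe_fixed (σ : G) (b : FixedPoints.subring A G) : σ • (b : A) = b := b.2 σ

variable [Finite G]

instance isIntegral_fixed : Algebra.IsIntegral (FixedPoints.subring A G) A :=
  Algebra.IsInvariant.isIntegral (FixedPoints.subring A G) A G

instance isLocalHom_fixed : IsLocalHom (algebraMap (FixedPoints.subring A G) A) :=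
  RingHom.IsIntegral.isLocalHom
    (algebraMap_isIntegral_iff.mpr (inferInstance : Algebra.IsIntegral (FixedPoints.subring A G) A))
    Subtype.val_injective

instance isLocalRing_fixed [IsLocalRing A] : IsLocalRing (FixedPoints.subring A G) :=
  RingHom.domain_isLocalRing (algebraMap (FixedPoints.subring A G) A)

lemma maximalIdeal_fixed [IsLocalRing A] :
    maximalIdeal (FixedPoints.subring A G) =
      Ideal.comap (FixedPoints.subring A G).subtype (maximalIdeal A) :=
  (IsLocalRing.maximalIdeal_comap (algebraMap (FixedPoints.subring A G) A)).symm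

theorem ringKrullDim_fixed :
    ringKrullDim (FixedPoints.subring A G) = ringKrullDim A :=
  (Groth.Agent.Lib.Helper73.ringKrullDim_eq_of_isIntegral_of_injective
    (R := FixedPoints.subring A G) (S := A) Subtype.val_injective).symm

/-- The ring of invariants of a normal domain is normal. -/
theorem isIntegrallyClosed_fixed [IsDomain A] [IsIntegrallyClosed A] :
    IsIntegrallyClosed (FixedPoints.subring A G) := by
  set S := FixedPoints.subring A G with hS
  let L := FractionRing A
  have : IsScalarTower S A L := inferInstance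
  have hinj : Function.Injective (algebraMap S L) :=
    (IsFractionRing.injective A L).comp Subtype.val_injective
  have : FaithfulSMul S L := (faithfulSMul_iff_algebraMap_injective S L).mpr hinj
  let ι : FractionRing S →ₐ[S] L := IsFractionRing.liftAlgHom (g := Algebra.ofId S L) hinj
  rw [isIntegrallyClosed_iff (FractionRing S)]
  intro x hx
  have h1 : IsIntegral A (ι x) := (hx.map ι).tower_top
  obtain ⟨t, ht⟩ := IsIntegrallyClosed.algebraMap_eq_of_integral h1
  obtain ⟨s1, s2, hs2, rfl⟩ := IsFractionRing.div_surjective S x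
  have hs20 : s2 ≠ 0 := nonZeroDivisors.ne_zero hs2
  have hs2A : (s2 : A) ≠ 0 := fun h => hs20 (Subtype.ext h)
  have h2 : (s2 : A) * t = s1 := by
    apply IsFractionRing.injective A L
    rw [map_mul, ht, map_div₀, AlgHom.commutes, AlgHom.commutes]
    have : algebraMap S L s2 ≠ 0 := by
      rw [Ne, FaithfulSMul.algebraMap_eq_zero_iff]; exact hs20
    change algebraMap S L s2 * (algebraMap S L s1 / algebraMap S L s2) = algebraMap S L s1
    rw [mul_div_cancel₀ _ this]
  have h3 : ∀ σ : G, σ • t = t := by
    intro σ
    have h4 := congrArg (fun z => σ • z) h2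
    simp only [smul_mul'] at h4
    rw [smul_coe_fixed, smul_coe_fixed, ← h2] at h4
    exact mul_left_cancel₀ hs2A h4
  refine ⟨⟨t, h3⟩, ?_⟩
  rw [eq_div_iff (by rw [Ne, FaithfulSMul.algebraMap_eq_zero_iff]; exact hs20), ← map_mul]
  congr 1
  apply Subtype.ext
  rw [mul_comm]
  exact h2

end General


section Complete

variable {A : Type u} [CommRing A] [IsLocalRing A] [IsNoetherianRing A]
  [IsAdicComplete (maximalIdeal A) A] {k : Type v} [Field k] [Algebra k A]
  {G : Type w} [Group G] [Finite G] [MulSemiringAction G A]

theorem isNoetherianRing_fixed' (hk : Function.Surjective (residue A ∘ algebraMap k A))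
    (hGk : ∀ (σ : G) (c : k), σ • algebraMap k A c = algebraMap k A c) :
    IsNoetherianRing (FixedPoints.subring A G) := by
  obtain ⟨N, ψ, -, hfix, -, -, hfin⟩ := exists_finite_invariant hk hGk
  exact isNoetherianRing_fixed ψ hfix hfin

theorem finite_fixed' (hk : Function.Surjective (residue A ∘ algebraMap k A))
    (hGk : ∀ (σ : G) (c : k), σ • algebraMap k A c = algebraMap k A c) :
    Module.Finite (FixedPoints.subring A G) A := by
  obtain ⟨N, ψ, -, hfix, -, -, hfin⟩ := exists_finite_invariant hk hGk
  exact finite_fixed ψ hfix hfin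

open MvPowerSeries in
/-- The ring of invariants is complete. -/
theorem isAdicComplete_fixed (hk : Function.Surjective (residue A ∘ algebraMap k A))
    (hGk : ∀ (σ : G) (c : k), σ • algebraMap k A c = algebraMap k A c) :
    IsAdicComplete (Ideal.comap (FixedPoints.subring A G).subtype (maximalIdeal A))
      (FixedPoints.subring A G) := by
  obtain ⟨N, ψ, -, hfix, hψm, hrad, hfin⟩ := exists_finite_invariant hk hGk
  set B := FixedPoints.subring A G with hB
  letI := (toFixed ψ hfix).toAlgebra
  haveI := finite_toFixed ψ hfix hfin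
  haveI : IsNoetherianRing B := isNoetherianRing_fixed ψ hfix hfin
  set I : Ideal (MvPowerSeries (Fin N) k) := Ideal.span (Set.range (X : Fin N → _)) with hI
  haveI : IsAdicComplete (I.map (algebraMap (MvPowerSeries (Fin N) k) B)) B :=
    Groth.Agent.Lib.Helper47.AdicFinite.isAdicComplete_map_of_finite I B
  set IB := I.map (algebraMap (MvPowerSeries (Fin N) k) B) with hIB
  set mB := Ideal.comap B.subtype (maximalIdeal A) with hmB
  have hIBeq : IB = Ideal.span (Set.range fun l => toFixed ψ hfix (X l)) := by
    rw [hIB, hI, Ideal.map_span, ← Set.range_comp]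
    rfl
  have hle : IB ≤ mB := by
    rw [hIBeq, Ideal.span_le]
    rintro _ ⟨l, rfl⟩
    exact hψm l
  have hradB : mB ≤ IB.radical := by
    rw [Ideal.radical_eq_sInf]
    refine le_sInf ?_
    rintro Q ⟨hQ, hQp⟩
    obtain ⟨Q', -, hQ'p, hQ'c⟩ := Ideal.exists_ideal_over_prime_of_isIntegral Q (⊥ : Ideal A)
      (by
        intro x hx
        rw [Ideal.mem_comap, Ideal.mem_bot] at hx
        have : x = 0 := Subtype.val_injective (by simpa using hx)
        rw [this]; exact Q.zero_mem)
    have h1 : Ideal.span (Set.range fun l => ψ (X l)) ≤ Q' := by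
      rw [Ideal.span_le]
      rintro _ ⟨l, rfl⟩
      have h2 : toFixed ψ hfix (X l) ∈ Q := hQ (hIBeq ▸ Ideal.subset_span ⟨l, rfl⟩)
      rw [← hQ'c] at h2
      exact h2
    have h3 : maximalIdeal A ≤ Q' := hrad.trans (hQ'p.radical_le_iff.mpr h1)
    have h4 : Q' = maximalIdeal A :=
      ((maximalIdeal.isMaximal A).eq_of_le hQ'p.ne_top h3).symm
    rw [← hQ'c, h4]
    rfl
  obtain ⟨c, hc⟩ := Ideal.exists_pow_le_of_le_radical_of_fg hradB (IsNoetherian.noetherian mB)
  have hc' : mB ^ (c + 1) ≤ IB := (Ideal.pow_le_pow_right (Nat.le_succ c)).trans hc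
  exact Groth.Agent.Lib.Helper52.AS.isAdicComplete_of_le_of_pow_le IB mB hle (c + 1)
    (Nat.succ_pos c) hc'

end Complete

end Groth.Agent.Lib.Helper52.WQ
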