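import Mathlib
import Groth.Agent.Lib.Helper52.CPEnd
import Groth.Agent.Lib.Helper52.CPTw
import Groth.Agent.Lib.Helper52.CPLiftA
import Groth.Agent.Lib.Helper52.WQInv
import Groth.Agent.Lib.Helper52.WQGalois
import Groth.Agent.S0558

/-!
# Lifting automorphisms of the ring of invariants (helper52)
-/
universe u v w
set_option autoImplicit false
open IsLocalRing

namespace Groth.Agent.Lib.Helper52.CPLift

open Groth.Agent.Lib.Helper52

section Tw0

variable {A : Type u} [CommRing A] [IsDomain A] {G : Type w} [Group G] [Finite G]
  [MulSemiringAction G A] {Ω : Type*} [Field Ω] [IsAlgClosed Ω] [Algebra A Ω]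

/-- A twisted embedding of `A` into an algebraically closed field. -/
theorem exists_tw0 (hinj : Function.Injective (algebraMap A Ω))
    (φ' : FixedPoints.subring A G ≃+* FixedPoints.subring A G) :
    ∃ tw₀ : A →+* Ω, Function.Injective tw₀ ∧
      ∀ b : FixedPoints.subring A G, tw₀ (b : A) = algebraMap A Ω (φ' b : A) := by
  haveI : Algebra.IsIntegral (FixedPoints.subring A G) A := inferInstance
  let f₀ : FixedPoints.subring A G →+* Ω :=
    (algebraMap A Ω).comp ((FixedPoints.subring A G).subtype.comp (φ' : _ →+* _))
  have hf₀ : Function.Injective f₀ :=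
    hinj.comp (Subtype.val_injective.comp φ'.injective)
  letI algtw : Algebra (FixedPoints.subring A G) Ω := f₀.toAlgebra
  haveI : Module.IsTorsionFree (FixedPoints.subring A G) Ω :=
    Module.isTorsionFree_iff_algebraMap_injective.mpr hf₀
  haveI : Module.IsTorsionFree (FixedPoints.subring A G) A :=
    Module.isTorsionFree_iff_algebraMap_injective.mpr Subtype.val_injective
  let f : A →ₐ[FixedPoints.subring A G] Ω := IsAlgClosed.lift
  refine ⟨f.toRingHom, ?_, fun b => f.commutes b⟩
  rw [RingHom.injective_iff_ker_eq_bot]
  apply Ideal.eq_bot_of_comap_eq_bot (R := FixedPoints.subring A G)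
  rw [eq_bot_iff]
  intro b hb
  rw [Ideal.mem_comap, RingHom.mem_ker] at hb
  have h1 : f₀ b = 0 := by
    rw [← hb]
    exact (f.commutes b).symm
  rw [Ideal.mem_bot]
  exact (map_eq_zero_iff f₀ hf₀).mp h1

omit [IsDomain A] [IsAlgClosed Ω] in
theorem isIntegral_tw0 (tw₀ : A →+* Ω)
    (φ' : FixedPoints.subring A G ≃+* FixedPoints.subring A G)
    (htw₀ : ∀ b : FixedPoints.subring A G, tw₀ (b : A) = algebraMap A Ω (φ' b : A)) (a : A) :
    IsIntegral A (tw₀ a) := by
  obtain ⟨f, hfm, hf⟩ := Algebra.IsIntegral.isIntegral (R := FixedPoints.subring A G) a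
  refine ⟨f.map ((FixedPoints.subring A G).subtype.comp (φ' : _ →+* _)), hfm.map _, ?_⟩
  rw [Polynomial.eval₂_map]
  have h1 : (algebraMap A Ω).comp ((FixedPoints.subring A G).subtype.comp (φ' : _ →+* _)) =
      tw₀.comp (algebraMap (FixedPoints.subring A G) A) := RingHom.ext (fun b => (htw₀ b).symm)
  rw [h1, ← Polynomial.hom_eval₂, hf, map_zero]

end Tw0

section Main

variable (p : ℕ) [Fact p.Prime] (A : Type u) [CommRing A] [IsRegularLocalRing A] [CharP A p]
  [IsAdicComplete (maximalIdeal A) A] (hdim : 2 ≤ ringKrullDim A)
  (k : Type v) [Field k] [Algebra k A]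
  (hk : Function.Surjective (residue A ∘ algebraMap k A))
  (hkp : ∀ (L : Type v) [Field L] [Algebra k L], IsGalois k L → Module.finrank k L ≠ p)
  (G : Type w) [Group G] [Finite G] [MulSemiringAction G A] (hcard : Nat.card G = p)
  [SMulCommClass G k A]
  (hram : ∀ P : Ideal A, P.IsPrime → P ≠ maximalIdeal A → P.inertia G = ⊥)

include hdim hk hkp hcard hram in
theorem exists_ringHom_extends
    (φ' : FixedPoints.subring A G ≃+* FixedPoints.subring A G) :
    ∃ ψ₀ : A →+* A, ∀ b : FixedPoints.subring A G, ψ₀ (b : A) = (φ' b : A) := by
  classical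
  haveI : IsDomain A := Groth.Agent.S0558.result A
  haveI : IsIntegrallyClosed A := Groth.Agent.S9829.result A
  haveI : Fintype G := Fintype.ofFinite G
  haveI : FaithfulSMul G A := WQ.faithful_of_hram (WQ.bot_ne_maximalIdeal hdim) hram
  let L := FractionRing A
  let Ω := AlgebraicClosure L
  letI : MulSemiringAction G L := IsFractionRing.mulSemiringAction G A L
  haveI : SMulDistribClass G A L := IsFractionRing.smulDistribClass G A L
  haveI : FaithfulSMul G L := IsFractionRing.faithfulSMul G A L
  have hinjΩ : Function.Injective (algebraMap A Ω) := by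
    rw [IsScalarTower.algebraMap_eq A L Ω]
    exact (algebraMap L Ω).injective.comp (IsFractionRing.injective A L)
  obtain ⟨tw₀, htw₀inj, htw₀⟩ := exists_tw0 (Ω := Ω) hinjΩ φ'
  have hint := isIntegral_tw0 tw₀ φ' htw₀
  let tw : L →+* Ω := IsFractionRing.lift htw₀inj
  have htw : ∀ a : A, tw (algebraMap A L a) = tw₀ a := fun a => IsFractionRing.lift_algebraMap htw₀inj a
  have hK : ∀ x : L, (∀ σ : G, σ • x = x) → tw x ∈ Set.range (algebraMap L Ω) := by
    intro x hx
    obtain ⟨b, b', hb, hb', hb'0, rfl⟩ := CPLiftA.invariant_eq_div (A := A) (G := G) x hx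
    refine ⟨algebraMap A L ((φ' ⟨b, hb⟩ : FixedPoints.subring A G) : A) /
      algebraMap A L ((φ' ⟨b', hb'⟩ : FixedPoints.subring A G) : A), ?_⟩
    rw [map_div₀, map_div₀, htw, htw, ← IsScalarTower.algebraMap_apply,
      ← IsScalarTower.algebraMap_apply]
    rw [← htw₀ ⟨b, hb⟩, ← htw₀ ⟨b', hb'⟩]
  rcases CPTw.dichotomy tw hK (by rw [hcard]; exact Fact.out) with
    h1 | ⟨M, hfd, hgal, hmem, hcardM, ρ, hρinj, hρ⟩
  · have h2 : ∀ a : A, tw₀ a ∈ Set.range (algebraMap A Ω) := by
      intro a
      obtain ⟨y, hy⟩ := h1 (algebraMap A L a)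
      rw [htw] at hy
      have hyint : IsIntegral A y := by
        have h3 := hint a
        rw [← hy] at h3
        exact (isIntegral_algebraMap_iff (algebraMap L Ω).injective).mp h3
      obtain ⟨a', rfl⟩ := IsIntegrallyClosed.algebraMap_eq_of_integral hyint
      exact ⟨a', by rw [IsScalarTower.algebraMap_apply A L Ω, hy]⟩
    obtain ⟨g, hg⟩ := CPLiftA.exists_ringHom_of_forall_mem_range (algebraMap A Ω) hinjΩ tw₀ h2
    refine ⟨g, fun b => ?_⟩
    apply hinjΩ
    rw [hg, htw₀]
  · exfalso
    let C := integralClosure A M
    haveI : IsIntegralClosure C A M := inferInstance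
    haveI : IsFractionRing C M := integralClosure.isFractionRing_of_finite_extension L M
    haveI : IsIntegrallyClosed C := integralClosure.isIntegrallyClosedOfFiniteExtension L
    haveI : IsNoetherianRing A := inferInstance
    haveI : Module.Finite A C := IsIntegralClosure.finite A L M C
    letI : Algebra k C := ((algebraMap A C).comp (algebraMap k A)).toAlgebra
    haveI : IsScalarTower k A C := IsScalarTower.of_algebraMap_eq (fun _ => rfl)
    haveI : Algebra.IsInvariant A C (C ≃ₐ[A] C) := Algebra.isInvariant_of_isGalois' A L M C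
    haveI : Finite (C ≃ₐ[A] C) := Finite.of_equiv _ (galRestrict A L M C).toEquiv
    have hcardΓ : Nat.card (C ≃ₐ[A] C) = p := by
      rw [← Nat.card_congr (galRestrict A L M C).toEquiv, hcardM, hcard]
    have hinjC : Function.Injective (algebraMap A C) := by
      have h3 : Function.Injective (algebraMap C M ∘ algebraMap A C) := by
        have h4 : (algebraMap C M ∘ algebraMap A C) = algebraMap A M := by
          funext a; exact (IsScalarTower.algebraMap_apply A C M a).symm
        rw [h4, IsScalarTower.algebraMap_eq A L M]
        exact (algebraMap L M).injective.comp (IsFractionRing.injective A L)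
      exact Function.Injective.of_comp h3
    have hramC : ∀ Q : Ideal C, Q.IsPrime → Q.under A ≠ maximalIdeal A →
        Q.inertia (C ≃ₐ[A] C) = ⊥ := by
      intro Q hQ hQm
      haveI := hQ
      have hmem' : ∀ a : A, tw₀ a ∈ M := fun a => by rw [← htw]; exact hmem _
      haveI : IsScalarTower A M Ω := IsScalarTower.of_algebraMap_eq (fun a => rfl)
      have hintM : ∀ a : A, IsIntegral A (⟨tw₀ a, hmem' a⟩ : M) := by
        intro a
        have h := hint a
        exact (isIntegral_algebraMap_iff (algebraMap M Ω).injective).mp h
      let twC : A →+* C := RingHom.codRestrict (RingHom.codRestrict tw₀ M hmem') C hintM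
      have htwC : ∀ a : A, ((twC a : M) : Ω) = tw₀ a := fun a => rfl
      rw [eq_bot_iff]
      intro γC hγC
      rw [Subgroup.mem_bot]
      set γ := (galRestrict A L M C).symm γC with hγ
      have hγC' : ∀ c : C, algebraMap C M (γC c) = γ (algebraMap C M c) := by
        intro c
        rw [hγ, galRestrict_symm_algebraMap_apply]
      set σ := ρ γ with hσ
      have hact : ∀ a : A, γC (twC a) = twC (σ • a) := by
        intro a
        apply Subtype.ext
        apply Subtype.ext
        have h1 := hγC' (twC a)
        have h2 := hρ γ (algebraMap A L a) (hmem _)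
        have h3 : (algebraMap C M (twC a) : M) = ⟨tw (algebraMap A L a), hmem _⟩ := by
          apply Subtype.ext
          show tw₀ a = tw (algebraMap A L a)
          rw [htw]
        rw [h3] at h1
        have h4 : ((algebraMap C M (γC (twC a)) : M) : Ω) = tw (ρ γ • algebraMap A L a) := by
          rw [h1]; exact h2
        rw [← algebraMap.smul' (ρ γ) a L, htw] at h4
        exact h4
      let P' : Ideal A := Q.comap twC
      haveI : P'.IsPrime := Ideal.comap_isPrime twC Q
      have hσin : σ ∈ P'.inertia G := by
        intro a
        show σ • a - a ∈ P'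
        rw [Ideal.mem_comap, map_sub, ← hact]
        exact hγC (twC a)
      have hP'ne : P' ≠ maximalIdeal A := by
        intro hP'
        apply hQm
        haveI : (Q.under A).IsPrime := inferInstance
        apply le_antisymm (IsLocalRing.le_maximalIdeal (Ideal.IsPrime.ne_top inferInstance))
        intro a ha
        have hcoef : ∀ j < Fintype.card G,
            (MulSemiringAction.charpoly G a).coeff j ∈ Q.under A := by
          intro j hj
          have hcm := WQ.coeff_charpoly_mem (G := G) ha hj
          have hcinv : ∀ τ : G, τ • (MulSemiringAction.charpoly G a).coeff j =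
              (MulSemiringAction.charpoly G a).coeff j :=
            MulSemiringAction.smul_coeff_charpoly a j
          let c : FixedPoints.subring A G := ⟨_, hcinv⟩
          let b := φ'.symm c
          have hbm : (b : A) ∈ maximalIdeal A := by
            by_contra hnot
            have hu : IsUnit (b : A) := by
              rwa [mem_maximalIdeal, mem_nonunits_iff, not_not] at hnot
            have hu' : IsUnit b :=
              (isUnit_map_iff (algebraMap (FixedPoints.subring A G) A) b).mp hu
            have hu'' : IsUnit (φ' b) := hu'.map φ'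
            have hu3 : IsUnit ((φ' b : FixedPoints.subring A G) : A) :=
              hu''.map (FixedPoints.subring A G).subtype
            rw [show φ' b = c from φ'.apply_symm_apply c] at hu3
            exact (mem_maximalIdeal _).mp hcm hu3
          rw [← hP', Ideal.mem_comap] at hbm
          have htwb : twC (b : A) = algebraMap A C (c : A) := by
            apply Subtype.ext
            apply Subtype.ext
            show tw₀ (b : A) = algebraMap A Ω (c : A)
            rw [htw₀ b, φ'.apply_symm_apply]
          rw [htwb] at hbm
          exact hbm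
        have h0 := MulSemiringAction.eval_charpoly G a
        rw [Polynomial.eval_eq_sum_range, WQ.natDegree_charpoly, Finset.sum_range_succ] at h0
        have hlead : (MulSemiringAction.charpoly G a).coeff (Fintype.card G) = 1 := by
          have h5 := (MulSemiringAction.monic_charpoly G a).coeff_natDegree
          rwa [WQ.natDegree_charpoly] at h5
        rw [hlead, one_mul] at h0
        have hpow : a ^ Fintype.card G ∈ Q.under A := by
          rw [eq_neg_of_add_eq_zero_right h0]
          exact neg_mem (Ideal.sum_mem _ fun j hj =>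
            Ideal.mul_mem_right _ _ (hcoef j (Finset.mem_range.mp hj)))
        exact Ideal.IsPrime.mem_of_pow_mem inferInstance _ hpow
      have hσ1 := hram P' inferInstance hP'ne
      rw [hσ1, Subgroup.mem_bot] at hσin
      have hρ1 : ρ 1 = 1 := by
        apply CPTw.tw_unique tw
        intro a
        rw [← hρ 1 a (hmem a), one_smul]
        rfl
      have hγ1 : γ = 1 := hρinj (by rw [← hσ, hσin, hρ1])
      have hγC2 : γC = galRestrict A L M C γ := by rw [hγ, MulEquiv.apply_symm_apply]
      rw [hγC2, hγ1, map_one]
    exact CPEnd.false_of_cover p A hdim k hk hkp C (C ≃ₐ[A] C) hcardΓ hinjC hramC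

end Main

end Groth.Agent.Lib.Helper52.CPLift
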