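import Groth.Agent.Lib.Helper52.CPPurity
import Groth.Agent.Lib.Helper52.WQGalois
import Mathlib.FieldTheory.PurelyInseparable.PerfectClosure
import Mathlib.FieldTheory.SeparableClosure

set_option autoImplicit false
set_option linter.style.haveILetI false
set_option linter.unusedSectionVars false
universe u v w

namespace Groth.Agent.Lib.Helper52.CPNorm

open IsLocalRing

section Setup

variable (R : Type u) [CommRing R] (A : Type v) [CommRing A] [Algebra R A]
  (K L : Type*) [Field K] [Field L] [Algebra R K] [IsFractionRing R K] [Algebra A L]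
  [IsFractionRing A L] [Algebra R L] [IsScalarTower R A L] [Algebra K L] [IsScalarTower R K L]

/-- The subalgebra of elements of `A` separable over the fraction field of `R`. -/
noncomputable def sepSub : Subalgebra R A :=
  Subalgebra.comap (IsScalarTower.toAlgHom R A L)
    ((separableClosure K L).toSubalgebra.restrictScalars R)

variable {R A K L}

lemma mem_sepSub {a : A} : a ∈ sepSub R A K L ↔ algebraMap A L a ∈ separableClosure K L :=
  Iff.rfl

variable {G : Type w} [Group G] [MulSemiringAction G A] [SMulCommClass G R A]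

lemma smul_mem_sepSub (σ : G) {a : A} (ha : a ∈ sepSub R A K L) : σ • a ∈ sepSub R A K L := by
  letI := IsFractionRing.mulSemiringAction G A L
  haveI : SMulDistribClass G A L := IsFractionRing.smulDistribClass G A L
  haveI : SMulCommClass G K L := IsFractionRing.smulCommClass G R A K L
  rw [mem_sepSub] at ha ⊢
  rw [algebraMap.smul' σ a L]
  exact (map_mem_separableClosure_iff (MulSemiringAction.toAlgHom K L σ)).2 ha

/-- Every element of `A` has a `p`-power in `sepSub`. -/
lemma exists_pow_mem_sepSub (p : ℕ) [Fact p.Prime] [CharP R p] [Algebra.IsIntegral R A] (a : A) :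
    ∃ e : ℕ, a ^ p ^ e ∈ sepSub R A K L := by
  haveI : CharP K p := charP_of_injective_algebraMap (IsFractionRing.injective R K) p
  haveI : ExpChar K p := ExpChar.prime Fact.out
  haveI : Algebra.IsAlgebraic K L := isAlgebraic_of_isFractionRing R A K L
  haveI : ExpChar (separableClosure K L) p :=
    expChar_of_injective_algebraMap (algebraMap K _).injective p
  obtain ⟨e, he⟩ := IsPurelyInseparable.pow_mem (separableClosure K L) p (algebraMap A L a)
  refine ⟨e, ?_⟩
  rw [mem_sepSub, map_pow]
  obtain ⟨y, hy⟩ := he
  rw [← hy]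
  exact y.2

variable (G R A K L) in
/-- The induced action on `sepSub`. -/
@[instance_reducible]
noncomputable def sepAction : MulSemiringAction G (sepSub R A K L) where
  smul σ c := ⟨σ • c.1, smul_mem_sepSub σ c.2⟩
  one_smul c := Subtype.ext (one_smul G c.1)
  mul_smul σ τ c := Subtype.ext (mul_smul σ τ c.1)
  smul_zero σ := Subtype.ext (smul_zero σ)
  smul_add σ c d := Subtype.ext (smul_add σ c.1 d.1)
  smul_one σ := Subtype.ext (smul_one σ)
  smul_mul σ c d := Subtype.ext (smul_mul' σ c.1 d.1)

/-- An element of `sepSub` with a `p`-power in `R` lies in `R` (if `R` is normal). -/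
lemma mem_range_of_pow_mem (p : ℕ) [Fact p.Prime] [CharP R p] [IsDomain R] [IsIntegrallyClosed R]
    [Algebra.IsIntegral R A] {a : A} (ha : a ∈ sepSub R A K L) {e : ℕ}
    (he : a ^ p ^ e ∈ Set.range (algebraMap R A)) : a ∈ Set.range (algebraMap R A) := by
  haveI : CharP K p := charP_of_injective_algebraMap (IsFractionRing.injective R K) p
  haveI : ExpChar K p := ExpChar.prime Fact.out
  have h1 : algebraMap A L a ∈ perfectClosure K L := by
    rw [mem_perfectClosure_iff_pow_mem p]
    obtain ⟨r, hr⟩ := he
    refine ⟨e, algebraMap R K r, ?_⟩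
    rw [← map_pow, ← hr, ← IsScalarTower.algebraMap_apply, ← IsScalarTower.algebraMap_apply]
  have h2 : algebraMap A L a ∈ separableClosure K L ⊓ perfectClosure K L := ⟨ha, h1⟩
  rw [separableClosure_inf_perfectClosure, IntermediateField.mem_bot] at h2
  obtain ⟨y, hy⟩ := h2
  have hint : IsIntegral R y := by
    have h3 : IsIntegral R (algebraMap A L a) :=
      (Algebra.IsIntegral.isIntegral (R := R) a).map (IsScalarTower.toAlgHom R A L)
    rw [← hy] at h3
    exact (isIntegral_algHom_iff (IsScalarTower.toAlgHom R K L) (algebraMap K L).injective).1 h3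
  obtain ⟨r, hr⟩ := IsIntegrallyClosed.isIntegral_iff.1 hint
  refine ⟨r, ?_⟩
  apply IsFractionRing.injective A L
  rw [← hy, ← hr, ← IsScalarTower.algebraMap_apply, ← IsScalarTower.algebraMap_apply]

theorem isIntegrallyClosed_sepSub [IsDomain A] [IsIntegrallyClosed A] :
    IsIntegrallyClosed (sepSub R A K L) := by
  set C := sepSub R A K L with hC
  have hinj : Function.Injective (algebraMap C L) :=
    (IsFractionRing.injective A L).comp Subtype.val_injective
  rw [isIntegrallyClosed_iff (FractionRing C)]
  intro x hx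
  set g : FractionRing C →+* L := IsFractionRing.lift hinj with hg
  have hgalg : ∀ c : C, g (algebraMap C (FractionRing C) c) = algebraMap A L c.1 := fun c =>
    IsFractionRing.lift_algebraMap hinj c
  have hz : IsIntegral A (g x) := by
    have h1 : IsIntegral C (g x) := by
      obtain ⟨f, hf, hfx⟩ := hx
      refine ⟨f, hf, ?_⟩
      have := congrArg g hfx
      rw [Polynomial.hom_eval₂, map_zero] at this
      have he : g.comp (algebraMap C (FractionRing C)) = algebraMap C L := by
        ext c
        exact hgalg c
      rw [he] at this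
      exact this
    exact h1.tower_top
  obtain ⟨a, ha⟩ := IsIntegrallyClosed.isIntegral_iff.1 hz
  have hmem : g x ∈ separableClosure K L := by
    obtain ⟨c, s, -, rfl⟩ := IsFractionRing.div_surjective C x
    rw [map_div₀, hgalg, hgalg]
    exact div_mem c.2 s.2
  refine ⟨⟨a, ?_⟩, ?_⟩
  · rw [hC, mem_sepSub, ha]
    exact hmem
  · apply g.injective
    rw [hgalg, ha]

end Setup

section Main

/-- If the invariants are purely inseparable over `R` then the action cannot be ramified exactly
at the closed point. -/
theorem false_of_pow_mem (p : ℕ) [Fact p.Prime] {R : Type u} [CommRing R] [IsRegularLocalRing R]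
    [CharP R p] {A : Type v} [CommRing A] [IsDomain A] [IsIntegrallyClosed A] [IsLocalRing A]
    [Algebra R A] [Module.Finite R A] {G : Type w} [Group G] [Finite G] [Nontrivial G]
    [MulSemiringAction G A] [SMulCommClass G R A]
    (hinj : Function.Injective (algebraMap R A)) (hdim : 2 ≤ ringKrullDim R)
    (hne : (⊥ : Ideal A) ≠ maximalIdeal A)
    (hram : ∀ P : Ideal A, P.IsPrime → P ≠ maximalIdeal A → P.inertia G = ⊥)
    (hm : ∀ (σ : G) (a : A), σ • a - a ∈ maximalIdeal A)
    (hpow : ∀ y : A, (∀ σ : G, σ • y = y) → ∃ e : ℕ, y ^ p ^ e ∈ Set.range (algebraMap R A)) :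
    False := by
  haveI : IsDomain R := hinj.isDomain _
  haveI : IsIntegrallyClosed R := Groth.Agent.S9829.result R
  haveI : FaithfulSMul R A := (faithfulSMul_iff_algebraMap_injective R A).2 hinj
  haveI : Algebra.IsIntegral R A := Algebra.IsIntegral.of_finite R A
  haveI : CharP A p := charP_of_injective_algebraMap hinj p
  let K := FractionRing R
  let L := FractionRing A
  letI : Algebra K L := FractionRing.liftAlgebra R L
  haveI : IsScalarTower R K L := FractionRing.isScalarTower_liftAlgebra R L
  set C := sepSub R A K L with hC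
  letI : MulSemiringAction G C := sepAction R A K L G
  have hsmul : ∀ (σ : G) (c : C), ((σ • c : C) : A) = σ • (c : A) := fun _ _ => rfl
  haveI : SMulCommClass G R C := ⟨fun σ r c => Subtype.ext (smul_comm σ r (c : A))⟩
  haveI : IsIntegrallyClosed C := isIntegrallyClosed_sepSub
  haveI : IsNoetherian R A := isNoetherian_of_isNoetherianRing_of_finite R A
  haveI : Module.Finite R C :=
    Module.Finite.of_injective C.val.toLinearMap Subtype.val_injective
  have hinjC : Function.Injective (algebraMap R C) := by
    intro r s hrs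
    exact hinj (congrArg Subtype.val hrs)
  haveI : CharP C p := charP_of_injective_algebraMap hinjC p
  have hpowC : ∀ a : A, ∃ e : ℕ, a ^ p ^ e ∈ C := fun a => exists_pow_mem_sepSub p a
  haveI : FaithfulSMul G A := WQ.faithful_of_hram hne hram
  haveI : FaithfulSMul G C := by
    refine ⟨fun {σ τ} h => ?_⟩
    apply eq_of_smul_eq_smul (α := A)
    intro a
    obtain ⟨e, he⟩ := hpowC a
    have h1 := congrArg Subtype.val (h ⟨_, he⟩)
    rw [hsmul, hsmul] at h1
    change σ • a ^ p ^ e = τ • a ^ p ^ e at h1
    rw [smul_pow', smul_pow'] at h1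
    exact iterateFrobenius_inj A p e h1
  haveI : Algebra.IsInvariant R C G := by
    refine ⟨fun c hc => ?_⟩
    have hc' : ∀ σ : G, σ • (c : A) = c := fun σ => by
      rw [← hsmul, hc σ]
    obtain ⟨e, he⟩ := hpow c hc'
    obtain ⟨r, hr⟩ := mem_range_of_pow_mem p c.2 he
    exact ⟨r, Subtype.ext hr⟩
  haveI : IsLocalHom (algebraMap R A) := Algebra.IsIntegral.isLocalHom R A
  have hramC : ∀ Q : Ideal C, Q.IsPrime → Q.under R ≠ maximalIdeal R → Q.inertia G = ⊥ := by
    intro Q hQ hQR
    haveI : Algebra.IsIntegral C A := by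
      refine ⟨fun a => ?_⟩
      exact (Algebra.IsIntegral.isIntegral (R := R) a).tower_top
    obtain ⟨P, -, hP, hPQ⟩ := Ideal.exists_ideal_over_prime_of_isIntegral Q (⊥ : Ideal A)
      (by rw [Ideal.comap_bot_of_injective _ Subtype.val_injective]; exact bot_le)
    have hPne : P ≠ maximalIdeal A := by
      rintro rfl
      apply hQR
      rw [Ideal.under_def, ← hPQ, Ideal.comap_comap, ← IsScalarTower.algebraMap_eq]
      exact IsLocalRing.maximalIdeal_comap (algebraMap R A)
    rw [eq_bot_iff]
    intro σ hσ
    rw [← hram P hP hPne]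
    intro a
    obtain ⟨e, he⟩ := hpowC a
    have h1 := hσ ⟨_, he⟩
    have h2 : (σ • a - a) ^ p ^ e ∈ P := by
      rw [sub_pow_char_pow, ← smul_pow']
      have : (σ • (⟨a ^ p ^ e, he⟩ : C) - ⟨a ^ p ^ e, he⟩ : C) ∈ P.comap (algebraMap C A) := by
        rw [hPQ]; exact h1
      exact this
    exact hP.mem_of_pow_mem _ h2
  obtain ⟨-, -, hall⟩ := CPPurity.purity p (R := R) (C := C) (Γ := G) hinjC hdim hramC
  have htop : (maximalIdeal A).comap (algebraMap C A) ≠ ⊤ := by
    intro h
    have : (1 : C) ∈ (maximalIdeal A).comap (algebraMap C A) := by rw [h]; trivial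
    simp at this
  have hbot := hall _ htop
  obtain ⟨σ, hσ⟩ := exists_ne (1 : G)
  apply hσ
  rw [← Subgroup.mem_bot, ← hbot]
  intro c
  exact hm σ c

end Main

end Groth.Agent.Lib.Helper52.CPNorm
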