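import Groth.Agent.Lib.Helper52.CPNorm
import Groth.Agent.Lib.Helper52.WQParam
import Groth.Agent.S0558

set_option autoImplicit false
set_option linter.style.haveILetI false
set_option linter.unusedSectionVars false
universe u v w

namespace Groth.Agent.Lib.Helper52.CPNorm

open IsLocalRing

/-- The norms of an admissible system of parameters generate an `m`-primary ideal. -/
lemma radical_span_norm {A : Type u} [CommRing A] [IsLocalRing A] {n : ℕ}
    {G : Type w} [Group G] [Fintype G] [MulSemiringAction G A] (u : Fin n → A)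
    (hu : ∀ τ : Fin n → G, Ideal.span (Set.range fun i => τ i • u i) = maximalIdeal A) :
    (Ideal.span (Set.range fun i => ∏ σ : G, σ • u i)).radical = maximalIdeal A := by
  apply le_antisymm
  · rw [(maximalIdeal.isMaximal A).isPrime.radical_le_iff, Ideal.span_le]
    rintro _ ⟨i, rfl⟩
    have h1 : (1 : G) • u i ∈ maximalIdeal A := by
      rw [← hu (fun _ => 1)]
      exact Ideal.subset_span ⟨i, rfl⟩
    exact Ideal.mem_of_dvd _ (Finset.dvd_prod_of_mem _ (Finset.mem_univ (1 : G))) h1
  · rw [Ideal.radical_eq_sInf]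
    apply le_sInf
    rintro P ⟨hP, hPprime⟩
    have h1 : ∀ i, ∃ σ : G, σ • u i ∈ P := by
      intro i
      have : ∏ σ : G, σ • u i ∈ P := hP (Ideal.subset_span ⟨i, rfl⟩)
      obtain ⟨σ, -, hσ⟩ := (hPprime.prod_mem_iff).1 this
      exact ⟨σ, hσ⟩
    choose τ hτ using h1
    rw [← hu τ, Ideal.span_le]
    rintro _ ⟨i, rfl⟩
    exact hτ i

theorem exists_fixed_pow_notMem
    (p : ℕ) [Fact p.Prime] (A : Type u) [CommRing A] [IsRegularLocalRing A] [CharP A p]
    [IsAdicComplete (IsLocalRing.maximalIdeal A) A] (n : ℕ) (hn : ringKrullDim A = n) (h2 : 2 ≤ n)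
    (k : Type v) [Field k] [Algebra k A]
    (hk : Function.Surjective (IsLocalRing.residue A ∘ algebraMap k A))
    (G : Type w) [Group G] [Fintype G] [MulSemiringAction G A] (hcard : Fintype.card G = p)
    [SMulCommClass G k A]
    (hram : ∀ P : Ideal A, P.IsPrime → P ≠ IsLocalRing.maximalIdeal A → P.inertia G = ⊥)
    (u : Fin n → A)
    (hu : ∀ τ : Fin n → G,
      Ideal.span (Set.range fun i => τ i • u i) = IsLocalRing.maximalIdeal A)
    (φ : MvPowerSeries (Fin n) k →ₐ[k] A) (hφ : ∀ i, φ (MvPowerSeries.X i) = ∏ σ : G, σ • u i) :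
    ∃ y : A, (∀ σ : G, σ • y = y) ∧ ∀ e : ℕ, y ^ p ^ e ∉ Set.range φ := by
  classical
  by_contra hcon
  push Not at hcon
  haveI : IsDomain A := Groth.Agent.S0558.result A
  haveI : IsIntegrallyClosed A := Groth.Agent.S9829.result A
  set P := MvPowerSeries (Fin n) k with hPdef
  set x : Fin n → A := fun i => ∏ σ : G, σ • u i with hxdef
  have hx : (Ideal.span (Set.range x)).radical = maximalIdeal A := radical_span_norm u hu
  have hxm : ∀ i, x i ∈ maximalIdeal A := fun i => by
    rw [← hx]; exact Ideal.le_radical (Ideal.subset_span ⟨i, rfl⟩)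
  let ψ : P →+* A := φ
  have hψC : ∀ c, ψ (MvPowerSeries.C c) = algebraMap k A c := by
    intro c
    have := φ.commutes c
    rwa [MvPowerSeries.algebraMap_apply, Algebra.algebraMap_self, RingHom.id_apply] at this
  have hψX : ∀ i, ψ (MvPowerSeries.X i) = x i := hφ
  letI : Algebra P A := ψ.toAlgebra
  have halg : ∀ r : P, algebraMap P A r = φ r := fun _ => rfl
  haveI hfin : Module.Finite P A := WQ.finite_of_eval hk x hxm hx.ge ψ hψC hψX
  haveI : IsRegularLocalRing P := WQ.isRegularLocalRing_mvPowerSeries
  -- injectivity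
  obtain ⟨d, b, -, hbij⟩ := WQ.exists_basis_of_params n hn hk x hx φ hφ
  have hinj : Function.Injective (algebraMap P A) := by
    rw [injective_iff_map_eq_zero]
    intro r hr
    rw [halg] at hr
    have hd : 0 < d := by
      rcases Nat.eq_zero_or_pos d with rfl | h
      · exfalso
        have h01 : (0 : A) = 1 := by
          obtain ⟨r0, hr0⟩ := hbij.2 0
          obtain ⟨r1, hr1⟩ := hbij.2 1
          rw [← hr0, ← hr1]
          simp
        exact zero_ne_one h01
      · exact h
    have h1 := @hbij.1 (fun _ => r) 0 (by simp [hr])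
    exact congrFun h1 ⟨0, hd⟩
  haveI : CharP P p := RingHom.charP (algebraMap P A) hinj p
  -- invariance
  have hinv : ∀ (σ : G) (r : P), σ • φ r = φ r := by
    intro σ r
    have hH : IsHausdorff (maximalIdeal A) A := inferInstance
    have hXfix : ∀ i, σ • x i = x i := by
      intro i
      rw [hxdef]
      simp only
      rw [Finset.smul_prod']
      exact Fintype.prod_equiv (Equiv.mulLeft σ) _ _ (fun τ => by simp [mul_smul])
    have := Groth.Agent.Lib.Helper76.mvPowerSeries_ringHom_ext (maximalIdeal A)
      ((MulSemiringAction.toRingHom G A σ).comp ψ) ψ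
      (fun c => by
        simp only [RingHom.comp_apply, hψC, MulSemiringAction.toRingHom_apply, smul_algebraMap])
      (fun i => by
        simp only [RingHom.comp_apply, hψX, MulSemiringAction.toRingHom_apply, hXfix])
      (fun i => by
        simp only [RingHom.comp_apply, hψX, MulSemiringAction.toRingHom_apply, hXfix]
        exact hxm i)
    exact RingHom.congr_fun this r
  haveI : SMulCommClass G P A := by
    refine ⟨fun σ r a => ?_⟩
    rw [Algebra.smul_def, Algebra.smul_def, smul_mul', halg, hinv]
  haveI : Nontrivial G := by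
    rw [← Fintype.one_lt_card_iff_nontrivial, hcard]
    exact (Fact.out : p.Prime).one_lt
  have hdimP : 2 ≤ ringKrullDim P := by
    rw [WQ.ringKrullDim_mvPowerSeries]
    exact_mod_cast h2
  have hdimA : 2 ≤ ringKrullDim A := by
    rw [hn]
    exact_mod_cast h2
  have hne : (⊥ : Ideal A) ≠ maximalIdeal A := WQ.bot_ne_maximalIdeal hdimA
  have hm : ∀ (σ : G) (a : A), σ • a - a ∈ maximalIdeal A := fun σ a =>
    WQ.smul_sub_mem hk (fun σ c => smul_algebraMap σ c) σ a
  exact false_of_pow_mem p (R := P) (A := A) (G := G) hinj hdimP hne hram hm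
    (fun y hy => by
      obtain ⟨e, r, hr⟩ := hcon y hy
      exact ⟨e, r, hr⟩)

end Groth.Agent.Lib.Helper52.CPNorm
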