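import Mathlib.RingTheory.LocalRing.Module
import Mathlib.RingTheory.Invariant.Basic

/-!
# Freeness from Chevalley's property
-/

set_option autoImplicit false
set_option linter.style.haveILetI false
set_option linter.unusedSectionVars false
universe u v w

namespace Groth.Agent.Lib.Helper52.CST

open IsLocalRing TensorProduct

section Free

variable {B : Type u} {A : Type v} [CommRing B] [CommRing A] [Algebra B A] [IsLocalRing B]

/-- Chevalley's property: in a relation whose first coefficient is not generated by the others,
the first vector lies in `m_B A`. -/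
def ChevalleyProp (B : Type u) (A : Type v) [CommRing B] [CommRing A] [Algebra B A]
    [IsLocalRing B] : Prop :=
  ∀ (r : ℕ) (b : Fin (r + 1) → B) (a : Fin (r + 1) → A), ∑ i, b i • a i = 0 →
    b 0 ∉ Ideal.span (Set.range fun j : Fin r => b j.succ) →
    a 0 ∈ (maximalIdeal B).map (algebraMap B A)

theorem eq_zero_of_rel (hCL : ChevalleyProp B A) : ∀ (r : ℕ) (α : Fin r → A) (b : Fin r → B),
    (∀ c : Fin r → B, ∑ i, c i • α i ∈ (maximalIdeal B).map (algebraMap B A) →
      ∀ i, c i ∈ maximalIdeal B) →
    ∑ i, b i • α i = 0 → ∀ i, b i = 0 := by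
  intro r
  induction r with
  | zero => intro α b _ _ i; exact i.elim0
  | succ r ih =>
    intro α b hP hrel
    by_cases h : b 0 ∈ Ideal.span (Set.range fun j : Fin r => b j.succ)
    · obtain ⟨c, hc⟩ := Ideal.mem_span_range_iff_exists_fun.mp h
      have hrel' : ∑ j : Fin r, b j.succ • (α j.succ + c j • α 0) = 0 := by
        have h1 : ∑ j : Fin r, b j.succ • (α j.succ + c j • α 0) =
            ∑ j : Fin r, b j.succ • α j.succ + (∑ j : Fin r, c j * b j.succ) • α 0 := by
          rw [Finset.sum_smul, ← Finset.sum_add_distrib]
          refine Finset.sum_congr rfl fun j _ => ?_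
          rw [smul_add, smul_smul, mul_comm]
        rw [h1, hc, add_comm]
        rw [Fin.sum_univ_succ] at hrel
        exact hrel
      have hP' : ∀ d : Fin r → B,
          ∑ j : Fin r, d j • (α j.succ + c j • α 0) ∈ (maximalIdeal B).map (algebraMap B A) →
          ∀ j, d j ∈ maximalIdeal B := by
        intro d hd j
        have h1 := hP (Fin.cons (∑ j, d j * c j) d) (by
          rw [Fin.sum_univ_succ]
          simp only [Fin.cons_zero, Fin.cons_succ]
          convert hd using 1
          rw [Finset.sum_smul, ← Finset.sum_add_distrib]
          refine Finset.sum_congr rfl fun j _ => ?_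
          rw [smul_add, smul_smul, add_comm]) j.succ
        simpa using h1
      have h2 := ih (fun j => α j.succ + c j • α 0) (fun j => b j.succ) hP' hrel'
      have h0 : b 0 = 0 := by
        rw [← hc]
        exact Finset.sum_eq_zero fun j _ => by rw [h2 j, mul_zero]
      intro i
      refine Fin.cases h0 (fun j => h2 j) i
    · exfalso
      have h1 := hCL r b α hrel h
      have h2 := hP (Fin.cons 1 0) (by
        rw [Fin.sum_univ_succ]
        simp only [Fin.cons_zero, Fin.cons_succ, Pi.zero_apply, zero_smul, Finset.sum_const_zero,
          add_zero, one_smul]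
        exact h1) 0
      rw [Fin.cons_zero] at h2
      exact (maximalIdeal.isMaximal B).ne_top ((Ideal.eq_top_iff_one _).2 h2)

/-- A finite module over a local ring with Chevalley's property is free. -/
theorem free_of_chevalleyProp [Module.Finite B A] (hCL : ChevalleyProp B A) : Module.Free B A := by
  classical
  let κ := ResidueField B
  let bκ := Module.finBasis κ (κ ⊗[B] A)
  set d := Module.finrank κ (κ ⊗[B] A) with hd
  have hsurj : Function.Surjective (TensorProduct.mk B κ A 1) :=
    TensorProduct.mk_surjective B A κ IsLocalRing.residue_surjective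
  choose f hf using fun i => hsurj (bκ i)
  have hspan : Submodule.span B (Set.range f) = ⊤ :=
    IsLocalRing.span_eq_top_of_tmul_eq_basis f bκ hf
  -- elements of `m_B A` die in the fibre
  have hker : ∀ x ∈ (maximalIdeal B).map (algebraMap B A), (1 : κ) ⊗ₜ[B] x = 0 := by
    intro x hx
    have hx' : x ∈ (maximalIdeal B • ⊤ : Submodule B A) := by
      rw [Ideal.smul_top_eq_map]; exact hx
    refine Submodule.smul_induction_on hx' ?_ ?_
    · intro β hβ a _
      rw [TensorProduct.tmul_smul, TensorProduct.smul_tmul', Algebra.smul_def, mul_one]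
      have : algebraMap B κ β = 0 := by
        rw [IsLocalRing.ResidueField.algebraMap_eq]
        exact (IsLocalRing.residue_eq_zero_iff β).2 hβ
      rw [this, TensorProduct.zero_tmul]
    · intro x y hx hy
      rw [TensorProduct.tmul_add, hx, hy, add_zero]
  have hP : ∀ c : Fin d → B, ∑ i, c i • f i ∈ (maximalIdeal B).map (algebraMap B A) →
      ∀ i, c i ∈ maximalIdeal B := by
    intro c hc i
    have h1 := hker _ hc
    rw [TensorProduct.tmul_sum] at h1
    have h2 : ∀ i, (1 : κ) ⊗ₜ[B] (c i • f i) = (algebraMap B κ (c i)) • bκ i := by
      intro i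
      rw [TensorProduct.tmul_smul, ← hf i]
      simp only [TensorProduct.mk_apply]
      rw [TensorProduct.smul_tmul', TensorProduct.smul_tmul', smul_eq_mul, mul_one,
        Algebra.smul_def, mul_one]
    rw [Finset.sum_congr rfl (fun i _ => h2 i)] at h1
    have h3 := Fintype.linearIndependent_iff.mp bκ.linearIndependent _ h1 i
    rw [IsLocalRing.ResidueField.algebraMap_eq] at h3
    exact (IsLocalRing.residue_eq_zero_iff _).1 h3
  have hli : LinearIndependent B f := by
    rw [Fintype.linearIndependent_iff]
    intro b hb
    exact eq_zero_of_rel hCL d f b hP hb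
  exact Module.Free.of_basis (Module.Basis.mk hli hspan.ge)

end Free

end Groth.Agent.Lib.Helper52.CST
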