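import Groth.Agent.Lib.Helper52.WQBasic
import Mathlib.LinearAlgebra.FiniteDimensional.Lemmas

/-!
# Pseudo-reflections on a local ring with a coefficient field move elements inside a principal ideal
-/

set_option autoImplicit false
set_option linter.style.haveILetI false
set_option linter.unusedSectionVars false
universe u v w

namespace Groth.Agent.Lib.Helper52.CST

open IsLocalRing

section Avg

variable {A : Type u} [CommRing A] {G : Type w} [Group G] [MulSemiringAction G A]

/-- The twisted sum `∑_{j<N} z^j g^j a`. -/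
def tsum (g : G) (z : A) (N : ℕ) (a : A) : A := ∑ j ∈ Finset.range N, z ^ j * g ^ j • a

lemma smul_tsum_mul (g : G) (z : A) (N : ℕ) (hz : g • z = z) (hzN : z ^ N = 1)
    (hgN : g ^ N = 1) (a : A) : g • tsum g z N a * z = tsum g z N a := by
  have h1 : g • tsum g z N a * z = ∑ j ∈ Finset.range N, z ^ (j + 1) * g ^ (j + 1) • a := by
    rw [tsum, Finset.smul_sum, Finset.sum_mul]
    refine Finset.sum_congr rfl fun j _ => ?_
    rw [smul_mul', smul_pow', hz, ← mul_smul, ← pow_succ', pow_succ]
    ring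
  rw [h1, tsum]
  have h2 := Finset.sum_range_succ' (fun j => z ^ j * g ^ j • a) N
  have h3 := Finset.sum_range_succ (fun j => z ^ j * g ^ j • a) N
  simp only [pow_zero, one_smul, one_mul] at h2
  rw [hzN, hgN, one_smul, one_mul] at h3
  rw [h3] at h2
  exact add_right_cancel h2.symm

lemma pow_smul_sub_mem (g : G) (I : Ideal A) (hI : ∀ a : A, g • a - a ∈ I) (j : ℕ) (a : A) :
    g ^ j • a - a ∈ I := by
  induction j with
  | zero => rw [pow_zero, one_smul, sub_self]; exact I.zero_mem
  | succ j ih =>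
    have : g ^ (j + 1) • a - a = (g • (g ^ j • a) - g ^ j • a) + (g ^ j • a - a) := by
      rw [pow_succ', mul_smul]; ring
    rw [this]
    exact I.add_mem (hI _) ih

end Avg

section Refl

variable {A : Type u} [CommRing A] [IsLocalRing A] [IsNoetherianRing A] {k : Type v} [Field k]
  [Algebra k A] {G : Type w} [Group G] [MulSemiringAction G A] [SMulCommClass G k A]

/-- A spanning family of `A / m²`. -/
lemma finrank_quotient_sq_le (hk : Function.Surjective (residue A ∘ algebraMap k A)) (n : ℕ)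
    (x : Fin n → A) (hx : Ideal.span (Set.range x) = maximalIdeal A) :
    Module.Finite k (A ⧸ maximalIdeal A ^ 2) ∧ Module.finrank k (A ⧸ maximalIdeal A ^ 2) ≤ n + 1 := by
  set M2 := maximalIdeal A ^ 2 with hM2
  let v : Option (Fin n) → A ⧸ M2 := fun o => Option.elim o (Ideal.Quotient.mk M2 1)
    (fun i => Ideal.Quotient.mk M2 (x i))
  have hspan : Submodule.span k (Set.range v) = ⊤ := by
    rw [eq_top_iff]
    rintro a -
    obtain ⟨a, rfl⟩ := Ideal.Quotient.mk_surjective a
    obtain ⟨c₀, hc₀⟩ := LengthRestrict.exists_sub_mem (R := k) (A := A) hk a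
    rw [← hx] at hc₀
    obtain ⟨f, hf⟩ := Ideal.mem_span_range_iff_exists_fun.mp hc₀
    have hc : ∀ i, ∃ c : k, f i - algebraMap k A c ∈ maximalIdeal A := fun i =>
      LengthRestrict.exists_sub_mem (R := k) (A := A) hk (f i)
    choose c hc using hc
    have h1 : a - (algebraMap k A c₀ * 1 + ∑ i, algebraMap k A (c i) * x i) ∈ M2 := by
      have : a - (algebraMap k A c₀ * 1 + ∑ i, algebraMap k A (c i) * x i) =
          ∑ i, (f i - algebraMap k A (c i)) * x i := by
        rw [mul_one]
        simp only [sub_mul, Finset.sum_sub_distrib, hf]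
        ring
      rw [this, hM2, pow_two]
      refine Ideal.sum_mem _ fun i _ => Ideal.mul_mem_mul (hc i) ?_
      rw [← hx]; exact Ideal.subset_span ⟨i, rfl⟩
    have h2 : Ideal.Quotient.mk M2 a = c₀ • v none + ∑ i, c i • v (some i) := by
      rw [← sub_eq_zero]
      have : c₀ • v none + ∑ i, c i • v (some i) =
          Ideal.Quotient.mk M2 (algebraMap k A c₀ * 1 + ∑ i, algebraMap k A (c i) * x i) := by
        simp only [v, Option.elim, map_add, map_sum, map_mul, Algebra.smul_def]
        rfl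
      rw [this, ← map_sub, Ideal.Quotient.eq_zero_iff_mem]
      exact h1
    rw [h2]
    refine Submodule.add_mem _ (Submodule.smul_mem _ _ (Submodule.subset_span ⟨none, rfl⟩)) ?_
    exact Submodule.sum_mem _ fun i _ =>
      Submodule.smul_mem _ _ (Submodule.subset_span ⟨some i, rfl⟩)
  have hfin : Module.Finite k (A ⧸ M2) :=
    Module.finite_def.2 (hspan ▸ Submodule.fg_span (Set.finite_range v))
  refine ⟨hfin, ?_⟩
  have h3 := finrank_range_le_card (R := k) v
  rw [Set.finrank, hspan, finrank_top, Fintype.card_option, Fintype.card_fin] at h3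
  exact h3

/-- If `A / J` has dimension at least `n`, where `m² ≤ J` and `m` is generated by `n` elements,
then `J / m²` is at most a line. -/
lemma exists_smul_sub_mem_sq (hk : Function.Surjective (residue A ∘ algebraMap k A)) (n : ℕ)
    (x : Fin n → A) (hx : Ideal.span (Set.range x) = maximalIdeal A) (J : Ideal A)
    (hJ : maximalIdeal A ^ 2 ≤ J) (hn : n ≤ Module.finrank k (A ⧸ J))
    {ℓ y : A} (hℓ : ℓ ∈ J) (hℓ2 : ℓ ∉ maximalIdeal A ^ 2) (hy : y ∈ J) :
    ∃ c : k, y - algebraMap k A c * ℓ ∈ maximalIdeal A ^ 2 := by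
  obtain ⟨hfin, hle⟩ := finrank_quotient_sq_le hk n x hx
  set M2 := maximalIdeal A ^ 2 with hM2
  let φ : (A ⧸ M2) →ₗ[k] (A ⧸ J) := (Ideal.Quotient.factorₐ k hJ).toLinearMap
  have hφ : ∀ a : A, φ (Ideal.Quotient.mk M2 a) = Ideal.Quotient.mk J a := fun a => rfl
  have hsurj : Function.Surjective φ := by
    intro q
    obtain ⟨a, rfl⟩ := Ideal.Quotient.mk_surjective q
    exact ⟨Ideal.Quotient.mk M2 a, hφ a⟩
  have hrn := LinearMap.finrank_range_add_finrank_ker φ
  rw [LinearMap.range_eq_top.2 hsurj, finrank_top] at hrn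
  have hker : Module.finrank k (LinearMap.ker φ) ≤ 1 := by omega
  obtain ⟨v₀, hv₀⟩ := finrank_le_one_iff.mp hker
  have hmemℓ : Ideal.Quotient.mk M2 ℓ ∈ LinearMap.ker φ := by
    rw [LinearMap.mem_ker, hφ, Ideal.Quotient.eq_zero_iff_mem]; exact hℓ
  have hmemy : Ideal.Quotient.mk M2 y ∈ LinearMap.ker φ := by
    rw [LinearMap.mem_ker, hφ, Ideal.Quotient.eq_zero_iff_mem]; exact hy
  obtain ⟨a, ha⟩ := hv₀ ⟨_, hmemℓ⟩
  obtain ⟨b, hb⟩ := hv₀ ⟨_, hmemy⟩
  have ha' : a • (v₀ : A ⧸ M2) = Ideal.Quotient.mk M2 ℓ := congrArg Subtype.val ha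
  have hb' : b • (v₀ : A ⧸ M2) = Ideal.Quotient.mk M2 y := congrArg Subtype.val hb
  have ha0 : a ≠ 0 := by
    rintro rfl
    rw [zero_smul] at ha'
    exact hℓ2 (Ideal.Quotient.eq_zero_iff_mem.mp ha'.symm)
  refine ⟨b / a, ?_⟩
  rw [← Ideal.Quotient.eq_zero_iff_mem, map_sub, map_mul, ← hb', ← ha', sub_eq_zero]
  have : Ideal.Quotient.mk M2 (algebraMap k A (b / a)) * a • (v₀ : A ⧸ M2) =
      (b / a) • a • (v₀ : A ⧸ M2) := by
    rw [Algebra.smul_def (b / a)]
    rfl
  rw [this, smul_smul, div_mul_cancel₀ b ha0]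

/-- **Pseudo-reflections move elements inside a principal ideal.** -/
theorem exists_param_of_pseudoReflection [Finite G]
    (hk : Function.Surjective (residue A ∘ algebraMap k A)) (hcard : (Nat.card G : k) ≠ 0) (n : ℕ)
    (x : Fin n → A) (hx : Ideal.span (Set.range x) = maximalIdeal A) (g : G)
    (hg : n ≤ Module.finrank k
      (A ⧸ (Ideal.span {y : A | ∃ a, y = g • a - a} ⊔ maximalIdeal A ^ 2))) :
    ∃ ℓ ∈ maximalIdeal A, ∀ a : A, g • a - a ∈ Ideal.span {ℓ} := by
  classical
  set N := Nat.card G with hN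
  have hgN : g ^ N = 1 := pow_card_eq_one'
  set I := Ideal.span {y : A | ∃ a, y = g • a - a} with hI
  set M2 := maximalIdeal A ^ 2 with hM2
  have hGk : ∀ (σ : G) (c : k), σ • algebraMap k A c = algebraMap k A c :=
    fun σ c => smul_algebraMap σ c
  have hgI : ∀ a, g • a - a ∈ I := fun a => Ideal.subset_span ⟨a, rfl⟩
  have hIm : I ≤ maximalIdeal A := by
    rw [hI, Ideal.span_le]
    rintro _ ⟨a, rfl⟩
    exact WQ.smul_sub_mem hk hGk g a
  have hxm : ∀ i, x i ∈ maximalIdeal A := fun i => by
    rw [← hx]; exact Ideal.subset_span ⟨i, rfl⟩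
  set ν : A := algebraMap k A ((N : k)⁻¹) with hν
  have hνN : ν * (N : A) = 1 := by
    rw [hν, ← map_natCast (algebraMap k A), ← map_mul, inv_mul_cancel₀ hcard, map_one]
  have hgν : g • ν = ν := hGk g _
  -- the projection onto the fixed part
  set e1 : A → A := fun a => ν * tsum g 1 N a with he1
  have he1fix : ∀ a, g • e1 a = e1 a := by
    intro a
    simp only [he1]
    rw [smul_mul', hgν]
    have := smul_tsum_mul g 1 N (smul_one g) (one_pow N) hgN a
    rw [mul_one] at this
    rw [this]
  have he1sub : ∀ a, a - e1 a ∈ I := by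
    intro a
    have h1 : a - e1 a = ν * ∑ j ∈ Finset.range N, (a - g ^ j • a) := by
      simp only [he1, tsum, one_pow, one_mul]
      rw [Finset.sum_sub_distrib, Finset.sum_const, Finset.card_range, nsmul_eq_mul, mul_sub,
        ← mul_assoc, hνN, one_mul]
    rw [h1]
    refine I.mul_mem_left _ (I.sum_mem fun j _ => ?_)
    have := pow_smul_sub_mem g I hgI j a
    rw [← neg_sub]
    exact I.neg_mem this
  have he1m : ∀ a ∈ maximalIdeal A, e1 a ∈ maximalIdeal A := by
    intro a ha
    have h2 := hIm (he1sub a)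
    have : e1 a = a - (a - e1 a) := by ring
    rw [this]
    exact Ideal.sub_mem _ ha h2
  have hjac : maximalIdeal A ≤ (⊥ : Ideal A).jacobson := IsLocalRing.maximalIdeal_le_jacobson ⊥
  have hfg : (maximalIdeal A).FG := IsNoetherian.noetherian _
  by_cases hIM : I ≤ M2
  · -- the action is trivial
    set X : Set A := Set.range fun i => e1 (x i) with hX
    have hXm : Ideal.span X = maximalIdeal A := by
      apply le_antisymm
      · rw [Ideal.span_le]
        rintro _ ⟨i, rfl⟩
        exact he1m _ (hxm i)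
      · refine Submodule.le_of_le_smul_of_le_jacobson_bot hfg hjac ?_
        rw [smul_eq_mul, ← pow_two]
        nth_rewrite 1 [← hx]
        rw [Ideal.span_le]
        rintro _ ⟨i, rfl⟩
        have : x i = e1 (x i) + (x i - e1 (x i)) := by ring
        rw [this]
        exact Submodule.add_mem_sup (Ideal.subset_span ⟨i, rfl⟩) (hIM (he1sub _))
    refine ⟨0, Ideal.zero_mem _, fun a => ?_⟩
    have h1 := WQ.smul_sub_mem_of_gens hk hGk hXm g a
    refine (Ideal.span_le.2 ?_) h1
    rintro _ ⟨_, ⟨i, rfl⟩, rfl⟩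
    show g • e1 (x i) - e1 (x i) ∈ _
    rw [he1fix, sub_self]
    exact Ideal.zero_mem _
  · obtain ⟨y, hyI, hyM⟩ := SetLike.not_le_iff_exists.mp hIM
    have hJ2 : M2 ≤ I ⊔ M2 := le_sup_right
    have hgyI : g • y ∈ I := by
      have : g • y = (g • y - y) + y := by ring
      rw [this]
      exact I.add_mem (hgI y) hyI
    obtain ⟨ζ, hζ⟩ := exists_smul_sub_mem_sq hk n x hx (I ⊔ M2) hJ2 hg
      (Ideal.mem_sup_left hyI) hyM (Ideal.mem_sup_left hgyI)
    -- powers
    have hpow : ∀ j : ℕ, g ^ j • y - algebraMap k A (ζ ^ j) * y ∈ M2 := by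
      intro j
      induction j with
      | zero => simp
      | succ j ih =>
        have h1 : g ^ (j + 1) • y - algebraMap k A (ζ ^ (j + 1)) * y =
            g • (g ^ j • y - algebraMap k A (ζ ^ j) * y) +
              algebraMap k A (ζ ^ j) * (g • y - algebraMap k A ζ * y) := by
          rw [pow_succ', mul_smul, smul_sub, smul_mul', hGk, pow_succ, map_mul]
          ring
        rw [h1]
        exact M2.add_mem (WQ.smul_mem_pow g 2 ih) (M2.mul_mem_left _ hζ)
    have hζN : ζ ^ N = 1 := by
      by_contra hne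
      apply hyM
      have h1 := hpow N
      rw [hgN, one_smul] at h1
      have h2 : (1 - ζ ^ N) ≠ 0 := sub_ne_zero.mpr (Ne.symm hne)
      have h3 : y = algebraMap k A (1 - ζ ^ N)⁻¹ * (y - algebraMap k A (ζ ^ N) * y) := by
        have : y - algebraMap k A (ζ ^ N) * y = algebraMap k A (1 - ζ ^ N) * y := by
          rw [map_sub, map_one]; ring
        rw [this, ← mul_assoc, ← map_mul, inv_mul_cancel₀ h2, map_one, one_mul]
      rw [h3]
      exact M2.mul_mem_left _ h1
    have hζ0 : ζ ≠ 0 := by
      rintro rfl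
      rcases Nat.eq_zero_or_pos N with h0 | h0
      · rw [h0] at hcard; simp at hcard
      · rw [zero_pow h0.ne'] at hζN; exact zero_ne_one hζN
    set z : A := algebraMap k A ζ⁻¹ with hz
    have hzζ : ∀ j : ℕ, z ^ j * algebraMap k A (ζ ^ j) = 1 := by
      intro j
      rw [hz, ← map_pow, ← map_mul, inv_pow, inv_mul_cancel₀ (pow_ne_zero j hζ0), map_one]
    have hzN : z ^ N = 1 := by
      rw [hz, ← map_pow, inv_pow, hζN, inv_one, map_one]
    set ℓ : A := ν * tsum g z N y with hℓ
    have hgℓ : g • ℓ = algebraMap k A ζ * ℓ := by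
      have h1 := smul_tsum_mul g z N (hGk g _) hzN hgN y
      have h2 : g • tsum g z N y = algebraMap k A ζ * tsum g z N y := by
        have h3 := hzζ 1
        rw [pow_one, pow_one] at h3
        calc g • tsum g z N y = g • tsum g z N y * (z * algebraMap k A ζ) := by rw [h3, mul_one]
          _ = (g • tsum g z N y * z) * algebraMap k A ζ := by ring
          _ = algebraMap k A ζ * tsum g z N y := by rw [h1]; ring
      rw [hℓ, smul_mul', hgν, h2]
      ring
    have hℓy : ℓ - y ∈ M2 := by
      have h1 : ℓ - y = ν * ∑ j ∈ Finset.range N,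
          z ^ j * (g ^ j • y - algebraMap k A (ζ ^ j) * y) := by
        have h2 : ∀ j ∈ Finset.range N, z ^ j * (g ^ j • y - algebraMap k A (ζ ^ j) * y) =
            z ^ j * g ^ j • y - y := by
          intro j _
          rw [mul_sub, ← mul_assoc, hzζ j, one_mul]
        rw [Finset.sum_congr rfl h2, Finset.sum_sub_distrib, Finset.sum_const, Finset.card_range,
          nsmul_eq_mul, mul_sub, ← mul_assoc, hνN, one_mul]
        rfl
      rw [h1]
      exact M2.mul_mem_left _ (M2.sum_mem fun j _ => M2.mul_mem_left _ (hpow j))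
    have hℓM : ℓ ∉ M2 := by
      intro h
      apply hyM
      have : y = ℓ - (ℓ - y) := by ring
      rw [this]
      exact M2.sub_mem h hℓy
    have hℓI : ℓ ∈ I := by
      rw [hℓ]
      refine I.mul_mem_left _ (I.sum_mem fun j _ => I.mul_mem_left _ ?_)
      have : g ^ j • y = (g ^ j • y - y) + y := by ring
      rw [this]
      exact I.add_mem (pow_smul_sub_mem g I hgI j y) hyI
    set X : Set A := insert ℓ (Set.range fun i => e1 (x i)) with hX
    have hXm : Ideal.span X = maximalIdeal A := by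
      apply le_antisymm
      · rw [Ideal.span_le]
        rintro _ (rfl | ⟨i, rfl⟩)
        · exact hIm hℓI
        · exact he1m _ (hxm i)
      · refine Submodule.le_of_le_smul_of_le_jacobson_bot hfg hjac ?_
        rw [smul_eq_mul, ← pow_two]
        nth_rewrite 1 [← hx]
        rw [Ideal.span_le]
        rintro _ ⟨i, rfl⟩
        obtain ⟨c, hc⟩ := exists_smul_sub_mem_sq hk n x hx (I ⊔ M2) hJ2 hg
          (Ideal.mem_sup_left hℓI) hℓM (Ideal.mem_sup_left (he1sub (x i)))
        have : x i = (e1 (x i) + algebraMap k A c * ℓ) +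
            (x i - e1 (x i) - algebraMap k A c * ℓ) := by ring
        rw [this]
        refine Submodule.add_mem_sup (Ideal.add_mem _ (Ideal.subset_span (Or.inr ⟨i, rfl⟩))
          (Ideal.mul_mem_left _ _ (Ideal.subset_span (Or.inl rfl)))) hc
    refine ⟨ℓ, hIm hℓI, fun a => ?_⟩
    have h1 := WQ.smul_sub_mem_of_gens hk hGk hXm g a
    refine (Ideal.span_le.2 ?_) h1
    rintro _ ⟨_, (rfl | ⟨i, rfl⟩), rfl⟩
    · show g • ℓ - ℓ ∈ _
      rw [hgℓ]
      have : algebraMap k A ζ * ℓ - ℓ = (algebraMap k A ζ - 1) * ℓ := by ring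
      rw [SetLike.mem_coe, this]
      exact Ideal.mul_mem_left _ _ (Ideal.subset_span rfl)
    · show g • e1 (x i) - e1 (x i) ∈ _
      rw [he1fix, sub_self]
      exact Ideal.zero_mem _

end Refl

end Groth.Agent.Lib.Helper52.CST
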