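import Groth.Agent.Lib.Helper52.CSTLocal
import Groth.Agent.Lib.Helper52.CSTFree
import Groth.Agent.Lib.Helper52.CSTRefl
import Groth.Agent.Lib.Helper52.WQParam
import Groth.Agent.Lib.Helper9.EakinNagata
import Groth.Agent.S0565
import Groth.Prelude.Def_ConstAct

/-!
# Chevalley–Shephard–Todd for power series rings: reflections give a regular ring of invariants
-/

set_option autoImplicit false
set_option linter.style.haveILetI false
set_option linter.unusedSectionVars false
universe u

namespace Groth.Agent.Lib.Helper52.CST

open IsLocalRing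

theorem flat_and_regular_of_reflections (k : Type u) [Field k]
    (n : ℕ) (G : Type u) [Group G] [Finite G] [MulSemiringAction G (MvPowerSeries (Fin n) k)]
    [SMulCommClass G k (MvPowerSeries (Fin n) k)]
    (hG : (Nat.card G : k) ≠ 0)
    [Module.Finite (ConstAct.inv k (MvPowerSeries (Fin n) k) G) (MvPowerSeries (Fin n) k)]
    (hgen : Subgroup.closure {g : G | n ≤ Module.finrank k (MvPowerSeries (Fin n) k ⧸
        (Ideal.span {x : MvPowerSeries (Fin n) k | ∃ a, x = g • a - a} ⊔
          IsLocalRing.maximalIdeal (MvPowerSeries (Fin n) k) ^ 2))} = ⊤) :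
    Module.Flat (ConstAct.inv k (MvPowerSeries (Fin n) k) G) (MvPowerSeries (Fin n) k) ∧
      IsRegularLocalRing (ConstAct.inv k (MvPowerSeries (Fin n) k) G) := by
  classical
  set A := MvPowerSeries (Fin n) k with hA
  set B := ConstAct.inv k A G with hB
  haveI : Fintype G := Fintype.ofFinite G
  haveI : IsRegularLocalRing A := WQ.isRegularLocalRing_mvPowerSeries
  haveI : IsNoetherianRing A := inferInstance
  haveI : IsDomain A := NoZeroDivisors.to_isDomain A
  have hinj : Function.Injective (algebraMap B A) := Subtype.val_injective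
  haveI : FaithfulSMul B A := (faithfulSMul_iff_algebraMap_injective B A).2 hinj
  haveI : Algebra.IsIntegral B A := Algebra.IsIntegral.of_finite B A
  haveI : IsLocalHom (algebraMap B A) := Algebra.IsIntegral.isLocalHom B A
  haveI : IsLocalRing B := RingHom.domain_isLocalRing (algebraMap B A)
  haveI : Algebra.IsInvariant B A G := ⟨fun a h => ⟨⟨a, h⟩, rfl⟩⟩
  haveI : IsNoetherianRing B := Groth.Agent.Lib.Helper9.EakinNagata.isNoetherianRing_of_finite B A
  -- the coefficient field
  have hk : Function.Surjective (residue A ∘ algebraMap k A) := by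
    intro y
    obtain ⟨f, rfl⟩ := IsLocalRing.residue_surjective y
    refine ⟨MvPowerSeries.constantCoeff f, ?_⟩
    simp only [Function.comp_apply]
    rw [← sub_eq_zero, ← map_sub, IsLocalRing.residue_eq_zero_iff, mem_maximalIdeal,
      mem_nonunits_iff, MvPowerSeries.isUnit_iff_constantCoeff, map_sub,
      MvPowerSeries.algebraMap_apply, Algebra.algebraMap_self, RingHom.id_apply,
      MvPowerSeries.constantCoeff_C, sub_self]
    exact not_isUnit_zero
  have hx : Ideal.span (Set.range (MvPowerSeries.X : Fin n → A)) = maximalIdeal A :=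
    (Groth.Agent.S11741.maximalIdeal_mvPowerSeries_eq k n).symm
  -- the averaging constant
  set u : A := algebraMap k A ((Nat.card G : k)⁻¹) with hu
  have hucard : u * (Fintype.card G : A) = 1 := by
    rw [hu, ← Nat.card_eq_fintype_card, ← map_natCast (algebraMap k A), ← map_mul,
      inv_mul_cancel₀ hG, map_one]
  have hug : ∀ g : G, g • u = u := fun g => smul_algebraMap g _
  have hrefl : ∀ g ∈ {g : G | n ≤ Module.finrank k (A ⧸
        (Ideal.span {x : A | ∃ a, x = g • a - a} ⊔ maximalIdeal A ^ 2))},
      ∃ ℓ ∈ maximalIdeal A, ∀ a : A, g • a - a ∈ Ideal.span {ℓ} := by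
    intro g hg
    exact exists_param_of_pseudoReflection hk hG n MvPowerSeries.X hx g hg
  have hCL : ChevalleyProp B A := fun r b a hrel hb =>
    chevalley hinj u hucard hug _ hgen hrefl r b a hrel hb
  haveI : Module.Free B A := free_of_chevalleyProp hCL
  refine ⟨inferInstance, ?_⟩
  exact Groth.Agent.S0565.result B A

end Groth.Agent.Lib.Helper52.CST
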