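import Groth.Agent.Lib.Helper52.WQBasic
import Mathlib.RingTheory.LocalRing.Module
import Mathlib.RingTheory.Invariant.Basic

/-!
# A local form of Chevalley's lemma: freeness over the invariants of a reflection group
-/

set_option autoImplicit false
set_option linter.style.haveILetI false
set_option linter.unusedSectionVars false
universe u v w

namespace Groth.Agent.Lib.Helper52.CST

open IsLocalRing

section Chevalley

variable {B : Type u} {A : Type v} [CommRing B] [CommRing A] [Algebra B A] [IsLocalRing A]
  [IsNoetherianRing A] [IsDomain A] [IsLocalRing B] [IsLocalHom (algebraMap B A)]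
  {G : Type w} [Group G] [Fintype G] [MulSemiringAction G A] [SMulCommClass G B A]
  [Algebra.IsInvariant B A G]

/-- The ideal `m_B A + m_A ^ N` is stable under the group. -/
lemma smul_mem_sup (N : ℕ) (g : G) {x : A}
    (hx : x ∈ (maximalIdeal B).map (algebraMap B A) ⊔ maximalIdeal A ^ N) :
    g • x ∈ (maximalIdeal B).map (algebraMap B A) ⊔ maximalIdeal A ^ N := by
  obtain ⟨y, hy, z, hz, rfl⟩ := Submodule.mem_sup.mp hx
  rw [smul_add]
  refine Submodule.add_mem_sup ?_ (WQ.smul_mem_pow g N hz)
  have h1 : (maximalIdeal B).map (algebraMap B A) ≤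
      ((maximalIdeal B).map (algebraMap B A)).comap (MulSemiringAction.toRingHom G A g) := by
    rw [Ideal.map_le_iff_le_comap]
    intro β hβ
    rw [Ideal.mem_comap, Ideal.mem_comap, MulSemiringAction.toRingHom_apply, smul_algebraMap]
    exact Ideal.mem_map_of_mem _ hβ
  exact h1 hy

include G in
/-- The Reynolds operator. -/
lemma exists_reynolds (u : A) (hu : ∀ g : G, g • u = u) (a : A) :
    ∃ β : B, algebraMap B A β = u * ∑ g : G, g • a := by
  apply Algebra.IsInvariant.isInvariant (G := G)
  intro h
  rw [smul_mul', hu, Finset.smul_sum]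
  congr 1
  exact Fintype.sum_equiv (Equiv.mulLeft h) _ _ (fun σ => by simp [mul_smul])

variable (hinj : Function.Injective (algebraMap B A)) (u : A)
  (hu : u * (Fintype.card G : A) = 1) (hug : ∀ g : G, g • u = u)
  (S : Set G) (hS : Subgroup.closure S = ⊤)
  (hrefl : ∀ g ∈ S, ∃ ℓ ∈ maximalIdeal A, ∀ a : A, g • a - a ∈ Ideal.span {ℓ})

include hinj hu hug hS hrefl

theorem chevalley_aux (N : ℕ) : ∀ (r : ℕ) (b : Fin (r + 1) → B) (a : Fin (r + 1) → A),
    ∑ i, b i • a i = 0 → b 0 ∉ Ideal.span (Set.range fun j : Fin r => b j.succ) →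
    a 0 ∈ (maximalIdeal B).map (algebraMap B A) ⊔ maximalIdeal A ^ N := by
  induction N with
  | zero =>
    intro r b a _ _
    rw [pow_zero, Ideal.one_eq_top, sup_top_eq]
    trivial
  | succ N ih =>
    intro r b a hrel hb
    set J' := (maximalIdeal B).map (algebraMap B A) ⊔ maximalIdeal A ^ (N + 1) with hJ'
    -- every group element moves `a 0` inside `J'`
    let T : Subgroup G :=
      { carrier := {g | g • a 0 - a 0 ∈ J'}
        one_mem' := by
          show (1 : G) • a 0 - a 0 ∈ J'
          rw [one_smul, sub_self]; exact J'.zero_mem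
        mul_mem' := by
          intro g h hg hh
          show (g * h) • a 0 - a 0 ∈ J'
          have : (g * h) • a 0 - a 0 = g • (h • a 0 - a 0) + (g • a 0 - a 0) := by
            rw [mul_smul, smul_sub]; ring
          rw [this]
          exact J'.add_mem (smul_mem_sup (N + 1) g hh) hg
        inv_mem' := by
          intro g hg
          show g⁻¹ • a 0 - a 0 ∈ J'
          have : g⁻¹ • a 0 - a 0 = -(g⁻¹ • (g • a 0 - a 0)) := by
            rw [smul_sub, inv_smul_smul]; ring
          rw [this]
          exact J'.neg_mem (smul_mem_sup (N + 1) g⁻¹ hg) }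
    have hST : S ⊆ T := by
      intro g hg
      show g • a 0 - a 0 ∈ J'
      obtain ⟨ℓ, hℓ, hgℓ⟩ := hrefl g hg
      by_cases hℓ0 : ℓ = 0
      · have := hgℓ (a 0)
        rw [hℓ0, Ideal.span_singleton_zero, Ideal.mem_bot] at this
        rw [this]; exact J'.zero_mem
      · have hc : ∀ i, ∃ c : A, c * ℓ = g • a i - a i := fun i =>
          Ideal.mem_span_singleton'.mp (hgℓ (a i))
        choose c hc using hc
        have hrel' : ∑ i, b i • c i = 0 := by
          have h1 : ℓ * ∑ i, b i • c i = 0 := by
            rw [Finset.mul_sum]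
            have h2 : ∀ i, ℓ * b i • c i = g • (b i • a i) - b i • a i := by
              intro i
              rw [mul_smul_comm, mul_comm, hc i, smul_sub, smul_comm g (b i) (a i)]
            rw [Finset.sum_congr rfl (fun i _ => h2 i), Finset.sum_sub_distrib, ← Finset.smul_sum,
              hrel, smul_zero, sub_zero]
          rcases mul_eq_zero.mp h1 with h | h
          · exact absurd h hℓ0
          · exact h
        have h3 := ih r b c hrel' hb
        rw [← hc 0]
        obtain ⟨y, hy, z, hz, hyz⟩ := Submodule.mem_sup.mp h3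
        rw [← hyz, add_mul]
        refine Submodule.add_mem_sup (Ideal.mul_mem_right _ _ hy) ?_
        rw [pow_succ]
        exact Ideal.mul_mem_mul hz hℓ
    have hT : T = ⊤ := by
      rw [eq_top_iff, ← hS]
      exact (Subgroup.closure_le T).2 hST
    have hall : ∀ g : G, g • a 0 - a 0 ∈ J' := fun g => by
      have : g ∈ T := by rw [hT]; trivial
      exact this
    -- averaging
    have havg : u * ∑ g : G, g • a 0 - a 0 ∈ J' := by
      have h1 : u * ∑ g : G, g • a 0 - a 0 = u * ∑ g : G, (g • a 0 - a 0) := by
        rw [Finset.sum_sub_distrib, Finset.sum_const, Finset.card_univ, nsmul_eq_mul, mul_sub,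
          ← mul_assoc, hu, one_mul]
      rw [h1]
      exact Ideal.mul_mem_left _ _ (J'.sum_mem fun g _ => hall g)
    -- the Reynolds operator gives a relation among invariants
    have hβ : ∀ i, ∃ β : B, algebraMap B A β = u * ∑ g : G, g • a i := fun i =>
      exists_reynolds u hug (a i)
    choose β hβ using hβ
    have hrelB : ∑ i, b i * β i = 0 := by
      apply hinj
      rw [map_sum, map_zero]
      have h2 : ∀ i, algebraMap B A (b i * β i) = u * ∑ g : G, g • (b i • a i) := by
        intro i
        rw [map_mul, hβ i, ← mul_assoc, mul_comm _ u, mul_assoc, Finset.mul_sum]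
        congr 1
        refine Finset.sum_congr rfl fun g _ => ?_
        rw [smul_comm g (b i) (a i), Algebra.smul_def]
      rw [Finset.sum_congr rfl (fun i _ => h2 i), ← Finset.mul_sum, Finset.sum_comm]
      have h3 : ∀ g : G, ∑ i, g • (b i • a i) = 0 := by
        intro g
        rw [← Finset.smul_sum, hrel, smul_zero]
      rw [Finset.sum_congr rfl (fun g _ => h3 g), Finset.sum_const_zero, mul_zero]
    have hβ0 : β 0 ∈ maximalIdeal B := by
      by_contra hnm
      have hunit : IsUnit (β 0) := by
        by_contra h'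
        exact hnm h'
      obtain ⟨v, hv⟩ := hunit
      apply hb
      rw [Fin.sum_univ_succ] at hrelB
      have h4 : b 0 = ∑ j : Fin r, (-(↑v⁻¹ : B) * β j.succ) * b j.succ := by
        have h5 : b 0 * β 0 = -∑ j : Fin r, b j.succ * β j.succ := eq_neg_of_add_eq_zero_left hrelB
        have h6 : b 0 = b 0 * β 0 * (↑v⁻¹ : B) := by
          rw [mul_assoc, ← hv, Units.mul_inv, mul_one]
        rw [h6, h5, neg_mul, Finset.sum_mul, ← Finset.sum_neg_distrib]
        refine Finset.sum_congr rfl fun j _ => ?_
        ring
      rw [h4]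
      exact Ideal.sum_mem _ fun j _ => Ideal.mul_mem_left _ _ (Ideal.subset_span ⟨j, rfl⟩)
    have h7 : u * ∑ g : G, g • a 0 ∈ J' := by
      rw [← hβ 0]
      exact Ideal.mem_sup_left (Ideal.mem_map_of_mem _ hβ0)
    have h8 : a 0 = u * ∑ g : G, g • a 0 - (u * ∑ g : G, g • a 0 - a 0) := by ring
    rw [h8]
    exact J'.sub_mem h7 havg

/-- **Chevalley's lemma**, local form. -/
theorem chevalley (r : ℕ) (b : Fin (r + 1) → B) (a : Fin (r + 1) → A)
    (hrel : ∑ i, b i • a i = 0)
    (hb : b 0 ∉ Ideal.span (Set.range fun j : Fin r => b j.succ)) :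
    a 0 ∈ (maximalIdeal B).map (algebraMap B A) :=
  WQ.mem_of_forall_mem_sup_pow _ (IsLocalRing.map_maximalIdeal_le (algebraMap B A))
    (fun N => chevalley_aux hinj u hu hug S hS hrefl N r b a hrel hb)

end Chevalley

end Groth.Agent.Lib.Helper52.CST
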