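import Mathlib
import Groth.Agent.Lib.Helper63.Chevalley

/-!
# Chevalley's lemma for a family of ideals closed under finite intersections
-/

namespace Groth.Agent.Lib.Helper52.ChevalleyFamily

open IsLocalRing

variable {S : Type*} [CommRing S] [IsLocalRing S] [IsNoetherianRing S]

theorem isArtinianRing_quot_pow (j : ℕ) : IsArtinianRing (S ⧸ maximalIdeal S ^ j) := by
  by_cases hj : j = 0
  · subst hj
    have : Subsingleton (S ⧸ maximalIdeal S ^ 0) := by
      rw [pow_zero, Ideal.one_eq_top]; exact Ideal.Quotient.subsingleton_iff.mpr rfl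
    infer_instance
  have hmin : maximalIdeal S ∈ (maximalIdeal S ^ j).minimalPrimes := by
    refine ⟨⟨inferInstance, Ideal.pow_le_self hj⟩, fun q hq _ => ?_⟩
    exact hq.1.le_of_pow_le hq.2
  exact IsLocalRing.quotient_artinian_of_mem_minimalPrimes_of_isLocalRing _ hmin

variable [IsAdicComplete (maximalIdeal S) S]

/-- **Chevalley's lemma** for a downward-directed family of ideals with zero intersection in a
complete Noetherian local ring: some member is contained in `𝔪 ^ j`. -/
theorem chevalley_family (ℱ : Set (Ideal S)) (hne : ℱ.Nonempty)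
    (hinf : ∀ I ∈ ℱ, ∀ J ∈ ℱ, I ⊓ J ∈ ℱ) (hbot : ∀ x, (∀ I ∈ ℱ, x ∈ I) → x = 0) (j : ℕ) :
    ∃ I ∈ ℱ, I ≤ maximalIdeal S ^ j := by
  -- for each `i` choose `I_i ∈ ℱ` with minimal image in `S ⧸ 𝔪^i`
  have hmin : ∀ i : ℕ, ∃ I ∈ ℱ, ∀ J ∈ ℱ, I ≤ J ⊔ maximalIdeal S ^ i := by
    intro i
    have hart := isArtinianRing_quot_pow (S := S) i
    have hwf : WellFounded ((· < ·) :
        Ideal (S ⧸ maximalIdeal S ^ i) → Ideal (S ⧸ maximalIdeal S ^ i) → Prop) := wellFounded_lt
    obtain ⟨_, ⟨I, hI, rfl⟩, hImin⟩ := hwf.has_min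
      ((fun I => I.map (Ideal.Quotient.mk (maximalIdeal S ^ i))) '' ℱ) (hne.image _)
    refine ⟨I, hI, fun J hJ x hx => ?_⟩
    have hIJ : I ⊓ J ∈ ℱ := hinf I hI J hJ
    have h1 : ¬ (I ⊓ J).map (Ideal.Quotient.mk (maximalIdeal S ^ i)) <
        I.map (Ideal.Quotient.mk (maximalIdeal S ^ i)) := hImin _ ⟨_, hIJ, rfl⟩
    have h2 : (I ⊓ J).map (Ideal.Quotient.mk (maximalIdeal S ^ i)) ≤
        I.map (Ideal.Quotient.mk (maximalIdeal S ^ i)) := Ideal.map_mono inf_le_left
    have h3 : I.map (Ideal.Quotient.mk (maximalIdeal S ^ i)) ≤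
        (I ⊓ J).map (Ideal.Quotient.mk (maximalIdeal S ^ i)) := by
      by_contra h
      exact h1 (lt_of_le_not_ge h2 h)
    have h4 : Ideal.Quotient.mk (maximalIdeal S ^ i) x ∈
        J.map (Ideal.Quotient.mk (maximalIdeal S ^ i)) :=
      Ideal.map_mono inf_le_right (h3 (Ideal.mem_map_of_mem _ hx))
    have h5 : x ∈ (J.map (Ideal.Quotient.mk (maximalIdeal S ^ i))).comap
        (Ideal.Quotient.mk (maximalIdeal S ^ i)) := h4
    rw [Ideal.comap_map_of_surjective _ Ideal.Quotient.mk_surjective,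
      ← RingHom.ker_eq_comap_bot, Ideal.mk_ker] at h5
    exact h5
  choose I hIF hImin using hmin
  -- the decreasing sequence
  let J : ℕ → Ideal S := fun n => (Finset.range (n + 1)).inf I
  have hJF : ∀ n, J n ∈ ℱ := by
    intro n
    induction n with
    | zero =>
      have : J 0 = I 0 := by simp [J]
      rw [this]; exact hIF 0
    | succ n ih =>
      have : J (n + 1) = I (n + 1) ⊓ J n := by
        simp only [J]
        rw [Finset.range_add_one (n := n + 1), Finset.inf_insert]
      rw [this]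
      exact hinf _ (hIF _) _ ih
  have hJI : ∀ n, J n ≤ I n := fun n => Finset.inf_le (Finset.self_mem_range_succ n)
  have hanti : Antitone J := by
    intro a b hab
    exact Finset.inf_mono (Finset.range_subset_range.mpr (by omega))
  obtain ⟨N, hN⟩ := Groth.Agent.Lib.Helper63.Chevalley.chevalley J hanti (by
    intro x hx
    apply hbot
    intro K hK
    apply Groth.Agent.Lib.Helper63.Chevalley.mem_of_forall_mem_sup_pow (maximalIdeal S) K
      (maximalIdeal_le_jacobson ⊥)
    intro n
    exact hImin n K hK (hJI n (hx n))) j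
  exact ⟨J N, hJF N, hN⟩

end Groth.Agent.Lib.Helper52.ChevalleyFamily
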