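import Mathlib
import Groth.Agent.Lib.Helper61.MvPSComplete

/-!
# Completed Kähler differentials of a power series ring

`Ω̂_{k[[T_1..T_r]]/k}` is free of rank `r`.
-/

namespace Groth.Agent.Lib.Helper52.PSKaehler

open IsLocalRing

section General

variable {R : Type*} [CommRing R] (I : Ideal R) {M N : Type*} [AddCommGroup M] [Module R M]
  [AddCommGroup N] [Module R N]

theorem map_mem_pow_smul_top {N' : Type*} [AddCommGroup N'] [Module R N'] (g : N →ₗ[R] N') (n : ℕ)
    {e : N} (he : e ∈ (I ^ n • ⊤ : Submodule R N)) : g e ∈ (I ^ n • ⊤ : Submodule R N') := by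
  have h1 : g e ∈ (I ^ n • ⊤ : Submodule R N).map g := Submodule.mem_map_of_mem he
  rw [Submodule.map_smul''] at h1
  exact Submodule.smul_mono le_rfl le_top h1

/-- A dense retract induces an isomorphism on adic completions. -/
theorem map_bijective_of_retract (φ : M →ₗ[R] N) (ψ : N →ₗ[R] M) (h : ψ ∘ₗ φ = LinearMap.id)
    (hd : ∀ (n : ℕ) (y : N), ∃ x : M, y - φ x ∈ (I ^ n • ⊤ : Submodule R N)) :
    Function.Bijective (AdicCompletion.map I φ) := by
  have h1 : ∀ z, AdicCompletion.map I ψ (AdicCompletion.map I φ z) = z := by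
    intro z
    rw [AdicCompletion.map_comp_apply, h, AdicCompletion.map_id]; rfl
  have h2 : ∀ z, AdicCompletion.map I φ (AdicCompletion.map I ψ z) = z := by
    intro z
    apply AdicCompletion.ext
    intro n
    rw [AdicCompletion.map_val_apply, AdicCompletion.map_val_apply]
    obtain ⟨y, hy⟩ := Submodule.Quotient.mk_surjective _ (z.val n)
    rw [← hy, LinearMap.reduceModIdeal_apply, LinearMap.reduceModIdeal_apply,
      Submodule.Quotient.eq]
    obtain ⟨x, hx⟩ := hd n y
    have hφψφ : φ (ψ (φ x)) = φ x := by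
      have := LinearMap.congr_fun h x
      simp only [LinearMap.comp_apply, LinearMap.id_apply] at this
      rw [this]
    have : φ (ψ y) - y = φ (ψ (y - φ x)) - (y - φ x) := by
      rw [map_sub, map_sub, hφψφ]; abel
    rw [this]
    exact Submodule.sub_mem _ (map_mem_pow_smul_top I (φ ∘ₗ ψ) n hx) hx
  exact ⟨Function.LeftInverse.injective h1, Function.RightInverse.surjective h2⟩

end General


section Derivation

variable {k A : Type*} [CommRing k] [CommRing A] [Algebra k A] (I : Ideal A)

open KaehlerDifferential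

/-- `d(I^(n+1)) ⊆ I^n Ω`. -/
theorem D_mem_pow_smul_top (n : ℕ) {g : A} (hg : g ∈ I ^ (n + 1)) :
    D k A g ∈ (I ^ n • ⊤ : Submodule A (Ω[A⁄k])) := by
  induction n generalizing g with
  | zero => simp
  | succ n ih =>
    rw [pow_succ] at hg
    induction hg using Submodule.mul_induction_on' with
    | mem_mul_mem a ha b hb =>
      rw [Derivation.leibniz]
      refine Submodule.add_mem _ (Submodule.smul_mem_smul ha Submodule.mem_top) ?_
      have h1 : b • D k A a ∈ (I • (I ^ n • ⊤ : Submodule A (Ω[A⁄k])) : Submodule A (Ω[A⁄k])) :=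
        Submodule.smul_mem_smul hb (ih ha)
      rwa [← Submodule.mul_smul, ← pow_succ'] at h1
    | add x _ y _ hx hy =>
      rw [map_add]; exact Submodule.add_mem _ hx hy

end Derivation


section PowSer

universe u

variable (k : Type u) [Field k] (r : ℕ)

open KaehlerDifferential MvPowerSeries

local notation "PS" => MvPowerSeries (Fin r) k

theorem maximalIdeal_eq :
    maximalIdeal PS = Ideal.span (Set.range (MvPowerSeries.X : Fin r → PS)) := by
  ext f
  rw [mem_maximalIdeal, mem_nonunits_iff, MvPowerSeries.isUnit_iff_constantCoeff,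
    isUnit_iff_ne_zero, not_not, ← MvPowerSeries.one_le_order_iff_constCoeff_eq_zero,
    ← pow_one (Ideal.span _), Groth.Agent.Lib.Helper61.MvPSComplete.mem_pow_iff]
  norm_cast

/-- Every power series is a polynomial in the variables modulo any power of the maximal ideal. -/
theorem exists_adjoin_sub_mem (j : ℕ) : ∀ f : PS,
    ∃ s ∈ Algebra.adjoin k (Set.range (MvPowerSeries.X : Fin r → PS)),
      f - s ∈ maximalIdeal PS ^ j := by
  induction j with
  | zero => intro f; exact ⟨0, Subalgebra.zero_mem _, by simp⟩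
  | succ j ih =>
    intro f
    have h0 : f - MvPowerSeries.C (MvPowerSeries.constantCoeff f) ∈ maximalIdeal PS := by
      rw [mem_maximalIdeal, mem_nonunits_iff, MvPowerSeries.isUnit_iff_constantCoeff]
      simp
    rw [maximalIdeal_eq, Ideal.mem_span_range_iff_exists_fun] at h0
    obtain ⟨g, hg⟩ := h0
    choose s hs hsm using fun i => ih (g i)
    refine ⟨MvPowerSeries.C (MvPowerSeries.constantCoeff f) + ∑ i, s i * MvPowerSeries.X i,
      Subalgebra.add_mem _ ?_ (Subalgebra.sum_mem _ fun i _ =>
        Subalgebra.mul_mem _ (hs i) (Algebra.subset_adjoin ⟨i, rfl⟩)), ?_⟩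
    · have : (MvPowerSeries.C (MvPowerSeries.constantCoeff f) : PS) =
          algebraMap k PS (MvPowerSeries.constantCoeff f) := rfl
      rw [this]; exact Subalgebra.algebraMap_mem _ _
    · have : f - (MvPowerSeries.C (MvPowerSeries.constantCoeff f) + ∑ i, s i * MvPowerSeries.X i)
          = ∑ i, (g i - s i) * MvPowerSeries.X i := by
        simp only [sub_mul, Finset.sum_sub_distrib, hg]; ring
      rw [this, pow_succ]
      refine Ideal.sum_mem _ fun i _ => Ideal.mul_mem_mul (hsm i) ?_
      rw [maximalIdeal_eq]; exact Ideal.subset_span ⟨i, rfl⟩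

/-- The map `A^r → Ω`, `e_i ↦ dX_i`. -/
noncomputable def φ : (Fin r → PS) →ₗ[PS] Ω[PS⁄k] :=
  Fintype.linearCombination PS (fun i => D k PS (MvPowerSeries.X i))

/-- The map `Ω → A^r` given by the partial derivatives. -/
noncomputable def ψ : Ω[PS⁄k] →ₗ[PS] (Fin r → PS) :=
  LinearMap.pi fun j => (MvPowerSeries.pderiv k j).liftKaehlerDifferential

theorem ψ_comp_φ : ψ k r ∘ₗ φ k r = LinearMap.id := by
  classical
  refine LinearMap.ext fun a => funext fun j => ?_
  simp only [ψ, φ, LinearMap.comp_apply, LinearMap.pi_apply, LinearMap.id_apply,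
    Fintype.linearCombination_apply, map_sum, map_smul, Derivation.liftKaehlerDifferential_comp_D,
    MvPowerSeries.pderiv_X, smul_eq_mul]
  rw [Finset.sum_eq_single j]
  · simp
  · intro i _ hij
    rw [Pi.single_eq_of_ne hij, mul_zero]
  · simp

theorem D_mem (n : ℕ) (f : PS) :
    D k PS f ∈ LinearMap.range (φ k r) ⊔ (maximalIdeal PS ^ n • ⊤ : Submodule PS (Ω[PS⁄k])) := by
  classical
  set Nn := LinearMap.range (φ k r) ⊔ (maximalIdeal PS ^ n • ⊤ : Submodule PS (Ω[PS⁄k])) with hNn
  let T : Subalgebra k PS :=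
    { carrier := {f | D k PS f ∈ Nn}
      mul_mem' := fun {a b} ha hb => by
        change D k PS (a * b) ∈ Nn
        rw [Derivation.leibniz]
        exact Nn.add_mem (Nn.smul_mem _ hb) (Nn.smul_mem _ ha)
      add_mem' := fun {a b} ha hb => by
        change D k PS (a + b) ∈ Nn
        rw [map_add]; exact Nn.add_mem ha hb
      algebraMap_mem' := fun c => by
        change D k PS (algebraMap k PS c) ∈ Nn
        rw [Derivation.map_algebraMap]; exact Nn.zero_mem }
  have hX : Set.range (MvPowerSeries.X : Fin r → PS) ⊆ T := by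
    rintro _ ⟨i, rfl⟩
    change D k PS (MvPowerSeries.X i) ∈ Nn
    refine Submodule.mem_sup_left ⟨Pi.single i 1, ?_⟩
    simp [φ, Fintype.linearCombination_apply, Pi.single_apply]
  obtain ⟨s, hs, hfs⟩ := exists_adjoin_sub_mem k r (n + 1) f
  have h1 : D k PS s ∈ Nn := Algebra.adjoin_le hX hs
  have h2 : D k PS (f - s) ∈ Nn := Submodule.mem_sup_right (D_mem_pow_smul_top _ n hfs)
  have : D k PS f = D k PS s + D k PS (f - s) := by rw [← map_add]; congr 1; ring
  rw [this]; exact Nn.add_mem h1 h2

theorem dense (n : ℕ) (ω : Ω[PS⁄k]) :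
    ∃ a : Fin r → PS, ω - φ k r a ∈ (maximalIdeal PS ^ n • ⊤ : Submodule PS (Ω[PS⁄k])) := by
  have htop : LinearMap.range (φ k r) ⊔ (maximalIdeal PS ^ n • ⊤ : Submodule PS (Ω[PS⁄k])) = ⊤ := by
    rw [eq_top_iff]
    calc (⊤ : Submodule PS (Ω[PS⁄k])) = Submodule.span PS (Set.range (D k PS)) :=
          (KaehlerDifferential.span_range_derivation k PS).symm
      _ ≤ _ := by
          rw [Submodule.span_le]
          rintro _ ⟨f, rfl⟩
          exact D_mem k r n f
  have hω : ω ∈ LinearMap.range (φ k r) ⊔ (maximalIdeal PS ^ n • ⊤ : Submodule PS (Ω[PS⁄k])) := by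
    rw [htop]; exact Submodule.mem_top
  obtain ⟨_, ⟨a, rfl⟩, e, he, rfl⟩ := Submodule.mem_sup.mp hω
  exact ⟨a, by simpa using he⟩


instance isAdicComplete_maximalIdeal : IsAdicComplete (maximalIdeal PS) PS := by
  rw [maximalIdeal_eq]; infer_instance

/-- The completed module of differentials is free on the `dX_i`. -/
noncomputable def equiv :
    (Fin r → PS) ≃ₗ[PS] AdicCompletion (maximalIdeal PS) (Ω[PS⁄k]) :=
  let e1 : AdicCompletion (maximalIdeal PS) (Fin r → PS) ≃ₗ[PS]
      AdicCompletion (maximalIdeal PS) (Ω[PS⁄k]) :=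
    LinearEquiv.ofBijective ((AdicCompletion.map (maximalIdeal PS) (φ k r)).restrictScalars PS)
      (map_bijective_of_retract (maximalIdeal PS) (φ k r) (ψ k r) (ψ_comp_φ k r) (dense k r))
  let e2 : AdicCompletion (maximalIdeal PS) (Fin r → PS) ≃ₗ[PS] (Fin r → PS) :=
    ((AdicCompletion.piEquivFin (maximalIdeal PS) r).restrictScalars PS).trans
      (LinearEquiv.piCongrRight fun _ => (AdicCompletion.ofLinearEquiv (maximalIdeal PS) PS).symm)
  e2.symm.trans e1

theorem main :
    Module.Finite PS (AdicCompletion (maximalIdeal PS) (Ω[PS⁄k])) ∧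
    Module.Free PS (AdicCompletion (maximalIdeal PS) (Ω[PS⁄k])) ∧
    Module.finrank PS (AdicCompletion (maximalIdeal PS) (Ω[PS⁄k])) = r := by
  refine ⟨Module.Finite.equiv (equiv k r), Module.Free.of_equiv (equiv k r), ?_⟩
  rw [← (equiv k r).finrank_eq, Module.finrank_fin_fun]

end PowSer

end Groth.Agent.Lib.Helper52.PSKaehler
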