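import Mathlib
import Groth.Agent.S0544
import Groth.Agent.Lib.Helper38.ComplNorm
import Groth.Agent.Lib.Helper61.PSEval2
import Groth.Agent.Lib.Helper61.CompleteLE
import Groth.Agent.Lib.Helper61.MvPSComplete
import Groth.Agent.Lib.Helper52.PSKaehler

/-!
# Power series normalisations of complete local `k`-algebras with finite residue field

* `exists_sop_avoiding`: a family of `N ≥ dim R` elements of `𝔪 \ p` generating an `𝔪`-primary
  ideal.
* `finite_quotient`: `R ⧸ J` is finite over `k` when `J` is `𝔪`-primary and `κ` is finite over `k`.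
* `exists_finite_map`: the map `k[[T]] → A`, `T_i ↦ x_i` exists, is finite and local.
* `injective_of_dim`: it is injective when `A` is a domain of dimension at least `N`.
-/

namespace Groth.Agent.Lib.Helper52.CompDiffNorm

open IsLocalRing

universe u

section Sop

theorem exists_sop_avoiding (R : Type*) [CommRing R] [IsLocalRing R] [IsNoetherianRing R]
    (p : Ideal R) [p.IsPrime] (hp : p ≠ maximalIdeal R) (N : ℕ) (hN : ringKrullDim R ≤ N) :
    ∃ x : Fin N → R, (∀ i, x i ∈ maximalIdeal R ∧ x i ∉ p) ∧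
      ∃ j : ℕ, maximalIdeal R ^ j ≤ Ideal.span (Set.range x) := by
  classical
  obtain ⟨n, y, hn, hym, j, hj⟩ := Groth.Agent.Lib.Helper38.ComplNorm.exists_sop R
  have hnN : n ≤ N := by exact_mod_cast hn.trans hN
  have hex : ∃ i₀, y i₀ ∉ p := by
    by_contra hcon
    push Not at hcon
    have h1 : Ideal.span (Set.range y) ≤ p := by
      rw [Ideal.span_le]; rintro _ ⟨i, rfl⟩; exact hcon i
    have h2 : maximalIdeal R ≤ p := Ideal.IsPrime.le_of_pow_le (hj.trans h1)
    exact hp (le_antisymm (le_maximalIdeal Ideal.IsPrime.ne_top') h2)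
  obtain ⟨i₀, hi₀⟩ := hex
  let x : Fin N → R := fun i => if h : (i : ℕ) < n then
      (if y ⟨i, h⟩ ∈ p then y ⟨i, h⟩ + y i₀ else y ⟨i, h⟩) else y i₀
  refine ⟨x, fun i => ?_, j, hj.trans ?_⟩
  · simp only [x]
    split_ifs with h1 h2
    · exact ⟨Ideal.add_mem _ (hym _) (hym _),
        fun h => hi₀ ((Ideal.add_mem_iff_right _ h2).mp h)⟩
    · exact ⟨hym _, h2⟩
    · exact ⟨hym _, hi₀⟩
  · rw [Ideal.span_le]
    rintro _ ⟨i, rfl⟩
    have hi₀x : y i₀ ∈ Ideal.span (Set.range x) := by
      have : x ⟨i₀, lt_of_lt_of_le i₀.2 hnN⟩ = y i₀ := by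
        simp only [x]; rw [dif_pos i₀.2, if_neg hi₀]
      rw [← this]; exact Ideal.subset_span ⟨_, rfl⟩
    by_cases hyi : y i ∈ p
    · have : x ⟨i, lt_of_lt_of_le i.2 hnN⟩ = y i + y i₀ := by
        simp only [x]; rw [dif_pos i.2, if_pos hyi]
      have h3 : y i = x ⟨i, lt_of_lt_of_le i.2 hnN⟩ - y i₀ := by rw [this]; ring
      rw [SetLike.mem_coe, h3]
      exact Ideal.sub_mem _ (Ideal.subset_span ⟨_, rfl⟩) hi₀x
    · have : x ⟨i, lt_of_lt_of_le i.2 hnN⟩ = y i := by
        simp only [x]; rw [dif_pos i.2, if_neg hyi]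
      rw [← this]; exact Ideal.subset_span ⟨_, rfl⟩

end Sop

section FiniteK

variable {k R : Type*} [Field k] [CommRing R] [Algebra k R] [IsLocalRing R] [IsNoetherianRing R]
  [Module.Finite k (ResidueField R)]

omit [IsNoetherianRing R] in
/-- A finitely generated `k`-subspace of `R` surjecting onto the residue field. -/
theorem exists_fg_residue : ∃ F₀ : Submodule k R, F₀.FG ∧
    ∀ r : R, ∃ f ∈ F₀, r - f ∈ maximalIdeal R := by
  classical
  obtain ⟨S, hS⟩ := (Module.Finite.fg_top : (⊤ : Submodule k (ResidueField R)).FG)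
  let l : ResidueField R → R := Function.surjInv residue_surjective
  have hl : ∀ e, residue R (l e) = e := Function.surjInv_eq residue_surjective
  let ρ : R →ₗ[k] ResidueField R := (IsScalarTower.toAlgHom k R (ResidueField R)).toLinearMap
  have hρ : ∀ r, ρ r = residue R r := fun r => rfl
  refine ⟨Submodule.span k (l '' (S : Set (ResidueField R))),
    Submodule.fg_span (S.finite_toSet.image l), fun r => ?_⟩
  have hmap : Submodule.map ρ (Submodule.span k (l '' (S : Set (ResidueField R)))) = ⊤ := by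
    rw [Submodule.map_span, Set.image_image]
    have : (fun e => ρ (l e)) '' (S : Set (ResidueField R)) = (S : Set (ResidueField R)) := by
      simp only [hρ, hl, Set.image_id']
    rw [this, hS]
  have hr : ρ r ∈ Submodule.map ρ (Submodule.span k (l '' (S : Set (ResidueField R)))) := by
    rw [hmap]; trivial
  obtain ⟨f, hf, hfr⟩ := hr
  refine ⟨f, hf, ?_⟩
  rw [← residue_eq_zero_iff, map_sub, sub_eq_zero, ← hρ, ← hρ, hfr]

theorem exists_fg_sup_of_finite (L : Ideal R) :
    ∀ (N : ℕ) (K : Ideal R), (maximalIdeal R) ^ N * K ≤ L →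
      ∃ F : Submodule k R, F.FG ∧ K.restrictScalars k ≤ F ⊔ L.restrictScalars k := by
  classical
  obtain ⟨F₀, hF₀, hF₀r⟩ := exists_fg_residue (k := k) (R := R)
  intro N
  induction N with
  | zero =>
    intro K hK
    rw [pow_zero, one_mul] at hK
    exact ⟨⊥, Submodule.fg_bot, by rw [bot_sup_eq]; exact hK⟩
  | succ N ih =>
    intro K hK
    obtain ⟨s, hs⟩ := (IsNoetherian.noetherian K : K.FG)
    have h1 : (maximalIdeal R) ^ N * (maximalIdeal R * K) ≤ L := by
      rw [← mul_assoc, ← pow_succ]; exact hK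
    obtain ⟨F', hF', hKF'⟩ := ih (maximalIdeal R * K) h1
    refine ⟨F₀ * Submodule.span k (s : Set R) ⊔ F',
      (hF₀.mul (Submodule.fg_span s.finite_toSet)).sup hF', ?_⟩
    have h2 : K.restrictScalars k ≤
        F₀ * Submodule.span k (s : Set R) ⊔ (maximalIdeal R * K).restrictScalars k := by
      intro y hy
      have hy' : y ∈ Submodule.span R (s : Set R) := by rw [hs]; exact hy
      obtain ⟨c, -, rfl⟩ := Submodule.mem_span_finset.mp hy'
      refine Submodule.sum_mem _ fun x hx => ?_
      obtain ⟨f, hf, hfr⟩ := hF₀r (c x)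
      have hxK : x ∈ K := by rw [← hs]; exact Submodule.subset_span hx
      have hdecomp : c x • x = f * x + (c x - f) * x := by rw [smul_eq_mul]; ring
      rw [hdecomp]
      refine Submodule.add_mem_sup (Submodule.mul_mem_mul hf (Submodule.subset_span hx)) ?_
      exact Ideal.mul_mem_mul hfr hxK
    refine h2.trans ?_
    rw [sup_assoc]
    exact sup_le_sup_left hKF' _

theorem finite_quotient (J : Ideal R) (j : ℕ) (hJ : maximalIdeal R ^ j ≤ J) :
    Module.Finite k (R ⧸ J) := by
  obtain ⟨F, hF, hle⟩ := exists_fg_sup_of_finite (k := k) J j ⊤ (by rwa [Ideal.mul_top])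
  have hfinF : Module.Finite k F := Module.Finite.iff_fg.mpr hF
  let g : F →ₗ[k] R ⧸ J := (Ideal.Quotient.mkₐ k J).toLinearMap ∘ₗ F.subtype
  refine Module.Finite.of_surjective g ?_
  intro y
  obtain ⟨r, rfl⟩ := Ideal.Quotient.mk_surjective y
  have hr : r ∈ F ⊔ J.restrictScalars k := hle (show r ∈ (⊤ : Ideal R).restrictScalars k from trivial)
  obtain ⟨f, hf, l, hl, rfl⟩ := Submodule.mem_sup.mp hr
  refine ⟨⟨f, hf⟩, ?_⟩
  have hl0 : Ideal.Quotient.mk J l = 0 := Ideal.Quotient.eq_zero_iff_mem.mpr hl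
  rw [map_add, hl0, add_zero]
  rfl

end FiniteK

section Map

variable (k A : Type u) [Field k] [CommRing A] [IsLocalRing A] [IsNoetherianRing A] [Algebra k A]
  [IsAdicComplete (maximalIdeal A) A] [Module.Finite k (ResidueField A)]

open MvPowerSeries in
theorem exists_finite_map {N : ℕ} (x : Fin N → A) (hx : ∀ i, x i ∈ maximalIdeal A) (j : ℕ)
    (hj : maximalIdeal A ^ j ≤ Ideal.span (Set.range x)) :
    ∃ φ : MvPowerSeries (Fin N) k →ₐ[k] A, (∀ i, φ (MvPowerSeries.X i) = x i) ∧
      φ.toRingHom.Finite ∧ IsLocalHom φ.toRingHom := by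
  have hle : Ideal.span (Set.range x) ≤ maximalIdeal A := by
    rw [Ideal.span_le]; rintro _ ⟨i, rfl⟩; exact hx i
  have : IsAdicComplete (Ideal.span (Set.range x)) A :=
    Groth.Agent.Lib.Helper61.CompleteLE.isAdicComplete_of_le _ (maximalIdeal A) hle
      (IsNoetherian.noetherian _)
  obtain ⟨φ, hφ⟩ := Groth.Agent.Lib.Helper61.PSEval2.exists_eval_fin (k := k) x
  have hIL : (Ideal.span (Set.range (X : Fin N → MvPowerSeries (Fin N) k))).map φ.toRingHom =
      Ideal.span (Set.range x) := by
    rw [Ideal.map_span, ← Set.range_comp]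
    congr 1
    ext a
    simp only [Set.mem_range, Function.comp_apply]
    constructor
    · rintro ⟨i, rfl⟩; exact ⟨i, (hφ i).symm⟩
    · rintro ⟨i, rfl⟩; exact ⟨i, hφ i⟩
  refine ⟨φ, hφ, ?_, ?_⟩
  · let _ : Algebra (MvPowerSeries (Fin N) k) A := φ.toRingHom.toAlgebra
    have : IsScalarTower k (MvPowerSeries (Fin N) k) A :=
      IsScalarTower.of_algebraMap_eq (fun c => (φ.commutes c).symm)
    have hfink : Module.Finite k (A ⧸ Ideal.span (Set.range x)) := finite_quotient _ j hj
    have hfinP : Module.Finite (MvPowerSeries (Fin N) k) (A ⧸ Ideal.span (Set.range x)) :=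
      Module.Finite.of_restrictScalars_finite k (MvPowerSeries (Fin N) k) _
    have hH : IsHausdorff (Ideal.span (Set.range (X : Fin N → MvPowerSeries (Fin N) k))) A := by
      apply IsHausdorff.of_map (S := A) (J := maximalIdeal A)
      change (Ideal.span (Set.range (X : Fin N → MvPowerSeries (Fin N) k))).map φ.toRingHom ≤ _
      rw [hIL]
      exact hle
    have hq : Module.Finite (MvPowerSeries (Fin N) k)
        (A ⧸ (Ideal.span (Set.range (X : Fin N → MvPowerSeries (Fin N) k)) • ⊤ :
          Submodule (MvPowerSeries (Fin N) k) A)) := by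
      rw [Ideal.smul_top_eq_map]
      have key : ∀ J' : Ideal A, J' = Ideal.span (Set.range x) →
          Module.Finite (MvPowerSeries (Fin N) k)
            (A ⧸ Submodule.restrictScalars (MvPowerSeries (Fin N) k) J') := by
        rintro _ rfl
        exact Module.Finite.equiv (Submodule.Quotient.restrictScalarsEquiv
          (MvPowerSeries (Fin N) k) (Ideal.span (Set.range x))).symm
      exact key _ hIL
    exact Groth.Agent.S0544.result (MvPowerSeries (Fin N) k)
      (Ideal.span (Set.range (X : Fin N → MvPowerSeries (Fin N) k))) A hq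
  · refine ⟨fun a ha => ?_⟩
    rw [MvPowerSeries.isUnit_iff_constantCoeff, isUnit_iff_ne_zero]
    intro h0
    have hmem : a ∈ maximalIdeal (MvPowerSeries (Fin N) k) := by
      rw [mem_maximalIdeal, mem_nonunits_iff, MvPowerSeries.isUnit_iff_constantCoeff, h0]
      exact not_isUnit_zero
    rw [Groth.Agent.Lib.Helper52.PSKaehler.maximalIdeal_eq] at hmem
    have h1 : φ.toRingHom a ∈ Ideal.span (Set.range x) := by
      rw [← hIL]; exact Ideal.mem_map_of_mem _ hmem
    exact (mem_maximalIdeal _).mp (hle h1) ha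

omit [IsLocalRing A] [IsNoetherianRing A] [IsAdicComplete (maximalIdeal A) A]
  [Module.Finite k (ResidueField A)] in
theorem injective_of_dim [IsDomain A] {N : ℕ} (φ : MvPowerSeries (Fin N) k →ₐ[k] A)
    (hfin : φ.toRingHom.Finite) (hdim : (N : WithBot ℕ∞) ≤ ringKrullDim A) :
    Function.Injective φ := by
  rw [injective_iff_map_eq_zero]
  intro r hr
  by_contra hr0
  have hrnzd : r ∈ nonZeroDivisors (MvPowerSeries (Fin N) k) := mem_nonZeroDivisors_of_ne_zero hr0
  have h2 := ringKrullDim_quotient_succ_le_of_nonZeroDivisor hrnzd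
  have h3 := Groth.Agent.Lib.Helper38.ComplNorm.ringKrullDim_mvPowerSeries_le (Λ := k) N
  let ψ : (MvPowerSeries (Fin N) k ⧸ Ideal.span {r}) →+* A :=
    Ideal.Quotient.lift (Ideal.span {r}) φ.toRingHom (by
      intro a ha
      obtain ⟨c, rfl⟩ := Ideal.mem_span_singleton'.mp ha
      rw [map_mul]
      change _ * φ r = 0
      rw [hr, mul_zero])
  have hψfin : ψ.Finite := by
    apply RingHom.Finite.of_comp_finite (f := Ideal.Quotient.mk (Ideal.span {r}))
    have : ψ.comp (Ideal.Quotient.mk (Ideal.span {r})) = φ.toRingHom := by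
      ext a; rfl
    rw [this]
    exact hfin
  have h1 : ringKrullDim A ≤ ringKrullDim (MvPowerSeries (Fin N) k ⧸ Ideal.span {r}) := by
    let _ : Algebra (MvPowerSeries (Fin N) k ⧸ Ideal.span {r}) A := ψ.toAlgebra
    have : Module.Finite (MvPowerSeries (Fin N) k ⧸ Ideal.span {r}) A := hψfin
    exact Groth.Agent.Lib.Helper38.ComplNorm.ringKrullDim_le_of_integral _ A
  rw [ringKrullDim_eq_zero_of_field, zero_add] at h3
  have hchain : (N : WithBot ℕ∞) + 1 ≤ N :=
    calc (N : WithBot ℕ∞) + 1 ≤ ringKrullDim A + 1 := add_le_add hdim le_rfl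
      _ ≤ ringKrullDim (MvPowerSeries (Fin N) k ⧸ Ideal.span {r}) + 1 := add_le_add h1 le_rfl
      _ ≤ ringKrullDim (MvPowerSeries (Fin N) k) := h2
      _ ≤ N := h3
  have : ((N + 1 : ℕ) : WithBot ℕ∞) ≤ (N : ℕ) := by push_cast; exact hchain
  have : N + 1 ≤ N := by exact_mod_cast this
  omega

end Map

end Groth.Agent.Lib.Helper52.CompDiffNorm
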