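import Mathlib

/-!
# Finiteness of completed differentials

For a complete Noetherian local `k`-algebra `A` whose residue field is essentially of finite type
over `k`, the `𝔪`-adic completion of `Ω_{A/k}` is a finite `A`-module.
-/

namespace Groth.Agent.Lib.Helper52.CompDiff

open IsLocalRing KaehlerDifferential TensorProduct

section General

variable {R : Type*} [CommRing R] (I : Ideal R) [IsAdicComplete I R]

/-- For `R` complete, the completion of `R^n` is `R^n`. -/
noncomputable def piEquiv (n : ℕ) : AdicCompletion I (Fin n → R) ≃ₗ[R] (Fin n → R) :=
  ((AdicCompletion.piEquivFin I n).restrictScalars R).trans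
    (LinearEquiv.piCongrRight fun _ => (AdicCompletion.ofLinearEquiv I R).symm)

/-- Over an `I`-adically complete ring, if `M/IM` is finite then the completion of `M` is
finite. -/
theorem finite_adicCompletion_of_finite_quotient {M : Type*} [AddCommGroup M] [Module R M]
    [Module.Finite R (M ⧸ (I • ⊤ : Submodule R M))] : Module.Finite R (AdicCompletion I M) := by
  obtain ⟨n, f, hf⟩ := Module.Finite.exists_fin' R (M ⧸ (I • ⊤ : Submodule R M))
  obtain ⟨g, hg⟩ := Module.projective_lifting_property (Submodule.mkQ (I • ⊤ : Submodule R M)) f
    (Submodule.mkQ_surjective _)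
  have hs : Function.Surjective (AdicCompletion.map I g) :=
    AdicCompletion.map_surjective_of_mkQ_comp_surjective (by rw [hg]; exact hf)
  have : Module.Finite R (AdicCompletion I (Fin n → R)) := Module.Finite.equiv (piEquiv I n).symm
  exact Module.Finite.of_surjective ((AdicCompletion.map I g).restrictScalars R) hs

end General

section Main

universe u

variable {k A : Type u} [Field k] [CommRing A] [IsLocalRing A] [IsNoetherianRing A] [Algebra k A]
  [Algebra.EssFiniteType k (ResidueField A)]

theorem finite_tensor : Module.Finite A (ResidueField A ⊗[A] Ω[A⁄k]) := by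
  have hsurj : Function.Surjective (algebraMap A (ResidueField A)) := residue_surjective
  let g : ResidueField A ⊗[A] Ω[A⁄k] →ₗ[A] Ω[ResidueField A⁄k] :=
    (mapBaseChange k A (ResidueField A)).restrictScalars A
  have hg : Function.Surjective g := mapBaseChange_surjective k A (ResidueField A) hsurj
  have : Module.Finite A (ResidueField A) := Module.Finite.of_surjective
    (Algebra.linearMap A (ResidueField A)) hsurj
  have : Module.Finite A (Ω[ResidueField A⁄k]) := Module.Finite.trans (ResidueField A) _
  rw [Module.finite_def]
  apply Submodule.fg_of_fg_map_of_fg_inf_ker g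
  · rw [Submodule.map_top, LinearMap.range_eq_top.mpr hg]
    exact Module.finite_def.mp inferInstance
  · rw [top_inf_eq]
    have : LinearMap.ker g = LinearMap.range (kerCotangentToTensor k A (ResidueField A)) := by
      rw [range_kerCotangentToTensor k A (ResidueField A) hsurj]; rfl
    rw [this, LinearMap.range_eq_map]
    have hcot : Module.Finite A (RingHom.ker (algebraMap A (ResidueField A))).Cotangent :=
      Module.Finite.of_surjective (Ideal.toCotangent _) (Ideal.toCotangent_surjective _)
    exact Submodule.FG.map _ (Module.finite_def.mp hcot)

theorem finite_quotient :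
    Module.Finite A (Ω[A⁄k] ⧸ (maximalIdeal A • ⊤ : Submodule A (Ω[A⁄k]))) := by
  have h2 : Module.Finite A ((A ⧸ maximalIdeal A) ⊗[A] Ω[A⁄k]) := finite_tensor (k := k) (A := A)
  exact Module.Finite.equiv (TensorProduct.quotTensorEquivQuotSMul (Ω[A⁄k]) (maximalIdeal A))

theorem main [IsAdicComplete (maximalIdeal A) A] :
    Module.Finite A (AdicCompletion (maximalIdeal A) (Ω[A⁄k])) := by
  have := finite_quotient (k := k) (A := A)
  exact finite_adicCompletion_of_finite_quotient (maximalIdeal A)

end Main

end Groth.Agent.Lib.Helper52.CompDiff
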