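import Mathlib
import Groth.Agent.Lib.Helper52.CompDiffFinite

/-!
# Generators of the localised completed differentials

For a complete Noetherian local `k`-algebra `A` with residue field finite over `k`:
* `Ω_{A/k} → Ω̂` is surjective (`of_surjective`);
* if `Ω̂_p` is generated by `M` elements and `x_1, …, x_M ∉ p`, there are units `u_i` with
  `d(u_i x_i)` generating `Ω̂_p` (`main`).
Also a general linear algebra lemma `exists_transversal_span`.
-/

namespace Groth.Agent.Lib.Helper52.CompDiffGen

open IsLocalRing KaehlerDifferential TensorProduct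

universe u

/-- Given `n ≥ dim V` nonempty spanning sets `S i`, one can choose `s i ∈ S i` spanning `V`. -/
theorem exists_transversal_span {K : Type*} [Field K] : ∀ (n : ℕ) {V : Type u} [AddCommGroup V]
    [Module K V] [FiniteDimensional K V] (_ : Module.finrank K V ≤ n) (S : Fin n → Set V)
    (_ : ∀ i, (S i).Nonempty) (_ : ∀ i, Submodule.span K (S i) = ⊤),
    ∃ s : Fin n → V, (∀ i, s i ∈ S i) ∧ Submodule.span K (Set.range s) = ⊤ := by
  intro n
  induction n with
  | zero =>
    intro V _ _ _ hn S _ _
    have h0 : Module.finrank K V = 0 := Nat.le_zero.mp hn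
    have hsub : Subsingleton V := Module.finrank_zero_iff.mp h0
    exact ⟨Fin.elim0, fun i => i.elim0, Subsingleton.elim _ _⟩
  | succ n ih =>
    intro V _ _ _ hn S hne hS
    by_cases hsub : Subsingleton V
    · choose s hs using hne
      exact ⟨s, hs, Subsingleton.elim _ _⟩
    · rw [not_subsingleton_iff_nontrivial] at hsub
      have hv : ∃ v ∈ S 0, v ≠ 0 := by
        by_contra hcon
        push Not at hcon
        have h1 : Submodule.span K (S 0) ≤ ⊥ := by
          rw [Submodule.span_le]
          intro v hv
          simp [hcon v hv]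
        rw [hS 0] at h1
        have h2 : (⊤ : Submodule K V) = ⊥ := le_bot_iff.mp h1
        obtain ⟨a, ha⟩ := exists_ne (0 : V)
        have : a ∈ (⊥ : Submodule K V) := h2 ▸ Submodule.mem_top
        exact ha ((Submodule.mem_bot K).mp this)
      obtain ⟨v, hvS, hv0⟩ := hv
      set L : Submodule K V := Submodule.span K {v} with hL
      have hfr : Module.finrank K (V ⧸ L) ≤ n := by
        have h1 := Submodule.finrank_quotient_add_finrank L
        have h2 : Module.finrank K L = 1 := finrank_span_singleton hv0
        omega
      let S' : Fin n → Set (V ⧸ L) := fun j => L.mkQ '' S j.succ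
      have hne' : ∀ j, (S' j).Nonempty := fun j => (hne j.succ).image _
      have hS' : ∀ j, Submodule.span K (S' j) = ⊤ := by
        intro j
        rw [← Submodule.map_span, hS j.succ, Submodule.map_top, Submodule.range_mkQ]
      obtain ⟨s', hs'mem, hs'span⟩ := ih hfr S' hne' hS'
      choose t htS ht using hs'mem
      refine ⟨Fin.cons v t, ?_, ?_⟩
      · intro i
        refine Fin.cases ?_ (fun j => ?_) i
        · simpa using hvS
        · simpa using htS j
      · set T := Submodule.span K (Set.range (Fin.cons v t : Fin (n + 1) → V)) with hT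
        have hLT : L ≤ T := by
          rw [hL, Submodule.span_le, Set.singleton_subset_iff]
          apply Submodule.subset_span
          exact ⟨0, by simp⟩
        have hmap : T.map L.mkQ = ⊤ := by
          rw [eq_top_iff, ← hs'span, Submodule.span_le]
          rintro _ ⟨j, rfl⟩
          rw [← ht j]
          apply Submodule.mem_map_of_mem
          apply Submodule.subset_span
          exact ⟨j.succ, by simp⟩
        rw [Submodule.map_mkQ_eq_top] at hmap
        rwa [sup_eq_right.mpr hLT] at hmap

section

variable {k A : Type u} [Field k] [CommRing A] [IsLocalRing A] [IsNoetherianRing A] [Algebra k A]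
  [IsAdicComplete (maximalIdeal A) A] [Module.Finite k (ResidueField A)]

theorem of_surjective :
    Function.Surjective (AdicCompletion.of (maximalIdeal A) (Ω[A⁄k])) := by
  have hfin : Module.Finite A (AdicCompletion (maximalIdeal A) (Ω[A⁄k])) := CompDiff.main
  rw [← LinearMap.range_eq_top, eq_top_iff]
  apply Submodule.le_of_le_smul_of_le_jacobson_bot (I := maximalIdeal A) Module.Finite.fg_top
  · exact IsLocalRing.maximalIdeal_le_jacobson _
  · intro z _
    obtain ⟨y, hy⟩ := Submodule.mkQ_surjective _ (AdicCompletion.eval (maximalIdeal A) (Ω[A⁄k]) 1 z)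
    have hker : z - AdicCompletion.of (maximalIdeal A) (Ω[A⁄k]) y ∈
        (maximalIdeal A ^ 1 • ⊤ : Submodule A (AdicCompletion (maximalIdeal A) (Ω[A⁄k]))) := by
      rw [AdicCompletion.pow_smul_top_eq_ker_eval (Ideal.fg_of_isNoetherianRing _),
        LinearMap.mem_ker, map_sub, sub_eq_zero, ← hy]
      simp
    rw [pow_one] at hker
    have : z = AdicCompletion.of (maximalIdeal A) (Ω[A⁄k]) y +
        (z - AdicCompletion.of (maximalIdeal A) (Ω[A⁄k]) y) := by abel
    rw [this]
    exact Submodule.add_mem_sup (LinearMap.mem_range_self _ _) hker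

end

section Main

variable {k A : Type u} [Field k] [CommRing A] [IsLocalRing A] [IsNoetherianRing A] [Algebra k A]
  [IsAdicComplete (maximalIdeal A) A] [Module.Finite k (ResidueField A)]

theorem main (p : Ideal A) [p.IsPrime] (M : ℕ)
    (hgen : ∃ s : Fin M → LocalizedModule p.primeCompl
      (AdicCompletion (maximalIdeal A) (Ω[A⁄k])),
      Submodule.span (Localization.AtPrime p) (Set.range s) = ⊤)
    (x : Fin M → A) (hx : ∀ i, x i ∉ p) :
    ∃ u : Fin M → Aˣ, Submodule.span (Localization.AtPrime p)
      (Set.range fun i => LocalizedModule.mkLinearMap p.primeCompl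
        (AdicCompletion (maximalIdeal A) (Ω[A⁄k]))
        (AdicCompletion.of (maximalIdeal A) (Ω[A⁄k]) (D k A ((u i : A) * x i)))) = ⊤ := by
  have hfinΩ : Module.Finite A (AdicCompletion (maximalIdeal A) (Ω[A⁄k])) := CompDiff.main
  have hfinN : Module.Finite (Localization.AtPrime p) (LocalizedModule p.primeCompl
      (AdicCompletion (maximalIdeal A) (Ω[A⁄k]))) :=
    Module.Finite.of_isLocalizedModule p.primeCompl
      (LocalizedModule.mkLinearMap p.primeCompl (AdicCompletion (maximalIdeal A) (Ω[A⁄k])))
  -- notation
  let Ap := Localization.AtPrime p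
  let N := LocalizedModule p.primeCompl (AdicCompletion (maximalIdeal A) (Ω[A⁄k]))
  let κ := ResidueField Ap
  let V := κ ⊗[Ap] N
  let φ : A →+* κ := (residue Ap).comp (algebraMap A Ap)
  let ι : N → V := fun n => (1 : κ) ⊗ₜ[Ap] n
  have ι_smul : ∀ (r : Ap) (n : N), ι (r • n) = residue Ap r • ι n := by
    intro r n
    show (1 : κ) ⊗ₜ[Ap] (r • n) = residue Ap r • ((1 : κ) ⊗ₜ[Ap] n)
    rw [TensorProduct.tmul_smul, TensorProduct.smul_tmul', TensorProduct.smul_tmul',
      Algebra.smul_def, smul_eq_mul]
    rfl
  have ι_add : ∀ a b, ι (a + b) = ι a + ι b := fun a b => TensorProduct.tmul_add _ _ _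
  have ι_zero : ι 0 = 0 := TensorProduct.tmul_zero _ _
  let T : Ω[A⁄k] → V := fun ω => ι (LocalizedModule.mkLinearMap p.primeCompl
    (AdicCompletion (maximalIdeal A) (Ω[A⁄k])) (AdicCompletion.of (maximalIdeal A) (Ω[A⁄k]) ω))
  have T_add : ∀ a b, T (a + b) = T a + T b := by
    intro a b
    show ι _ = ι _ + ι _
    rw [map_add, map_add, ι_add]
  have T_zero : T 0 = 0 := by
    show ι _ = 0
    rw [map_zero, map_zero, ι_zero]
  have T_smul : ∀ (a : A) ω, T (a • ω) = φ a • T ω := by
    intro a ω
    show ι _ = φ a • ι _
    rw [map_smul, map_smul, ← algebraMap_smul Ap a, ι_smul]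
    rfl
  -- span of ι N
  have span_of_ι : ∀ W : Submodule κ V, (∀ n, ι n ∈ W) → W = ⊤ := by
    intro W hW
    rw [eq_top_iff]
    rintro v -
    induction v using TensorProduct.induction_on with
    | zero => exact W.zero_mem
    | tmul c n =>
      have : c ⊗ₜ[Ap] n = c • ι n := by
        show c ⊗ₜ[Ap] n = c • ((1 : κ) ⊗ₜ[Ap] n)
        rw [TensorProduct.smul_tmul', smul_eq_mul, mul_one]
      rw [this]
      exact W.smul_mem _ (hW n)
    | add a b ha hb => exact W.add_mem ha hb
  have span_of_T : ∀ W : Submodule κ V, (∀ a, T (D k A a) ∈ W) → W = ⊤ := by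
    intro W hW
    apply span_of_ι
    have hT : ∀ ω, T ω ∈ W := by
      intro ω
      have hω : ω ∈ Submodule.span A (Set.range (D k A)) := by
        rw [KaehlerDifferential.span_range_derivation]; trivial
      induction hω using Submodule.span_induction with
      | mem y hy =>
        obtain ⟨a, rfl⟩ := hy
        exact hW a
      | zero => rw [T_zero]; exact W.zero_mem
      | add a b _ _ ha hb => rw [T_add]; exact W.add_mem ha hb
      | smul a y _ hy => rw [T_smul]; exact W.smul_mem _ hy
    intro n
    induction n using LocalizedModule.induction_on with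
    | h y s =>
      obtain ⟨ω, rfl⟩ := of_surjective (k := k) (A := A) y
      have : LocalizedModule.mk (AdicCompletion.of (maximalIdeal A) (Ω[A⁄k]) ω) s =
          (Localization.mk 1 s : Ap) • LocalizedModule.mkLinearMap p.primeCompl
            (AdicCompletion (maximalIdeal A) (Ω[A⁄k]))
            (AdicCompletion.of (maximalIdeal A) (Ω[A⁄k]) ω) := by
        rw [LocalizedModule.mkLinearMap_apply, LocalizedModule.mk_smul_mk, one_smul, mul_one]
      rw [this, ι_smul]
      exact W.smul_mem _ (hT ω)
  -- Leibniz
  have T_leib : ∀ a b : A, T (D k A (a * b)) = φ a • T (D k A b) + φ b • T (D k A a) := by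
    intro a b
    rw [Derivation.leibniz, T_add, T_smul, T_smul]
  have hfr : Module.finrank κ V ≤ M := by
    obtain ⟨s, hs⟩ := hgen
    have hspan : Submodule.span κ (Set.range fun i => ι (s i)) = ⊤ := by
      apply span_of_ι
      intro n
      have hn : n ∈ Submodule.span Ap (Set.range s) := by rw [hs]; trivial
      induction hn using Submodule.span_induction with
      | mem y hy =>
        obtain ⟨i, rfl⟩ := hy
        exact Submodule.subset_span ⟨i, rfl⟩
      | zero => rw [ι_zero]; exact Submodule.zero_mem _
      | add a b _ _ ha hb => rw [ι_add]; exact Submodule.add_mem _ ha hb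
      | smul a y _ hy => rw [ι_smul]; exact Submodule.smul_mem _ _ hy
    have h1 := finrank_range_le_card (R := κ) (fun i => ι (s i))
    rw [Set.finrank, hspan, finrank_top, Fintype.card_fin] at h1
    exact h1
  -- the spanning sets
  let S : Fin M → Set V := fun i => {v | ∃ u : Aˣ, v = T (D k A ((u : A) * x i))}
  have hne : ∀ i, (S i).Nonempty := fun i => ⟨_, 1, rfl⟩
  have hS : ∀ i, Submodule.span κ (S i) = ⊤ := by
    intro i
    apply span_of_T
    have hφx : φ (x i) ≠ 0 := by
      show residue Ap (algebraMap A Ap (x i)) ≠ 0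
      intro hmem
      rw [residue_eq_zero_iff] at hmem
      have hu : IsUnit (algebraMap A Ap (x i)) :=
        IsLocalization.map_units Ap (⟨x i, hx i⟩ : p.primeCompl)
      exact (IsLocalRing.mem_maximalIdeal _).mp hmem hu
    have hx_mem : T (D k A (x i)) ∈ Submodule.span κ (S i) := by
      apply Submodule.subset_span
      exact ⟨1, by simp⟩
    have hunit : ∀ u : Aˣ, T (D k A (u : A)) ∈ Submodule.span κ (S i) := by
      intro u
      have h1 : T (D k A ((u : A) * x i)) ∈ Submodule.span κ (S i) :=
        Submodule.subset_span ⟨u, rfl⟩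
      rw [T_leib] at h1
      have h2 : φ (x i) • T (D k A (u : A)) ∈ Submodule.span κ (S i) := by
        have := Submodule.sub_mem _ h1 (Submodule.smul_mem _ (φ (u : A)) hx_mem)
        simp at this
        exact this
      have := Submodule.smul_mem _ (φ (x i))⁻¹ h2
      rwa [smul_smul, inv_mul_cancel₀ hφx, one_smul] at this
    intro a
    by_cases ha : IsUnit a
    · exact hunit ha.unit
    · have h1 : IsUnit (1 + a) := by
        have hmem : a ∈ maximalIdeal A := (IsLocalRing.mem_maximalIdeal _).mpr ha
        by_contra h1
        have h2 : (1 + a) ∈ maximalIdeal A := (IsLocalRing.mem_maximalIdeal _).mpr h1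
        have : (1 : A) ∈ maximalIdeal A := by
          have := Ideal.sub_mem _ h2 hmem
          simp at this
        exact (Ideal.ne_top_iff_one _).mp (IsLocalRing.maximalIdeal.isMaximal A).ne_top this
      have h2 := hunit h1.unit
      rw [IsUnit.unit_spec, map_add, Derivation.map_one_eq_zero, zero_add] at h2
      exact h2
  obtain ⟨s, hs_mem, hs_span⟩ := exists_transversal_span (K := κ) M hfr S hne hS
  choose u hu using hs_mem
  refine ⟨u, ?_⟩
  rw [← IsLocalRing.map_tensorProduct_mk_eq_top, Submodule.map_span, ← Set.range_comp]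
  have hcomp : (⇑(TensorProduct.mk Ap κ N 1) ∘ fun i => LocalizedModule.mkLinearMap p.primeCompl
        (AdicCompletion (maximalIdeal A) (Ω[A⁄k]))
        (AdicCompletion.of (maximalIdeal A) (Ω[A⁄k]) (D k A ((u i : A) * x i)))) = s := by
    funext i
    exact (hu i).symm
  rw [hcomp, ← Submodule.restrictScalars_span Ap κ residue_surjective, hs_span,
    Submodule.restrictScalars_top]

end Main

end Groth.Agent.Lib.Helper52.CompDiffGen
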