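import Mathlib
import Groth.Agent.Lib.Helper52.CompDiffGen

/-!
# "Fullness" of a submodule at a prime

`Full p W` says that `W ≤ N` becomes everything after localising at `p`, expressed
elementarily.  We relate it to spans in `LocalizedModule`, to fibres `κ(p) ⊗ N`, and transport it
along surjections.
-/

namespace Groth.Agent.Lib.Helper52.CompDiffLocal

open TensorProduct

universe u

section Basic

variable {A : Type*} [CommRing A] {N : Type*} [AddCommGroup N] [Module A N]

/-- `W` is `p`-full in `N`: every element of `N` has a multiple by some `t ∉ p` lying in `W`. -/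
def Full (p : Ideal A) (W : Submodule A N) : Prop := ∀ ω : N, ∃ t : A, t ∉ p ∧ t • ω ∈ W

theorem Full.mono_prime {p p₀ : Ideal A} (h : p₀ ≤ p) {W : Submodule A N} (hW : Full p W) :
    Full p₀ W := fun ω => by
  obtain ⟨t, ht, htω⟩ := hW ω
  exact ⟨t, fun h' => ht (h h'), htω⟩

theorem Full.mono {p : Ideal A} {W W' : Submodule A N} (h : W ≤ W') (hW : Full p W) :
    Full p W' := fun ω => by
  obtain ⟨t, ht, htω⟩ := hW ω
  exact ⟨t, ht, h htω⟩

theorem full_iff_localized (p : Ideal A) [p.IsPrime] (W : Submodule A N) :
    Full p W ↔ W.localized' (Localization.AtPrime p) p.primeCompl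
      (LocalizedModule.mkLinearMap p.primeCompl N) = ⊤ := by
  constructor
  · intro h
    rw [eq_top_iff]
    intro z _
    obtain ⟨⟨ω, s⟩, rfl⟩ := IsLocalizedModule.mk'_surjective p.primeCompl
      (LocalizedModule.mkLinearMap p.primeCompl N) z
    obtain ⟨t, ht, htω⟩ := h ω
    refine ⟨t • ω, htω, ⟨t, ht⟩ * s, ?_⟩
    exact IsLocalizedModule.mk'_cancel_left (f := LocalizedModule.mkLinearMap p.primeCompl N)
      ω ⟨t, ht⟩ s
  · intro h ω
    have hmem : LocalizedModule.mkLinearMap p.primeCompl N ω ∈
        W.localized' (Localization.AtPrime p) p.primeCompl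
          (LocalizedModule.mkLinearMap p.primeCompl N) := by rw [h]; trivial
    obtain ⟨m, hm, s, hms⟩ := hmem
    rw [IsLocalizedModule.mk'_eq_iff, Submonoid.smul_def, ← map_smul] at hms
    obtain ⟨c, hc⟩ := (IsLocalizedModule.eq_iff_exists p.primeCompl
      (LocalizedModule.mkLinearMap p.primeCompl N)).mp hms
    refine ⟨(c * s : p.primeCompl), (c * s).2, ?_⟩
    have : ((c * s : p.primeCompl) : A) • ω = (c : A) • m := by
      rw [Submonoid.coe_mul, mul_smul]
      exact hc.symm
    rw [this]
    exact W.smul_mem _ hm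

theorem full_span_iff (p : Ideal A) [p.IsPrime] {ι : Type*} (v : ι → N) :
    Full p (Submodule.span A (Set.range v)) ↔
      Submodule.span (Localization.AtPrime p)
        (Set.range fun i => LocalizedModule.mkLinearMap p.primeCompl N (v i)) = ⊤ := by
  rw [full_iff_localized, Submodule.localized'_span, ← Set.range_comp]
  rfl

/-- Transport of fullness along a surjection. -/
theorem Full.map {B : Type*} [CommRing B] [Algebra A B] {N' : Type*} [AddCommGroup N']
    [Module A N'] [Module B N'] [IsScalarTower A B N'] (σ : N →ₗ[A] N')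
    (hσ : Function.Surjective σ) {p : Ideal A} {p' : Ideal B}
    (hp : p'.comap (algebraMap A B) ≤ p) {W : Submodule A N} {W' : Submodule B N'}
    (hW' : ∀ w ∈ W, σ w ∈ W') (hW : Full p W) : Full p' W' := by
  intro ω'
  obtain ⟨ω, rfl⟩ := hσ ω'
  obtain ⟨t, ht, htω⟩ := hW ω
  refine ⟨algebraMap A B t, fun h => ht (hp h), ?_⟩
  rw [algebraMap_smul, ← map_smul]
  exact hW' _ htω

end Basic

section Fibre

variable {A : Type u} [CommRing A] {N : Type u} [AddCommGroup N] [Module A N] [Module.Finite A N]

/-- Nakayama: a family spanning the fibre at `p` spans the localisation at `p`. -/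
theorem full_of_fibre (p : Ideal A) [p.IsPrime] {ι : Type*} (v : ι → N)
    (h : Submodule.span p.ResidueField
      (Set.range fun i => (1 : p.ResidueField) ⊗ₜ[A] v i) = ⊤) :
    Full p (Submodule.span A (Set.range v)) := by
  set W := Submodule.span A (Set.range v) with hW
  -- the quotient has trivial fibre
  have hsub : Subsingleton (p.ResidueField ⊗[A] (N ⧸ W)) := by
    have hsurj : Function.Surjective (LinearMap.baseChange p.ResidueField W.mkQ) := by
      rw [LinearMap.baseChange_eq_ltensor]
      exact LinearMap.lTensor_surjective _ W.mkQ_surjective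
    have hzero : LinearMap.baseChange p.ResidueField W.mkQ = 0 := by
      apply LinearMap.ext_on_range h
      intro i
      rw [LinearMap.baseChange_tmul, LinearMap.zero_apply]
      have : W.mkQ (v i) = 0 := by
        rw [Submodule.mkQ_apply, Submodule.Quotient.mk_eq_zero]
        exact Submodule.subset_span ⟨i, rfl⟩
      rw [this, tmul_zero]
    refine ⟨fun a b => ?_⟩
    obtain ⟨a', rfl⟩ := hsurj a
    obtain ⟨b', rfl⟩ := hsurj b
    rw [hzero]; rfl
  have hsupp : (⟨p, inferInstance⟩ : PrimeSpectrum A) ∉ Module.support A (N ⧸ W) := by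
    rw [Module.mem_support_iff_nontrivial_residueField_tensorProduct]
    exact not_nontrivial_iff_subsingleton.mpr hsub
  rw [Module.notMem_support_iff'] at hsupp
  intro ω
  obtain ⟨t, ht, htω⟩ := hsupp (W.mkQ ω)
  refine ⟨t, ht, ?_⟩
  rw [← map_smul, Submodule.mkQ_apply, Submodule.Quotient.mk_eq_zero] at htω
  exact htω

/-- A family of `finrank` elements of `N` whose images span the fibre at `p`. -/
theorem exists_fibre_family (p : Ideal A) [p.IsPrime] :
    ∃ v : Fin (Module.finrank p.ResidueField (p.ResidueField ⊗[A] N)) → N,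
      Submodule.span p.ResidueField
        (Set.range fun i => (1 : p.ResidueField) ⊗ₜ[A] v i) = ⊤ := by
  set S : Set (p.ResidueField ⊗[A] N) := Set.range fun n : N => (1 : p.ResidueField) ⊗ₜ[A] n
    with hS
  have hSspan : Submodule.span p.ResidueField S = ⊤ := by
    rw [eq_top_iff]
    rintro z -
    induction z using TensorProduct.induction_on with
    | zero => exact Submodule.zero_mem _
    | tmul a n =>
      have : a ⊗ₜ[A] n = a • ((1 : p.ResidueField) ⊗ₜ[A] n) := by
        rw [TensorProduct.smul_tmul', smul_eq_mul, mul_one]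
      rw [this]
      exact Submodule.smul_mem _ _ (Submodule.subset_span ⟨n, rfl⟩)
    | add x y hx hy => exact Submodule.add_mem _ hx hy
  obtain ⟨s, hs, hspan⟩ := CompDiffGen.exists_transversal_span
    (Module.finrank p.ResidueField (p.ResidueField ⊗[A] N)) le_rfl (fun _ => S)
    (fun _ => ⟨_, ⟨0, rfl⟩⟩) (fun _ => hSspan)
  choose v hv using hs
  refine ⟨v, ?_⟩
  have : (fun i => (1 : p.ResidueField) ⊗ₜ[A] v i) = s := funext hv
  rw [this]
  exact hspan

end Fibre

end Groth.Agent.Lib.Helper52.CompDiffLocal
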