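import Mathlib
import Groth.Agent.Lib.Helper52.PSKaehler
import Groth.Agent.Lib.Helper52.CompDiffGen

/-!
# Rank of completed differentials of a finite generically separable extension of `k[[T]]`
-/

set_option linter.unusedSectionVars false

namespace Groth.Agent.Lib.Helper52.CompDiffRank

open IsLocalRing KaehlerDifferential TensorProduct

universe u

section PowSer

variable (k : Type u) [Field k] (r : ℕ)

local notation "PS" => MvPowerSeries (Fin r) k

open Groth.Agent.Lib.Helper52.PSKaehler

/-- Every differential of `k[[T]]` is congruent to `Σ (∂_j ω) dT_j` modulo any power of `𝔪`. -/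
theorem sub_mem (n : ℕ) (ω : Ω[PS⁄k]) :
    ω - φ k r (ψ k r ω) ∈ (maximalIdeal PS ^ n • ⊤ : Submodule PS (Ω[PS⁄k])) := by
  obtain ⟨a, ha⟩ := dense k r n ω
  have h1 : ψ k r (ω - φ k r a) ∈ (maximalIdeal PS ^ n • ⊤ : Submodule PS (Fin r → PS)) :=
    map_mem_pow_smul_top (maximalIdeal PS) (ψ k r) n ha
  have h2 : φ k r (ψ k r (ω - φ k r a)) ∈ (maximalIdeal PS ^ n • ⊤ : Submodule PS (Ω[PS⁄k])) :=
    map_mem_pow_smul_top (maximalIdeal PS) (φ k r) n h1
  have h3 : ψ k r (φ k r a) = a := LinearMap.congr_fun (ψ_comp_φ k r) a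
  have : ω - φ k r (ψ k r ω) = (ω - φ k r a) - φ k r (ψ k r (ω - φ k r a)) := by
    rw [map_sub, map_sub, h3]; abel
  rw [this]
  exact Submodule.sub_mem _ ha h2

end PowSer

section Resid

variable (k : Type u) [Field k] (r : ℕ) (A : Type u) [CommRing A] [IsLocalRing A]
  [Algebra (MvPowerSeries (Fin r) k) A] [Algebra k A]
  [IsScalarTower k (MvPowerSeries (Fin r) k) A]

local notation "PS" => MvPowerSeries (Fin r) k

theorem algebraMap_mem_maximalIdeal [Module.Finite (MvPowerSeries (Fin r) k) A] (g : PS) (hg : g ∈ maximalIdeal PS) :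
    algebraMap PS A g ∈ maximalIdeal A := by
  have hint : Algebra.IsIntegral PS A := Algebra.IsIntegral.of_finite PS A
  have hmax : ((maximalIdeal A).comap (algebraMap PS A)).IsMaximal :=
    Ideal.isMaximal_comap_of_isIntegral_of_isMaximal (maximalIdeal A)
  have : (maximalIdeal A).comap (algebraMap PS A) = maximalIdeal PS := eq_maximalIdeal hmax
  have h2 : g ∈ (maximalIdeal A).comap (algebraMap PS A) := by rw [this]; exact hg
  exact h2

theorem finite_residueField [Module.Finite (MvPowerSeries (Fin r) k) A] :
    Module.Finite k (ResidueField A) := by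
  have h1 : Module.Finite A (ResidueField A) :=
    Module.Finite.of_surjective (Algebra.linearMap A (ResidueField A)) residue_surjective
  have h2 : Module.Finite PS (ResidueField A) := Module.Finite.trans A _
  obtain ⟨G, hG⟩ := (Module.Finite.fg_top : (⊤ : Submodule PS (ResidueField A)).FG)
  refine ⟨⟨G, ?_⟩⟩
  let S' : Submodule PS (ResidueField A) :=
    { carrier := Submodule.span k (G : Set (ResidueField A))
      add_mem' := fun ha hb => Submodule.add_mem _ ha hb
      zero_mem' := Submodule.zero_mem _
      smul_mem' := fun f x hx => by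
        have hsplit : f = MvPowerSeries.C (MvPowerSeries.constantCoeff f) +
            (f - MvPowerSeries.C (MvPowerSeries.constantCoeff f)) := by ring
        have hgm : f - MvPowerSeries.C (MvPowerSeries.constantCoeff f) ∈ maximalIdeal PS := by
          rw [mem_maximalIdeal, mem_nonunits_iff, MvPowerSeries.isUnit_iff_constantCoeff]
          simp
        have h0 : (f - MvPowerSeries.C (MvPowerSeries.constantCoeff f)) • x = 0 := by
          rw [Algebra.smul_def, IsScalarTower.algebraMap_apply PS A (ResidueField A)]
          have := algebraMap_mem_maximalIdeal k r A _ hgm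
          rw [show algebraMap A (ResidueField A) = residue A from rfl,
            (residue_eq_zero_iff _).mpr this, zero_mul]
        have h1 : (MvPowerSeries.C (MvPowerSeries.constantCoeff f) : PS) • x =
            (MvPowerSeries.constantCoeff f : k) • x := by
          have : (MvPowerSeries.C (MvPowerSeries.constantCoeff f) : PS) =
              algebraMap k PS (MvPowerSeries.constantCoeff f) := rfl
          rw [this, algebraMap_smul]
        change f • x ∈ Submodule.span k (G : Set (ResidueField A))
        rw [hsplit, add_smul, h0, add_zero, h1]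
        exact Submodule.smul_mem _ _ hx }
  have hle : Submodule.span PS (G : Set (ResidueField A)) ≤ S' :=
    Submodule.span_le.mpr (fun x hx => Submodule.subset_span hx)
  rw [eq_top_iff]
  intro y _
  have : y ∈ S' := hle (by rw [hG]; exact Submodule.mem_top)
  exact this

end Resid

section Etale

variable (k : Type u) [Field k] (r : ℕ) (A : Type u) [CommRing A] [IsDomain A]
  [Algebra (MvPowerSeries (Fin r) k) A]

local notation "PS" => MvPowerSeries (Fin r) k

theorem algebraMap_fractionRing_injective (hinj : Function.Injective (algebraMap PS A)) :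
    Function.Injective (algebraMap PS (FractionRing A)) := by
  rw [IsScalarTower.algebraMap_eq PS A (FractionRing A)]
  exact (IsFractionRing.injective A (FractionRing A)).comp hinj

/-- `Frac A` is formally étale over `k[[T]]`. -/
theorem formallyEtale (hinj : Function.Injective (algebraMap PS A))
    (hsep : ∀ a : A, ∃ P : Polynomial PS, Polynomial.aeval a P = 0 ∧
      (P.map (algebraMap PS (FractionRing PS))).Separable) :
    Algebra.FormallyEtale PS (FractionRing A) := by
  have hinjE := algebraMap_fractionRing_injective k r A hinj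
  have : FaithfulSMul PS (FractionRing A) := (faithfulSMul_iff_algebraMap_injective PS _).mpr hinjE
  let _ : Algebra (FractionRing PS) (FractionRing A) := FractionRing.liftAlgebra PS (FractionRing A)
  have : IsScalarTower PS (FractionRing PS) (FractionRing A) :=
    FractionRing.isScalarTower_liftAlgebra PS _
  have hA : ∀ a : A, algebraMap A (FractionRing A) a ∈
      separableClosure (FractionRing PS) (FractionRing A) := by
    intro a
    rw [mem_separableClosure_iff]
    obtain ⟨P, hP0, hPsep⟩ := hsep a
    have hdvd : minpoly (FractionRing PS) (algebraMap A (FractionRing A) a) ∣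
        P.map (algebraMap PS (FractionRing PS)) := by
      apply minpoly.dvd
      rw [Polynomial.aeval_map_algebraMap, Polynomial.aeval_algebraMap_apply, hP0, map_zero]
    exact hPsep.of_dvd hdvd
  have hmem : ∀ x : FractionRing A, x ∈ separableClosure (FractionRing PS) (FractionRing A) := by
    intro x
    obtain ⟨a, s, -, rfl⟩ := IsFractionRing.div_surjective (A := A) x
    exact div_mem (hA a) (hA s)
  have hsepE : Algebra.IsSeparable (FractionRing PS) (FractionRing A) :=
    ⟨fun x => mem_separableClosure_iff.mp (hmem x)⟩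
  have h1 : Algebra.FormallyEtale (FractionRing PS) (FractionRing A) :=
    Algebra.FormallyEtale.of_isSeparable _ _
  have h2 : Algebra.FormallyEtale PS (FractionRing PS) :=
    Algebra.FormallyEtale.of_isLocalization (nonZeroDivisors PS)
  exact Algebra.FormallyEtale.comp PS (FractionRing PS) (FractionRing A)

end Etale

section Main

variable (k : Type u) [Field k] (r : ℕ) (A : Type u) [CommRing A]
    [IsDomain A] [IsLocalRing A] [IsNoetherianRing A] [IsAdicComplete (maximalIdeal A) A]
    [Algebra (MvPowerSeries (Fin r) k) A] [Algebra k A]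
    [IsScalarTower k (MvPowerSeries (Fin r) k) A]
    [Module.Finite (MvPowerSeries (Fin r) k) A] [Module.Finite k (ResidueField A)]

local notation "PS" => MvPowerSeries (Fin r) k
local notation "E" => FractionRing A
local notation "Ωh" => AdicCompletion (maximalIdeal A) (Ω[A⁄k])

open Groth.Agent.Lib.Helper52.PSKaehler

/-- The completion map. -/
noncomputable abbrev c : Ω[A⁄k] →ₗ[A] Ωh := AdicCompletion.of (maximalIdeal A) (Ω[A⁄k])

theorem c_surjective : Function.Surjective (c k A) :=
  Groth.Agent.Lib.Helper52.CompDiffGen.of_surjective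

/-- `Ω_{k[[T]]/k} → Ω_{A/k}`. -/
noncomputable abbrev μ : Ω[PS⁄k] →ₗ[PS] Ω[A⁄k] := KaehlerDifferential.map k k PS A

/-- The images of the variables. -/
noncomputable abbrev T (j : Fin r) : A := algebraMap PS A (MvPowerSeries.X j)

theorem μ_mem (n : ℕ) (ω : Ω[PS⁄k])
    (hω : ω ∈ (maximalIdeal PS ^ n • ⊤ : Submodule PS (Ω[PS⁄k]))) :
    μ k r A ω ∈ (maximalIdeal A ^ n • ⊤ : Submodule A (Ω[A⁄k])) := by
  have hle : (maximalIdeal PS ^ n).map (algebraMap PS A) ≤ maximalIdeal A ^ n := by
    rw [Ideal.map_pow]
    apply Ideal.pow_right_mono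
    rw [Ideal.map_le_iff_le_comap]
    intro g hg
    exact algebraMap_mem_maximalIdeal k r A g hg
  refine Submodule.smul_induction_on hω (fun x hx ω _ => ?_) (fun x y hx hy => ?_)
  · rw [map_smul, ← algebraMap_smul A x (μ k r A ω)]
    exact Submodule.smul_mem_smul (hle (Ideal.mem_map_of_mem _ hx)) Submodule.mem_top
  · rw [map_add]; exact Submodule.add_mem _ hx hy

theorem μ_φ (a : Fin r → PS) :
    μ k r A (φ k r a) = ∑ j, algebraMap PS A (a j) • D k A (T k r A j) := by
  simp only [φ, Fintype.linearCombination_apply, map_sum, map_smul, KaehlerDifferential.map_D,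
    algebraMap_smul]

theorem finite_Ωh : Module.Finite A Ωh := Groth.Agent.Lib.Helper52.CompDiff.main

/-- Krull-type key lemma: a linear functional on `Ω̂` is determined on `d(k[[T]])` by its values
on the `dT_j`. -/
theorem apply_μ (g : Ωh →ₗ[A] E) (ω : Ω[PS⁄k]) :
    g (c k A (μ k r A ω)) =
      ∑ j, algebraMap PS A (ψ k r ω j) • g (c k A (D k A (T k r A j))) := by
  have hfinΩ : Module.Finite A Ωh := finite_Ωh k A
  have hF : Module.Finite A (LinearMap.range g) := Module.Finite.range g
  have key : ∀ δ : Ω[A⁄k], (∀ n, δ ∈ (maximalIdeal A ^ n • ⊤ : Submodule A (Ω[A⁄k]))) →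
      g (c k A δ) = 0 := by
    intro δ hδ
    have h1 : (g.rangeRestrict.comp (c k A)) δ ∈
        (⨅ n : ℕ, maximalIdeal A ^ n • ⊤ : Submodule A (LinearMap.range g)) := by
      rw [Submodule.mem_iInf]
      intro n
      exact map_mem_pow_smul_top (maximalIdeal A) (g.rangeRestrict.comp (c k A)) n (hδ n)
    rw [Ideal.iInf_pow_smul_eq_bot_of_isLocalRing (maximalIdeal A)
      (Ideal.IsPrime.ne_top inferInstance), Submodule.mem_bot] at h1
    have := congrArg Subtype.val h1
    simpa using this
  have h2 := key (μ k r A (ω - φ k r (ψ k r ω))) (fun n => μ_mem k r A n _ (sub_mem k r n ω))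
  rw [map_sub, map_sub, map_sub, sub_eq_zero] at h2
  rw [h2, μ_φ]
  simp only [map_sum, map_smul]

theorem map_μ (ω : Ω[PS⁄k]) :
    KaehlerDifferential.map k k A E (μ k r A ω) = KaehlerDifferential.map k k PS E ω := by
  have hω : ω ∈ Submodule.span PS (Set.range (D k PS)) := by
    rw [KaehlerDifferential.span_range_derivation]; exact Submodule.mem_top
  induction hω using Submodule.span_induction with
  | mem x hx =>
    obtain ⟨f, rfl⟩ := hx
    rw [KaehlerDifferential.map_D, KaehlerDifferential.map_D, KaehlerDifferential.map_D,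
      ← IsScalarTower.algebraMap_apply]
  | zero => simp only [map_zero]
  | add x y _ _ hx hy => simp only [map_add, hx, hy]
  | smul a x _ hx =>
    rw [map_smul (μ k r A), LinearMap.map_smul_of_tower, hx, map_smul]

/-- Spanning: a functional on `Ω̂` killing the `dT_j` is zero. -/
theorem eq_zero_of_apply_T (hFE : Algebra.FormallyEtale PS E) (g : Ωh →ₗ[A] E)
    (hg : ∀ j, g (c k A (D k A (T k r A j))) = 0) : g = 0 := by
  have h0 : ∀ ω : Ω[PS⁄k], g (c k A (μ k r A ω)) = 0 := by
    intro ω
    rw [apply_μ k r A g ω]
    exact Finset.sum_eq_zero fun j _ => by rw [hg j, smul_zero]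
  have hAE : Algebra.FormallyEtale A E := Algebra.FormallyEtale.of_isLocalization (nonZeroDivisors A)
  have hA : IsBaseChange E (KaehlerDifferential.map k k A E) :=
    KaehlerDifferential.isBaseChange_of_formallyEtale k A E
  have hPS : IsBaseChange E (KaehlerDifferential.map k k PS E) :=
    KaehlerDifferential.isBaseChange_of_formallyEtale k PS E
  let ℓ : Ω[A⁄k] →ₗ[A] E := g.comp (c k A)
  have hℓE : hA.lift ℓ = 0 := by
    apply hPS.algHom_ext
    intro ω
    rw [← map_μ k r A ω, hA.lift_eq, LinearMap.zero_apply]
    exact h0 ω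
  have hℓ : ℓ = 0 := by
    refine LinearMap.ext fun ω => ?_
    rw [← hA.lift_eq ℓ ω, hℓE]
    rfl
  refine LinearMap.ext fun x => ?_
  obtain ⟨ω, rfl⟩ := c_surjective k A x
  exact LinearMap.congr_fun hℓ ω

theorem ψ_D_X (i j : Fin r) :
    ψ k r (D k PS (MvPowerSeries.X j)) i = if i = j then 1 else 0 := by
  classical
  have h1 : φ k r (Pi.single j 1) = D k PS (MvPowerSeries.X j) := by
    simp [φ, Fintype.linearCombination_apply, Pi.single_apply]
  have h2 : ψ k r (φ k r (Pi.single j 1)) = Pi.single j 1 :=
    LinearMap.congr_fun (ψ_comp_φ k r) _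
  rw [← h1, h2, Pi.single_apply]

/-- Independence: dual functionals. -/
theorem exists_dual (hFE : Algebra.FormallyEtale PS E) (i : Fin r) :
    ∃ g : Ωh →ₗ[A] E, ∀ j, g (c k A (D k A (T k r A j))) = if i = j then 1 else 0 := by
  classical
  have hAE : Algebra.FormallyEtale A E := Algebra.FormallyEtale.of_isLocalization (nonZeroDivisors A)
  have hPS : IsBaseChange E (KaehlerDifferential.map k k PS E) :=
    KaehlerDifferential.isBaseChange_of_formallyEtale k PS E
  let θ : Ω[PS⁄k] →ₗ[PS] E :=
    (Algebra.linearMap PS E).comp ((LinearMap.proj i).comp (ψ k r))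
  let ℓE : Ω[E⁄k] →ₗ[E] E := hPS.lift θ
  let ℓ : Ω[A⁄k] →ₗ[A] E := (ℓE.restrictScalars A).comp (KaehlerDifferential.map k k A E)
  have hℓμ : ∀ ω : Ω[PS⁄k], ℓ (μ k r A ω) = algebraMap PS E (ψ k r ω i) := by
    intro ω
    change ℓE (KaehlerDifferential.map k k A E (μ k r A ω)) = _
    rw [map_μ, hPS.lift_eq]
    rfl
  have hℓD : ∀ f : PS, ℓ (D k A (algebraMap PS A f)) = algebraMap PS E (ψ k r (D k PS f) i) := by
    intro f
    rw [← hℓμ, KaehlerDifferential.map_D]
  -- a finite submodule containing the range of `ℓ`
  obtain ⟨G, hG⟩ := (Module.Finite.fg_top : (⊤ : Submodule PS A).FG)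
  let F : Submodule A E := Submodule.span A (insert (1 : E) ((fun a => ℓ (D k A a)) '' (G : Set A)))
  have hFfin : Module.Finite A F :=
    Module.Finite.span_of_finite A ((G.finite_toSet.image _).insert 1)
  have h1F : (1 : E) ∈ F := Submodule.subset_span (Set.mem_insert _ _)
  have hDF : ∀ x : A, ℓ (D k A x) ∈ F := by
    intro x
    have hx : x ∈ Submodule.span PS (G : Set A) := by rw [hG]; exact Submodule.mem_top
    induction hx using Submodule.span_induction with
    | mem y hy => exact Submodule.subset_span (Set.mem_insert_of_mem _ ⟨y, hy, rfl⟩)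
    | zero => rw [map_zero, map_zero]; exact F.zero_mem
    | add y z _ _ hy hz => rw [map_add, map_add]; exact F.add_mem hy hz
    | smul f y _ hy =>
      rw [Algebra.smul_def, Derivation.leibniz, map_add, map_smul, map_smul, hℓD]
      refine F.add_mem (F.smul_mem _ hy) ?_
      have : y • algebraMap PS E (ψ k r (D k PS f) i) =
          (y * algebraMap PS A (ψ k r (D k PS f) i)) • (1 : E) := by
        rw [IsScalarTower.algebraMap_apply PS A E, Algebra.smul_def, Algebra.smul_def, mul_one,
          map_mul]
      rw [this]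
      exact F.smul_mem _ h1F
  have hℓF : ∀ ω : Ω[A⁄k], ℓ ω ∈ F := by
    intro ω
    have hω : ω ∈ Submodule.span A (Set.range (D k A)) := by
      rw [KaehlerDifferential.span_range_derivation]; exact Submodule.mem_top
    induction hω using Submodule.span_induction with
    | mem y hy => obtain ⟨x, rfl⟩ := hy; exact hDF x
    | zero => rw [map_zero]; exact F.zero_mem
    | add y z _ _ hy hz => rw [map_add]; exact F.add_mem hy hz
    | smul a y _ hy => rw [map_smul]; exact F.smul_mem _ hy
  -- `ℓ` kills the kernel of the completion map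
  have hker : LinearMap.ker (c k A) ≤ LinearMap.ker ℓ := by
    intro ω hω
    rw [LinearMap.mem_ker] at hω ⊢
    have hmem : ∀ n, ω ∈ (maximalIdeal A ^ n • ⊤ : Submodule A (Ω[A⁄k])) := by
      intro n
      have h1 := congrArg (fun z => AdicCompletion.eval (maximalIdeal A) (Ω[A⁄k]) n z) hω
      simp only [map_zero, AdicCompletion.eval_of] at h1
      exact (Submodule.Quotient.mk_eq_zero _).mp h1
    let ℓ' : Ω[A⁄k] →ₗ[A] F := ℓ.codRestrict F hℓF
    have h2 : ℓ' ω ∈ (⨅ n : ℕ, maximalIdeal A ^ n • ⊤ : Submodule A F) := by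
      rw [Submodule.mem_iInf]
      intro n
      exact map_mem_pow_smul_top (maximalIdeal A) ℓ' n (hmem n)
    rw [Ideal.iInf_pow_smul_eq_bot_of_isLocalRing (maximalIdeal A)
      (Ideal.IsPrime.ne_top inferInstance), Submodule.mem_bot] at h2
    exact congrArg Subtype.val h2
  let g : Ωh →ₗ[A] E := ((LinearMap.ker (c k A)).liftQ ℓ hker).comp
    ((c k A).quotKerEquivOfSurjective (c_surjective k A)).symm.toLinearMap
  have hgc : ∀ ω : Ω[A⁄k], g (c k A ω) = ℓ ω := by
    intro ω
    change ((LinearMap.ker (c k A)).liftQ ℓ hker)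
      (((c k A).quotKerEquivOfSurjective (c_surjective k A)).symm (c k A ω)) = _
    have : ((c k A).quotKerEquivOfSurjective (c_surjective k A)).symm (c k A ω) =
        Submodule.Quotient.mk ω := by
      rw [LinearEquiv.symm_apply_eq]
      rfl
    rw [this]
    rfl
  refine ⟨g, fun j => ?_⟩
  rw [hgc, hℓD, ψ_D_X]
  split_ifs <;> simp

/-- The family `1 ⊗ d̂T_j`. -/
noncomputable def w (j : Fin r) : E ⊗[A] Ωh := (1 : E) ⊗ₜ[A] c k A (D k A (T k r A j))

theorem finrank_eq (hFE : Algebra.FormallyEtale PS E) :
    Module.finrank E (E ⊗[A] Ωh) = r := by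
  classical
  have hli : LinearIndependent E (w k r A) := by
    rw [Fintype.linearIndependent_iff]
    intro e he i
    obtain ⟨g, hg⟩ := exists_dual k r A hFE i
    have h1 := congrArg (g.liftBaseChange E) he
    rw [map_sum, map_zero] at h1
    simp only [map_smul, w, LinearMap.liftBaseChange_tmul, hg, one_smul] at h1
    rw [Finset.sum_eq_single i] at h1
    · simpa using h1
    · intro j _ hji
      rw [if_neg (Ne.symm hji), smul_zero]
    · intro h; exact absurd (Finset.mem_univ i) h
  have hspan : ⊤ ≤ Submodule.span E (Set.range (w k r A)) := by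
    by_contra hne
    have hlt : Submodule.span E (Set.range (w k r A)) < ⊤ := lt_of_le_of_ne le_top (fun h => hne (h ▸ le_rfl))
    obtain ⟨f, hf0, hfker⟩ := Submodule.exists_le_ker_of_lt_top _ hlt
    apply hf0
    have hg : (LinearMap.liftBaseChangeEquiv E).symm f = (0 : Ωh →ₗ[A] E) := by
      apply eq_zero_of_apply_T k r A hFE
      intro j
      rw [LinearMap.liftBaseChangeEquiv_symm_apply]
      exact hfker (Submodule.subset_span ⟨j, rfl⟩)
    have := congrArg (LinearMap.liftBaseChangeEquiv E) hg
    rwa [LinearEquiv.apply_symm_apply, map_zero] at this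
  have b : Module.Basis (Fin r) E (E ⊗[A] Ωh) := Module.Basis.mk hli hspan
  rw [Module.finrank_eq_card_basis b, Fintype.card_fin]

end Main

end Groth.Agent.Lib.Helper52.CompDiffRank
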