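import Mathlib
import Groth.Agent.Lib.Helper52.PSKaehler
import Groth.Agent.Lib.Helper52.CompDiffGen
import Groth.Agent.Lib.Helper52.CompDiffRank
import Groth.Agent.Lib.Helper52.CompDiffLocal

/-!
# Completed differentials of a finite `k[[T]]`-algebra and ramification

For a complete Noetherian local `k`-algebra `A`, finite over `PS = k[[T_1..T_r]]`, with residue
field finite over `k`, and a prime `p` of `A`:
`A` is unramified over `PS` at `p` iff the `d̂T_j` generate `Ω̂_p`
(`full_of_unramified`, `unramified_of_full`).  In the domain case this gives that `Frac A` is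
formally étale over `PS` (`formallyEtale_of_full`).
-/

set_option linter.unusedSectionVars false

namespace Groth.Agent.Lib.Helper52.CompDiffUnram

open IsLocalRing KaehlerDifferential TensorProduct
open Groth.Agent.Lib.Helper52.PSKaehler Groth.Agent.Lib.Helper52.CompDiffLocal

universe u

section Main

variable (k : Type u) [Field k] (r : ℕ) (A : Type u) [CommRing A]
    [IsLocalRing A] [IsNoetherianRing A] [IsAdicComplete (maximalIdeal A) A]
    [Algebra (MvPowerSeries (Fin r) k) A] [Algebra k A]
    [IsScalarTower k (MvPowerSeries (Fin r) k) A]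
    [Module.Finite (MvPowerSeries (Fin r) k) A] [Module.Finite k (ResidueField A)]

local notation "PS" => MvPowerSeries (Fin r) k
local notation "Ωh" => AdicCompletion (maximalIdeal A) (Ω[A⁄k])

/-- The completion map. -/
noncomputable abbrev c : Ω[A⁄k] →ₗ[A] Ωh := AdicCompletion.of (maximalIdeal A) (Ω[A⁄k])

/-- `Ω_{k[[T]]/k} → Ω_{A/k}`. -/
noncomputable abbrev μ : Ω[PS⁄k] →ₗ[PS] Ω[A⁄k] := KaehlerDifferential.map k k PS A

/-- The images of the variables. -/
noncomputable abbrev T (j : Fin r) : A := algebraMap PS A (MvPowerSeries.X j)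

omit [Algebra (MvPowerSeries (Fin r) k) A] [IsScalarTower k (MvPowerSeries (Fin r) k) A]
  [Module.Finite (MvPowerSeries (Fin r) k) A] in
theorem c_surjective : Function.Surjective (c k A) :=
  Groth.Agent.Lib.Helper52.CompDiffGen.of_surjective

omit [Algebra (MvPowerSeries (Fin r) k) A] [IsScalarTower k (MvPowerSeries (Fin r) k) A]
  [Module.Finite (MvPowerSeries (Fin r) k) A] [IsLocalRing A] [IsNoetherianRing A]
  [IsAdicComplete (maximalIdeal A) A] [Module.Finite k (ResidueField A)] in
theorem of_eq_zero_iff (I : Ideal A) (δ : Ω[A⁄k]) :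
    AdicCompletion.of I (Ω[A⁄k]) δ = 0 ↔
      ∀ n, δ ∈ (I ^ n • ⊤ : Submodule A (Ω[A⁄k])) := by
  constructor
  · intro h n
    have := congrArg (AdicCompletion.eval I (Ω[A⁄k]) n) h
    rw [AdicCompletion.eval_of, map_zero, Submodule.mkQ_apply,
      Submodule.Quotient.mk_eq_zero] at this
    exact this
  · intro h
    apply AdicCompletion.ext
    intro n
    rw [AdicCompletion.of_apply, Submodule.mkQ_apply, AdicCompletion.val_zero_apply,
      Submodule.Quotient.mk_eq_zero]
    exact h n

theorem μ_mem (n : ℕ) (ω : Ω[PS⁄k])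
    (hω : ω ∈ (maximalIdeal PS ^ n • ⊤ : Submodule PS (Ω[PS⁄k]))) :
    μ k r A ω ∈ (maximalIdeal A ^ n • ⊤ : Submodule A (Ω[A⁄k])) := by
  have hle : (maximalIdeal PS ^ n).map (algebraMap PS A) ≤ maximalIdeal A ^ n := by
    rw [Ideal.map_pow]
    apply Ideal.pow_right_mono
    rw [Ideal.map_le_iff_le_comap]
    intro g hg
    exact CompDiffRank.algebraMap_mem_maximalIdeal k r A g hg
  refine Submodule.smul_induction_on hω (fun x hx ω _ => ?_) (fun x y hx hy => ?_)
  · rw [map_smul, ← algebraMap_smul A x (μ k r A ω)]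
    exact Submodule.smul_mem_smul (hle (Ideal.mem_map_of_mem _ hx)) Submodule.mem_top
  · rw [map_add]; exact Submodule.add_mem _ hx hy

theorem μ_φ (a : Fin r → PS) :
    μ k r A (φ k r a) = ∑ j, algebraMap PS A (a j) • D k A (T k r A j) := by
  simp only [φ, Fintype.linearCombination_apply, map_sum, map_smul, KaehlerDifferential.map_D,
    algebraMap_smul]

/-- In `Ω̂`, the differential of the image of a power series is the combination of the `d̂T_j`
with its partial derivatives as coefficients. -/
theorem c_μ (ω : Ω[PS⁄k]) :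
    c k A (μ k r A ω) = ∑ j, algebraMap PS A (ψ k r ω j) • c k A (D k A (T k r A j)) := by
  have h2 : c k A (μ k r A (ω - φ k r (ψ k r ω))) = 0 :=
    (of_eq_zero_iff k A _ _).mpr (fun n => μ_mem k r A n _ (CompDiffRank.sub_mem k r n ω))
  rw [map_sub, map_sub, sub_eq_zero] at h2
  rw [h2, μ_φ]
  simp only [map_sum, map_smul]

/-- If `A` is unramified over `k[[T]]` at `p`, the `d̂T_j` generate `Ω̂_p`. -/
theorem full_of_unramified (p : Ideal A) [p.IsPrime] (h : Algebra.IsUnramifiedAt PS p) :
    Full p (Submodule.span A (Set.range fun j => c k A (D k A (T k r A j)))) := by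
  intro ω
  obtain ⟨ω', rfl⟩ := c_surjective k A ω
  have hsub : Subsingleton (Ω[Localization.AtPrime p⁄PS]) := h.subsingleton_kaehlerDifferential
  have h0 : KaehlerDifferential.map PS PS A (Localization.AtPrime p)
      (KaehlerDifferential.map k PS A A ω') = 0 := Subsingleton.elim _ _
  obtain ⟨t, ht⟩ := (IsLocalizedModule.eq_zero_iff p.primeCompl
    (KaehlerDifferential.map PS PS A (Localization.AtPrime p))).mp h0
  refine ⟨t, t.2, ?_⟩
  rw [Submonoid.smul_def, ← map_smul] at ht
  obtain ⟨z, hz⟩ := (KaehlerDifferential.exact_mapBaseChange_map k PS A ((t : A) • ω')).mp ht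
  rw [← map_smul, ← hz]
  clear hz
  induction z using TensorProduct.induction_on with
  | zero => rw [map_zero, map_zero]; exact Submodule.zero_mem _
  | tmul a ω₀ =>
    rw [KaehlerDifferential.mapBaseChange_tmul, map_smul]
    refine Submodule.smul_mem _ _ ?_
    change c k A (μ k r A ω₀) ∈ _
    rw [c_μ]
    exact Submodule.sum_mem _ fun j _ => Submodule.smul_mem _ _ (Submodule.subset_span ⟨j, rfl⟩)
  | add x y hx hy => rw [map_add, map_add]; exact Submodule.add_mem _ hx hy

/-- If the `d̂T_j` generate `Ω̂_p`, every relative differential is killed by some `t ∉ p`. -/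
theorem exists_smul_eq_zero_of_full (p : Ideal A) [p.IsPrime]
    (h : Full p (Submodule.span A (Set.range fun j => c k A (D k A (T k r A j)))))
    (η : Ω[A⁄PS]) : ∃ t : A, t ∉ p ∧ t • η = 0 := by
  obtain ⟨ω', rfl⟩ := KaehlerDifferential.map_surjective k PS A η
  obtain ⟨t, ht, hmem⟩ := h (c k A ω')
  refine ⟨t, ht, ?_⟩
  rw [← Set.image_univ, Submodule.mem_span_image_iff_exists_fun] at hmem
  obtain ⟨s, -, a, ha⟩ := hmem
  -- `δ = t ω' - Σ a_j dT_j` lies in the kernel of `c`
  set δ : Ω[A⁄k] := t • ω' - ∑ j : s, a j • D k A (T k r A j) with hδ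
  have hcδ : c k A δ = 0 := by
    rw [hδ, map_sub, map_smul, map_sum, sub_eq_zero, ← ha]
    exact Finset.sum_congr rfl fun j _ => (map_smul _ _ _).symm
  have hδmem := (of_eq_zero_iff k A _ δ).mp hcδ
  have hfin : Module.Finite A (Ω[A⁄PS]) := inferInstance
  have himg : KaehlerDifferential.map k PS A A δ ∈
      (⨅ n : ℕ, maximalIdeal A ^ n • ⊤ : Submodule A (Ω[A⁄PS])) := by
    rw [Submodule.mem_iInf]
    intro n
    exact map_mem_pow_smul_top (maximalIdeal A) (KaehlerDifferential.map k PS A A) n (hδmem n)
  rw [Ideal.iInf_pow_smul_eq_bot_of_isLocalRing (maximalIdeal A)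
    (Ideal.IsPrime.ne_top inferInstance), Submodule.mem_bot] at himg
  have hT : ∀ j : Fin r, KaehlerDifferential.map k PS A A (D k A (T k r A j)) = 0 := by
    intro j
    rw [KaehlerDifferential.map_D]
    exact Derivation.map_algebraMap _ _
  rw [hδ, map_sub, map_smul, map_sum] at himg
  have hsum : ∑ j : s, KaehlerDifferential.map k PS A A (a j • D k A (T k r A j)) = 0 :=
    Finset.sum_eq_zero fun j _ => by rw [map_smul, hT, smul_zero]
  rw [hsum, sub_zero] at himg
  exact himg

/-- If the `d̂T_j` generate `Ω̂_p`, then `A` is unramified over `k[[T]]` at `p`. -/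
theorem unramified_of_full (p : Ideal A) [p.IsPrime]
    (h : Full p (Submodule.span A (Set.range fun j => c k A (D k A (T k r A j))))) :
    Algebra.IsUnramifiedAt PS p := by
  refine ⟨⟨fun x y => ?_⟩⟩
  have key : ∀ z : Ω[Localization.AtPrime p⁄PS], z = 0 := by
    intro z
    obtain ⟨⟨η, s⟩, rfl⟩ := IsLocalizedModule.mk'_surjective p.primeCompl
      (KaehlerDifferential.map PS PS A (Localization.AtPrime p)) z
    rw [Function.uncurry_apply_pair, IsLocalizedModule.mk'_eq_zero,
      IsLocalizedModule.eq_zero_iff p.primeCompl]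
    obtain ⟨t, ht, htη⟩ := exists_smul_eq_zero_of_full k r A p h η
    exact ⟨⟨t, ht⟩, htη⟩
  rw [key x, key y]

end Main

section Domain

variable (k : Type u) [Field k] (r : ℕ) (A : Type u) [CommRing A] [IsDomain A]
    [IsLocalRing A] [IsNoetherianRing A] [IsAdicComplete (maximalIdeal A) A]
    [Algebra (MvPowerSeries (Fin r) k) A] [Algebra k A]
    [IsScalarTower k (MvPowerSeries (Fin r) k) A]
    [Module.Finite (MvPowerSeries (Fin r) k) A] [Module.Finite k (ResidueField A)]

local notation "PS" => MvPowerSeries (Fin r) k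
local notation "E" => FractionRing A

/-- In the domain case, generation of `Ω̂_p` by the `d̂T_j` forces `Frac A` to be formally étale
over `k[[T]]` (i.e. separable over `Frac k[[T]]`). -/
theorem formallyEtale_of_full (hinj : Function.Injective (algebraMap PS A))
    (p : Ideal A) [p.IsPrime]
    (h : Full p (Submodule.span A (Set.range fun j => c k A (D k A (T k r A j))))) :
    Algebra.FormallyEtale PS E := by
  -- `Frac A` is formally unramified over `PS`
  have hunr : Algebra.FormallyUnramified PS E := by
    refine ⟨⟨fun x y => ?_⟩⟩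
    have key : ∀ z : Ω[E⁄PS], z = 0 := by
      intro z
      obtain ⟨⟨η, s⟩, rfl⟩ := IsLocalizedModule.mk'_surjective (nonZeroDivisors A)
        (KaehlerDifferential.map PS PS A E) z
      rw [Function.uncurry_apply_pair, IsLocalizedModule.mk'_eq_zero,
        IsLocalizedModule.eq_zero_iff (nonZeroDivisors A)]
      obtain ⟨t, ht, htη⟩ := exists_smul_eq_zero_of_full k r A p h η
      have ht0 : t ≠ 0 := fun h0 => ht (h0 ▸ p.zero_mem)
      exact ⟨⟨t, mem_nonZeroDivisors_of_ne_zero ht0⟩, htη⟩
    rw [key x, key y]
  have hinjE := CompDiffRank.algebraMap_fractionRing_injective k r A hinj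
  have : FaithfulSMul PS A := (faithfulSMul_iff_algebraMap_injective PS _).mpr hinj
  have : FaithfulSMul PS E := (faithfulSMul_iff_algebraMap_injective PS _).mpr hinjE
  let _ : Algebra (FractionRing PS) E := FractionRing.liftAlgebra PS E
  have : IsScalarTower PS (FractionRing PS) E := FractionRing.isScalarTower_liftAlgebra PS _
  have hint : Algebra.IsIntegral PS A := Algebra.IsIntegral.of_finite PS A
  have hfinKE : Module.Finite (FractionRing PS) E :=
    Module.Finite.of_isLocalization PS A (nonZeroDivisors PS)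
  have h0 : Algebra.FormallyUnramified (FractionRing PS) E :=
    Algebra.FormallyUnramified.of_restrictScalars PS (FractionRing PS) E
  have hsep : Algebra.IsSeparable (FractionRing PS) E :=
    Algebra.FormallyUnramified.isSeparable (FractionRing PS) E
  have h1 : Algebra.FormallyEtale (FractionRing PS) E := Algebra.FormallyEtale.of_isSeparable _ _
  have h2 : Algebra.FormallyEtale PS (FractionRing PS) :=
    Algebra.FormallyEtale.of_isLocalization (nonZeroDivisors PS)
  exact Algebra.FormallyEtale.comp PS (FractionRing PS) E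

end Domain

end Groth.Agent.Lib.Helper52.CompDiffUnram
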