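import Mathlib
import Groth.Agent.Lib.Helper52.CompDiffNorm
import Groth.Agent.Lib.Helper52.CompDiffUnram

/-!
# The fibre rank of completed differentials is at least the dimension

Core lemma (`le_of_full_domain`): for a complete Noetherian local domain `B` over `k` with finite
residue field extension and a non-maximal prime `p`, if `Ω̂_p` is generated by `M` elements then
`dim B ≤ M`.  The general version `le_of_full` passes to `A ⧸ q`.
-/

set_option linter.unusedSectionVars false

namespace Groth.Agent.Lib.Helper52.CompDiffDim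

open IsLocalRing KaehlerDifferential TensorProduct
open Groth.Agent.Lib.Helper52.CompDiffLocal

universe u

section Span

variable {A : Type*} [CommRing A] {N : Type*} [AddCommGroup N] [Module A N]

/-- If `M` elements generate `N` at `p` and `F` is a field over `A` in which every `t ∉ p` becomes
nonzero, then `F ⊗ N` has dimension at most `M`. -/
theorem finrank_le_of_full (F : Type*) [Field F] [Algebra A F] (p : Ideal A)
    (hF : ∀ t : A, t ∉ p → algebraMap A F t ≠ 0) {M : ℕ} (v : Fin M → N)
    (hv : Full p (Submodule.span A (Set.range v))) :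
    Module.finrank F (F ⊗[A] N) ≤ M := by
  have hspan : Submodule.span F (Set.range fun i => (1 : F) ⊗ₜ[A] v i) = ⊤ := by
    rw [eq_top_iff]
    rintro z -
    induction z using TensorProduct.induction_on with
    | zero => exact Submodule.zero_mem _
    | tmul a ω =>
      obtain ⟨t, ht, htω⟩ := hv ω
      have ht0 := hF t ht
      have h1 : a ⊗ₜ[A] ω = (a * (algebraMap A F t)⁻¹) • ((1 : F) ⊗ₜ[A] (t • ω)) := by
        rw [TensorProduct.tmul_smul, TensorProduct.smul_tmul', TensorProduct.smul_tmul',
          smul_eq_mul, Algebra.smul_def, mul_one, mul_assoc,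
          inv_mul_cancel₀ ht0, mul_one]
      rw [h1]
      refine Submodule.smul_mem _ _ ?_
      have h2 : ∀ w ∈ Submodule.span A (Set.range v), (1 : F) ⊗ₜ[A] w ∈
          Submodule.span F (Set.range fun i => (1 : F) ⊗ₜ[A] v i) := by
        intro w hw
        induction hw using Submodule.span_induction with
        | mem x hx =>
          obtain ⟨i, rfl⟩ := hx
          exact Submodule.subset_span ⟨i, rfl⟩
        | zero => rw [TensorProduct.tmul_zero]; exact Submodule.zero_mem _
        | add x y _ _ hx hy => rw [TensorProduct.tmul_add]; exact Submodule.add_mem _ hx hy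
        | smul b x _ hx =>
          rw [TensorProduct.tmul_smul]
          have : b • ((1 : F) ⊗ₜ[A] x) = algebraMap A F b • ((1 : F) ⊗ₜ[A] x) := by
            rw [algebraMap_smul]
          rw [this]
          exact Submodule.smul_mem _ _ hx
      exact h2 _ htω
    | add x y hx hy => exact Submodule.add_mem _ hx hy
  have h3 := finrank_range_le_card (R := F) (fun i => (1 : F) ⊗ₜ[A] v i)
  rw [Set.finrank, hspan, finrank_top, Fintype.card_fin] at h3
  exact h3

end Span

section Domain

variable (k B : Type u) [Field k] [CommRing B] [IsDomain B] [IsLocalRing B] [IsNoetherianRing B]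
  [Algebra k B] [IsAdicComplete (maximalIdeal B) B] [Module.Finite k (ResidueField B)]

theorem le_of_full_domain (p : Ideal B) [p.IsPrime] (hp : p ≠ maximalIdeal B) (n M : ℕ)
    (hn : ringKrullDim B = n)
    (v : Fin M → AdicCompletion (maximalIdeal B) (Ω[B⁄k]))
    (hv : Full p (Submodule.span B (Set.range v))) : n ≤ M := by
  classical
  by_contra hlt
  push Not at hlt
  -- `n` generators
  let v' : Fin n → AdicCompletion (maximalIdeal B) (Ω[B⁄k]) := fun i =>
    if h : (i : ℕ) < M then v ⟨i, h⟩ else 0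
  have hle : Submodule.span B (Set.range v) ≤ Submodule.span B (Set.range v') := by
    rw [Submodule.span_le]
    rintro _ ⟨i, rfl⟩
    have : v' ⟨i, lt_trans i.2 hlt⟩ = v i := by simp only [v']; rw [dif_pos i.2]
    rw [← this]
    exact Submodule.subset_span ⟨_, rfl⟩
  have hv' : Full p (Submodule.span B (Set.range v')) := hv.mono hle
  have hgen : ∃ s : Fin n → LocalizedModule p.primeCompl
      (AdicCompletion (maximalIdeal B) (Ω[B⁄k])),
      Submodule.span (Localization.AtPrime p) (Set.range s) = ⊤ :=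
    ⟨_, (full_span_iff p v').mp hv'⟩
  obtain ⟨x, hx, j, hj⟩ := CompDiffNorm.exists_sop_avoiding B p hp n (le_of_eq hn)
  obtain ⟨u, hu⟩ := CompDiffGen.main p n hgen x (fun i => (hx i).2)
  -- the twisted parameters
  let y : Fin n → B := fun i => (u i : B) * x i
  have hym : ∀ i, y i ∈ maximalIdeal B := fun i => Ideal.mul_mem_left _ _ (hx i).1
  have hjy : maximalIdeal B ^ j ≤ Ideal.span (Set.range y) := by
    refine hj.trans ?_
    rw [Ideal.span_le]
    rintro _ ⟨i, rfl⟩
    have : x i = ((u i)⁻¹ : Bˣ) * y i := by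
      simp only [y]; rw [← mul_assoc, Units.inv_mul, one_mul]
    rw [SetLike.mem_coe, this]
    exact Ideal.mul_mem_left _ _ (Ideal.subset_span ⟨i, rfl⟩)
  obtain ⟨φ, hφX, hfin, -⟩ := CompDiffNorm.exists_finite_map k B y hym j hjy
  let _ : Algebra (MvPowerSeries (Fin n) k) B := φ.toRingHom.toAlgebra
  have : IsScalarTower k (MvPowerSeries (Fin n) k) B :=
    IsScalarTower.of_algebraMap_eq (fun c => (φ.commutes c).symm)
  have hfinB : Module.Finite (MvPowerSeries (Fin n) k) B := hfin
  have hinj : Function.Injective (algebraMap (MvPowerSeries (Fin n) k) B) :=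
    CompDiffNorm.injective_of_dim k B φ hfin (le_of_eq hn.symm)
  have hfull : Full p (Submodule.span B (Set.range fun j =>
      CompDiffUnram.c k B (D k B (CompDiffUnram.T k n B j)))) := by
    rw [full_span_iff]
    have hfun : (fun i => LocalizedModule.mkLinearMap p.primeCompl
        (AdicCompletion (maximalIdeal B) (Ω[B⁄k]))
        (CompDiffUnram.c k B (D k B (CompDiffUnram.T k n B i)))) =
        fun i => LocalizedModule.mkLinearMap p.primeCompl
        (AdicCompletion (maximalIdeal B) (Ω[B⁄k]))
        (AdicCompletion.of (maximalIdeal B) (Ω[B⁄k]) (D k B ((u i : B) * x i))) := by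
      funext i
      have : CompDiffUnram.T k n B i = (u i : B) * x i := hφX i
      rw [this]
    rw [hfun]
    exact hu
  have hFE := CompDiffUnram.formallyEtale_of_full k n B hinj p hfull
  have hrank := CompDiffRank.finrank_eq k n B hFE
  have hle2 := finrank_le_of_full (FractionRing B) p
    (fun t ht h0 => ht (by
      have : t = 0 := (IsFractionRing.injective B (FractionRing B)) (by rw [h0, map_zero])
      rw [this]; exact p.zero_mem)) v hv
  rw [hrank] at hle2
  omega

end Domain

section Quotient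

theorem isPrecomplete_of_surjective {R : Type*} [CommRing R] (I : Ideal R) {N M : Type*}
    [AddCommGroup N] [Module R N] [AddCommGroup M] [Module R M] (f : N →ₗ[R] M)
    (hf : Function.Surjective f) [IsPrecomplete I N] : IsPrecomplete I M := by
  rw [← AdicCompletion.of_surjective_iff]
  intro y
  obtain ⟨z, hz⟩ := AdicCompletion.map_surjective I hf y
  obtain ⟨x, hx⟩ := AdicCompletion.of_surjective I N z
  exact ⟨f x, by rw [← AdicCompletion.map_of, hx, hz]⟩

/-- A quotient of a complete Noetherian local ring is complete. -/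
theorem isAdicComplete_quotient (R : Type u) [CommRing R] [IsLocalRing R] [IsNoetherianRing R]
    [IsAdicComplete (maximalIdeal R) R] (J : Ideal R) [IsLocalRing (R ⧸ J)] :
    IsAdicComplete (maximalIdeal (R ⧸ J)) (R ⧸ J) := by
  have hP : IsPrecomplete (maximalIdeal R) (R ⧸ J) :=
    isPrecomplete_of_surjective (maximalIdeal R) (Submodule.mkQ J) (Submodule.mkQ_surjective J)
  have h1 : IsAdicComplete (maximalIdeal R) (R ⧸ J) := {}
  have h2 := (IsAdicComplete.map_algebraMap_iff (R := R) (S := R ⧸ J) (maximalIdeal R)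
    (R ⧸ J)).mpr h1
  have h3 : (maximalIdeal R).map (algebraMap R (R ⧸ J)) = maximalIdeal (R ⧸ J) :=
    map_maximalIdeal_of_surjective _ Ideal.Quotient.mk_surjective
  rw [h3] at h2
  exact h2

variable (k A : Type u) [Field k] [CommRing A] [IsLocalRing A] [IsNoetherianRing A]
  [Algebra k A] [IsAdicComplete (maximalIdeal A) A] [Module.Finite k (ResidueField A)]

/-- The residue field of a quotient is still finite over `k`. -/
theorem finite_residueField_quotient (q : Ideal A) [IsLocalRing (A ⧸ q)] :
    Module.Finite k (ResidueField (A ⧸ q)) := by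
  have hle : maximalIdeal A ≤ (maximalIdeal (A ⧸ q)).comap (Ideal.Quotient.mkₐ k q) := by
    intro a ha
    rw [Ideal.mem_comap]
    have h3 : (maximalIdeal A).map (algebraMap A (A ⧸ q)) = maximalIdeal (A ⧸ q) :=
      map_maximalIdeal_of_surjective _ Ideal.Quotient.mk_surjective
    rw [← h3]
    exact Ideal.mem_map_of_mem _ ha
  let g : ResidueField A →ₐ[k] ResidueField (A ⧸ q) :=
    Ideal.quotientMapₐ (maximalIdeal (A ⧸ q)) (Ideal.Quotient.mkₐ k q) hle
  have hg : Function.Surjective g :=
    Ideal.quotientMap_surjective (H := hle) (Ideal.Quotient.mkₐ_surjective k q)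
  exact Module.Finite.of_surjective g.toLinearMap hg

/-- The surjection `Ω̂_{A/k} → Ω̂_{(A/q)/k}`. -/
theorem exists_sigma (q : Ideal A) [IsLocalRing (A ⧸ q)] :
    ∃ σ : AdicCompletion (maximalIdeal A) (Ω[A⁄k]) →ₗ[A]
        AdicCompletion (maximalIdeal (A ⧸ q)) (Ω[(A ⧸ q)⁄k]),
      Function.Surjective σ := by
  have hcB : IsAdicComplete (maximalIdeal (A ⧸ q)) (A ⧸ q) := isAdicComplete_quotient A q
  have hfB : Module.Finite k (ResidueField (A ⧸ q)) := finite_residueField_quotient k A q
  let cA : Ω[A⁄k] →ₗ[A] AdicCompletion (maximalIdeal A) (Ω[A⁄k]) :=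
    AdicCompletion.of (maximalIdeal A) (Ω[A⁄k])
  have hcA : Function.Surjective cA := CompDiffGen.of_surjective
  let cB : Ω[(A ⧸ q)⁄k] →ₗ[A] AdicCompletion (maximalIdeal (A ⧸ q)) (Ω[(A ⧸ q)⁄k]) :=
    (AdicCompletion.of (maximalIdeal (A ⧸ q)) (Ω[(A ⧸ q)⁄k])).restrictScalars A
  have hcB' : Function.Surjective cB := CompDiffGen.of_surjective (k := k) (A := A ⧸ q)
  let m : Ω[A⁄k] →ₗ[A] Ω[(A ⧸ q)⁄k] := KaehlerDifferential.map k k A (A ⧸ q)
  have hm : Function.Surjective m :=
    KaehlerDifferential.map_surjective_of_surjective k k A (A ⧸ q) Ideal.Quotient.mk_surjective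
  let g : Ω[A⁄k] →ₗ[A] AdicCompletion (maximalIdeal (A ⧸ q)) (Ω[(A ⧸ q)⁄k]) := cB ∘ₗ m
  have hg : Function.Surjective g := hcB'.comp hm
  have h3 : (maximalIdeal A).map (algebraMap A (A ⧸ q)) = maximalIdeal (A ⧸ q) :=
    map_maximalIdeal_of_surjective _ Ideal.Quotient.mk_surjective
  have hmem : ∀ (n : ℕ) (δ : Ω[A⁄k]), δ ∈ (maximalIdeal A ^ n • ⊤ : Submodule A (Ω[A⁄k])) →
      m δ ∈ (maximalIdeal (A ⧸ q) ^ n • ⊤ : Submodule (A ⧸ q) (Ω[(A ⧸ q)⁄k])) := by
    intro n δ hδ
    refine Submodule.smul_induction_on hδ (fun a ha ω _ => ?_) (fun x y hx hy => ?_)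
    · rw [map_smul, ← algebraMap_smul (A ⧸ q) a (m ω)]
      refine Submodule.smul_mem_smul ?_ Submodule.mem_top
      rw [← h3, ← Ideal.map_pow]
      exact Ideal.mem_map_of_mem _ ha
    · rw [map_add]; exact Submodule.add_mem _ hx hy
  have hker : LinearMap.ker cA ≤ LinearMap.ker g := by
    intro δ hδ
    rw [LinearMap.mem_ker] at hδ ⊢
    have h1 := (CompDiffUnram.of_eq_zero_iff k A (maximalIdeal A) δ).mp hδ
    exact (CompDiffUnram.of_eq_zero_iff k (A ⧸ q) (maximalIdeal (A ⧸ q)) (m δ)).mpr
      (fun n => hmem n δ (h1 n))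
  let e := cA.quotKerEquivOfSurjective hcA
  let σ : AdicCompletion (maximalIdeal A) (Ω[A⁄k]) →ₗ[A]
        AdicCompletion (maximalIdeal (A ⧸ q)) (Ω[(A ⧸ q)⁄k]) :=
    (Submodule.liftQ (LinearMap.ker cA) g hker) ∘ₗ e.symm.toLinearMap
  have hσ : ∀ δ, σ (cA δ) = g δ := by
    intro δ
    have : e.symm (cA δ) = Submodule.Quotient.mk δ := by
      rw [LinearEquiv.symm_apply_eq]
      rfl
    simp only [σ, LinearMap.comp_apply, LinearEquiv.coe_coe]
    rw [this, Submodule.liftQ_apply]
  refine ⟨σ, fun z => ?_⟩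
  obtain ⟨δ, rfl⟩ := hg z
  exact ⟨cA δ, hσ δ⟩

theorem le_of_full (p q : Ideal A) [p.IsPrime] [q.IsPrime] (hqp : q ≤ p)
    (hp : p ≠ maximalIdeal A) (n M : ℕ) (hn : ringKrullDim (A ⧸ q) = n)
    (v : Fin M → AdicCompletion (maximalIdeal A) (Ω[A⁄k]))
    (hv : Full p (Submodule.span A (Set.range v))) : n ≤ M := by
  have hloc : IsLocalRing (A ⧸ q) :=
    IsLocalRing.of_surjective' (Ideal.Quotient.mk q) Ideal.Quotient.mk_surjective
  have hcB : IsAdicComplete (maximalIdeal (A ⧸ q)) (A ⧸ q) := isAdicComplete_quotient A q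
  have hfB : Module.Finite k (ResidueField (A ⧸ q)) := finite_residueField_quotient k A q
  obtain ⟨σ, hσ⟩ := exists_sigma k A q
  have hp'prime : (p.map (Ideal.Quotient.mk q)).IsPrime :=
    Ideal.map_isPrime_of_surjective Ideal.Quotient.mk_surjective (by rw [Ideal.mk_ker]; exact hqp)
  have hcomap : (p.map (Ideal.Quotient.mk q)).comap (algebraMap A (A ⧸ q)) = p := by
    change (p.map (Ideal.Quotient.mk q)).comap (Ideal.Quotient.mk q) = p
    rw [Ideal.comap_map_of_surjective _ Ideal.Quotient.mk_surjective, ← RingHom.ker_eq_comap_bot,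
      Ideal.mk_ker, sup_eq_left.mpr hqp]
  have hp' : p.map (Ideal.Quotient.mk q) ≠ maximalIdeal (A ⧸ q) := by
    intro h
    apply hp
    rw [← hcomap, h]
    have hmax : ((maximalIdeal (A ⧸ q)).comap (algebraMap A (A ⧸ q))).IsMaximal :=
      Ideal.comap_isMaximal_of_surjective _ Ideal.Quotient.mk_surjective
    exact eq_maximalIdeal hmax
  refine le_of_full_domain k (A ⧸ q) (p.map (Ideal.Quotient.mk q)) hp' n M hn (fun i => σ (v i))
    (hv.map σ hσ (le_of_eq hcomap) ?_)
  intro w hw
  induction hw using Submodule.span_induction with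
  | mem x hx =>
    obtain ⟨i, rfl⟩ := hx
    exact Submodule.subset_span ⟨i, rfl⟩
  | zero => rw [map_zero]; exact Submodule.zero_mem _
  | add x y _ _ hx hy => rw [map_add]; exact Submodule.add_mem _ hx hy
  | smul b x _ hx =>
    rw [map_smul, ← algebraMap_smul (A ⧸ q) b (σ x)]
    exact Submodule.smul_mem _ _ hx

end Quotient

end Groth.Agent.Lib.Helper52.CompDiffDim
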