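import Mathlib

/-!
# Going-down for finite extensions of an integrally closed domain

`R` an integrally closed domain, `B` a domain which is a finite faithful `R`-algebra.
Then `R → B` has going-down (`hasGoingDown`), and contraction preserves heights
(`height_eq_height_under`).
-/

namespace Groth.Agent.Lib.Helper52.GoingDownNormal

open Polynomial

section Coeff

variable {R : Type*} [CommRing R]

/-- A monic divisor of a monic polynomial which is `X^m` modulo a prime `P` is itself a power
of `X` modulo `P`. -/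
theorem coeff_mem_of_dvd (P : Ideal R) [P.IsPrime] {g G : R[X]} (hg : g.Monic) (hdvd : g ∣ G)
    (hG : G.Monic) (hGc : ∀ i < G.natDegree, G.coeff i ∈ P) :
    ∀ i < g.natDegree, g.coeff i ∈ P := by
  have hGmap : G.map (Ideal.Quotient.mk P) = X ^ G.natDegree := by
    ext i
    rw [coeff_map, coeff_X_pow]
    split_ifs with h
    · rw [h, hG.coeff_natDegree, map_one]
    · rcases lt_or_gt_of_ne h with h1 | h1
      · exact Ideal.Quotient.eq_zero_iff_mem.mpr (hGc i h1)
      · rw [coeff_eq_zero_of_natDegree_lt h1, map_zero]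
  have hdvd' : g.map (Ideal.Quotient.mk P) ∣ X ^ G.natDegree := by
    rw [← hGmap]; exact Polynomial.map_dvd _ hdvd
  obtain ⟨j, -, hj⟩ := (dvd_prime_pow prime_X _).mp hdvd'
  have hgm : (g.map (Ideal.Quotient.mk P)).Monic := hg.map _
  have heq : g.map (Ideal.Quotient.mk P) = X ^ j :=
    eq_of_monic_of_associated hgm (monic_X_pow j) hj
  have hdeg : j = g.natDegree := by
    have := congrArg natDegree heq
    rw [hg.natDegree_map, natDegree_X_pow] at this
    exact this.symm
  intro i hi
  have := congrArg (fun q => q.coeff i) heq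
  simp only [coeff_map, coeff_X_pow] at this
  rw [if_neg (by omega)] at this
  exact Ideal.Quotient.eq_zero_iff_mem.mp this

end Coeff

section Main

variable {R B : Type*} [CommRing R] [IsDomain R] [IsIntegrallyClosed R] [CommRing B] [IsDomain B]
  [Algebra R B] [Module.Finite R B] [FaithfulSMul R B]

/-- Key lemma: `P B` has no components away from `P`, up to radical. -/
theorem exists_pow_mem_of_mul_mem (P : Ideal R) [P.IsPrime] (x : R) (hx : x ∉ P) (s : B)
    (h : algebraMap R B x * s ∈ P.map (algebraMap R B)) :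
    ∃ N : ℕ, s ^ N ∈ P.map (algebraMap R B) := by
  classical
  set y : B := algebraMap R B x * s with hy
  -- Step 1: Cayley–Hamilton
  have hrange : LinearMap.range (Algebra.lmul R B y) ≤ (P • ⊤ : Submodule R B) := by
    rintro _ ⟨b, rfl⟩
    rw [Ideal.smul_top_eq_map]
    exact Ideal.mul_mem_right _ _ h
  obtain ⟨G, hGm, -, hGc, hG0⟩ :=
    LinearMap.exists_monic_and_natDegree_eq_and_coeff_mem_pow_and_aeval_eq_zero R
      (Algebra.lmul R B y) P hrange
  have hGy : aeval y G = 0 := by
    have h1 := Polynomial.aeval_algHom_apply (Algebra.lmul R B) y G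
    rw [hG0] at h1
    have h2 := congrArg (fun f : Module.End R B => f 1) h1
    simpa using h2.symm
  have hGc' : ∀ i < G.natDegree, G.coeff i ∈ P := fun i hi =>
    Ideal.pow_le_self (by omega) (hGc i)
  -- Step 2: pass to fraction fields
  let K := FractionRing R
  let L := FractionRing B
  let _ : Algebra K L := FractionRing.liftAlgebra R L
  have : IsScalarTower R K L := FractionRing.isScalarTower_liftAlgebra R L
  have hx0 : x ≠ 0 := fun h0 => hx (h0 ▸ P.zero_mem)
  have hxK : algebraMap R K x ≠ 0 := by
    rwa [Ne, IsFractionRing.to_map_eq_zero_iff]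
  have hs_int : IsIntegral R s := Algebra.IsIntegral.isIntegral s
  set ν := minpoly R s with hν
  have hνm : ν.Monic := minpoly.monic hs_int
  have hνK : minpoly K (algebraMap B L s) = ν.map (algebraMap R K) :=
    minpoly.isIntegrallyClosed_eq_field_fractions K L hs_int
  set H : K[X] := (G.map (algebraMap R K)).scaleRoots (algebraMap R K x)⁻¹ with hH
  have hyL : aeval (algebraMap B L y) (G.map (algebraMap R K)) = 0 := by
    rw [aeval_map_algebraMap, aeval_algebraMap_apply, hGy, map_zero]
  have hsL : algebraMap B L s = algebraMap K L (algebraMap R K x)⁻¹ * algebraMap B L y := by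
    rw [hy, map_mul, ← IsScalarTower.algebraMap_apply R B L, IsScalarTower.algebraMap_apply R K L,
      ← mul_assoc, ← map_mul, inv_mul_cancel₀ hxK, map_one, one_mul]
  have hH0 : aeval (algebraMap B L s) H = 0 := by
    rw [hsL]
    exact scaleRoots_aeval_eq_zero hyL
  have hdvd1 : ν.map (algebraMap R K) ∣ H := hνK ▸ minpoly.dvd K _ hH0
  have hdvd2 : (ν.map (algebraMap R K)).scaleRoots (algebraMap R K x) ∣
      H.scaleRoots (algebraMap R K x) := scaleRoots_dvd _ _ hdvd1
  have hHG : H.scaleRoots (algebraMap R K x) = G.map (algebraMap R K) := by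
    rw [hH, ← scaleRoots_mul, inv_mul_cancel₀ hxK, scaleRoots_one]
  have hνsc : (ν.map (algebraMap R K)).scaleRoots (algebraMap R K x) =
      (ν.scaleRoots x).map (algebraMap R K) := by
    rw [map_scaleRoots]
    rw [hνm.leadingCoeff, map_one]
    exact one_ne_zero
  rw [hHG, hνsc] at hdvd2
  have hscm : (ν.scaleRoots x).Monic := (monic_scaleRoots_iff x).mpr hνm
  have hdvd3 : ν.scaleRoots x ∣ G :=
    (Polynomial.map_dvd_map (algebraMap R K) (IsFractionRing.injective R K) hscm).mp hdvd2
  -- Step 3: coefficients of `ν`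
  have hcoef := coeff_mem_of_dvd P hscm hdvd3 hGm hGc'
  rw [natDegree_scaleRoots] at hcoef
  have hνc : ∀ i < ν.natDegree, ν.coeff i ∈ P := by
    intro i hi
    have h1 := hcoef i hi
    rw [coeff_scaleRoots] at h1
    rcases Ideal.IsPrime.mem_or_mem inferInstance h1 with h2 | h2
    · exact h2
    · exact absurd (Ideal.IsPrime.mem_of_pow_mem inferInstance _ h2) hx
  -- Step 4
  refine ⟨ν.natDegree, ?_⟩
  have hs0 : aeval s ν = 0 := minpoly.aeval R s
  rw [hνm.as_sum, map_add, map_pow, aeval_X, map_sum] at hs0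
  have hsum : s ^ ν.natDegree = -∑ i ∈ Finset.range ν.natDegree,
      aeval s (C (ν.coeff i) * X ^ i) := eq_neg_of_add_eq_zero_left hs0
  rw [hsum]
  refine Ideal.neg_mem_iff _ |>.mpr (Ideal.sum_mem _ fun i hi => ?_)
  rw [map_mul, aeval_C, map_pow, aeval_X]
  exact Ideal.mul_mem_right _ _ (Ideal.mem_map_of_mem _ (hνc i (Finset.mem_range.mp hi)))

/-- **Going-down** for a finite extension of domains over an integrally closed base. -/
theorem hasGoingDown : Algebra.HasGoingDown R B := by
  refine ⟨fun {p} hp Q hQ hlt => ?_⟩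
  let S : Submonoid B := Algebra.algebraMapSubmonoid B p.primeCompl ⊔ Q.primeCompl
  have hpQ : p.map (algebraMap R B) ≤ Q := by
    rw [Ideal.map_le_iff_le_comap]
    exact hlt.le
  have hdisj : Disjoint ((p.map (algebraMap R B) : Ideal B) : Set B) (S : Set B) := by
    rw [Set.disjoint_left]
    intro z hz hzS
    obtain ⟨a, ha, b, hb, rfl⟩ := Submonoid.mem_sup.mp hzS
    obtain ⟨x, hx, rfl⟩ := ha
    obtain ⟨N, hN⟩ := exists_pow_mem_of_mul_mem p x hx b hz
    exact hb (Ideal.IsPrime.mem_of_pow_mem hQ N (hpQ hN))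
  obtain ⟨P', hP'prime, hle, hdisj'⟩ := Ideal.exists_le_prime_disjoint _ S hdisj
  refine ⟨P', ?_, hP'prime, ⟨?_⟩⟩
  · intro z hz
    by_contra hzQ
    exact Set.disjoint_left.mp hdisj' hz (Submonoid.mem_sup_right (show z ∈ Q.primeCompl from hzQ))
  · apply le_antisymm
    · intro x hx
      exact hle (Ideal.mem_map_of_mem _ hx)
    · intro x hx
      by_contra hxp
      exact Set.disjoint_left.mp hdisj' hx
        (Submonoid.mem_sup_left ⟨x, hxp, rfl⟩)

end Main

end Groth.Agent.Lib.Helper52.GoingDownNormal
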