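import Mathlib
import Groth.Agent.Lib.Helper52.GoingDownNormal
import Groth.Agent.Lib.Helper73.DimFT.Basic
import Groth.Agent.Lib.Helper77.RegularPowerSeries
import Groth.Agent.Lib.Helper56.FormalDescent

/-!
# Power series rings over a field: regular, normal; heights under finite extensions
-/

namespace Groth.Agent.Lib.Helper52.CompDiffReg

open IsLocalRing

universe u

section PS

variable (k : Type u) [Field k] (n : ℕ)

local notation "R" => MvPowerSeries (Fin n) k

theorem isRegularRing_field : IsRegularRing k := by
  rw [isRegularRing_iff]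
  intro p hp
  have hfield : IsField (Localization.AtPrime p) := by
    have : p = ⊥ := by
      rcases Ideal.eq_bot_or_top p with h | h
      · exact h
      · exact absurd h hp.ne_top
    subst this
    exact (IsLocalization.atUnits k (⊥ : Ideal k).primeCompl (fun x hx => by
      have : x ≠ 0 := fun h0 => hx (by simp [h0])
      exact isUnit_iff_ne_zero.mpr this)).toRingEquiv.symm.isField (Field.toIsField k)
  apply IsRegularLocalRing.of_spanFinrank_maximalIdeal_le
  have : maximalIdeal (Localization.AtPrime p) = ⊥ :=
    IsLocalRing.isField_iff_maximalIdeal_eq.mp hfield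
  rw [this]
  have : (⊥ : Ideal (Localization.AtPrime p)).spanFinrank = 0 := by
    simp [Submodule.spanFinrank_bot]
  rw [this]
  exact_mod_cast ringKrullDim_nonneg_of_nontrivial

theorem isRegularRing_PS : IsRegularRing R :=
  have := isRegularRing_field k
  Groth.Agent.Lib.Helper77.RegularPowerSeries.isRegularRing_mvPowerSeries k n

instance isDomain_PS : IsDomain R := NoZeroDivisors.to_isDomain _

theorem isIntegrallyClosed_PS : IsIntegrallyClosed R := by
  have hreg := isRegularRing_PS k n
  have hnorm := Groth.Agent.Lib.Helper56.isNormalRing_of_isRegularRing R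
  apply IsIntegrallyClosed.of_localization_maximal
  intro p _ hp
  exact (hnorm p).2

end PS

section Height

theorem height_le_height_comap_of_surjective {A B : Type*} [CommRing A] [CommRing B]
    (f : A →+* B) (hf : Function.Surjective f) (𝔭 : Ideal B) [𝔭.IsPrime] :
    𝔭.height ≤ (𝔭.comap f).height := by
  have e1 := PrimeSpectrum.height_eq_orderHeight (⟨𝔭, inferInstance⟩ : PrimeSpectrum B)
  have e2 := PrimeSpectrum.height_eq_orderHeight (⟨𝔭.comap f, inferInstance⟩ : PrimeSpectrum A)
  simp only at e1 e2
  rw [e1, e2]
  have hc : PrimeSpectrum.comap f ⟨𝔭, inferInstance⟩ = ⟨𝔭.comap f, inferInstance⟩ := rfl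
  rw [← hc]
  refine Order.height_le_height_apply_of_strictMono _ ?_ _
  intro P Q hPQ
  rw [← PrimeSpectrum.asIdeal_lt_asIdeal] at hPQ ⊢
  refine lt_of_le_of_ne (Ideal.comap_mono hPQ.le) ?_
  intro h
  exact hPQ.ne (Ideal.comap_injective_of_surjective f hf h)

variable (k : Type u) [Field k] (n : ℕ) (A : Type u) [CommRing A]
  [Algebra (MvPowerSeries (Fin n) k) A] [Module.Finite (MvPowerSeries (Fin n) k) A]

local notation "R" => MvPowerSeries (Fin n) k

/-- If `q ≤ p` is a prime with `k[[T]] → A/q` injective, the height of `p` is at least the height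
of its contraction to `k[[T]]` (going-down). -/
theorem height_under_le (p q : Ideal A) [p.IsPrime] [q.IsPrime] (hqp : q ≤ p)
    (hinj : Function.Injective (algebraMap R (A ⧸ q))) : (p.under R).height ≤ p.height := by
  have hIC : IsIntegrallyClosed R := isIntegrallyClosed_PS k n
  have hfaith : FaithfulSMul R (A ⧸ q) := (faithfulSMul_iff_algebraMap_injective R _).mpr hinj
  have hGD : Algebra.HasGoingDown R (A ⧸ q) := GoingDownNormal.hasGoingDown
  have hint : Algebra.IsIntegral R (A ⧸ q) := Algebra.IsIntegral.of_finite R (A ⧸ q)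
  have hp'prime : (p.map (Ideal.Quotient.mk q)).IsPrime :=
    Ideal.map_isPrime_of_surjective Ideal.Quotient.mk_surjective (by rw [Ideal.mk_ker]; exact hqp)
  have hcomap : (p.map (Ideal.Quotient.mk q)).comap (Ideal.Quotient.mk q) = p := by
    rw [Ideal.comap_map_of_surjective _ Ideal.Quotient.mk_surjective, ← RingHom.ker_eq_comap_bot,
      Ideal.mk_ker, sup_eq_left.mpr hqp]
  have hlo : (p.map (Ideal.Quotient.mk q)).LiesOver (p.under R) := by
    refine ⟨?_⟩
    rw [Ideal.under_def, Ideal.under_def, IsScalarTower.algebraMap_eq R A (A ⧸ q),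
      ← Ideal.comap_comap]
    change _ = Ideal.comap (algebraMap R A) ((p.map (Ideal.Quotient.mk q)).comap
      (Ideal.Quotient.mk q))
    rw [hcomap]
  have h1 := Groth.Agent.Lib.Helper73.height_eq_of_liesOver_of_isIntegral_of_hasGoingDown
    (p.under R) (p.map (Ideal.Quotient.mk q))
  rw [← h1]
  have h2 := height_le_height_comap_of_surjective (Ideal.Quotient.mk q)
    Ideal.Quotient.mk_surjective (p.map (Ideal.Quotient.mk q))
  rwa [hcomap] at h2

end Height

end Groth.Agent.Lib.Helper52.CompDiffReg
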