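import Mathlib
import Groth.Agent.Lib.Helper52.CompDiffReg
import Groth.Agent.Lib.Helper52.CompDiffDim
import Groth.Agent.Lib.Helper77.MiracleFlat
import Groth.Agent.Lib.Helper77.RegularCM

/-!
# Unramified over a power series ring at a point of a top-dimensional component ⇒ étale and regular
-/

set_option linter.unusedSectionVars false

namespace Groth.Agent.Lib.Helper52.CompDiffEtale

open IsLocalRing

universe u

section FP

open Algebra in
theorem finitePresentation_localization {R S : Type*} [CommRing R] [CommRing S] [Algebra R S]
    [Algebra.FinitePresentation R S] (p : Ideal R) [p.IsPrime] :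
    FinitePresentation (Localization.AtPrime p)
      (Localization (algebraMapSubmonoid S p.primeCompl)) := by
  have : Algebra.IsPushout R (Localization.AtPrime p) S
      (Localization (algebraMapSubmonoid S p.primeCompl)) :=
    .symm <| Algebra.isPushout_of_isLocalization p.primeCompl _ _ _
  exact .equiv (Algebra.IsPushout.equiv R (Localization.AtPrime p) S
    (Localization (algebraMapSubmonoid S p.primeCompl)))

end FP

section K1

variable (k : Type u) [Field k] (n : ℕ) (A : Type u) [CommRing A] [IsNoetherianRing A]
  [Algebra (MvPowerSeries (Fin n) k) A] [Module.Finite (MvPowerSeries (Fin n) k) A]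

local notation "PS" => MvPowerSeries (Fin n) k

/-- **K1**: `A_p` is a regular local ring of dimension `ht (p ∩ PS)`, with maximal ideal generated by
`p ∩ PS`. -/
theorem isRegularLocalRing_of_unramified (p q : Ideal A) [p.IsPrime] [q.IsPrime] (hqp : q ≤ p)
    (hinj : Function.Injective (algebraMap PS (A ⧸ q))) (hunr : Algebra.IsUnramifiedAt PS p) :
    IsRegularLocalRing (Localization.AtPrime p) ∧
      ringKrullDim (Localization.AtPrime p) = ((p.under PS).height : WithBot ℕ∞) ∧
      (p.under PS).map (algebraMap PS (Localization.AtPrime p)) =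
        maximalIdeal (Localization.AtPrime p) := by
  let _ := Localization.AtPrime.algebraOfLiesOver (p.under PS) p
  obtain ⟨-, hmap⟩ := (Algebra.isUnramifiedAt_iff_map_eq PS (p.under PS) p).mp hunr
  have hregR : IsRegularRing PS := CompDiffReg.isRegularRing_PS k n
  have hregP : IsRegularLocalRing (Localization.AtPrime (p.under PS)) :=
    hregR.isRegularLocalRing_localization _
  have h1 : ((maximalIdeal (Localization.AtPrime (p.under PS))).spanFinrank : WithBot ℕ∞) =
      ringKrullDim (Localization.AtPrime (p.under PS)) := hregP.spanFinrank_maximalIdeal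
  have h2 : ringKrullDim (Localization.AtPrime (p.under PS)) = ((p.under PS).height : WithBot ℕ∞) :=
    IsLocalization.AtPrime.ringKrullDim_eq_height (p.under PS) _
  have h3 : ringKrullDim (Localization.AtPrime p) = (p.height : WithBot ℕ∞) :=
    IsLocalization.AtPrime.ringKrullDim_eq_height p _
  have h4 : (p.under PS).height ≤ p.height := CompDiffReg.height_under_le k n A p q hqp hinj
  have h5 : maximalIdeal (Localization.AtPrime p) =
      (maximalIdeal (Localization.AtPrime (p.under PS))).map
        (algebraMap (Localization.AtPrime (p.under PS)) (Localization.AtPrime p)) := by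
    rw [← hmap, ← IsLocalization.AtPrime.map_eq_maximalIdeal (p.under PS)
      (Localization.AtPrime (p.under PS)), Ideal.map_map,
      ← IsScalarTower.algebraMap_eq]
  have h6 : (maximalIdeal (Localization.AtPrime p)).spanFinrank ≤
      (maximalIdeal (Localization.AtPrime (p.under PS))).spanFinrank := by
    rw [h5]
    exact Ideal.spanFinrank_map_le_of_fg _ (IsNoetherian.noetherian _)
  have h7 : ((maximalIdeal (Localization.AtPrime p)).spanFinrank : WithBot ℕ∞) ≤
      ((p.under PS).height : WithBot ℕ∞) := by
    rw [← h2, ← h1]
    exact_mod_cast h6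
  have h8 : ((p.under PS).height : WithBot ℕ∞) ≤ ringKrullDim (Localization.AtPrime p) := by
    rw [h3]; exact_mod_cast h4
  have hreg : IsRegularLocalRing (Localization.AtPrime p) :=
    IsRegularLocalRing.of_spanFinrank_maximalIdeal_le _ (h7.trans h8)
  refine ⟨hreg, le_antisymm ?_ h8, hmap⟩
  rw [← hreg.spanFinrank_maximalIdeal]
  exact h7

open Algebra TensorProduct in
/-- **K2**: `A_p` is flat over `R_P` and formally étale over `PS`. -/
theorem formallyEtale_of_unramified (p q : Ideal A) [p.IsPrime] [q.IsPrime] (hqp : q ≤ p)
    (hinj : Function.Injective (algebraMap PS (A ⧸ q))) (hunr : Algebra.IsUnramifiedAt PS p) :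
    Algebra.FormallyEtale PS (Localization.AtPrime p) := by
  obtain ⟨hreg, hdim, hmap⟩ := isRegularLocalRing_of_unramified k n A p q hqp hinj hunr
  have hregR : IsRegularRing PS := CompDiffReg.isRegularRing_PS k n
  have hnoeth : IsNoetherianRing PS := inferInstance
  have hfp : FinitePresentation PS A := Algebra.FinitePresentation.of_finiteType.mp inferInstance
  let Rp := Localization.AtPrime (p.under PS)
  let Sp := Localization (algebraMapSubmonoid A (p.under PS).primeCompl)
  let Sq := Localization.AtPrime p
  let _ := Localization.AtPrime.algebraOfLiesOver (p.under PS) p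
  let f : Sp →ₐ[A] Sq := IsLocalization.liftAlgHom
        (M := algebraMapSubmonoid A (p.under PS).primeCompl)
        (f := Algebra.ofId _ _) (by
      rintro ⟨_, x, hx, rfl⟩
      simpa using! IsLocalization.map_units (M := p.primeCompl) Sq ⟨algebraMap _ _ x,
        by simp_all⟩)
  algebraize [f.toRingHom]
  have : IsScalarTower PS Sp Sq := .to₁₃₄ _ A _ _
  have : IsScalarTower Rp Sp Sq := .of_algebraMap_eq' <| by
    apply IsLocalization.ringHom_ext (p.under PS).primeCompl
    simp only [RingHom.comp_assoc, ← IsScalarTower.algebraMap_eq]
  have : IsLocalization (algebraMapSubmonoid Sp p.primeCompl) Sq :=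
    .isLocalization_of_submonoid_le _ _ (algebraMapSubmonoid A (p.under PS).primeCompl) _
    (by rintro _ ⟨x, hx, rfl⟩; simp_all)
  have : FinitePresentation Rp Sp := finitePresentation_localization (p.under PS)
  -- regularity and flatness
  have hregP : IsRegularLocalRing Rp := hregR.isRegularLocalRing_localization _
  have hCM : LocCoh.IsCohenMacaulayLocalRing Sq :=
    Groth.Agent.Lib.Helper77.RegularCM.isCohenMacaulayLocalRing Sq
  have hloc : IsLocalHom (algebraMap Rp Sq) := by
    change IsLocalHom (Localization.localRingHom (p.under PS) p (algebraMap PS A) Ideal.LiesOver.over)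
    infer_instance
  have hmax : (maximalIdeal Rp).map (algebraMap Rp Sq) = maximalIdeal Sq := by
    rw [← hmap, ← IsLocalization.AtPrime.map_eq_maximalIdeal (p.under PS) Rp, Ideal.map_map,
      ← IsScalarTower.algebraMap_eq]
  have hzero : ∀ I : Ideal Sq, I = maximalIdeal Sq → ringKrullDim (Sq ⧸ I) = 0 := by
    rintro _ rfl
    exact ringKrullDim_eq_zero_of_isField
      ((Ideal.Quotient.maximal_ideal_iff_isField_quotient _).mp inferInstance)
  have hflat : Module.Flat Rp Sq := by
    apply Groth.Agent.Lib.Helper77.MiracleFlat.miracle_flatness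
    rw [hzero _ hmax, add_zero, hdim]
    exact (IsLocalization.AtPrime.ringKrullDim_eq_height (p.under PS) Rp).symm
  have : FormallyUnramified Rp Sq := .of_restrictScalars PS Rp Sq
  have : EssFiniteType Rp Sq := .of_comp PS Rp Sq
  have hfe : FormallyEtale (ResidueField Rp) (ResidueField Rp ⊗[Rp] Sq) :=
    FormallyEtale.of_formallyUnramified_of_field _ _
  have : FormallySmooth (ResidueField Rp) (ResidueField Rp ⊗[Rp] Sq) := inferInstance
  have hsm : FormallySmooth Rp Sq := FormallySmooth.of_formallySmooth_residueField_tensor
    (R := Rp) (S := Sq) (P := Sp) (algebraMapSubmonoid _ p.primeCompl)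
  have : FormallySmooth PS Rp := FormallySmooth.of_isLocalization (p.under PS).primeCompl
  have : FormallySmooth PS Sq := .comp PS Rp Sq
  exact FormallyEtale.of_formallyUnramified_and_formallySmooth

end K1

end Groth.Agent.Lib.Helper52.CompDiffEtale
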