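import Mathlib
import Groth.Agent.Lib.Helper52.CompDiffFinite
import Groth.Agent.Lib.Helper47.AdicFinite

/-!
# Exactness of the completed cotangent sequence

For complete Noetherian local `k`-algebras `R → S` with `S` finite over `R` and `Ω_{κ(S)/k}`
finite-dimensional, the completed sequence `(S ⊗_R Ω_{R/k})^ → (Ω_{S/k})^ → (Ω_{S/R})^ → 0` is
exact.
-/

namespace Groth.Agent.Lib.Helper52.CompDiff

open IsLocalRing KaehlerDifferential TensorProduct

section General

variable {S : Type*} [CommRing S] [IsNoetherianRing S] [IsLocalRing S]
  {P Q T : Type*} [AddCommGroup P] [Module S P] [AddCommGroup Q] [Module S Q]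
  [AddCommGroup T] [Module S T]

omit [IsNoetherianRing S] [IsLocalRing S] in
theorem map_mem_pow_smul_top' (I : Ideal S) {N N' : Type*} [AddCommGroup N] [Module S N]
    [AddCommGroup N'] [Module S N'] (g : N →ₗ[S] N') (n : ℕ)
    {e : N} (he : e ∈ (I ^ n • ⊤ : Submodule S N)) : g e ∈ (I ^ n • ⊤ : Submodule S N') := by
  have h1 : g e ∈ (I ^ n • ⊤ : Submodule S N).map g := Submodule.mem_map_of_mem he
  rw [Submodule.map_smul''] at h1
  exact Submodule.smul_mono le_rfl le_top h1

/-- Completion of a right exact sequence stays exact in the middle as soon as the completion of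
the middle term is a finite module. -/
theorem range_map_eq_ker_map (α : P →ₗ[S] Q) (β : Q →ₗ[S] T) (hex : Function.Exact α β)
    (hβ : Function.Surjective β) [Module.Finite S (AdicCompletion (maximalIdeal S) Q)] :
    LinearMap.range (AdicCompletion.map (maximalIdeal S) α) =
      LinearMap.ker (AdicCompletion.map (maximalIdeal S) β) := by
  set m := maximalIdeal S with hm
  apply le_antisymm
  · rintro _ ⟨p, rfl⟩
    rw [LinearMap.mem_ker, AdicCompletion.map_comp_apply, hex.linearMap_comp_eq_zero,
      AdicCompletion.map_zero]
    rfl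
  · intro z hz
    rw [LinearMap.mem_ker] at hz
    let W : Submodule S (AdicCompletion m Q) :=
      (LinearMap.range (AdicCompletion.map m α)).restrictScalars S
    have key : ∀ n : ℕ, ∃ w ∈ W, z - w ∈ (m ^ n • ⊤ : Submodule S (AdicCompletion m Q)) := by
      intro n
      obtain ⟨q, hq⟩ := Submodule.Quotient.mk_surjective _ (z.val n)
      have h1 : (AdicCompletion.map m β z).val n = 0 := by rw [hz]; rfl
      rw [AdicCompletion.map_val_apply, ← hq, LinearMap.reduceModIdeal_apply,
        Submodule.Quotient.mk_eq_zero] at h1
      have h2 : (m ^ n • ⊤ : Submodule S T) = (m ^ n • ⊤ : Submodule S Q).map β := by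
        rw [Submodule.map_smul'', Submodule.map_top, LinearMap.range_eq_top.mpr hβ]
      rw [h2] at h1
      obtain ⟨q', hq', hqq'⟩ := h1
      have h3 : β (q - q') = 0 := by rw [map_sub, hqq', sub_self]
      obtain ⟨p, hp⟩ := (hex (q - q')).mp h3
      refine ⟨AdicCompletion.map m α (AdicCompletion.of m P p), ⟨_, rfl⟩, ?_⟩
      have e1 : AdicCompletion.eval m Q n z = Submodule.Quotient.mk q := hq.symm
      have e2 : AdicCompletion.eval m Q n (AdicCompletion.map m α (AdicCompletion.of m P p)) =
          Submodule.Quotient.mk (q - q') := by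
        rw [AdicCompletion.map_of, hp]; rfl
      rw [AdicCompletion.pow_smul_top_eq_ker_eval (IsNoetherian.noetherian m), LinearMap.mem_ker,
        map_sub, e1, e2, ← Submodule.Quotient.mk_sub, Submodule.Quotient.mk_eq_zero]
      have : q - (q - q') = q' := by abel
      rw [this]; exact hq'
    -- Krull intersection in the finite module `Q̂ ⧸ W`
    have hK := Ideal.iInf_pow_smul_eq_bot_of_isLocalRing (R := S)
      (M := AdicCompletion m Q ⧸ W) m (maximalIdeal.isMaximal S).ne_top
    have hz0 : W.mkQ z = 0 := by
      have : W.mkQ z ∈ (⨅ i, m ^ i • ⊤ : Submodule S (AdicCompletion m Q ⧸ W)) := by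
        rw [Submodule.mem_iInf]
        intro n
        obtain ⟨w, hw, hzw⟩ := key n
        have h4 : W.mkQ z = W.mkQ (z - w) := by
          have hw0 : W.mkQ w = 0 := (Submodule.Quotient.mk_eq_zero W).mpr hw
          rw [map_sub, hw0, sub_zero]
        rw [h4]
        exact map_mem_pow_smul_top' m W.mkQ n hzw
      rw [hK] at this
      exact this
    exact (Submodule.Quotient.mk_eq_zero W).mp hz0

end General


section Fin

universe u

variable {k A : Type u} [CommRing k] [CommRing A] [IsLocalRing A] [IsNoetherianRing A]
  [Algebra k A] [Module.Finite (ResidueField A) (Ω[ResidueField A⁄k])]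

theorem finite_tensor' : Module.Finite A (ResidueField A ⊗[A] Ω[A⁄k]) := by
  have hsurj : Function.Surjective (algebraMap A (ResidueField A)) := residue_surjective
  let g : ResidueField A ⊗[A] Ω[A⁄k] →ₗ[A] Ω[ResidueField A⁄k] :=
    (mapBaseChange k A (ResidueField A)).restrictScalars A
  have hg : Function.Surjective g := mapBaseChange_surjective k A (ResidueField A) hsurj
  have : Module.Finite A (ResidueField A) := Module.Finite.of_surjective
    (Algebra.linearMap A (ResidueField A)) hsurj
  have : Module.Finite A (Ω[ResidueField A⁄k]) := Module.Finite.trans (ResidueField A) _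
  rw [Module.finite_def]
  apply Submodule.fg_of_fg_map_of_fg_inf_ker g
  · rw [Submodule.map_top, LinearMap.range_eq_top.mpr hg]
    exact Module.finite_def.mp inferInstance
  · rw [top_inf_eq]
    have : LinearMap.ker g = LinearMap.range (kerCotangentToTensor k A (ResidueField A)) := by
      rw [range_kerCotangentToTensor k A (ResidueField A) hsurj]; rfl
    rw [this, LinearMap.range_eq_map]
    have hcot : Module.Finite A (RingHom.ker (algebraMap A (ResidueField A))).Cotangent :=
      Module.Finite.of_surjective (Ideal.toCotangent _) (Ideal.toCotangent_surjective _)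
    exact Submodule.FG.map _ (Module.finite_def.mp hcot)

theorem finite_completion' [IsAdicComplete (maximalIdeal A) A] :
    Module.Finite A (AdicCompletion (maximalIdeal A) (Ω[A⁄k])) := by
  have h2 : Module.Finite A ((A ⧸ maximalIdeal A) ⊗[A] Ω[A⁄k]) := finite_tensor' (k := k) (A := A)
  have : Module.Finite A (Ω[A⁄k] ⧸ (maximalIdeal A • ⊤ : Submodule A (Ω[A⁄k]))) :=
    Module.Finite.equiv (TensorProduct.quotTensorEquivQuotSMul (Ω[A⁄k]) (maximalIdeal A))
  exact finite_adicCompletion_of_finite_quotient (maximalIdeal A)

end Fin

section Main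

universe u

variable (k R S : Type u) [Field k] [CommRing R] [Algebra k R]
    [CommRing S] [IsNoetherianRing S] [IsLocalRing S] [Algebra k S]
    [IsAdicComplete (IsLocalRing.maximalIdeal S) S] [Algebra R S] [IsScalarTower k R S]
    [Module.Finite R S] [Module.Finite (IsLocalRing.ResidueField S) (Ω[IsLocalRing.ResidueField S⁄k])]

theorem main_exact :
    IsAdicComplete (IsLocalRing.maximalIdeal S) (Ω[S⁄R]) ∧
      Function.Surjective (AdicCompletion.map (IsLocalRing.maximalIdeal S)
        (KaehlerDifferential.map k R S S)) ∧
      LinearMap.range (AdicCompletion.map (IsLocalRing.maximalIdeal S)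
        (KaehlerDifferential.mapBaseChange k R S)) =
        LinearMap.ker (AdicCompletion.map (IsLocalRing.maximalIdeal S)
          (KaehlerDifferential.map k R S S)) := by
  have hfin : Module.Finite S (Ω[S⁄R]) := inferInstance
  have hQ : Module.Finite S (AdicCompletion (maximalIdeal S) (Ω[S⁄k])) := finite_completion'
  refine ⟨Groth.Agent.Lib.Helper47.AdicFinite.isAdicComplete_of_finite _ _,
    AdicCompletion.map_surjective _ (KaehlerDifferential.map_surjective k R S), ?_⟩
  exact range_map_eq_ker_map _ _ (KaehlerDifferential.exact_mapBaseChange_map k R S)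
    (KaehlerDifferential.map_surjective k R S)

end Main

end Groth.Agent.Lib.Helper52.CompDiff
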