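import Mathlib
import Groth.Agent.Lib.Helper52.CompDiffUnram

/-!
# Freeness of the localised completed differentials at an étale point

For `A` finite over `PS = k[[T_1..T_r]]` and a prime `p` at which `A` is étale over `PS`, the
module `Ω̂_p` is free on the `d̂T_j`.
-/

set_option linter.unusedSectionVars false

namespace Groth.Agent.Lib.Helper52.CompDiffFree

open IsLocalRing KaehlerDifferential TensorProduct
open Groth.Agent.Lib.Helper52.PSKaehler Groth.Agent.Lib.Helper52.CompDiffLocal
open Groth.Agent.Lib.Helper52.CompDiffUnram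

universe u

section Dual

variable (k : Type u) [Field k] (r : ℕ) (A : Type u) [CommRing A]
    [IsLocalRing A] [IsNoetherianRing A] [IsAdicComplete (maximalIdeal A) A]
    [Algebra (MvPowerSeries (Fin r) k) A] [Algebra k A]
    [IsScalarTower k (MvPowerSeries (Fin r) k) A]
    [Module.Finite (MvPowerSeries (Fin r) k) A] [Module.Finite k (ResidueField A)]
    (E : Type u) [CommRing E] [Algebra A E] [Algebra (MvPowerSeries (Fin r) k) E]
    [IsScalarTower (MvPowerSeries (Fin r) k) A E] [Algebra k E] [IsScalarTower k A E]
    [IsScalarTower k (MvPowerSeries (Fin r) k) E]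

local notation "PS" => MvPowerSeries (Fin r) k
local notation "Ωh" => AdicCompletion (maximalIdeal A) (Ω[A⁄k])

theorem map_μ (ω : Ω[PS⁄k]) :
    KaehlerDifferential.map k k A E (μ k r A ω) = KaehlerDifferential.map k k PS E ω := by
  have hω : ω ∈ Submodule.span PS (Set.range (D k PS)) := by
    rw [KaehlerDifferential.span_range_derivation]; exact Submodule.mem_top
  induction hω using Submodule.span_induction with
  | mem x hx =>
    obtain ⟨f, rfl⟩ := hx
    rw [KaehlerDifferential.map_D, KaehlerDifferential.map_D, KaehlerDifferential.map_D,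
      ← IsScalarTower.algebraMap_apply]
  | zero => simp only [map_zero]
  | add x y _ _ hx hy => simp only [map_add, hx, hy]
  | smul a x _ hx =>
    rw [map_smul (μ k r A), LinearMap.map_smul_of_tower, hx, map_smul]

/-- Dual functionals to the `d̂T_j` with values in a formally étale `PS`-algebra over `A`. -/
theorem exists_dual (hFE : Algebra.FormallyEtale PS E) (i : Fin r) :
    ∃ g : Ωh →ₗ[A] E, ∀ j, g (c k A (D k A (T k r A j))) = if i = j then 1 else 0 := by
  classical
  have hPS : IsBaseChange E (KaehlerDifferential.map k k PS E) :=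
    KaehlerDifferential.isBaseChange_of_formallyEtale k PS E
  let θ : Ω[PS⁄k] →ₗ[PS] E :=
    (Algebra.linearMap PS E).comp ((LinearMap.proj i).comp (ψ k r))
  let ℓE : Ω[E⁄k] →ₗ[E] E := hPS.lift θ
  let ℓ : Ω[A⁄k] →ₗ[A] E := (ℓE.restrictScalars A).comp (KaehlerDifferential.map k k A E)
  have hℓμ : ∀ ω : Ω[PS⁄k], ℓ (μ k r A ω) = algebraMap PS E (ψ k r ω i) := by
    intro ω
    change ℓE (KaehlerDifferential.map k k A E (μ k r A ω)) = _
    rw [map_μ, hPS.lift_eq]
    rfl
  have hℓD : ∀ f : PS, ℓ (D k A (algebraMap PS A f)) = algebraMap PS E (ψ k r (D k PS f) i) := by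
    intro f
    rw [← hℓμ, KaehlerDifferential.map_D]
  -- a finite submodule containing the range of `ℓ`
  obtain ⟨G, hG⟩ := (Module.Finite.fg_top : (⊤ : Submodule PS A).FG)
  let F : Submodule A E := Submodule.span A (insert (1 : E) ((fun a => ℓ (D k A a)) '' (G : Set A)))
  have hFfin : Module.Finite A F :=
    Module.Finite.span_of_finite A ((G.finite_toSet.image _).insert 1)
  have h1F : (1 : E) ∈ F := Submodule.subset_span (Set.mem_insert _ _)
  have hDF : ∀ x : A, ℓ (D k A x) ∈ F := by
    intro x
    have hx : x ∈ Submodule.span PS (G : Set A) := by rw [hG]; exact Submodule.mem_top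
    induction hx using Submodule.span_induction with
    | mem y hy => exact Submodule.subset_span (Set.mem_insert_of_mem _ ⟨y, hy, rfl⟩)
    | zero => rw [map_zero, map_zero]; exact F.zero_mem
    | add y z _ _ hy hz => rw [map_add, map_add]; exact F.add_mem hy hz
    | smul f y _ hy =>
      rw [Algebra.smul_def, Derivation.leibniz, map_add, map_smul, map_smul, hℓD]
      refine F.add_mem (F.smul_mem _ hy) ?_
      have : y • algebraMap PS E (ψ k r (D k PS f) i) =
          (y * algebraMap PS A (ψ k r (D k PS f) i)) • (1 : E) := by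
        rw [IsScalarTower.algebraMap_apply PS A E, Algebra.smul_def, Algebra.smul_def, mul_one,
          map_mul]
      rw [this]
      exact F.smul_mem _ h1F
  have hℓF : ∀ ω : Ω[A⁄k], ℓ ω ∈ F := by
    intro ω
    have hω : ω ∈ Submodule.span A (Set.range (D k A)) := by
      rw [KaehlerDifferential.span_range_derivation]; exact Submodule.mem_top
    induction hω using Submodule.span_induction with
    | mem y hy => obtain ⟨x, rfl⟩ := hy; exact hDF x
    | zero => rw [map_zero]; exact F.zero_mem
    | add y z _ _ hy hz => rw [map_add]; exact F.add_mem hy hz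
    | smul a y _ hy => rw [map_smul]; exact F.smul_mem _ hy
  -- `ℓ` kills the kernel of the completion map
  have hker : LinearMap.ker (c k A) ≤ LinearMap.ker ℓ := by
    intro ω hω
    rw [LinearMap.mem_ker] at hω ⊢
    have hmem := (of_eq_zero_iff k A _ ω).mp hω
    let ℓ' : Ω[A⁄k] →ₗ[A] F := ℓ.codRestrict F hℓF
    have h2 : ℓ' ω ∈ (⨅ n : ℕ, maximalIdeal A ^ n • ⊤ : Submodule A F) := by
      rw [Submodule.mem_iInf]
      intro n
      exact map_mem_pow_smul_top (maximalIdeal A) ℓ' n (hmem n)
    rw [Ideal.iInf_pow_smul_eq_bot_of_isLocalRing (maximalIdeal A)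
      (Ideal.IsPrime.ne_top inferInstance), Submodule.mem_bot] at h2
    exact congrArg Subtype.val h2
  let e := (c k A).quotKerEquivOfSurjective (c_surjective k A)
  let g : Ωh →ₗ[A] E := ((LinearMap.ker (c k A)).liftQ ℓ hker).comp e.symm.toLinearMap
  have hgc : ∀ ω : Ω[A⁄k], g (c k A ω) = ℓ ω := by
    intro ω
    have : e.symm (c k A ω) = Submodule.Quotient.mk ω := by
      rw [LinearEquiv.symm_apply_eq]
      rfl
    simp only [g, LinearMap.comp_apply, LinearEquiv.coe_coe]
    rw [this, Submodule.liftQ_apply]
  refine ⟨g, fun j => ?_⟩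
  rw [hgc, hℓD, CompDiffRank.ψ_D_X]
  split_ifs <;> simp

end Dual

section Free

variable (k : Type u) [Field k] (r : ℕ) (A : Type u) [CommRing A]
    [IsLocalRing A] [IsNoetherianRing A] [IsAdicComplete (maximalIdeal A) A]
    [Algebra (MvPowerSeries (Fin r) k) A] [Algebra k A]
    [IsScalarTower k (MvPowerSeries (Fin r) k) A]
    [Module.Finite (MvPowerSeries (Fin r) k) A] [Module.Finite k (ResidueField A)]

local notation "PS" => MvPowerSeries (Fin r) k
local notation "Ωh" => AdicCompletion (maximalIdeal A) (Ω[A⁄k])

/-- **K3**: at a point where `A` is étale over `k[[T]]`, `Ω̂_p` is free on the `d̂T_j`. -/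
theorem free_of_formallyEtale (p : Ideal A) [p.IsPrime]
    (hFE : Algebra.FormallyEtale PS (Localization.AtPrime p)) :
    Module.Free (Localization.AtPrime p) (LocalizedModule p.primeCompl Ωh) ∧
      Module.finrank (Localization.AtPrime p) (LocalizedModule p.primeCompl Ωh) = r := by
  classical
  have hunr : Algebra.IsUnramifiedAt PS p :=
    (inferInstance : Algebra.FormallyUnramified PS (Localization.AtPrime p))
  have hfull := full_of_unramified k r A p hunr
  have hspan := (full_span_iff p _).mp hfull
  have htower : IsScalarTower k PS (Localization.AtPrime p) :=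
    IsScalarTower.to₁₂₄ k PS A (Localization.AtPrime p)
  have hex := fun i => exists_dual k r A (Localization.AtPrime p) hFE i
  choose g hg using hex
  have hunits : ∀ x : p.primeCompl,
      IsUnit (algebraMap A (Module.End A (Localization.AtPrime p)) x) :=
    IsLocalizedModule.map_units (Algebra.linearMap A (Localization.AtPrime p))
  let G : Fin r → (LocalizedModule p.primeCompl Ωh →ₗ[Localization.AtPrime p]
      Localization.AtPrime p) := fun i =>
    LinearMap.extendScalarsOfIsLocalization p.primeCompl (Localization.AtPrime p)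
      (IsLocalizedModule.lift p.primeCompl (LocalizedModule.mkLinearMap p.primeCompl Ωh)
        (g i) hunits)
  have hG : ∀ i (ω : Ωh), G i (LocalizedModule.mkLinearMap p.primeCompl Ωh ω) = g i ω := by
    intro i ω
    simp only [G, LinearMap.extendScalarsOfIsLocalization_apply']
    exact IsLocalizedModule.lift_apply p.primeCompl _ (g i) hunits ω
  have hli : LinearIndependent (Localization.AtPrime p)
      (fun j => LocalizedModule.mkLinearMap p.primeCompl Ωh (c k A (D k A (T k r A j)))) := by
    rw [Fintype.linearIndependent_iff]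
    intro e he i
    have h1 := congrArg (G i) he
    rw [map_sum, map_zero] at h1
    simp only [map_smul, hG, hg, smul_eq_mul] at h1
    rw [Finset.sum_eq_single i] at h1
    · simpa using h1
    · intro j _ hji
      rw [if_neg (Ne.symm hji), mul_zero]
    · intro h; exact absurd (Finset.mem_univ i) h
  have b : Module.Basis (Fin r) (Localization.AtPrime p) (LocalizedModule p.primeCompl Ωh) :=
    Module.Basis.mk hli hspan.ge
  exact ⟨Module.Free.of_basis b, by rw [Module.finrank_eq_card_basis b, Fintype.card_fin]⟩

end Free

end Groth.Agent.Lib.Helper52.CompDiffFree
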