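import Mathlib
import Groth.Agent.Lib.Helper52.CompDiffEtale
import Groth.Agent.Lib.Helper56.RegularHom
import Groth.Agent.Lib.Helper77.RegularLocalization

/-!
# Geometric regularity of `A_p` when `A_p` is unramified over a power series ring

* `isRegularRing_of_flat_of_formallyUnramified`: a Noetherian flat, formally unramified, essentially
  of finite type algebra over a regular ring is regular.
* `isRegularRing_tensor`: `k[[X]] ⊗[k] K` is regular for `K/k` finite.
* `flat_of_unramified`: flatness part of K2.
* `isGeometricallyRegular_of_unramified`.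
-/

set_option linter.unusedSectionVars false

open IsLocalRing TensorProduct
universe u

namespace Groth.Agent.Lib.Helper52.CompDiffGeomReg

section General

theorem isRegularRing_of_isArtinianRing_of_isReduced (E : Type*) [CommRing E] [IsArtinianRing E]
    [IsReduced E] : IsRegularRing E := by
  rw [isRegularRing_iff]
  intro p hp
  have hfield : IsField (Localization.AtPrime p) :=
    IsArtinianRing.isField_of_isReduced_of_isLocalRing _
  apply IsRegularLocalRing.of_spanFinrank_maximalIdeal_le
  have : maximalIdeal (Localization.AtPrime p) = ⊥ :=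
    IsLocalRing.isField_iff_maximalIdeal_eq.mp hfield
  rw [this]
  have : (⊥ : Ideal (Localization.AtPrime p)).spanFinrank = 0 := by
    simp [Submodule.spanFinrank_bot]
  rw [this]
  exact_mod_cast ringKrullDim_nonneg_of_nontrivial

theorem isRegularRing_of_formallyUnramified_field (F E : Type*) [Field F] [CommRing E]
    [Algebra F E] [Algebra.FormallyUnramified F E] [Algebra.EssFiniteType F E] :
    IsRegularRing E := by
  have : Module.Finite F E := Algebra.FormallyUnramified.finite_of_free F E
  have : IsReduced E := Algebra.FormallyUnramified.isReduced_of_field F E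
  have : IsArtinianRing E := IsArtinianRing.of_finite F E
  exact isRegularRing_of_isArtinianRing_of_isReduced E

theorem isRegularRing_of_flat_of_formallyUnramified (R S : Type u) [CommRing R] [CommRing S]
    [Algebra R S] [IsNoetherianRing S] [Module.Flat R S] [Algebra.FormallyUnramified R S]
    [Algebra.EssFiniteType R S] (hR : IsRegularRing R) : IsRegularRing S :=
  Groth.Agent.Lib.Helper56.isRegularRing_of_flat_of_fibres R S hR
    (fun p _ => isRegularRing_of_formallyUnramified_field p.ResidueField (p.Fiber S))

theorem isRegularRing_tensor_of_flat_unramified (k K PS S : Type u) [Field k] [Field K]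
    [Algebra k K] [Module.Finite k K] [CommRing PS] [Algebra k PS] [CommRing S] [Algebra k S]
    [Algebra PS S] [IsScalarTower k PS S] [IsNoetherianRing S] [Module.Flat PS S]
    [Algebra.FormallyUnramified PS S] [Algebra.EssFiniteType PS S]
    (hR : IsRegularRing (PS ⊗[k] K)) : IsRegularRing (K ⊗[k] S) := by
  let e1 : (PS ⊗[k] K) ⊗[PS] S ≃ₐ[PS] S ⊗[PS] (PS ⊗[k] K) := Algebra.TensorProduct.comm PS _ _
  let e2 : S ⊗[PS] (PS ⊗[k] K) ≃ₐ[S] S ⊗[k] K := Algebra.TensorProduct.cancelBaseChange k PS S S K
  let e3 : S ⊗[k] K ≃ₐ[k] K ⊗[k] S := Algebra.TensorProduct.comm k S K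
  let e : (PS ⊗[k] K) ⊗[PS] S ≃+* K ⊗[k] S :=
    (e1.toRingEquiv.trans e2.toRingEquiv).trans e3.toRingEquiv
  have h1 : IsNoetherianRing (S ⊗[k] K) := IsNoetherianRing.of_finite S _
  have h2 : IsNoetherianRing ((PS ⊗[k] K) ⊗[PS] S) :=
    isNoetherianRing_of_ringEquiv _ (e1.toRingEquiv.trans e2.toRingEquiv).symm
  have h3 : IsRegularRing ((PS ⊗[k] K) ⊗[PS] S) :=
    isRegularRing_of_flat_of_formallyUnramified (PS ⊗[k] K) _ hR
  exact IsRegularRing.of_ringEquiv e

end General

section PSK

variable (k : Type u) [Field k] (n : ℕ) (K : Type u) [Field K] [Algebra k K]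

local notation "PS" => MvPowerSeries (Fin n) k

/-- constant coefficient as a `k`-algebra map. -/
noncomputable def cc : PS →ₐ[k] k :=
  { (MvPowerSeries.constantCoeff : PS →+* k) with
    commutes' := fun c => by simp [MvPowerSeries.algebraMap_apply] }

@[simp] theorem cc_apply (f : PS) : cc k n f = MvPowerSeries.constantCoeff f := rfl

noncomputable def eps : PS ⊗[k] K →ₐ[k] K :=
  Algebra.TensorProduct.lift ((Algebra.ofId k K).comp (cc k n)) (AlgHom.id k K)
    (fun _ _ => Commute.all _ _)

@[simp] theorem eps_tmul (f : PS) (c : K) :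
    eps k n K (f ⊗ₜ c) = algebraMap k K (MvPowerSeries.constantCoeff f) * c := by
  simp [eps, Algebra.ofId_apply]

theorem mem_maximalIdeal_iff (f : PS) :
    f ∈ maximalIdeal PS ↔ MvPowerSeries.constantCoeff f = 0 := by
  rw [IsLocalRing.mem_maximalIdeal, mem_nonunits_iff, MvPowerSeries.isUnit_iff_constantCoeff,
    isUnit_iff_ne_zero, not_not]

theorem sub_mem (z : PS ⊗[k] K) :
    z - 1 ⊗ₜ (eps k n K z) ∈ (maximalIdeal PS).map (algebraMap PS (PS ⊗[k] K)) := by
  induction z with
  | zero => simp
  | add x y hx hy =>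
    have : x + y - 1 ⊗ₜ[k] (eps k n K (x + y)) =
        (x - 1 ⊗ₜ (eps k n K x)) + (y - 1 ⊗ₜ (eps k n K y)) := by
      rw [map_add, TensorProduct.tmul_add]; ring
    rw [this]
    exact Ideal.add_mem _ hx hy
  | tmul f c =>
    have h1 : f ⊗ₜ[k] c - 1 ⊗ₜ (eps k n K (f ⊗ₜ c)) =
        algebraMap PS (PS ⊗[k] K) (f - MvPowerSeries.C (MvPowerSeries.constantCoeff f)) *
          (1 ⊗ₜ c) := by
      rw [eps_tmul, Algebra.TensorProduct.algebraMap_apply, Algebra.TensorProduct.tmul_mul_tmul,
        ← Algebra.smul_def, TensorProduct.tmul_smul, TensorProduct.smul_tmul', mul_one, one_mul,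
        Algebra.algebraMap_self, RingHom.id_apply, TensorProduct.sub_tmul, MvPowerSeries.smul_eq_C_mul, mul_one]
    rw [h1]
    refine Ideal.mul_mem_right _ _ (Ideal.mem_map_of_mem _ ?_)
    rw [mem_maximalIdeal_iff]
    simp

theorem ker_eps : RingHom.ker (eps k n K).toRingHom =
    (maximalIdeal PS).map (algebraMap PS (PS ⊗[k] K)) := by
  apply le_antisymm
  · intro z hz
    have hz' : eps k n K z = 0 := hz
    have := sub_mem k n K z
    rwa [hz', TensorProduct.tmul_zero, sub_zero] at this
  · rw [Ideal.map_le_iff_le_comap]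
    intro f hf
    rw [mem_maximalIdeal_iff] at hf
    change eps k n K (algebraMap PS (PS ⊗[k] K) f) = 0
    rw [Algebra.TensorProduct.algebraMap_apply, eps_tmul]
    simp [hf]

theorem eps_surjective : Function.Surjective (eps k n K) := fun c => ⟨1 ⊗ₜ c, by simp⟩

theorem isMaximal_map : ((maximalIdeal PS).map (algebraMap PS (PS ⊗[k] K))).IsMaximal := by
  rw [← ker_eps]
  exact RingHom.ker_isMaximal_of_surjective _ (eps_surjective k n K)

variable [Module.Finite k K]

theorem isLocalRing_tensor : IsLocalRing (PS ⊗[k] K) := by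
  have hmax := isMaximal_map k n K
  refine IsLocalRing.of_unique_max_ideal ⟨_, hmax, fun M hM => ?_⟩
  have : (M.comap (algebraMap PS (PS ⊗[k] K))).IsMaximal :=
    Ideal.isMaximal_comap_of_isIntegral_of_isMaximal M
  have h1 : M.comap (algebraMap PS (PS ⊗[k] K)) = maximalIdeal PS :=
    IsLocalRing.eq_maximalIdeal this
  have h2 : (maximalIdeal PS).map (algebraMap PS (PS ⊗[k] K)) ≤ M := by
    rw [Ideal.map_le_iff_le_comap, h1]
  exact (hmax.eq_of_le hM.ne_top h2).symm

theorem isRegularRing_tensor : IsRegularRing (PS ⊗[k] K) := by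
  have hloc := isLocalRing_tensor k n K
  have hmax := isMaximal_map k n K
  have hm : maximalIdeal (PS ⊗[k] K) = (maximalIdeal PS).map (algebraMap PS (PS ⊗[k] K)) :=
    (IsLocalRing.eq_maximalIdeal hmax).symm
  have hnoeth : IsNoetherianRing (PS ⊗[k] K) := IsNoetherianRing.of_finite PS _
  have hinj : Function.Injective (algebraMap PS (PS ⊗[k] K)) :=
    Algebra.TensorProduct.includeLeft_injective (S := PS) (algebraMap k K).injective
  have hdim : ringKrullDim (PS ⊗[k] K) = ringKrullDim PS :=
    Groth.Agent.Lib.Helper73.ringKrullDim_eq_of_isIntegral_of_injective hinj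
  have hregR : IsRegularRing PS := CompDiffReg.isRegularRing_PS k n
  have hregL : IsRegularLocalRing PS := IsRegularLocalRing.of_isRegularRing_of_isLocalRing PS
  have h1 : ((maximalIdeal PS).spanFinrank : WithBot ℕ∞) = ringKrullDim PS :=
    hregL.spanFinrank_maximalIdeal
  have h2 : (maximalIdeal (PS ⊗[k] K)).spanFinrank ≤ (maximalIdeal PS).spanFinrank := by
    rw [hm]
    exact Ideal.spanFinrank_map_le_of_fg _ (IsNoetherian.noetherian _)
  have hreg : IsRegularLocalRing (PS ⊗[k] K) := by
    apply IsRegularLocalRing.of_spanFinrank_maximalIdeal_le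
    rw [hdim, ← h1]
    exact_mod_cast h2
  exact Groth.Agent.Lib.Helper77.RegularLocalization.isRegularRing_of_isRegularLocalRing _

end PSK

section K4

variable (k : Type u) [Field k] (n : ℕ) (A : Type u) [CommRing A] [IsNoetherianRing A]
  [Algebra (MvPowerSeries (Fin n) k) A] [Module.Finite (MvPowerSeries (Fin n) k) A]

local notation "PS" => MvPowerSeries (Fin n) k

open Algebra in
/-- flatness part of **K2**. -/
theorem flat_of_unramified (p q : Ideal A) [p.IsPrime] [q.IsPrime] (hqp : q ≤ p)
    (hinj : Function.Injective (algebraMap PS (A ⧸ q))) (hunr : Algebra.IsUnramifiedAt PS p) :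
    Module.Flat PS (Localization.AtPrime p) := by
  obtain ⟨hreg, hdim, hmap⟩ := CompDiffEtale.isRegularLocalRing_of_unramified k n A p q hqp hinj hunr
  have hregR : IsRegularRing PS := CompDiffReg.isRegularRing_PS k n
  let Rp := Localization.AtPrime (p.under PS)
  let Sq := Localization.AtPrime p
  let _ := Localization.AtPrime.algebraOfLiesOver (p.under PS) p
  have hregP : IsRegularLocalRing Rp := hregR.isRegularLocalRing_localization _
  have hCM : LocCoh.IsCohenMacaulayLocalRing Sq :=
    Groth.Agent.Lib.Helper77.RegularCM.isCohenMacaulayLocalRing Sq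
  have hloc : IsLocalHom (algebraMap Rp Sq) := by
    change IsLocalHom (Localization.localRingHom (p.under PS) p (algebraMap PS A) Ideal.LiesOver.over)
    infer_instance
  have hmax : (maximalIdeal Rp).map (algebraMap Rp Sq) = maximalIdeal Sq := by
    rw [← hmap, ← IsLocalization.AtPrime.map_eq_maximalIdeal (p.under PS) Rp, Ideal.map_map,
      ← IsScalarTower.algebraMap_eq]
  have hzero : ∀ I : Ideal Sq, I = maximalIdeal Sq → ringKrullDim (Sq ⧸ I) = 0 := by
    rintro _ rfl
    exact ringKrullDim_eq_zero_of_isField
      ((Ideal.Quotient.maximal_ideal_iff_isField_quotient _).mp inferInstance)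
  have hflat : Module.Flat Rp Sq := by
    apply Groth.Agent.Lib.Helper77.MiracleFlat.miracle_flatness
    rw [hzero _ hmax, add_zero, hdim]
    exact (IsLocalization.AtPrime.ringKrullDim_eq_height (p.under PS) Rp).symm
  have : Module.Flat PS Rp := IsLocalization.flat Rp (p.under PS).primeCompl
  exact Module.Flat.trans PS Rp Sq

variable [Algebra k A] [IsScalarTower k (MvPowerSeries (Fin n) k) A]

/-- **K4**: `A_p` is geometrically regular over `k`. -/
theorem isGeometricallyRegular_of_unramified (p q : Ideal A) [p.IsPrime] [q.IsPrime] (hqp : q ≤ p)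
    (hinj : Function.Injective (algebraMap PS (A ⧸ q))) (hunr : Algebra.IsUnramifiedAt PS p) :
    CAlg.IsGeometricallyRegular k (Localization.AtPrime p) := by
  intro K _ _ hfin
  have hflat := flat_of_unramified k n A p q hqp hinj hunr
  have hunr' : Algebra.FormallyUnramified PS (Localization.AtPrime p) := hunr
  have h1 : Algebra.EssFiniteType A (Localization.AtPrime p) :=
    Algebra.EssFiniteType.of_isLocalization _ p.primeCompl
  have h2 : Algebra.EssFiniteType PS (Localization.AtPrime p) :=
    Algebra.EssFiniteType.comp PS A _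
  exact isRegularRing_tensor_of_flat_unramified k K PS (Localization.AtPrime p)
    (isRegularRing_tensor k n K)

end K4

end Groth.Agent.Lib.Helper52.CompDiffGeomReg
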