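import Mathlib
import Groth.Agent.Lib.Helper52.CompDiffDim
import Groth.Agent.Lib.Helper52.CompDiffEtale
import Groth.Agent.Lib.Helper52.CompDiffFree

/-!
# Main constructions for completed differentials at a prime of a top-dimensional component
-/

set_option linter.unusedSectionVars false

namespace Groth.Agent.Lib.Helper52.CompDiffMain

open IsLocalRing KaehlerDifferential
open Groth.Agent.Lib.Helper52.CompDiffLocal

universe u

section Gen

/-- From generators of the localisation, extract numerators that still generate. -/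
theorem exists_full_of_gen {A : Type*} [CommRing A] {N : Type*} [AddCommGroup N] [Module A N]
    (p : Ideal A) [p.IsPrime] {m : ℕ}
    (hgen : ∃ s : Fin m → LocalizedModule p.primeCompl N,
      Submodule.span (Localization.AtPrime p) (Set.range s) = ⊤) :
    ∃ v : Fin m → N, Full p (Submodule.span A (Set.range v)) := by
  obtain ⟨s, hs⟩ := hgen
  have hex : ∀ i, ∃ mt : N × p.primeCompl,
      IsLocalizedModule.mk' (LocalizedModule.mkLinearMap p.primeCompl N) mt.1 mt.2 = s i :=
    fun i => IsLocalizedModule.mk'_surjective p.primeCompl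
      (LocalizedModule.mkLinearMap p.primeCompl N) (s i)
  choose mt hmt using hex
  refine ⟨fun i => (mt i).1, ?_⟩
  rw [full_span_iff, eq_top_iff, ← hs, Submodule.span_le]
  rintro _ ⟨i, rfl⟩
  rw [← hmt i]
  have hunit : IsUnit (algebraMap A (Localization.AtPrime p) ((mt i).2 : A)) :=
    IsLocalization.map_units _ (mt i).2
  have h1 : LocalizedModule.mkLinearMap p.primeCompl N (mt i).1 =
      algebraMap A (Localization.AtPrime p) ((mt i).2 : A) •
        IsLocalizedModule.mk' (LocalizedModule.mkLinearMap p.primeCompl N) (mt i).1 (mt i).2 := by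
    rw [algebraMap_smul, ← Submonoid.smul_def, IsLocalizedModule.mk'_cancel']
  have h2 : IsLocalizedModule.mk' (LocalizedModule.mkLinearMap p.primeCompl N) (mt i).1 (mt i).2 =
      (hunit.unit⁻¹ : (Localization.AtPrime p)ˣ) •
        LocalizedModule.mkLinearMap p.primeCompl N (mt i).1 := by
    rw [h1, Units.smul_def, smul_smul, IsUnit.val_inv_mul, one_smul]
  rw [SetLike.mem_coe, h2]
  exact Submodule.smul_mem _ _ (Submodule.subset_span ⟨i, rfl⟩)

end Gen

section Main

variable (k A : Type u) [Field k] [CommRing A] [IsLocalRing A] [IsNoetherianRing A] [Algebra k A]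
  [IsAdicComplete (maximalIdeal A) A] [Module.Finite k (ResidueField A)]

local notation "Ωh" => AdicCompletion (maximalIdeal A) (Ω[A⁄k])

theorem exists_nat_dim (R : Type*) [CommRing R] [IsLocalRing R] [IsNoetherianRing R] :
    ∃ n : ℕ, ringKrullDim R = n := by
  have hbot := ringKrullDim_ne_bot (R := R)
  have htop := ringKrullDim_ne_top (R := R)
  obtain ⟨a, ha⟩ := WithBot.ne_bot_iff_exists.mp hbot
  rw [← ha] at htop
  have : a ≠ ⊤ := fun h => htop (by rw [h]; rfl)
  obtain ⟨d, hd⟩ := ENat.ne_top_iff_exists.mp this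
  exact ⟨d, by rw [← ha, ← hd]; rfl⟩

/-- If `Ω̂_p` is generated by `m` elements (with `p` non-maximal in a top-dimensional component),
there is a finite local `k`-algebra map `k[[T_1..T_m]] → A` unramified at `p`. -/
theorem exists_unramified_algHom (p q : Ideal A) [p.IsPrime] [q.IsPrime]
    (hp : p ≠ maximalIdeal A) (hqp : q ≤ p) (hdim : ringKrullDim (A ⧸ q) = ringKrullDim A) (m : ℕ)
    (hgen : ∃ s : Fin m → LocalizedModule p.primeCompl Ωh,
      Submodule.span (Localization.AtPrime p) (Set.range s) = ⊤) :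
    ∃ φ : MvPowerSeries (Fin m) k →ₐ[k] A, φ.toRingHom.Finite ∧ IsLocalHom φ.toRingHom ∧
      (letI := φ.toRingHom.toAlgebra; Algebra.IsUnramifiedAt (MvPowerSeries (Fin m) k) p) ∧
      ringKrullDim A ≤ m := by
  classical
  obtain ⟨v, hv⟩ := exists_full_of_gen p hgen
  obtain ⟨n, hn⟩ := exists_nat_dim A
  have hnm : n ≤ m := CompDiffDim.le_of_full k A p q hqp hp n m (hdim.trans hn) v hv
  obtain ⟨x, hx, j, hj⟩ := CompDiffNorm.exists_sop_avoiding A p hp m
    (by rw [hn]; exact_mod_cast hnm)
  obtain ⟨u, hu⟩ := CompDiffGen.main p m hgen x (fun i => (hx i).2)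
  let y : Fin m → A := fun i => (u i : A) * x i
  have hym : ∀ i, y i ∈ maximalIdeal A := fun i => Ideal.mul_mem_left _ _ (hx i).1
  have hjy : maximalIdeal A ^ j ≤ Ideal.span (Set.range y) := by
    refine hj.trans ?_
    rw [Ideal.span_le]
    rintro _ ⟨i, rfl⟩
    have : x i = ((u i)⁻¹ : Aˣ) * y i := by
      simp only [y]; rw [← mul_assoc, Units.inv_mul, one_mul]
    rw [SetLike.mem_coe, this]
    exact Ideal.mul_mem_left _ _ (Ideal.subset_span ⟨i, rfl⟩)
  obtain ⟨φ, hφX, hfin, hloc⟩ := CompDiffNorm.exists_finite_map k A y hym j hjy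
  refine ⟨φ, hfin, hloc, ?_, by rw [hn]; exact_mod_cast hnm⟩
  let _ : Algebra (MvPowerSeries (Fin m) k) A := φ.toRingHom.toAlgebra
  have htower : IsScalarTower k (MvPowerSeries (Fin m) k) A :=
    IsScalarTower.of_algebraMap_eq (fun c => (φ.commutes c).symm)
  have hfinA : Module.Finite (MvPowerSeries (Fin m) k) A := hfin
  have hfull : Full p (Submodule.span A (Set.range fun j =>
      CompDiffUnram.c k A (D k A (CompDiffUnram.T k m A j)))) := by
    rw [full_span_iff]
    have hfun : (fun i => LocalizedModule.mkLinearMap p.primeCompl Ωh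
          (CompDiffUnram.c k A (D k A (CompDiffUnram.T k m A i)))) =
          fun i => LocalizedModule.mkLinearMap p.primeCompl Ωh
          (AdicCompletion.of (maximalIdeal A) (Ω[A⁄k]) (D k A ((u i : A) * x i))) := by
      funext i
      have : CompDiffUnram.T k m A i = (u i : A) * x i := hφX i
      rw [this]
    rw [hfun]
    exact hu
  exact CompDiffUnram.unramified_of_full k m A p hfull

/-- With `m = n = dim A`, the map can be taken étale at `p`; it is injective modulo `q`. -/
theorem exists_etale_algHom (p q : Ideal A) [p.IsPrime] [q.IsPrime]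
    (hp : p ≠ maximalIdeal A) (hqp : q ≤ p) (n : ℕ) (hn : ringKrullDim A = n)
    (hdim : ringKrullDim (A ⧸ q) = n)
    (hgen : ∃ s : Fin n → LocalizedModule p.primeCompl Ωh,
      Submodule.span (Localization.AtPrime p) (Set.range s) = ⊤) :
    ∃ φ : MvPowerSeries (Fin n) k →ₐ[k] A, φ.toRingHom.Finite ∧ IsLocalHom φ.toRingHom ∧
      (letI := φ.toRingHom.toAlgebra;
        Algebra.FormallyEtale (MvPowerSeries (Fin n) k) (Localization.AtPrime p)) ∧
      (letI := φ.toRingHom.toAlgebra;
        Function.Injective (algebraMap (MvPowerSeries (Fin n) k) (A ⧸ q))) := by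
  obtain ⟨φ, hfin, hloc, hunr, -⟩ :=
    exists_unramified_algHom k A p q hp hqp (hdim.trans hn.symm) n hgen
  let _ : Algebra (MvPowerSeries (Fin n) k) A := φ.toRingHom.toAlgebra
  have hfinA : Module.Finite (MvPowerSeries (Fin n) k) A := hfin
  let φ' : MvPowerSeries (Fin n) k →ₐ[k] A ⧸ q := (Ideal.Quotient.mkₐ k q).comp φ
  have hfin' : φ'.toRingHom.Finite := by
    have h1 : (Ideal.Quotient.mk q).Finite :=
      RingHom.Finite.of_surjective _ Ideal.Quotient.mk_surjective
    exact RingHom.Finite.comp h1 hfin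
  have hinj' : Function.Injective φ' :=
    CompDiffNorm.injective_of_dim k (A ⧸ q) φ' hfin' (le_of_eq hdim.symm)
  have hinj : Function.Injective (algebraMap (MvPowerSeries (Fin n) k) (A ⧸ q)) := hinj'
  exact ⟨φ, hfin, hloc, CompDiffEtale.formallyEtale_of_unramified k n A p q hqp hinj hunr, hinj⟩

end Main

end Groth.Agent.Lib.Helper52.CompDiffMain
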