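import Groth.Agent.Lib.Helper52.RegFinFree
import Groth.Agent.Lib.Helper56.FibreDescent
import Groth.Agent.Lib.Helper77.RegularLocalization
import Mathlib.RingTheory.PiTensorProduct
import Mathlib.LinearAlgebra.PiTensorProduct.Basis

/-!
# Coproduct decompositions of finite extensions of regular local rings

Let `R → A` be a finite injective homomorphism of regular local rings and `B i ⊆ A` finitely many
`R`-subalgebras such that `A` is the coproduct of the `B i` in commutative `R`-algebras.  Then each
`B i` is a free `R`-module and a regular local ring.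
-/

set_option autoImplicit false
universe u v

namespace Groth.Agent.Lib.Helper52.CoprodFree

open PiTensorProduct
open scoped TensorProduct

section Lift

variable {R : Type*} [CommRing R] {ι : Type*} [Fintype ι] [DecidableEq ι] {Bf : ι → Type*}
  [∀ i, CommRing (Bf i)] [∀ i, Algebra R (Bf i)] {S : Type*} [CommRing S] [Algebra R S]

/-- The multilinear map underlying `liftFamily`. -/
noncomputable def liftFamilyML (g : ∀ i, Bf i →ₐ[R] S) : MultilinearMap R Bf S :=
  (MultilinearMap.mkPiAlgebra R ι S).compLinearMap (fun i => (g i).toLinearMap)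

lemma liftFamilyML_apply (g : ∀ i, Bf i →ₐ[R] S) (x : ∀ i, Bf i) :
    liftFamilyML g x = ∏ i, g i (x i) := by
  simp [liftFamilyML]

/-- The algebra map out of a finite tensor product induced by a family of algebra maps. -/
noncomputable def liftFamily (g : ∀ i, Bf i →ₐ[R] S) : (⨂[R] i, Bf i) →ₐ[R] S :=
  liftAlgHom (liftFamilyML g) (by simp [liftFamilyML_apply]) (by
    intro x y
    simp only [liftFamilyML_apply, Pi.mul_apply, map_mul]
    rw [Finset.prod_mul_distrib])

lemma liftFamily_single (g : ∀ i, Bf i →ₐ[R] S) (i : ι) (x : Bf i) :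
    liftFamily g (singleAlgHom i x) = g i x := by
  simp only [liftFamily, singleAlgHom_apply, liftAlgHom_apply, lift.tprod, liftFamilyML_apply]
  rw [Finset.prod_eq_single i]
  · simp
  · intro j _ hj
    simp [MonoidHom.mulSingle_apply, Pi.mulSingle_eq_of_ne hj]
  · intro h; exact absurd (Finset.mem_univ i) h

variable (ρ : ∀ j, Bf j →ₗ[R] R) (i : ι)

/-- The components of the retraction onto the `i`-th factor. -/
noncomputable def retrLin (j : ι) : Bf j →ₗ[R] Bf i :=
  if h : j = i then (by subst h; exact LinearMap.id) else (Algebra.linearMap R (Bf i)).comp (ρ j)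

lemma retrLin_self : retrLin ρ i i = LinearMap.id := by
  simp [retrLin]

lemma retrLin_ne {j : ι} (h : j ≠ i) :
    retrLin ρ i j = (Algebra.linearMap R (Bf i)).comp (ρ j) := by
  simp [retrLin, h]

/-- The retraction of the tensor product onto its `i`-th factor induced by unital functionals. -/
noncomputable def retr : (⨂[R] j, Bf j) →ₗ[R] Bf i :=
  PiTensorProduct.lift ((MultilinearMap.mkPiAlgebra R ι (Bf i)).compLinearMap (retrLin ρ i))

lemma retr_single (hρ : ∀ j, ρ j 1 = 1) (x : Bf i) : retr ρ i (singleAlgHom i x) = x := by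
  simp only [retr, singleAlgHom_apply, lift.tprod, MultilinearMap.compLinearMap_apply,
    MultilinearMap.mkPiAlgebra_apply]
  rw [Finset.prod_eq_single i]
  · rw [MonoidHom.mulSingle_apply, Pi.mulSingle_eq_same, retrLin_self]; rfl
  · intro j _ hj
    rw [MonoidHom.mulSingle_apply, Pi.mulSingle_eq_of_ne hj, retrLin_ne _ _ hj]
    simp [hρ j]
  · intro h; exact absurd (Finset.mem_univ i) h

end Lift

section Main

variable {R : Type u} {A : Type v} [CommRing R] [CommRing A] [Algebra R A] {n : ℕ}
  (B : Fin n → Subalgebra R A)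

/-- `A` is the coproduct of the subalgebras `B i` (test objects in universe `max u v`). -/
def IsCoprod : Prop :=
  ∀ (C : Type (max u v)) [CommRing C] [Algebra R C] (φ : ∀ i : Fin n, B i →ₐ[R] C),
    ∃! ψ : A →ₐ[R] C, ∀ i (x : B i), ψ x = φ i x

/-- The product map from the tensor product. -/
noncomputable def mu : (⨂[R] i, B i) →ₐ[R] A :=
  liftFamily (R := R) (Bf := fun i => ↥(B i)) (S := A) (fun i => (B i).val)

lemma mu_single (i : Fin n) (x : B i) :
    mu B (singleAlgHom (R := R) (A := fun i => ↥(B i)) i x) = x :=
  liftFamily_single (R := R) (Bf := fun i => ↥(B i)) (S := A) _ i x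

variable {B}

/-- Uniqueness of maps out of a coproduct, for targets in the universe of `A`. -/
lemma IsCoprod.hom_ext (h : IsCoprod B) {f g : A →ₐ[R] A}
    (hfg : ∀ i (x : B i), f x = g x) : f = g := by
  let up : A →ₐ[R] ULift.{u} A := (ULift.algEquiv (R := R) (A := A)).symm.toAlgHom
  obtain ⟨χ, -, huniq⟩ := h (ULift.{u} A) (fun i => (up.comp g).comp (B i).val)
  have e1 := huniq (up.comp f) (fun i x => by simp [hfg i x])
  have e2 := huniq (up.comp g) (fun i x => rfl)
  have e3 : up.comp f = up.comp g := e1.trans e2.symm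
  ext a
  have := DFunLike.congr_fun e3 a
  exact (ULift.algEquiv (R := R) (A := A)).symm.injective this

/-- A coproduct of subalgebras is their tensor product. -/
theorem IsCoprod.exists_equiv (h : IsCoprod B) :
    ∃ e : A ≃ₐ[R] ⨂[R] i, B i, ∀ i (x : B i),
      e x = singleAlgHom (R := R) (A := fun i => ↥(B i)) i x := by
  obtain ⟨ψ, hψ, -⟩ := h (⨂[R] i, B i)
    (fun i => singleAlgHom (R := R) (A := fun i => ↥(B i)) i)
  have h1 : (mu B).comp ψ = AlgHom.id R A := by
    apply h.hom_ext
    intro i x
    rw [AlgHom.comp_apply, hψ i x, mu_single, AlgHom.id_apply]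
  have h2 : ψ.comp (mu B) = AlgHom.id R (⨂[R] i, B i) := by
    apply PiTensorProduct.algHom_ext
    intro i
    ext x
    rw [AlgHom.comp_apply, AlgHom.comp_apply, mu_single, hψ i x, AlgHom.comp_apply,
      AlgHom.id_apply]
  exact ⟨AlgEquiv.ofAlgHom ψ (mu B) h2 h1, fun i x => hψ i x⟩

variable [IsRegularLocalRing R] [IsRegularLocalRing A] [Module.Finite R A]

/-- Each factor of a coproduct decomposition is free over the base. -/
theorem IsCoprod.free (h : IsCoprod B) (hinj : Function.Injective (algebraMap R A)) (i : Fin n) :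
    Module.Free R (B i) := by
  obtain ⟨ρ, hρ⟩ := RegFinFree.exists_retraction R A hinj
  obtain ⟨e, he⟩ := h.exists_equiv
  haveI : Module.Free R A := RegFinFree.free_of_regular_of_finite R A hinj
  haveI : Module.Free R (⨂[R] i, B i) := Module.Free.of_equiv e.toLinearEquiv
  let ρ' : ∀ j, B j →ₗ[R] R := fun j => ρ.comp (B j).val.toLinearMap
  have hρ' : ∀ j, ρ' j 1 = 1 := fun j => by simp [ρ', hρ]
  haveI : Module.Projective R (B i) :=
    Module.Projective.of_split (singleAlgHom (R := R) (A := fun i => B i) i).toLinearMap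
      (retr ρ' i) (by
        ext x
        simp only [LinearMap.comp_apply, AlgHom.toLinearMap_apply, LinearMap.id_apply]
        rw [retr_single ρ' i hρ' x])
  haveI : IsNoetherian R A := isNoetherian_of_isNoetherianRing_of_finite R A
  haveI : Module.Finite R (B i) :=
    Module.Finite.of_injective (B i).val.toLinearMap Subtype.val_injective
  exact Module.free_of_flat_of_isLocalRing


section Split

variable (B) (i : Fin n)

/-- The tensor product of the factors other than the `i`-th. -/
abbrev Rest : Type (max u v) := ⨂[R] (j : {j : Fin n // j ≠ i}), B j.1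

/-- The maps from the factors to `B i ⊗ Rest`. -/
noncomputable def phi (j : Fin n) : B j →ₐ[R] (B i ⊗[R] Rest B i) :=
  if h : j = i then (by subst h; exact Algebra.TensorProduct.includeLeft)
  else (Algebra.TensorProduct.includeRight).comp
    (singleAlgHom (R := R) (A := fun j : {j : Fin n // j ≠ i} => ↥(B j.1)) ⟨j, h⟩)

lemma phi_self : phi B i i = Algebra.TensorProduct.includeLeft := by
  simp [phi]

lemma phi_ne {j : Fin n} (h : j ≠ i) :
    phi B i j = (Algebra.TensorProduct.includeRight).comp
      (singleAlgHom (R := R) (A := fun j : {j : Fin n // j ≠ i} => ↥(B j.1)) ⟨j, h⟩) := by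
  simp [phi, h]

/-- The product map `B i ⊗ Rest → A`. -/
noncomputable def beta : (B i ⊗[R] Rest B i) →ₐ[R] A :=
  Algebra.TensorProduct.productMap (B i).val
    (liftFamily (R := R) (Bf := fun j : {j : Fin n // j ≠ i} => ↥(B j.1)) (S := A)
      (fun j => (B j.1).val))

lemma beta_left (x : B i) : beta B i (x ⊗ₜ 1) = x := by
  simp [beta]

lemma beta_right (j : {j : Fin n // j ≠ i}) (x : B j.1) :
    beta B i (1 ⊗ₜ (singleAlgHom (R := R) (A := fun j : {j : Fin n // j ≠ i} => ↥(B j.1)) j x)) =
      x := by
  rw [beta, Algebra.TensorProduct.productMap_right_apply, liftFamily_single]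
  rfl

variable {B}

theorem IsCoprod.exists_equiv_split (h : IsCoprod B) :
    ∃ e : A ≃ₐ[R] (B i ⊗[R] Rest B i), ∀ x : B i, e x = x ⊗ₜ 1 := by
  obtain ⟨α, hα, -⟩ := h (B i ⊗[R] Rest B i) (phi B i)
  have h1 : (beta B i).comp α = AlgHom.id R A := by
    apply h.hom_ext
    intro j x
    rw [AlgHom.comp_apply, hα j x, AlgHom.id_apply]
    by_cases hj : j = i
    · subst hj
      rw [phi_self]
      exact beta_left B j x
    · rw [phi_ne B i hj]
      exact beta_right B i ⟨j, hj⟩ x
  have h2 : α.comp (beta B i) = AlgHom.id R (B i ⊗[R] Rest B i) := by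
    apply Algebra.TensorProduct.ext
    · ext x
      simp only [AlgHom.comp_apply, Algebra.TensorProduct.includeLeft_apply, AlgHom.id_apply]
      rw [beta_left, hα i x, phi_self]
      rfl
    · apply PiTensorProduct.algHom_ext
      intro j
      ext x
      change α (beta B i (1 ⊗ₜ[R] (singleAlgHom (R := R)
        (A := fun j : {j : Fin n // j ≠ i} => ↥(B j.1)) j x))) = _
      rw [beta_right, hα j.1 x, phi_ne B i j.2]
      rfl
  refine ⟨AlgEquiv.ofAlgHom α (beta B i) h2 h1, fun x => ?_⟩
  change α x = _
  rw [hα i x, phi_self]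
  rfl

theorem IsCoprod.flat (h : IsCoprod B) (hinj : Function.Injective (algebraMap R A)) :
    Module.Flat (B i) A := by
  haveI : ∀ j, Module.Free R (B j) := fun j => h.free hinj j
  haveI : Module.Free R (Rest B i) :=
    Module.Free.of_basis (Basis.piTensorProduct
      (fun j : {j : Fin n // j ≠ i} => Module.Free.chooseBasis R (B j.1)))
  obtain ⟨e, he⟩ := h.exists_equiv_split i
  let e' : A ≃ₗ[B i] (B i ⊗[R] Rest B i) :=
    { e.toLinearEquiv.toAddEquiv with
      map_smul' := by
        intro b a
        change e (b • a) = b • e a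
        rw [Algebra.smul_def b a, Algebra.smul_def b (e a), map_mul,
          Algebra.TensorProduct.algebraMap_apply]
        congr 1
        exact he b }
  exact Module.Flat.of_linearEquiv e'

theorem IsCoprod.isRegularLocalRing (h : IsCoprod B)
    (hinj : Function.Injective (algebraMap R A)) : IsRegularLocalRing (B i) := by
  haveI : Module.Flat (B i) A := h.flat i hinj
  haveI : Algebra.IsIntegral (B i) A := Algebra.IsIntegral.tower_top (R := R)
  haveI : IsLocalHom (algebraMap (B i) A) :=
    RingHom.IsIntegral.isLocalHom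
      (algebraMap_isIntegral_iff.mpr (inferInstance : Algebra.IsIntegral (B i) A))
      Subtype.val_injective
  haveI : IsLocalRing (B i) := RingHom.domain_isLocalRing (algebraMap (B i) A)
  haveI : Module.FaithfullyFlat (B i) A := Module.FaithfullyFlat.of_flat_of_isLocalHom
  have hA : IsRegularRing A :=
    Groth.Agent.Lib.Helper77.RegularLocalization.isRegularRing_of_isRegularLocalRing A
  haveI : IsRegularRing (B i) :=
    Groth.Agent.Lib.Helper56.isRegularRing_of_faithfullyFlat (B i) A hA
  exact IsRegularLocalRing.of_isRegularRing_of_isLocalRing _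

end Split

end Main

end Groth.Agent.Lib.Helper52.CoprodFree
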