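import Mathlib.RingTheory.Length
import Mathlib.RingTheory.HopkinsLevitzki
import Mathlib.RingTheory.KrullDimension.Basic
import Mathlib.RingTheory.Localization.FractionRing
import Mathlib.LinearAlgebra.TensorProduct.Quotient
import Mathlib.LinearAlgebra.TensorProduct.RightExactness
import Mathlib.Tactic

/-!
# Krull–Akizuki: the length estimate

For a Noetherian domain `R` of dimension `≤ 1` with fraction field `K`, an `R`-module `M`
embedding into `Kʳ`, and `x ≠ 0`: `length (M/xM) ≤ r * length (R/xR) < ∞`.
-/

set_option autoImplicit false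

namespace Groth.Agent.Lib.Helper52.KA

universe u

variable {R : Type u} [CommRing R] [IsDomain R] [IsNoetherianRing R] [Ring.KrullDimLE 1 R]

/-- Quotients of a one-dimensional Noetherian domain by nonzero ideals are Artinian. -/
theorem isArtinianRing_quotient (J : Ideal R) (hJ : J ≠ ⊥) : IsArtinianRing (R ⧸ J) := by
  have : Ring.KrullDimLE 0 (R ⧸ J) := by
    apply Ring.KrullDimLE.mk₀
    intro P hP
    have hsurj : Function.Surjective (Ideal.Quotient.mk J) := Ideal.Quotient.mk_surjective
    have hP' : (P.comap (Ideal.Quotient.mk J)).IsPrime := Ideal.comap_isPrime _ _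
    have hne : P.comap (Ideal.Quotient.mk J) ≠ ⊥ := by
      intro h0
      apply hJ
      rw [eq_bot_iff, ← h0]
      intro x hx
      rw [Ideal.mem_comap, Ideal.Quotient.eq_zero_iff_mem.2 hx]
      exact zero_mem _
    have hmax : (P.comap (Ideal.Quotient.mk J)).IsMaximal := hP'.isMaximal_of_ne_bot hne
    rcases Ideal.map_eq_top_or_isMaximal_of_surjective _ hsurj hmax with h | h
    · rw [Ideal.map_comap_of_surjective _ hsurj] at h
      exact (hP.ne_top h).elim
    · rwa [Ideal.map_comap_of_surjective _ hsurj] at h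
  exact IsNoetherianRing.isArtinianRing_of_krullDimLE_zero

/-- Quotients of a one-dimensional Noetherian domain by nonzero ideals have finite length. -/
theorem length_quotient_ne_top (J : Ideal R) (hJ : J ≠ ⊥) : Module.length R (R ⧸ J) ≠ ⊤ := by
  have := isArtinianRing_quotient J hJ
  rw [Module.length_eq_of_surjective (R := R ⧸ J) (S := R) (M := R ⧸ J)
    Ideal.Quotient.mk_surjective]
  exact Module.length_ne_top


section General

variable {A : Type u} [CommRing A] (I : Ideal A)
variable {M M' M'' : Type u} [AddCommGroup M] [Module A M] [AddCommGroup M'] [Module A M']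
  [AddCommGroup M''] [Module A M'']

open TensorProduct

/-- `length (M / I M)` only depends on the isomorphism class of `M`. -/
theorem length_quot_smul_congr (e : M ≃ₗ[A] M') :
    Module.length A (M ⧸ (I • (⊤ : Submodule A M))) =
      Module.length A (M' ⧸ (I • (⊤ : Submodule A M'))) :=
  ((TensorProduct.quotTensorEquivQuotSMul M I).symm ≪≫ₗ (LinearEquiv.lTensor (A ⧸ I) e) ≪≫ₗ
    TensorProduct.quotTensorEquivQuotSMul M' I).length_eq

/-- `length (M / I M)` is monotone under surjections. -/
theorem length_quot_smul_le_of_surjective (g : M →ₗ[A] M'') (hg : Function.Surjective g) :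
    Module.length A (M'' ⧸ (I • (⊤ : Submodule A M''))) ≤
      Module.length A (M ⧸ (I • (⊤ : Submodule A M))) := by
  rw [← (TensorProduct.quotTensorEquivQuotSMul M I).length_eq,
    ← (TensorProduct.quotTensorEquivQuotSMul M'' I).length_eq]
  exact Module.length_le_of_surjective (g.lTensor (A ⧸ I)) (LinearMap.lTensor_surjective _ hg)

/-- `length (M / I M)` is subadditive in right exact sequences. -/
theorem length_quot_smul_le_add (f : M' →ₗ[A] M) (g : M →ₗ[A] M'') (hex : Function.Exact f g)
    (hg : Function.Surjective g) :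
    Module.length A (M ⧸ (I • (⊤ : Submodule A M))) ≤
      Module.length A (M' ⧸ (I • (⊤ : Submodule A M'))) +
        Module.length A (M'' ⧸ (I • (⊤ : Submodule A M''))) := by
  rw [← (TensorProduct.quotTensorEquivQuotSMul M I).length_eq,
    ← (TensorProduct.quotTensorEquivQuotSMul M' I).length_eq,
    ← (TensorProduct.quotTensorEquivQuotSMul M'' I).length_eq]
  have hex' := lTensor_exact (A ⧸ I) hex hg
  have hsurj := LinearMap.lTensor_surjective (A ⧸ I) hg
  set α := f.lTensor (A ⧸ I)
  set β := g.lTensor (A ⧸ I)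
  have h1 : Module.length A ((A ⧸ I) ⊗[A] M) =
      Module.length A (LinearMap.range α) + Module.length A ((A ⧸ I) ⊗[A] M'') := by
    refine Module.length_eq_add_of_exact (LinearMap.range α).subtype β
      (Submodule.injective_subtype _) hsurj ?_
    intro y
    rw [hex' y]
    constructor
    · rintro ⟨z, rfl⟩
      exact ⟨⟨α z, z, rfl⟩, rfl⟩
    · rintro ⟨⟨_, z, rfl⟩, rfl⟩
      exact ⟨z, rfl⟩
  rw [h1]
  gcongr
  exact Module.length_le_of_surjective α.rangeRestrict α.surjective_rangeRestrict

/-- A module of length at least `n` has a finitely generated submodule of length at least `n`. -/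
theorem exists_fg_le_length (T : Type u) [AddCommGroup T] [Module A T] (n : ℕ)
    (h : (n : ℕ∞) ≤ Module.length A T) :
    ∃ T₀ : Submodule A T, T₀.FG ∧ (n : ℕ∞) ≤ Module.length A T₀ := by
  classical
  have h' : (n : WithBot ℕ∞) ≤ Order.krullDim (Submodule A T) := by
    rw [← Module.coe_length]
    exact_mod_cast h
  obtain ⟨p, hp⟩ := Order.le_krullDim_iff.1 h'
  have hstep : ∀ i : Fin p.length, ∃ t, t ∈ p i.succ ∧ t ∉ p i.castSucc := fun i =>
    SetLike.exists_of_lt (p.step i)
  choose t ht ht' using hstep
  let T₀ : Submodule A T := Submodule.span A (Set.range t)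
  refine ⟨T₀, Submodule.fg_span (Set.finite_range t), ?_⟩
  let q : Fin (p.length + 1) → Submodule A T₀ := fun i => (p i).comap T₀.subtype
  have hq : StrictMono q := by
    rw [Fin.strictMono_iff_lt_succ]
    intro i
    refine lt_of_le_of_ne (Submodule.comap_mono (p.step i).le) ?_
    intro heq
    have hmem : (⟨t i, Submodule.subset_span ⟨i, rfl⟩⟩ : T₀) ∈ q i.succ := ht i
    rw [← heq] at hmem
    exact ht' i hmem
  have h2 := Order.LTSeries.length_le_krullDim (LTSeries.mk p.length q hq)
  rw [LTSeries.mk_length, hp, ← Module.coe_length] at h2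
  exact_mod_cast h2

end General


section Ideal

variable {R : Type u} [CommRing R] [IsDomain R] [IsNoetherianRing R] [Ring.KrullDimLE 1 R]

/-- For a nonzero ideal `I` and `x ≠ 0`: `length (I / x I) = length (R / x R)`. -/
theorem length_ideal_quot_smul (I : Ideal R) (hI : I ≠ ⊥) (x : R) (hx : x ≠ 0) :
    Module.length R (I ⧸ (Ideal.span {x} • (⊤ : Submodule R I))) =
      Module.length R (R ⧸ Ideal.span {x}) := by
  set J : Ideal R := Ideal.span {x} * I with hJ
  have hJI : J ≤ I := Ideal.mul_le_right
  have hJx : J ≤ Ideal.span {x} := Ideal.mul_le_left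
  have hmemJ : ∀ y, y ∈ J ↔ ∃ z ∈ I, x * z = y := fun y => Ideal.mem_span_singleton_mul
  -- sequence 1: I / x I → R / J → R / I
  have hle1 : (Ideal.span {x} • (⊤ : Submodule R I)) ≤
      LinearMap.ker (J.mkQ ∘ₗ I.subtype) := by
    rw [Submodule.smul_le]
    intro r hr n _
    rw [LinearMap.mem_ker, LinearMap.comp_apply, Submodule.mkQ_apply,
      Submodule.Quotient.mk_eq_zero]
    exact Ideal.mul_mem_mul hr n.2
  let f1 : (I ⧸ (Ideal.span {x} • (⊤ : Submodule R I))) →ₗ[R] R ⧸ J :=
    Submodule.liftQ _ (J.mkQ ∘ₗ I.subtype) hle1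
  let g1 : (R ⧸ J) →ₗ[R] R ⧸ I := Submodule.mapQ J I LinearMap.id hJI
  have hf1 : Function.Injective f1 := by
    rw [← LinearMap.ker_eq_bot, Submodule.ker_liftQ_eq_bot']
    apply le_antisymm hle1
    intro n hn
    rw [LinearMap.mem_ker, LinearMap.comp_apply, Submodule.mkQ_apply,
      Submodule.Quotient.mk_eq_zero] at hn
    obtain ⟨z, hz, hxz⟩ := (hmemJ _).1 hn
    have : n = x • (⟨z, hz⟩ : I) := Subtype.ext hxz.symm
    rw [this]
    exact Submodule.smul_mem_smul (Ideal.mem_span_singleton_self x) Submodule.mem_top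
  have hg1 : Function.Surjective g1 := by
    intro y
    obtain ⟨r, rfl⟩ := Submodule.Quotient.mk_surjective _ y
    exact ⟨Submodule.Quotient.mk r, rfl⟩
  have hex1 : Function.Exact f1 g1 := by
    intro y
    obtain ⟨r, rfl⟩ := Submodule.Quotient.mk_surjective _ y
    constructor
    · intro h
      have hr : r ∈ I := by
        have : g1 (Submodule.Quotient.mk r) = Submodule.Quotient.mk r := rfl
        rw [this, Submodule.Quotient.mk_eq_zero] at h
        exact h
      exact ⟨Submodule.Quotient.mk ⟨r, hr⟩, rfl⟩
    · rintro ⟨z, hz⟩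
      obtain ⟨n, rfl⟩ := Submodule.Quotient.mk_surjective _ z
      have : f1 (Submodule.Quotient.mk n) = Submodule.Quotient.mk (n : R) := rfl
      rw [this] at hz
      rw [← hz]
      have : g1 (Submodule.Quotient.mk (n : R)) = Submodule.Quotient.mk (n : R) := rfl
      rw [this, Submodule.Quotient.mk_eq_zero]
      exact n.2
  -- sequence 2: R / I → R / J → R / x
  have hle2 : I ≤ Submodule.comap (LinearMap.lsmul R R x) J := by
    intro i hi
    rw [Submodule.mem_comap, LinearMap.lsmul_apply, smul_eq_mul]
    exact (hmemJ _).2 ⟨i, hi, rfl⟩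
  let f2 : (R ⧸ I) →ₗ[R] R ⧸ J := Submodule.mapQ I J (LinearMap.lsmul R R x) hle2
  let g2 : (R ⧸ J) →ₗ[R] R ⧸ Ideal.span {x} := Submodule.mapQ J _ LinearMap.id hJx
  have hf2 : Function.Injective f2 := by
    rw [injective_iff_map_eq_zero]
    intro y hy
    obtain ⟨r, rfl⟩ := Submodule.Quotient.mk_surjective _ y
    have : f2 (Submodule.Quotient.mk r) = Submodule.Quotient.mk (x * r) := rfl
    rw [this, Submodule.Quotient.mk_eq_zero] at hy
    obtain ⟨z, hz, hxz⟩ := (hmemJ _).1 hy
    rw [Submodule.Quotient.mk_eq_zero]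
    rwa [← mul_left_cancel₀ hx hxz]
  have hg2 : Function.Surjective g2 := by
    intro y
    obtain ⟨r, rfl⟩ := Submodule.Quotient.mk_surjective _ y
    exact ⟨Submodule.Quotient.mk r, rfl⟩
  have hex2 : Function.Exact f2 g2 := by
    intro y
    obtain ⟨r, rfl⟩ := Submodule.Quotient.mk_surjective _ y
    constructor
    · intro h
      have : g2 (Submodule.Quotient.mk r) = Submodule.Quotient.mk r := rfl
      rw [this, Submodule.Quotient.mk_eq_zero] at h
      obtain ⟨r', rfl⟩ := Ideal.mem_span_singleton'.1 h
      refine ⟨Submodule.Quotient.mk r', ?_⟩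
      have : f2 (Submodule.Quotient.mk r') = Submodule.Quotient.mk (x * r') := rfl
      rw [this, mul_comm]
    · rintro ⟨z, hz⟩
      obtain ⟨r', rfl⟩ := Submodule.Quotient.mk_surjective _ z
      have : f2 (Submodule.Quotient.mk r') = Submodule.Quotient.mk (x * r') := rfl
      rw [this] at hz
      rw [← hz]
      have : g2 (Submodule.Quotient.mk (x * r')) = Submodule.Quotient.mk (x * r') := rfl
      rw [this, Submodule.Quotient.mk_eq_zero]
      exact Ideal.mul_mem_right _ _ (Ideal.mem_span_singleton_self x)
  have e1 := Module.length_eq_add_of_exact f1 g1 hf1 hg1 hex1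
  have e2 := Module.length_eq_add_of_exact f2 g2 hf2 hg2 hex2
  have hfin : Module.length R (R ⧸ I) ≠ ⊤ := length_quotient_ne_top I hI
  rw [e1, add_comm] at e2
  exact ENat.add_right_injective_of_ne_top hfin e2

end Ideal


section Main

variable {R : Type u} [CommRing R] [IsDomain R] [IsNoetherianRing R] [Ring.KrullDimLE 1 R]
variable {K : Type u} [Field K] [Algebra R K] [IsFractionRing R K]

/-- A finite module embedding into `K` embeds into `R`. -/
theorem exists_injective_to_ring (M : Type u) [AddCommGroup M] [Module R M] [Module.Finite R M]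
    (ι : M →ₗ[R] K) (hι : Function.Injective ι) :
    ∃ φ : M →ₗ[R] R, Function.Injective φ := by
  classical
  obtain ⟨s, hs⟩ := (Module.Finite.fg_top : (⊤ : Submodule R M).FG)
  obtain ⟨b, hb⟩ := IsLocalization.exist_integer_multiples (nonZeroDivisors R) s (fun m => ι m)
  have hb0 : (b : R) ≠ 0 := nonZeroDivisors.ne_zero b.2
  let ψ : M →ₗ[R] K := (b : R) • ι
  have hrange : ∀ m, ψ m ∈ LinearMap.range (Algebra.linearMap R K) := by
    intro m
    have hm : m ∈ Submodule.span R (s : Set M) := hs ▸ Submodule.mem_top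
    induction hm using Submodule.span_induction with
    | mem y hy =>
      obtain ⟨r, hr⟩ := hb y hy
      exact ⟨r, hr⟩
    | zero => simp
    | add y z _ _ hy hz => rw [map_add]; exact Submodule.add_mem _ hy hz
    | smul a y _ hy => rw [map_smul]; exact Submodule.smul_mem _ _ hy
  have hinjK : Function.Injective (Algebra.linearMap R K) :=
    IsFractionRing.injective R K
  let φ : M →ₗ[R] R := (LinearEquiv.ofInjective (Algebra.linearMap R K) hinjK).symm.toLinearMap ∘ₗ
    ψ.codRestrict _ hrange
  refine ⟨φ, ?_⟩
  have hψ : Function.Injective ψ := by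
    intro m m' h
    apply hι
    have h' : (b : R) • ι m = (b : R) • ι m' := h
    rw [Algebra.smul_def, Algebra.smul_def] at h'
    exact mul_left_cancel₀ ((map_ne_zero_iff _ hinjK).2 hb0) h'
  have hcod : Function.Injective (ψ.codRestrict _ hrange) := by
    intro m m' h
    apply hψ
    have := congrArg Subtype.val h
    simpa only [LinearMap.codRestrict_apply] using this
  intro m m' h
  apply hcod
  exact (LinearEquiv.ofInjective (Algebra.linearMap R K) hinjK).symm.injective h

/-- The finitely generated rank one case. -/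
theorem length_quot_smul_le_of_finite (M : Type u) [AddCommGroup M] [Module R M]
    [Module.Finite R M] (ι : M →ₗ[R] K) (hι : Function.Injective ι) (x : R) (hx : x ≠ 0) :
    Module.length R (M ⧸ (Ideal.span {x} • (⊤ : Submodule R M))) ≤
      Module.length R (R ⧸ Ideal.span {x}) := by
  obtain ⟨φ, hφ⟩ := exists_injective_to_ring M ι hι
  let I : Ideal R := LinearMap.range φ
  rw [length_quot_smul_congr (Ideal.span {x}) (LinearEquiv.ofInjective φ hφ)]
  by_cases hI : I = ⊥
  · have hsub : Subsingleton I := by
      rw [hI]; infer_instance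
    have : Subsingleton (I ⧸ (Ideal.span {x} • (⊤ : Submodule R I))) := by
      infer_instance
    rw [Module.length_eq_zero]
    exact zero_le
  · exact (length_ideal_quot_smul I hI x hx).le

/-- The rank one case. -/
theorem length_quot_smul_le_one (M : Type u) [AddCommGroup M] [Module R M]
    (ι : M →ₗ[R] K) (hι : Function.Injective ι) (x : R) (hx : x ≠ 0) :
    Module.length R (M ⧸ (Ideal.span {x} • (⊤ : Submodule R M))) ≤
      Module.length R (R ⧸ Ideal.span {x}) := by
  by_contra hlt
  rw [not_le] at hlt
  have hxne : Ideal.span {x} ≠ (⊥ : Ideal R) := by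
    rw [Ne, Ideal.span_singleton_eq_bot]; exact hx
  have hfin : Module.length R (R ⧸ Ideal.span {x}) ≠ ⊤ := length_quotient_ne_top _ hxne
  obtain ⟨c, hc⟩ := ENat.ne_top_iff_exists.1 hfin
  rw [← hc] at hlt
  have h1 : ((c + 1 : ℕ) : ℕ∞) ≤
      Module.length R (M ⧸ (Ideal.span {x} • (⊤ : Submodule R M))) := by
    rw [Nat.cast_add, Nat.cast_one]
    exact Order.add_one_le_of_lt hlt
  obtain ⟨T₀, hT₀, hlen⟩ := exists_fg_le_length _ _ h1
  obtain ⟨n, t, ht⟩ := Submodule.fg_iff_exists_fin_generating_family.1 hT₀
  choose m hm using fun i => Submodule.Quotient.mk_surjective _ (t i)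
  let N : Submodule R M := Submodule.span R (Set.range m)
  have hNfin : Module.Finite R N := Module.Finite.iff_fg.2 (Submodule.fg_span (Set.finite_range m))
  let h : N →ₗ[R] (M ⧸ (Ideal.span {x} • (⊤ : Submodule R M))) :=
    (Ideal.span {x} • (⊤ : Submodule R M)).mkQ ∘ₗ N.subtype
  have hrange : LinearMap.range h = T₀ := by
    rw [LinearMap.range_comp, Submodule.range_subtype, Submodule.map_span, ← ht]
    congr 1
    ext y
    constructor
    · rintro ⟨_, ⟨i, rfl⟩, rfl⟩
      exact ⟨i, (hm i).symm⟩
    · rintro ⟨i, rfl⟩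
      exact ⟨m i, ⟨i, rfl⟩, hm i⟩
  have hle : (Ideal.span {x} • (⊤ : Submodule R N)) ≤ LinearMap.ker h := by
    rw [Submodule.smul_le]
    intro r hr n' _
    rw [LinearMap.mem_ker, LinearMap.comp_apply, Submodule.mkQ_apply,
      Submodule.Quotient.mk_eq_zero]
    exact Submodule.smul_mem_smul hr Submodule.mem_top
  let h' := Submodule.liftQ _ h hle
  have hrange' : LinearMap.range h' = T₀ := by
    rw [Submodule.range_liftQ, hrange]
  have h2 : Module.length R T₀ ≤
      Module.length R (N ⧸ (Ideal.span {x} • (⊤ : Submodule R N))) := by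
    rw [← hrange']
    exact Module.length_le_of_surjective h'.rangeRestrict h'.surjective_rangeRestrict
  have h3 := length_quot_smul_le_of_finite N (ι ∘ₗ N.subtype)
    (hι.comp (Submodule.injective_subtype N)) x hx
  have h4 := hlen.trans (h2.trans h3)
  rw [← hc] at h4
  have : c + 1 ≤ c := by exact_mod_cast h4
  omega

/-- **Krull–Akizuki length estimate.** -/
theorem length_quot_smul_le (r : ℕ) (M : Type u) [AddCommGroup M] [Module R M]
    (ι : M →ₗ[R] (Fin r → K)) (hι : Function.Injective ι) (x : R) (hx : x ≠ 0) :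
    Module.length R (M ⧸ (Ideal.span {x} • (⊤ : Submodule R M))) ≤
      r * Module.length R (R ⧸ Ideal.span {x}) := by
  induction r generalizing M with
  | zero =>
    have : Subsingleton M := ⟨fun a b => hι (Subsingleton.elim _ _)⟩
    rw [Module.length_eq_zero]
    exact zero_le
  | succ r ih =>
    let p : M →ₗ[R] K := (LinearMap.proj (Fin.last r) : (Fin (r + 1) → K) →ₗ[R] K) ∘ₗ ι
    have hex : Function.Exact (LinearMap.ker p).subtype p.rangeRestrict := by
      intro y
      rw [← LinearMap.mem_ker, LinearMap.ker_rangeRestrict]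
      constructor
      · intro hy
        exact ⟨⟨y, hy⟩, rfl⟩
      · rintro ⟨z, rfl⟩
        exact z.2
    have h1 := length_quot_smul_le_add (Ideal.span {x}) (LinearMap.ker p).subtype p.rangeRestrict
      hex p.surjective_rangeRestrict
    have h2 := length_quot_smul_le_one (LinearMap.range p) (LinearMap.range p).subtype
      (Submodule.injective_subtype _) x hx
    let ι' : LinearMap.ker p →ₗ[R] (Fin r → K) :=
      (LinearMap.funLeft R K (Fin.castSucc : Fin r → Fin (r + 1))) ∘ₗ ι ∘ₗ (LinearMap.ker p).subtype
    have hι' : Function.Injective ι' := by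
      rw [injective_iff_map_eq_zero]
      intro m hm
      apply Subtype.ext
      apply hι
      rw [Submodule.coe_zero, map_zero]
      funext j
      refine Fin.lastCases ?_ (fun j' => ?_) j
      · exact m.2
      · exact congrFun hm j'
    have h3 := ih (LinearMap.ker p) ι' hι'
    calc Module.length R (M ⧸ (Ideal.span {x} • (⊤ : Submodule R M)))
        ≤ _ + _ := h1
      _ ≤ r * Module.length R (R ⧸ Ideal.span {x}) + Module.length R (R ⧸ Ideal.span {x}) :=
          add_le_add h3 h2
      _ = ((r + 1 : ℕ) : ℕ∞) * Module.length R (R ⧸ Ideal.span {x}) := by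
          rw [Nat.cast_add, Nat.cast_one, add_mul, one_mul]

end Main

end Groth.Agent.Lib.Helper52.KA
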