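import Mathlib
import Groth.Agent.Lib.Helper52.KrullAkizuki
import Groth.Agent.Lib.Helper54.CplLocal
import Groth.Agent.Lib.Helper38.FiniteLocal
import Groth.Agent.Lib.Helper61.CompleteLE

/-!
# Normalization of a one-dimensional complete local domain

`A` complete Noetherian local, `D` a quotient domain of `A` of dimension one (every nonzero prime
maximal, not a field), `K = Frac D`. Then the integral closure `V` of `D` in `K` is a finite
`D`-module and a DVR, and `A → V` is a finite local homomorphism with the same kernel as `A → D`.
-/

set_option linter.unusedSectionVars false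

namespace Groth.Agent.Lib.Helper52.DimOneDVR

open IsLocalRing

universe u

section

variable {D : Type u} [CommRing D] [IsDomain D] [IsNoetherianRing D] [IsLocalRing D]
  [Ring.KrullDimLE 1 D] {K : Type u} [Field K] [Algebra D K] [IsFractionRing D K]

/-- In a one-dimensional local domain, a power of any element of the maximal ideal lies in any
nonzero principal ideal. -/
theorem exists_pow_mem_span (x : D) (hx : x ∈ maximalIdeal D) (a : D) (ha : a ≠ 0) :
    ∃ N : ℕ, x ^ N ∈ Ideal.span {a} := by
  have hrad : x ∈ (Ideal.span {a}).radical := by
    rw [Ideal.radical_eq_sInf, Ideal.mem_sInf]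
    rintro P ⟨haP, hP⟩
    have hPbot : P ≠ ⊥ := by
      intro h0
      have : a ∈ P := haP (Ideal.mem_span_singleton_self a)
      rw [h0, Ideal.mem_bot] at this
      exact ha this
    have hmax : P.IsMaximal := Ring.krullDimLE_one_iff_of_isPrime_bot.mp inferInstance P hPbot hP
    rw [eq_maximalIdeal hmax]
    exact hx
  exact hrad

/-- The integral closure of `D` in `K` is `x`-adically separated, for `x ∈ 𝔪` nonzero. -/
theorem isHausdorff_integralClosure (x : D) (hx : x ∈ maximalIdeal D) (hx0 : x ≠ 0) :
    IsHausdorff (Ideal.span {x}) (integralClosure D K) := by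
  constructor
  intro v hv
  by_contra hv0
  have hinj : Function.Injective (algebraMap D K) := IsFractionRing.injective D K
  have hy0 : (v : K) ≠ 0 := fun h => hv0 (Subtype.ext h)
  obtain ⟨a, b, hb, hab⟩ := IsFractionRing.div_surjective (A := D) (v : K)
  have hb0 : algebraMap D K b ≠ 0 := by
    rw [Ne, map_eq_zero_iff _ hinj]; exact nonZeroDivisors.ne_zero hb
  have ha0 : a ≠ 0 := by
    intro h0
    rw [h0, map_zero, zero_div] at hab
    exact hy0 hab.symm
  obtain ⟨N, hN⟩ := exists_pow_mem_span x hx a ha0
  rw [Ideal.mem_span_singleton'] at hN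
  obtain ⟨d, hd⟩ := hN
  -- `v ∈ x^(N+1) V`
  have hvN := hv (N + 1)
  rw [SModEq.zero, Ideal.span_singleton_pow, Submodule.ideal_span_singleton_smul,
    Submodule.mem_smul_pointwise_iff_exists] at hvN
  obtain ⟨w, -, hw⟩ := hvN
  have hwK : (v : K) = algebraMap D K (x ^ (N + 1)) * (w : K) := by
    rw [← hw, Subalgebra.coe_smul, Algebra.smul_def]
  have hxK : algebraMap D K x ≠ 0 := by
    rw [Ne, map_eq_zero_iff _ hinj]; exact hx0
  -- `x * (b d w) = 1`
  have hone : algebraMap D K x * (algebraMap D K (b * d) * (w : K)) = 1 := by
    have h1 : algebraMap D K a = algebraMap D K b * (v : K) := by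
      rw [← hab]; field_simp
    have h2 : algebraMap D K (x ^ N) = algebraMap D K d * algebraMap D K a := by
      rw [← map_mul, hd]
    have h3 : algebraMap D K (x ^ N) ≠ 0 := by
      rw [map_pow]; exact pow_ne_zero _ hxK
    have h4 : algebraMap D K (x ^ N) * (algebraMap D K x * (algebraMap D K (b * d) * (w : K))) =
        algebraMap D K (x ^ N) * 1 := by
      rw [mul_one]
      nth_rw 2 [h2]
      rw [h1, hwK, map_mul, map_pow, map_pow, pow_succ]
      ring
    exact mul_left_cancel₀ h3 h4
  -- so `x` is a unit of `V`, contradiction with lying over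
  have hint : Algebra.IsIntegral D (integralClosure D K) := inferInstance
  have hker : RingHom.ker (algebraMap D (integralClosure D K)) ≤ maximalIdeal D := by
    intro z hz
    rw [RingHom.mem_ker] at hz
    have : algebraMap D K z = 0 := by
      have := congrArg (Subtype.val) hz
      simpa using this
    rw [map_eq_zero_iff _ hinj] at this
    rw [this]; exact Ideal.zero_mem _
  obtain ⟨Q, hQmax, hQ⟩ := Ideal.exists_ideal_over_maximal_of_isIntegral
    (S := integralClosure D K) (maximalIdeal D) hker
  have hxQ : algebraMap D (integralClosure D K) x ∈ Q := by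
    have : x ∈ Q.comap (algebraMap D (integralClosure D K)) := by rw [hQ]; exact hx
    exact this
  have hunit : algebraMap D (integralClosure D K) x *
      ((b * d) • w) = 1 := by
    apply Subtype.ext
    simp only [Subalgebra.coe_mul, Subalgebra.coe_algebraMap,
      Subalgebra.coe_one, Algebra.smul_def]
    exact hone
  have : (1 : integralClosure D K) ∈ Q := by
    rw [← hunit]; exact Q.mul_mem_right _ hxQ
  exact hQmax.ne_top ((Ideal.eq_top_iff_one Q).mpr this)

end

section Finite

variable {A : Type u} [CommRing A] [IsNoetherianRing A] [IsLocalRing A]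
  [IsAdicComplete (maximalIdeal A) A]
  {D : Type u} [CommRing D] [IsDomain D] [IsNoetherianRing D] [IsLocalRing D]
  [Ring.KrullDimLE 1 D] [Algebra A D] {K : Type u} [Field K] [Algebra D K] [IsFractionRing D K]

theorem finite_integralClosure (hsurj : Function.Surjective (algebraMap A D))
    (hnf : ¬ IsField D) : Module.Finite D (integralClosure D K) := by
  have hmne : maximalIdeal D ≠ ⊥ := by rwa [Ne, ← isField_iff_maximalIdeal_eq]
  obtain ⟨x, hxm, hx0⟩ := Submodule.exists_mem_ne_zero_of_ne_bot hmne
  obtain ⟨xt, rfl⟩ := hsurj x
  have hxtm : xt ∈ maximalIdeal A := by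
    by_contra h
    have hu : IsUnit xt := by rwa [mem_maximalIdeal, mem_nonunits_iff, not_not] at h
    exact (mem_maximalIdeal _).mp hxm (hu.map _)
  let I : Ideal A := Ideal.span {xt}
  have hIle : I ≤ maximalIdeal A := (Ideal.span_singleton_le_iff_mem _).mpr hxtm
  have hIfg : I.FG := ⟨{xt}, by simp [I]⟩
  have : IsAdicComplete I A :=
    Groth.Agent.Lib.Helper61.CompleteLE.isAdicComplete_of_le I (maximalIdeal A) hIle hIfg
  have : Module.Finite A D := Module.Finite.of_surjective (Algebra.linearMap A D) hsurj
  have hP : IsPrecomplete I D := Groth.Agent.Lib.Helper25.isPrecomplete_of_finite I D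
  have hH : IsHausdorff I D :=
    IsHausdorff.of_le_jacobson I D (hIle.trans (maximalIdeal_le_jacobson ⊥))
  have hc0 : IsAdicComplete I D := {}
  have hcD : IsAdicComplete (I.map (algebraMap A D)) D :=
    (IsAdicComplete.map_algebraMap_iff (R := A) (S := D) I D).mpr hc0
  have hImap : I.map (algebraMap A D) = Ideal.span {algebraMap A D xt} := by
    rw [Ideal.map_span, Set.image_singleton]
  rw [hImap] at hcD
  have := isHausdorff_integralClosure (K := K) (algebraMap A D xt) hxm hx0
  have : Module.Finite D (integralClosure D K ⧸
      (Ideal.span {algebraMap A D xt} • ⊤ : Submodule D (integralClosure D K))) := by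
    have h1 := Groth.Agent.Lib.Helper52.KA.length_quot_smul_le_one (integralClosure D K)
      ((integralClosure D K).val.toLinearMap) Subtype.val_injective (algebraMap A D xt) hx0
    have h2 := Groth.Agent.Lib.Helper52.KA.length_quotient_ne_top
      (Ideal.span {algebraMap A D xt}) (by rwa [Ne, Ideal.span_singleton_eq_bot])
    have h3 : Module.length D (integralClosure D K ⧸
        (Ideal.span {algebraMap A D xt} • ⊤ : Submodule D (integralClosure D K))) ≠ ⊤ :=
      ne_top_of_le_ne_top h2 h1
    rw [Module.length_ne_top_iff, isFiniteLength_iff_isNoetherian_isArtinian] at h3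
    have := h3.1
    infer_instance
  exact Groth.Agent.Lib.Helper54.CplLocal.finite_of_finite_quotient
    (Ideal.span {algebraMap A D xt}) (integralClosure D K)

end Finite

section DVR

variable {A : Type u} [CommRing A] [IsNoetherianRing A] [IsLocalRing A]
  [IsAdicComplete (maximalIdeal A) A]
  {D : Type u} [CommRing D] [IsDomain D] [IsNoetherianRing D] [IsLocalRing D]
  [Ring.KrullDimLE 1 D] [Algebra A D]

/-- The normalization of a one-dimensional quotient domain `D` of a complete Noetherian local ring
`A` is a DVR, finite over `A`, and `A → V` is local with the same kernel as `A → D`. -/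
theorem exists_dvr (hsurj : Function.Surjective (algebraMap A D)) (hnf : ¬ IsField D) :
    ∃ (V : Type u) (_ : CommRing V) (_ : IsDomain V) (_ : IsDiscreteValuationRing V)
      (φ : A →+* V), IsLocalHom φ ∧ φ.Finite ∧ RingHom.ker φ = RingHom.ker (algebraMap A D) := by
  let K := FractionRing D
  have hfin : Module.Finite D (integralClosure D K) :=
    finite_integralClosure (A := A) (K := K) hsurj hnf
  have hinjK : Function.Injective (algebraMap D K) := IsFractionRing.injective D K
  have hinj : Function.Injective (algebraMap D (integralClosure D K)) := by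
    intro a b hab
    apply hinjK
    have := congrArg Subtype.val hab
    simpa using this
  have hAD : Module.Finite A D := Module.Finite.of_surjective (Algebra.linearMap A D) hsurj
  let _ : Algebra A (integralClosure D K) :=
    ((algebraMap D (integralClosure D K)).comp (algebraMap A D)).toAlgebra
  have : IsScalarTower A D (integralClosure D K) := IsScalarTower.of_algebraMap_eq (fun _ => rfl)
  have hAV : Module.Finite A (integralClosure D K) := Module.Finite.trans D _
  have hNV : IsNoetherianRing (integralClosure D K) := IsNoetherianRing.of_finite D _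
  obtain ⟨hloc, -⟩ :=
    Groth.Agent.Lib.Helper38.FiniteLocal.isLocalRing_isAdicComplete_of_finite A
      (integralClosure D K)
  have hdim : Ring.DimensionLEOne D :=
    ⟨fun {p} hp hpp => Ring.krullDimLE_one_iff_of_isPrime_bot.mp inferInstance p hp hpp⟩
  have hdimV : Ring.DimensionLEOne (integralClosure D K) := inferInstance
  have hIC : IsIntegrallyClosed (integralClosure D K) :=
    integralClosure.isIntegrallyClosedOfFiniteExtension (R := D) K (L := K)
  have hlocal : IsLocalHom (algebraMap D (integralClosure D K)) :=
    (algebraMap_isIntegral_iff.mpr inferInstance).isLocalHom hinj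
  -- `V` is not a field
  have hmne : maximalIdeal D ≠ ⊥ := by rwa [Ne, ← isField_iff_maximalIdeal_eq]
  obtain ⟨x, hxm, hx0⟩ := Submodule.exists_mem_ne_zero_of_ne_bot hmne
  have hVnf : maximalIdeal (integralClosure D K) ≠ ⊥ := by
    intro h0
    have hxV : algebraMap D (integralClosure D K) x ∈ maximalIdeal (integralClosure D K) := by
      rw [mem_maximalIdeal, mem_nonunits_iff]
      intro hu
      exact (mem_maximalIdeal _).mp hxm (hlocal.map_nonunit x hu)
    rw [h0, Ideal.mem_bot, map_eq_zero_iff _ hinj] at hxV
    exact hx0 hxV
  have hPIR : IsPrincipalIdealRing (integralClosure D K) := by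
    apply ((tfae_of_isNoetherianRing_of_isLocalRing_of_isDomain (integralClosure D K)).out 3 0).mp
    refine ⟨hIC, fun P hP hPp => ?_⟩
    exact eq_maximalIdeal (hPp.isMaximal hP)
  have hDVR : IsDiscreteValuationRing (integralClosure D K) := { not_a_field' := hVnf }
  refine ⟨integralClosure D K, inferInstance, inferInstance, hDVR,
    (algebraMap D (integralClosure D K)).comp (algebraMap A D), ?_, ?_, ?_⟩
  · have h1 : IsLocalHom (algebraMap A D) := by
      constructor
      intro a ha
      by_contra hna
      have ham : a ∈ maximalIdeal A := hna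
      -- surjective ring homs map the maximal ideal into the maximal ideal
      have : algebraMap A D a ∈ maximalIdeal D := by
        by_contra hu
        rw [mem_maximalIdeal, mem_nonunits_iff, not_not] at hu
        exact hna (by
          obtain ⟨b, hb⟩ := hsurj (↑hu.unit⁻¹ : D)
          have h1 : algebraMap A D (a * b) = 1 := by rw [map_mul, hb]; exact hu.mul_val_inv
          -- `a * b - 1 ∈ ker ≤ 𝔪`, so `a * b` is a unit
          have hker : a * b - 1 ∈ RingHom.ker (algebraMap A D) := by
            rw [RingHom.mem_ker, map_sub, h1, map_one, sub_self]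
          have hkerle : RingHom.ker (algebraMap A D) ≤ maximalIdeal A :=
            le_maximalIdeal (RingHom.ker_ne_top _)
          have hab : IsUnit (a * b) := by
            by_contra hnu
            have habm : a * b ∈ maximalIdeal A := hnu
            have : (1 : A) ∈ maximalIdeal A := by
              have := (maximalIdeal A).sub_mem habm (hkerle hker)
              rwa [sub_sub_cancel] at this
            exact (Ideal.ne_top_iff_one _).mp (maximalIdeal.isMaximal A).ne_top this
          exact isUnit_of_mul_isUnit_left hab)
      exact (mem_maximalIdeal _).mp this ha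
    exact RingHom.isLocalHom_comp _ _
  · exact RingHom.Finite.comp (RingHom.finite_algebraMap.mpr hfin)
      (RingHom.Finite.of_surjective _ hsurj)
  · ext a
    rw [RingHom.mem_ker, RingHom.mem_ker, RingHom.comp_apply, map_eq_zero_iff _ hinj]

end DVR

end Groth.Agent.Lib.Helper52.DimOneDVR
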