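import Mathlib

/-!
# Primes of dimension one avoiding a given element

* `eq_maximalIdeal_of_forall_mem`: in a Noetherian local domain, if a nonzero `f` lies in every
  prime other than `⊥` and `𝔪`, then every nonzero prime is `𝔪`.
* `exists_dimOne_prime_notMem`: in a reduced Noetherian local ring which is not a field, for
  `x ≠ 0` there is a prime `p ∌ x`, `p ≠ 𝔪`, such that `𝔪` is the only prime strictly above `p`.
-/

namespace Groth.Agent.Lib.Helper52.DimOnePrimes

open IsLocalRing

universe u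

theorem eq_maximalIdeal_of_forall_mem {D : Type*} [CommRing D] [IsDomain D] [IsNoetherianRing D]
    [IsLocalRing D] (f : D) (hf : f ≠ 0)
    (h : ∀ Q : Ideal D, Q.IsPrime → Q ≠ ⊥ → Q ≠ maximalIdeal D → f ∈ Q)
    (Q₀ : Ideal D) (hQ₀ : Q₀.IsPrime) (hQ₀bot : Q₀ ≠ ⊥) : Q₀ = maximalIdeal D := by
  by_contra hne
  have hfQ₀ : f ∈ Q₀ := h Q₀ hQ₀ hQ₀bot hne
  -- a prime strictly inside a prime of height ≤ 1 is zero
  have hlt_bot : ∀ P Q : Ideal D, P.IsPrime → Q.IsPrime → P < Q → Q.height ≤ 1 → P = ⊥ := by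
    intro P Q hP hQ hPQ hQh
    have h1 : P.height + 1 ≤ Q.height := Ideal.height_add_one_le_of_lt_of_isPrime hPQ
    have h2 : P.height + 1 ≤ 1 := h1.trans hQh
    have h3 : P.height = 0 := by
      have : P.height ≤ 0 := by
        by_contra hcon
        rw [not_le] at hcon
        have : (1 : ℕ∞) + 1 ≤ P.height + 1 := by
          gcongr
          exact Order.one_le_iff_pos.mpr hcon
        have h4 := this.trans h2
        revert h4; decide
      exact le_antisymm this bot_le
    exact Ideal.height_eq_zero_iff_eq_bot.mp h3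
  have hQ₀lt : Q₀ < maximalIdeal D := lt_of_le_of_ne (le_maximalIdeal hQ₀.ne_top) hne
  -- primes of height ≤ 1 are not maximal
  have hne_max : ∀ Q : Ideal D, Q.IsPrime → Q.height ≤ 1 → Q ≠ maximalIdeal D := by
    intro Q hQ hQh hQm
    apply hQ₀bot
    exact hlt_bot Q₀ Q hQ₀ hQ (hQm ▸ hQ₀lt) hQh
  -- minimal primes over `f`
  have hfin : (Ideal.span {f}).minimalPrimes.Finite :=
    Ideal.finite_minimalPrimes_of_isNoetherianRing D _
  have hheight : ∀ P ∈ (Ideal.span {f}).minimalPrimes, P.height ≤ 1 := fun P hP =>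
    Ideal.height_le_one_of_isPrincipal_of_mem_minimalPrimes _ P hP
  -- prime avoidance
  have hnot : ¬ ((maximalIdeal D : Set D) ⊆ ⋃ P ∈ (Ideal.span {f}).minimalPrimes, (P : Set D)) := by
    intro hsub
    have hsub' : (maximalIdeal D : Set D) ⊆
        ⋃ P ∈ (↑hfin.toFinset : Set (Ideal D)), ((id P : Ideal D) : Set D) := by
      simpa using hsub
    rw [Ideal.subset_union_prime (⊤ : Ideal D) (⊤ : Ideal D)] at hsub'
    · obtain ⟨P, hP, hmP⟩ := hsub'
      rw [Set.Finite.mem_toFinset] at hP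
      have hPprime : P.IsPrime := hP.1.1
      have : P = maximalIdeal D := le_antisymm (le_maximalIdeal hPprime.ne_top) hmP
      exact hne_max P hPprime (hheight P hP) this
    · intro P hP _ _
      rw [Set.Finite.mem_toFinset] at hP
      exact hP.1.1
  rw [Set.not_subset] at hnot
  obtain ⟨g, hgm, hgU⟩ := hnot
  -- some minimal prime over `f` exists inside `Q₀`
  obtain ⟨P₁, hP₁, hP₁Q₀⟩ := Ideal.exists_minimalPrimes_le
    (show Ideal.span {f} ≤ Q₀ from (Ideal.span_singleton_le_iff_mem Q₀).mpr hfQ₀)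
  have hg0 : g ≠ 0 := by
    intro h0
    apply hgU
    simp only [Set.mem_iUnion]
    exact ⟨P₁, hP₁, by rw [h0]; exact P₁.zero_mem⟩
  -- a minimal prime over `g`
  have hgle : Ideal.span {g} ≤ maximalIdeal D := (Ideal.span_singleton_le_iff_mem _).mpr hgm
  obtain ⟨Q, hQ, hQm⟩ := Ideal.exists_minimalPrimes_le hgle
  have hQprime : Q.IsPrime := hQ.1.1
  have hQh : Q.height ≤ 1 := Ideal.height_le_one_of_isPrincipal_of_mem_minimalPrimes _ Q hQ
  have hgQ : g ∈ Q := hQ.1.2 (Ideal.mem_span_singleton_self g)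
  have hQbot : Q ≠ ⊥ := by
    intro h0
    rw [h0, Ideal.mem_bot] at hgQ
    exact hg0 hgQ
  have hfQ : f ∈ Q := h Q hQprime hQbot (hne_max Q hQprime hQh)
  obtain ⟨P, hP, hPQ⟩ := Ideal.exists_minimalPrimes_le
    (show Ideal.span {f} ≤ Q from (Ideal.span_singleton_le_iff_mem Q).mpr hfQ)
  have hPprime : P.IsPrime := hP.1.1
  have hPbot : P ≠ ⊥ := by
    intro h0
    have : f ∈ P := hP.1.2 (Ideal.mem_span_singleton_self f)
    rw [h0, Ideal.mem_bot] at this
    exact hf this
  have hPeq : P = Q := by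
    by_contra hPQne
    exact hPbot (hlt_bot P Q hPprime hQprime (lt_of_le_of_ne hPQ hPQne) hQh)
  apply hgU
  simp only [Set.mem_iUnion]
  exact ⟨P, hP, by rw [hPeq]; exact hgQ⟩

theorem exists_dimOne_prime_notMem {A : Type*} [CommRing A] [IsNoetherianRing A] [IsLocalRing A]
    [IsReduced A] (hA : ¬ IsField A) (x : A) (hx : x ≠ 0) :
    ∃ p : Ideal A, p.IsPrime ∧ x ∉ p ∧ p ≠ maximalIdeal A ∧
      ∀ P' : Ideal A, P'.IsPrime → p < P' → P' = maximalIdeal A := by
  classical
  let S : Set (Ideal A) := {P | P.IsPrime ∧ x ∉ P ∧ P ≠ maximalIdeal A}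
  have hSne : S.Nonempty := by
    have hx' : x ∉ sInf (minimalPrimes A) := by
      have : sInf (minimalPrimes A) = ⊥ := by
        rw [minimalPrimes, Ideal.sInf_minimalPrimes]
        exact (Ideal.radical_eq_iff.mpr (Ideal.isRadical_bot_iff.mpr inferInstance))
      rw [this, Ideal.mem_bot]
      exact hx
    rw [Ideal.mem_sInf] at hx'
    push Not at hx'
    obtain ⟨q, hq, hxq⟩ := hx'
    refine ⟨q, hq.1.1, hxq, ?_⟩
    intro hqm
    apply hA
    rw [isField_iff_maximalIdeal_eq]
    have hall : ∀ P : Ideal A, P.IsPrime → P = maximalIdeal A := by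
      intro P hP
      have hle : P ≤ q := hqm ▸ le_maximalIdeal hP.ne_top
      have := hq.2 ⟨hP, bot_le⟩ hle
      exact hqm ▸ le_antisymm hle this
    have hnil : nilradical A = maximalIdeal A := by
      rw [nilradical_eq_sInf]
      apply le_antisymm
      · have hm : (maximalIdeal A).IsPrime := inferInstance
        exact sInf_le hm
      · apply le_sInf
        intro P hP
        rw [hall P hP]
    rw [← hnil]
    exact nilradical_eq_zero A
  obtain ⟨p, hpS, hpmax⟩ := (wellFounded_gt (α := Ideal A)).has_min S hSne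
  obtain ⟨hpprime, hxp, hpm⟩ := hpS
  refine ⟨p, hpprime, hxp, hpm, ?_⟩
  intro P' hP' hpP'
  have hsurj : Function.Surjective (Ideal.Quotient.mk p) := Ideal.Quotient.mk_surjective
  have hdom : IsDomain (A ⧸ p) := Ideal.Quotient.isDomain p
  have hloc : IsLocalRing (A ⧸ p) := IsLocalRing.of_surjective' (Ideal.Quotient.mk p) hsurj
  have hfx : Ideal.Quotient.mk p x ≠ 0 := by
    rw [Ne, Ideal.Quotient.eq_zero_iff_mem]; exact hxp
  have hcomap_max : (maximalIdeal (A ⧸ p)).comap (Ideal.Quotient.mk p) = maximalIdeal A := by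
    have : ((maximalIdeal (A ⧸ p)).comap (Ideal.Quotient.mk p)).IsMaximal :=
      Ideal.comap_isMaximal_of_surjective _ hsurj
    exact eq_maximalIdeal this
  have hkey := eq_maximalIdeal_of_forall_mem (D := A ⧸ p) (Ideal.Quotient.mk p x) hfx (by
    intro Q hQ hQbot hQm
    by_contra hxQ
    let Q' := Q.comap (Ideal.Quotient.mk p)
    have hQ'prime : Q'.IsPrime := Ideal.comap_isPrime _ _
    have hpQ' : p ≤ Q' := by
      intro a ha
      show Ideal.Quotient.mk p a ∈ Q
      rw [Ideal.Quotient.eq_zero_iff_mem.mpr ha]; exact Q.zero_mem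
    have hQ'ne : Q' ≠ p := by
      intro heq
      apply hQbot
      rw [eq_bot_iff]
      intro b hb
      obtain ⟨a, rfl⟩ := hsurj b
      have : a ∈ Q' := hb
      rw [heq] at this
      rw [Ideal.mem_bot, Ideal.Quotient.eq_zero_iff_mem]; exact this
    have hQ'm : Q' ≠ maximalIdeal A := by
      intro heq
      apply hQm
      have h1 : Q = Q'.map (Ideal.Quotient.mk p) := (Ideal.map_comap_of_surjective _ hsurj Q).symm
      have h2 : maximalIdeal (A ⧸ p) =
          ((maximalIdeal (A ⧸ p)).comap (Ideal.Quotient.mk p)).map (Ideal.Quotient.mk p) :=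
        (Ideal.map_comap_of_surjective _ hsurj _).symm
      rw [h1, h2, hcomap_max, heq]
    have hQ'S : Q' ∈ S := ⟨hQ'prime, hxQ, hQ'm⟩
    exact hpmax Q' hQ'S (lt_of_le_of_ne hpQ' (Ne.symm hQ'ne)))
  have hker : RingHom.ker (Ideal.Quotient.mk p) ≤ P' := by
    rw [Ideal.mk_ker]; exact hpP'.le
  have hQ₀prime : (P'.map (Ideal.Quotient.mk p)).IsPrime :=
    Ideal.map_isPrime_of_surjective hsurj hker
  have hQ₀bot : P'.map (Ideal.Quotient.mk p) ≠ ⊥ := by
    intro h0
    have : P' ≤ p := by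
      intro a ha
      have : Ideal.Quotient.mk p a ∈ P'.map (Ideal.Quotient.mk p) := Ideal.mem_map_of_mem _ ha
      rw [h0, Ideal.mem_bot, Ideal.Quotient.eq_zero_iff_mem] at this
      exact this
    exact absurd hpP' (not_lt_of_ge this)
  have h1 := hkey _ hQ₀prime hQ₀bot
  have h2 : (P'.map (Ideal.Quotient.mk p)).comap (Ideal.Quotient.mk p) = P' := by
    rw [Ideal.comap_map_of_surjective _ hsurj, ← RingHom.ker_eq_comap_bot]
    exact sup_eq_left.mpr hker
  rw [← h2, h1, hcomap_max]

end Groth.Agent.Lib.Helper52.DimOnePrimes
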