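import Mathlib
import Groth.Agent.Lib.Helper52.DimOneDVR
import Groth.Agent.Lib.Helper52.DimOnePrimes
import Groth.Agent.Lib.Helper52.ChevalleyFamily

/-!
# Finite local homomorphisms to DVRs separate the `𝔪`-adic topology of a reduced complete local ring
-/

namespace Groth.Agent.Lib.Helper52.DimOneFamily

open IsLocalRing

universe u

variable {A : Type u} [CommRing A] [IsNoetherianRing A] [IsLocalRing A]
  [IsAdicComplete (maximalIdeal A) A]

theorem exists_dvr_of_prime (p : Ideal A) (hp : p.IsPrime) (hpm : p ≠ maximalIdeal A)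
    (hdim : ∀ P' : Ideal A, P'.IsPrime → p < P' → P' = maximalIdeal A) :
    ∃ (V : Type u) (_ : CommRing V) (_ : IsDomain V) (_ : IsDiscreteValuationRing V)
      (φ : A →+* V), IsLocalHom φ ∧ φ.Finite ∧ RingHom.ker φ = p := by
  have : IsDomain (A ⧸ p) := Ideal.Quotient.isDomain p
  have : Nontrivial (A ⧸ p) := inferInstance
  have : IsLocalRing (A ⧸ p) :=
    IsLocalRing.of_surjective' (Ideal.Quotient.mk p) Ideal.Quotient.mk_surjective
  have hK : Ring.KrullDimLE 1 (A ⧸ p) := by
    rw [Ring.krullDimLE_one_iff_of_isPrime_bot]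
    intro Q hQ hQp
    have hcp : (Q.comap (Ideal.Quotient.mk p)).IsPrime := Ideal.comap_isPrime _ _
    have hlt : p < Q.comap (Ideal.Quotient.mk p) := by
      refine lt_of_le_of_ne ?_ ?_
      · intro x hx
        rw [Ideal.mem_comap, Ideal.Quotient.eq_zero_iff_mem.mpr hx]
        exact Q.zero_mem
      · intro heq
        apply hQ
        rw [eq_bot_iff]
        intro y hy
        obtain ⟨x, rfl⟩ := Ideal.Quotient.mk_surjective y
        have : x ∈ Q.comap (Ideal.Quotient.mk p) := hy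
        rw [← heq] at this
        rw [Ideal.mem_bot]
        exact Ideal.Quotient.eq_zero_iff_mem.mpr this
    have hmax := hdim _ hcp hlt
    have hQeq : Q = (maximalIdeal A).map (Ideal.Quotient.mk p) := by
      rw [← hmax, Ideal.map_comap_of_surjective _ Ideal.Quotient.mk_surjective]
    rcases Ideal.map_eq_top_or_isMaximal_of_surjective (Ideal.Quotient.mk p)
      Ideal.Quotient.mk_surjective (maximalIdeal.isMaximal A) with h | h
    · exact absurd (hQeq.trans h) hQp.ne_top
    · rw [hQeq]; exact h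
  have hnf : ¬ IsField (A ⧸ p) := fun h =>
    hpm (eq_maximalIdeal (Ideal.Quotient.maximal_of_isField p h))
  obtain ⟨V, i1, i2, i3, φ, h1, h2, h3⟩ :=
    Groth.Agent.Lib.Helper52.DimOneDVR.exists_dvr (A := A) (D := A ⧸ p)
      Ideal.Quotient.mk_surjective hnf
  refine ⟨V, i1, i2, i3, φ, h1, h2, ?_⟩
  rw [h3]
  exact Ideal.mk_ker

/-- The primes `p ≠ 𝔪` with only `𝔪` strictly above. -/
def Good (p : Ideal A) : Prop :=
  p.IsPrime ∧ p ≠ maximalIdeal A ∧ ∀ P' : Ideal A, P'.IsPrime → p < P' → P' = maximalIdeal A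

theorem exists_finset_good [IsReduced A] (hA : ¬ IsField A) (n : ℕ) :
    ∃ s : Finset (Ideal A), (∀ p ∈ s, Good p) ∧ s.inf id ≤ maximalIdeal A ^ n := by
  obtain ⟨I, ⟨s, hs, rfl⟩, hI⟩ := Groth.Agent.Lib.Helper52.ChevalleyFamily.chevalley_family
    {I : Ideal A | ∃ s : Finset (Ideal A), (∀ p ∈ s, Good p) ∧ I = s.inf id}
    ⟨⊤, ∅, by simp, by simp⟩
    (by
      classical
      rintro _ ⟨s, hs, rfl⟩ _ ⟨t, ht, rfl⟩
      refine ⟨s ∪ t, ?_, ?_⟩
      · intro p hp
        rcases Finset.mem_union.mp hp with h | h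
        · exact hs p h
        · exact ht p h
      · rw [Finset.inf_union])
    (by
      intro x hx
      by_contra hx0
      obtain ⟨p, hp, hxp, hpm, hdim⟩ :=
        Groth.Agent.Lib.Helper52.DimOnePrimes.exists_dimOne_prime_notMem hA x hx0
      apply hxp
      have := hx p ⟨{p}, by
        intro q hq
        rw [Finset.mem_singleton] at hq
        subst hq
        exact ⟨hp, hpm, hdim⟩, by simp⟩
      exact this) n
  exact ⟨s, hs, hI⟩

theorem main [IsReduced A] (hA : ¬ IsField A) (n : ℕ) :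
    ∃ (k : ℕ) (V : Fin k → Type u) (_ : ∀ i, CommRing (V i)) (_ : ∀ i, IsDomain (V i))
      (_ : ∀ i, IsDiscreteValuationRing (V i)) (φ : ∀ i, A →+* V i),
      (∀ i, IsLocalHom (φ i) ∧ (φ i).Finite) ∧
        ⨅ i, RingHom.ker (φ i) ≤ IsLocalRing.maximalIdeal A ^ n := by
  obtain ⟨s, hs, hI⟩ := exists_finset_good hA n
  have key : ∀ i : Fin s.card, ∃ (V : Type u) (_ : CommRing V) (_ : IsDomain V)
      (_ : IsDiscreteValuationRing V) (φ : A →+* V), IsLocalHom φ ∧ φ.Finite ∧
      RingHom.ker φ = (s.equivFin.symm i : Ideal A) := by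
    intro i
    obtain ⟨h1, h2, h3⟩ := hs _ (s.equivFin.symm i).2
    exact exists_dvr_of_prime _ h1 h2 h3
  choose V i1 i2 i3 φ h1 h2 h3 using key
  refine ⟨s.card, V, i1, i2, i3, φ, fun i => ⟨h1 i, h2 i⟩, ?_⟩
  refine le_trans ?_ hI
  intro x hx
  rw [Ideal.mem_iInf] at hx
  rw [Submodule.mem_finsetInf]
  intro p hp
  have := hx (s.equivFin ⟨p, hp⟩)
  rw [h3, Equiv.symm_apply_apply] at this
  exact this

end Groth.Agent.Lib.Helper52.DimOneFamily
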