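import Mathlib

set_option linter.style.haveILetI false
set_option linter.unusedSectionVars false
set_option autoImplicit false

namespace Groth.Agent.Lib.Helper52.DualFlatA

open TensorProduct

/-- Descent of flatness (over a base `A`) along a faithfully flat extension `C → D` of the ring
acting on the module. -/
theorem flat_of_faithfullyFlat_tensor (A C D M : Type*) [CommRing A] [CommRing C] [CommRing D]
    [Algebra A C] [Algebra C D] [Algebra A D] [IsScalarTower A C D] [Module.FaithfullyFlat C D]
    [AddCommGroup M] [Module A M] [Module C M] [IsScalarTower A C M]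
    (h : Module.Flat A (D ⊗[C] M)) : Module.Flat A M := by
  rw [Module.Flat.iff_lTensor_injective']
  intro I
  let g : M ⊗[A] I →ₗ[C] M ⊗[A] A := TensorProduct.AlgebraTensorModule.lTensor C M (I.subtype)
  have hg : ⇑g = ⇑(LinearMap.lTensor M I.subtype) := rfl
  rw [← hg, ← Module.FaithfullyFlat.lTensor_injective_iff_injective C D]
  let e₁ := TensorProduct.AlgebraTensorModule.assoc A C D D M I
  let e₂ := TensorProduct.AlgebraTensorModule.assoc A C D D M A
  have key : ∀ x : (D ⊗[C] M) ⊗[A] I,
      (LinearMap.lTensor D g) (e₁ x) = e₂ (LinearMap.lTensor (D ⊗[C] M) I.subtype x) := by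
    intro x
    induction x using TensorProduct.induction_on with
    | zero => simp
    | add x y hx hy => simp only [map_add, hx, hy]
    | tmul dm i =>
      induction dm using TensorProduct.induction_on with
      | zero => simp
      | add x y hx hy => simp only [TensorProduct.add_tmul, map_add, hx, hy]
      | tmul d m => rfl
  intro y y' hy
  obtain ⟨x, rfl⟩ := e₁.surjective y
  obtain ⟨x', rfl⟩ := e₁.surjective y'
  rw [key, key] at hy
  have := (Module.Flat.lTensor_preserves_injective_linearMap (M := D ⊗[C] M) I.subtype
    Subtype.val_injective) (e₂.injective hy)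
  rw [this]

end Groth.Agent.Lib.Helper52.DualFlatA
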