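import Mathlib
import Groth.Prelude.Def_Disc

set_option linter.style.haveILetI false
set_option linter.unusedSectionVars false
set_option autoImplicit false

namespace Groth.Agent.Lib.Helper52.DualFlatB

open TensorProduct

universe u

variable {A R B' : Type u} [CommRing A] [CommRing R] [Algebra A R] [Module.Flat A R]
  [CommRing B'] [Algebra A B'] [Module.FinitePresentation A B']

/-- base change of a functional -/
noncomputable def phiR (φ : B' →ₗ[A] A) : R ⊗[A] B' →ₗ[R] R :=
  (TensorProduct.AlgebraTensorModule.rid A R R).toLinearMap ∘ₗ φ.baseChange R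

omit [Module.Flat A R] [Module.FinitePresentation A B'] in
@[simp] theorem phiR_tmul (φ : B' →ₗ[A] A) (r : R) (b : B') :
    phiR (R := R) φ (r ⊗ₜ b) = φ b • r := by
  simp [phiR]

/-- shift of a functional by multiplication -/
noncomputable def shiftMap (φ : B' →ₗ[A] A) : B' →ₗ[A] (B' →ₗ[A] A) where
  toFun b := φ ∘ₗ LinearMap.mulLeft A b
  map_add' b b' := by ext x; simp [add_mul]
  map_smul' a b := by ext x; simp

omit [Module.Flat A R] [Module.FinitePresentation A B'] in
@[simp] theorem shiftMap_apply (φ : B' →ₗ[A] A) (b x : B') : shiftMap φ b x = φ (b * x) := rfl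

/-- the base change isomorphism for the dual -/
noncomputable def beta : R ⊗[A] (B' →ₗ[A] A) ≃ₗ[R] (R ⊗[A] B' →ₗ[R] R) :=
  (Module.FinitePresentation.isBaseChange_map A B' A R).equiv ≪≫ₗ
    LinearEquiv.congrRight (TensorProduct.AlgebraTensorModule.rid A R R)

theorem beta_tmul (r : R) (φ : B' →ₗ[A] A) :
    beta (R := R) (r ⊗ₜ φ) = r • phiR φ := by
  simp only [beta, LinearEquiv.trans_apply, IsBaseChange.equiv_tmul]
  rw [map_smul]
  rfl

/-- (J2) -/
theorem beta_theta (φ : B' →ₗ[A] A) (t s : R ⊗[A] B') :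
    beta (R := R) ((shiftMap φ).baseChange R t) s = phiR φ (t * s) := by
  induction t using TensorProduct.induction_on with
  | zero => simp
  | add x y hx hy => simp only [map_add, LinearMap.add_apply, hx, hy, add_mul]
  | tmul r b =>
    induction s using TensorProduct.induction_on with
    | zero => simp
    | add x y hx hy => simp only [map_add, hx, hy, mul_add]
    | tmul r' b' =>
      rw [LinearMap.baseChange_tmul, beta_tmul, LinearMap.smul_apply, phiR_tmul,
        Algebra.TensorProduct.tmul_mul_tmul, phiR_tmul, shiftMap_apply]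
      simp only [smul_eq_mul, Algebra.smul_def]
      ring

section retract

variable {D : Type u} [CommRing D] [Algebra R D] [Algebra B' D] [Algebra A D]
  [IsScalarTower A R D] [IsScalarTower A B' D]

instance smulCommClass_aux : SMulCommClass B' R D :=
  ⟨fun b r d => by simp only [Algebra.smul_def]; ring⟩

instance smulCommClass_aux' : SMulCommClass R B' D :=
  ⟨fun b r d => by simp only [Algebra.smul_def]; ring⟩

/-- `φ ↦ 1 ⊗ φ` -/
noncomputable def mu0 : (B' →ₗ[A] A) →ₗ[A] D ⊗[B'] Disc.Omega A B' where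
  toFun φ := (1 : D) ⊗ₜ ⟨φ⟩
  map_add' φ ψ := by
    rw [← TensorProduct.tmul_add]; rfl
  map_smul' a φ := by
    have h : (⟨a • φ⟩ : Disc.Omega A B') = (algebraMap A B' a) • ⟨φ⟩ := by
      ext x
      simp only [Disc.Omega.smul_toLinearMap_apply, LinearMap.smul_apply, smul_eq_mul]
      rw [← Algebra.smul_def, map_smul, smul_eq_mul]
    rw [h, ← TensorProduct.smul_tmul, RingHom.id_apply, TensorProduct.smul_tmul',
      algebraMap_smul]

noncomputable def mu : R ⊗[A] (B' →ₗ[A] A) →ₗ[R] D ⊗[B'] Disc.Omega A B' :=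
  LinearMap.liftBaseChange R (mu0 (D := D))

variable (π : R ⊗[A] B' →ₐ[R] D) (hπ : ∀ b : B', π (1 ⊗ₜ b) = algebraMap B' D b)

include hπ in
/-- (J3) -/
theorem mu_theta (φ : B' →ₗ[A] A) (t : R ⊗[A] B') :
    mu (R := R) (D := D) ((shiftMap φ).baseChange R t) = π t ⊗ₜ ⟨φ⟩ := by
  induction t using TensorProduct.induction_on with
  | zero => simp
  | add x y hx hy => simp only [map_add, hx, hy, TensorProduct.add_tmul]
  | tmul r b =>
    rw [LinearMap.baseChange_tmul, mu, LinearMap.liftBaseChange_tmul]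
    have h1 : (⟨shiftMap φ b⟩ : Disc.Omega A B') = b • ⟨φ⟩ := by
      ext x; simp
    have h2 : π (r ⊗ₜ b) = r • (b • (1 : D)) := by
      have : (r ⊗ₜ[A] b : R ⊗[A] B') = r • ((1 : R) ⊗ₜ b) := by
        rw [TensorProduct.smul_tmul', smul_eq_mul, mul_one]
      rw [this, map_smul, hπ, Algebra.smul_def b, mul_one]
    change r • ((1 : D) ⊗ₜ[B'] (⟨shiftMap φ b⟩ : Disc.Omega A B')) = _
    rw [h1, h2, ← TensorProduct.smul_tmul, TensorProduct.smul_tmul']

omit [Module.Flat A R] [Module.FinitePresentation A B'] in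
theorem phiR_add (φ ψ : B' →ₗ[A] A) : phiR (R := R) (φ + ψ) = phiR φ + phiR ψ := by
  simp only [phiR, LinearMap.baseChange_add, LinearMap.comp_add]

omit [Module.Flat A R] [Module.FinitePresentation A B'] in
/-- (J1) -/
theorem phiR_mul (φ : B' →ₗ[A] A) (b : B') (y : R ⊗[A] B') :
    phiR (R := R) φ ((1 ⊗ₜ b) * y) = phiR (shiftMap φ b) y := by
  induction y using TensorProduct.induction_on with
  | zero => simp
  | add x y hx hy => simp only [mul_add, map_add, hx, hy]
  | tmul r b' =>
    rw [Algebra.TensorProduct.tmul_mul_tmul, phiR_tmul, phiR_tmul, one_mul, shiftMap_apply]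

variable (σ : D →ₗ[R] R ⊗[A] B') (hσπ : ∀ d, π (σ d) = d)
  (hσ : ∀ s d, σ (π s * d) = s * σ d)

/-- `u₀ d ω` -/
noncomputable def u0 (d : D) (ω : Disc.Omega A B') : D →ₗ[R] R :=
  phiR (R := R) ω.toLinearMap ∘ₗ σ ∘ₗ LinearMap.mulLeft R d

omit [Module.Flat A R] [Module.FinitePresentation A B'] [Algebra A D] [IsScalarTower A R D]
  [IsScalarTower A B' D] in
theorem u0_apply (d : D) (ω : Disc.Omega A B') (x : D) :
    u0 σ d ω x = phiR (R := R) ω.toLinearMap (σ (d * x)) := rfl

include hπ hσ in
omit [Module.Flat A R] [Module.FinitePresentation A B'] [Algebra A D] [IsScalarTower A R D]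
  [IsScalarTower A B' D] in
theorem u0_balanced (b : B') (d : D) (ω : Disc.Omega A B') :
    u0 σ (b • d) ω = u0 σ d (b • ω) := by
  ext x
  rw [u0_apply, u0_apply]
  have h1 : (b • d) * x = π (1 ⊗ₜ b) * (d * x) := by
    rw [hπ, Algebra.smul_def, mul_assoc]
  rw [h1, hσ, phiR_mul]
  rfl

/-- the map `u` as an additive map -/
noncomputable def uAdd : D ⊗[B'] Disc.Omega A B' →+ (D →ₗ[R] R) :=
  TensorProduct.liftAddHom
    (AddMonoidHom.mk' (fun d => AddMonoidHom.mk' (fun ω => u0 σ d ω)
      (by
        intro ω ω'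
        ext x
        simp only [u0_apply, LinearMap.add_apply]
        rw [Disc.Omega.add_toLinearMap, phiR_add, LinearMap.add_apply]))
      (by
        intro d d'
        ext ω x
        simp only [AddMonoidHom.mk'_apply, AddMonoidHom.add_apply, u0_apply, LinearMap.add_apply]
        rw [add_mul, map_add, map_add]))
    (fun b d ω => u0_balanced π hπ σ hσ b d ω)

omit [Module.Flat A R] [Module.FinitePresentation A B'] [Algebra A D] [IsScalarTower A R D]
  [IsScalarTower A B' D] in
theorem uAdd_tmul (d : D) (ω : Disc.Omega A B') :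
    uAdd π hπ σ hσ (d ⊗ₜ ω) = u0 σ d ω := rfl

/-- the map `u` -/
noncomputable def uLin : D ⊗[B'] Disc.Omega A B' →ₗ[R] (D →ₗ[R] R) where
  toFun := uAdd π hπ σ hσ
  map_add' := map_add _
  map_smul' r x := by
    induction x using TensorProduct.induction_on with
    | zero => simp
    | add x y hx hy => simp only [smul_add, map_add, hx, hy]
    | tmul d ω =>
      rw [TensorProduct.smul_tmul', uAdd_tmul, uAdd_tmul, RingHom.id_apply]
      ext x
      rw [LinearMap.smul_apply, u0_apply, u0_apply, smul_mul_assoc, map_smul, map_smul]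

/-- the map `v` -/
noncomputable def vLin : (D →ₗ[R] R) →ₗ[R] D ⊗[B'] Disc.Omega A B' :=
  mu (R := R) (D := D) ∘ₗ (beta (R := R) (A := A) (B' := B')).symm.toLinearMap ∘ₗ
    LinearMap.lcomp R R π.toLinearMap

include hσπ in
theorem vLin_comp_uLin : (vLin π).comp (uLin π hπ σ hσ) = LinearMap.id := by
  ext x
  induction x using TensorProduct.induction_on with
  | zero => simp
  | add x y hx hy => simp only [map_add, hx, hy]
  | tmul d ω =>
    have h1 : (LinearMap.lcomp R R π.toLinearMap) (uLin π hπ σ hσ (d ⊗ₜ ω)) =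
        beta (R := R) ((shiftMap ω.toLinearMap).baseChange R (σ d)) := by
      refine LinearMap.ext fun s => ?_
      rw [beta_theta]
      change u0 σ d ω (π s) = _
      rw [u0_apply, mul_comm, hσ, mul_comm]
    rw [LinearMap.comp_apply, vLin, LinearMap.comp_apply, LinearMap.comp_apply, h1]
    rw [LinearEquiv.coe_coe, LinearEquiv.symm_apply_apply, mu_theta π hπ, hσπ]
    rfl

include hπ hσπ hσ in
/-- **Lemma R**: `D ⊗ ω_{B'/A}` is a retract of the dual of `D`. -/
theorem flat_tensor_omega [Module.Finite R D] [Module.Projective R D] :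
    Module.Flat R (D ⊗[B'] Disc.Omega A B') :=
  Module.Flat.of_retract (uLin π hπ σ hσ) (vLin π) (vLin_comp_uLin π hπ σ hσπ hσ)

end retract

end Groth.Agent.Lib.Helper52.DualFlatB
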