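import Mathlib
import Groth.Prelude.Def_Disc
import Groth.Agent.Lib.Helper9.HenselSplit
import Groth.Agent.Lib.Helper52.DualFlatA
import Groth.Agent.Lib.Helper52.DualFlatB

set_option linter.style.haveILetI false
set_option linter.unusedSectionVars false
set_option autoImplicit false

namespace Groth.Agent.Lib.Helper52.DualFlatC

open TensorProduct IsLocalRing Groth.Agent.Lib.Helper52.DualFlatA Groth.Agent.Lib.Helper52.DualFlatB

universe u

attribute [local instance] Algebra.TensorProduct.rightAlgebra

section general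

variable {A R B' : Type u} [CommRing A] [CommRing R] [Algebra A R]
  [CommRing B'] [Algebra A B']

/-- `R ⊗ B'` is flat over `B'` (right algebra structure). -/
theorem flat_right [Module.Flat A R] : Module.Flat B' (R ⊗[A] B') := by
  have key : ∀ (b : B') (x : R ⊗[A] B'),
      TensorProduct.comm A R B' (b • x) = b • TensorProduct.comm A R B' x := by
    intro b x
    induction x using TensorProduct.induction_on with
    | zero => simp
    | add x y hx hy => rw [smul_add, map_add, map_add, smul_add, hx, hy]
    | tmul r b' =>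
      rw [Algebra.smul_def, Algebra.TensorProduct.right_algebraMap_apply,
        Algebra.TensorProduct.tmul_mul_tmul, one_mul, TensorProduct.comm_tmul,
        TensorProduct.comm_tmul, TensorProduct.smul_tmul', smul_eq_mul]
  let e : R ⊗[A] B' ≃ₗ[B'] B' ⊗[A] R :=
    { toFun := TensorProduct.comm A R B'
      invFun := (TensorProduct.comm A R B').symm
      map_add' := map_add _
      map_smul' := key
      left_inv := (TensorProduct.comm A R B').left_inv
      right_inv := (TensorProduct.comm A R B').right_inv }
  exact Module.Flat.of_linearEquiv e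

end general

section aux

variable {A R B' : Type u} [CommRing A] [CommRing R] [Algebra A R] [Module.Flat A R]
  [IsLocalRing R] [CommRing B'] [Algebra A B'] [Module.Finite A B']
  [Module.FinitePresentation A B']
  {D : Type u} [CommRing D] [IsLocalRing D] [Algebra R D] [Algebra B' D] [Algebra A D]
  [IsScalarTower A R D] [IsScalarTower A B' D] [Module.Finite R D]
  (π : R ⊗[A] B' →ₐ[R] D) (hπ : ∀ b : B', π (1 ⊗ₜ b) = algebraMap B' D b)
  (σ : D →ₗ[R] R ⊗[A] B') (hσπ : ∀ d, π (σ d) = d)
  (hσ : ∀ (s : R ⊗[A] B') (d : D), σ (π s * d) = s * σ d)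

include hπ hσπ hσ in
set_option maxHeartbeats 1600000 in
theorem flat_of_local_factor (Q : Ideal (R ⊗[A] B')) [hQ : Q.IsMaximal]
    (hQD : (maximalIdeal D).comap π.toRingHom = Q)
    (C : Type u) [CommRing C] [Algebra B' C] [Algebra A C] [IsScalarTower A B' C]
    [IsLocalization.AtPrime C (Q.comap (algebraMap B' (R ⊗[A] B')))] [Module.Flat A C] :
    Module.Flat A (C ⊗[B'] Disc.Omega A B') := by
  set q' : Ideal B' := Q.comap (algebraMap B' (R ⊗[A] B')) with hq'
  have hπι : ∀ b : B', π (algebraMap B' (R ⊗[A] B') b) = algebraMap B' D b := fun b => hπ b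
  -- units
  have hunit : ∀ b : B', b ∉ q' ↔ IsUnit (algebraMap B' D b) := by
    intro b
    rw [← hπι, ← IsLocalRing.notMem_maximalIdeal, hq', Ideal.mem_comap, ← hQD, Ideal.mem_comap]
    rfl
  let f : C →+* D := IsLocalization.lift (M := q'.primeCompl) (g := algebraMap B' D)
    (fun y => (hunit y.1).1 y.2)
  letI : Algebra C D := f.toAlgebra
  have hf : ∀ b : B', algebraMap C D (algebraMap B' C b) = algebraMap B' D b := fun b =>
    IsLocalization.lift_eq _ b
  haveI : IsScalarTower B' C D := IsScalarTower.of_algebraMap_eq (fun b => (hf b).symm)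
  haveI : IsScalarTower A C D := IsScalarTower.of_algebraMap_eq (fun a => by
    rw [IsScalarTower.algebraMap_apply A B' C, hf, ← IsScalarTower.algebraMap_apply A B' D])
  haveI : IsLocalRing C := IsLocalization.AtPrime.isLocalRing C q'
  haveI : IsLocalHom (algebraMap C D) := by
    constructor
    intro c hc
    obtain ⟨b, s, rfl⟩ := IsLocalization.exists_mk'_eq q'.primeCompl c
    rw [IsLocalization.AtPrime.isUnit_mk'_iff C q' b s]
    change b ∉ q'
    rw [hunit]
    have h1 : algebraMap C D (IsLocalization.mk' C b s) * algebraMap B' D s = algebraMap B' D b := by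
      rw [← hf, ← hf, ← map_mul, IsLocalization.mk'_spec]
    rw [← h1]
    exact hc.mul ((hunit s.1).1 s.2)
  -- B'-linear versions of σ and π
  have hsmulS : ∀ (b : B') (s : R ⊗[A] B'), b • s = algebraMap B' (R ⊗[A] B') b * s := fun b s =>
    Algebra.smul_def b s
  let iB : D →ₗ[B'] R ⊗[A] B' :=
    { toFun := σ
      map_add' := σ.map_add
      map_smul' := fun b d => by
        change σ (b • d) = b • σ d
        rw [Algebra.smul_def, ← hπι, hσ, hsmulS] }
  let rB : R ⊗[A] B' →ₗ[B'] D :=
    { toFun := π
      map_add' := map_add π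
      map_smul' := fun b s => by
        change π (b • s) = b • π s
        rw [hsmulS, map_mul, hπι, Algebra.smul_def] }
  haveI : Module.Flat B' (R ⊗[A] B') := flat_right
  haveI : Module.Flat B' D := Module.Flat.of_retract iB rB (by
    ext d
    exact hσπ d)
  haveI : Module.Flat C D := (Module.flat_iff_of_isLocalization C q'.primeCompl D).2 inferInstance
  haveI : Module.FaithfullyFlat C D := Module.FaithfullyFlat.of_flat_of_isLocalHom
  -- flatness of D over R
  let j : R ⊗[A] B' →ₗ[R] R ⊗[A] C :=
    LinearMap.baseChange R (IsScalarTower.toAlgHom A B' C).toLinearMap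
  let τ : R ⊗[A] C →ₗ[R] D := (IsScalarTower.toAlgHom A C D).toLinearMap.liftBaseChange R
  have hτj : ∀ s, τ (j s) = π s := by
    intro s
    induction s using TensorProduct.induction_on with
    | zero => simp
    | add x y hx hy => rw [map_add, map_add, map_add, hx, hy]
    | tmul r b =>
      change τ (r ⊗ₜ algebraMap B' C b) = _
      rw [LinearMap.liftBaseChange_tmul]
      change r • algebraMap C D (algebraMap B' C b) = _
      rw [hf, ← hπ]
      rw [← map_smul, TensorProduct.smul_tmul', smul_eq_mul, mul_one]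
  haveI : Module.Flat R (R ⊗[A] C) := inferInstance
  haveI : Module.Flat R D := Module.Flat.of_retract (j ∘ₗ σ) τ (by
    ext d
    change τ (j (σ d)) = d
    rw [hτj, hσπ])
  haveI : Module.Free R D := Module.free_of_flat_of_isLocalRing
  haveI : Module.Flat R (D ⊗[B'] Disc.Omega A B') := flat_tensor_omega π hπ σ hσπ hσ
  haveI : Module.Flat A (D ⊗[B'] Disc.Omega A B') := Module.Flat.trans A R _
  let e := (TensorProduct.AlgebraTensorModule.cancelBaseChange B' C D D
    (Disc.Omega A B')).restrictScalars A
  haveI : Module.Flat A (D ⊗[C] (C ⊗[B'] Disc.Omega A B')) := Module.Flat.of_linearEquiv e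
  exact flat_of_faithfullyFlat_tensor A C D (C ⊗[B'] Disc.Omega A B') inferInstance

end aux

section hens

variable {A R B' : Type u} [CommRing A] [CommRing R] [Algebra A R] [Module.Flat A R]
  [HenselianLocalRing R] [CommRing B'] [Algebra A B'] [Module.Finite A B']
  [Module.FinitePresentation A B']

set_option maxHeartbeats 1600000 in
theorem flat_of_henselian (Q : Ideal (R ⊗[A] B')) [hQ : Q.IsMaximal]
    (C : Type u) [CommRing C] [Algebra B' C] [Algebra A C] [IsScalarTower A B' C]
    [IsLocalization.AtPrime C (Q.comap (algebraMap B' (R ⊗[A] B')))] [Module.Flat A C] :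
    Module.Flat A (C ⊗[B'] Disc.Omega A B') := by
  obtain ⟨n, e, he, hloc⟩ :=
    Groth.Agent.Lib.Helper9.exists_completeOrthogonalIdempotents_of_finite (R := R)
      (R ⊗[A] B')
  obtain ⟨i, hi⟩ : ∃ i, e i ∉ Q := by
    by_contra hcon
    push Not at hcon
    have : (1 : R ⊗[A] B') ∈ Q := by
      rw [← he.complete]; exact Q.sum_mem (fun i _ => hcon i)
    exact hQ.ne_top ((Ideal.eq_top_iff_one _).2 this)
  have hidem : IsIdempotentElem (e i) := he.idem i
  have hmain : ∀ (ei : R ⊗[A] B'), IsIdempotentElem ei → ei ∉ Q →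
      IsLocalRing ((R ⊗[A] B') ⧸ Ideal.span {1 - ei}) →
      Module.Flat A (C ⊗[B'] Disc.Omega A B') := by
    clear hi hidem hloc he
    intro ei hidem hi hlocD
    let I : Ideal (R ⊗[A] B') := Ideal.span {1 - ei}
    haveI : IsLocalRing ((R ⊗[A] B') ⧸ I) := hlocD
    let π : R ⊗[A] B' →ₐ[R] ((R ⊗[A] B') ⧸ I) := Ideal.Quotient.mkₐ R I
    have hπe : π ei = 1 := by
      have h0 : π (1 - ei) = 0 :=
        Ideal.Quotient.eq_zero_iff_mem.2 (Ideal.mem_span_singleton_self _)
      rw [map_sub, map_one, sub_eq_zero] at h0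
      exact h0.symm
    have hIker : I ≤ LinearMap.ker (LinearMap.mulLeft (R ⊗[A] B') ei) := by
      change Submodule.span (R ⊗[A] B') {1 - ei} ≤ _
      rw [Submodule.span_le]
      rintro _ rfl
      change ei * (1 - ei) = 0
      rw [mul_sub, mul_one, hidem.eq, sub_self]
    let σS : ((R ⊗[A] B') ⧸ I) →ₗ[R ⊗[A] B'] (R ⊗[A] B') :=
      Submodule.liftQ I (LinearMap.mulLeft (R ⊗[A] B') ei) hIker
    have hσS : ∀ s : R ⊗[A] B', σS (Ideal.Quotient.mk I s) = ei * s := fun s => rfl
    let σ : ((R ⊗[A] B') ⧸ I) →ₗ[R] (R ⊗[A] B') := σS.restrictScalars R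
    have hσπ : ∀ d, π (σ d) = d := by
      intro d
      obtain ⟨s, rfl⟩ := Ideal.Quotient.mk_surjective d
      change π (σS (Ideal.Quotient.mk I s)) = _
      rw [hσS, map_mul, hπe, one_mul]
      rfl
    have hσ : ∀ s d, σ (π s * d) = s * σ d := by
      intro s d
      obtain ⟨s', rfl⟩ := Ideal.Quotient.mk_surjective d
      change σS (Ideal.Quotient.mk I s * Ideal.Quotient.mk I s') =
        s * σS (Ideal.Quotient.mk I s')
      rw [← map_mul, hσS, hσS]
      ring
    have hπ : ∀ b : B', π (1 ⊗ₜ b) = algebraMap B' ((R ⊗[A] B') ⧸ I) b := fun b => rfl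
    have hIQ : I ≤ Q := by
      change Ideal.span {1 - ei} ≤ Q
      rw [Ideal.span_singleton_le_iff_mem]
      have : ei * (1 - ei) ∈ Q := by
        rw [mul_sub, mul_one, hidem.eq, sub_self]; exact Q.zero_mem
      exact (hQ.isPrime.mem_or_mem this).resolve_left hi
    have hQD : (maximalIdeal ((R ⊗[A] B') ⧸ I)).comap π.toRingHom = Q := by
      have hmapmax : (Q.map (Ideal.Quotient.mk I)).IsMaximal := by
        rcases Ideal.map_eq_top_or_isMaximal_of_surjective (Ideal.Quotient.mk I)
          Ideal.Quotient.mk_surjective hQ with h | h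
        · exfalso
          have := Ideal.comap_map_mk hIQ
          rw [h, Ideal.comap_top] at this
          exact hQ.ne_top this.symm
        · exact h
      rw [← IsLocalRing.eq_maximalIdeal hmapmax]
      exact Ideal.comap_map_mk hIQ
    exact flat_of_local_factor π hπ σ hσπ hσ Q hQD C
  exact hmain (e i) hidem hi (hloc i)

end hens

end Groth.Agent.Lib.Helper52.DualFlatC
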