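import Mathlib
import Groth.Prelude.Def_Disc
import Groth.Agent.Lib.Helper52.DualFlatC

set_option linter.style.haveILetI false
set_option linter.unusedSectionVars false
set_option autoImplicit false

namespace Groth.Agent.Lib.Helper52.DualFlatD

open TensorProduct IsLocalRing Groth.Agent.Lib.Helper52.DualFlatC

universe u

attribute [local instance] Algebra.TensorProduct.rightAlgebra

section abstract

variable {A R B' : Type u} [CommRing A] [CommRing R] [Algebra A R] [Module.Flat A R]
  [HenselianLocalRing R] [CommRing B'] [Algebra A B'] [Module.Finite A B']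
  [Module.FinitePresentation A B']

set_option maxHeartbeats 1600000 in
theorem flat_of_henselian_field (q' : Ideal B') [hq' : q'.IsPrime]
    {L : Type u} [Field L] (g₁ : R →+* L) (hg₁ : RingHom.ker g₁ = maximalIdeal R)
    (g₂ : B' →+* L) (hg₂ : RingHom.ker g₂ = q')
    (hcomp : ∀ a : A, g₁ (algebraMap A R a) = g₂ (algebraMap A B' a))
    (C : Type u) [CommRing C] [Algebra B' C] [Algebra A C] [IsScalarTower A B' C]
    [IsLocalization.AtPrime C q'] [Module.Flat A C] :
    Module.Flat A (C ⊗[B'] Disc.Omega A B') := by
  letI : Algebra A L := (g₁.comp (algebraMap A R)).toAlgebra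
  let g₁' : R →ₐ[A] L := { g₁ with commutes' := fun a => rfl }
  let g₂' : B' →ₐ[A] L := { g₂ with commutes' := fun a => (hcomp a).symm }
  let h : R ⊗[A] B' →ₐ[A] L := Algebra.TensorProduct.productMap g₁' g₂'
  let Q : Ideal (R ⊗[A] B') := RingHom.ker h.toRingHom
  haveI hQp : Q.IsPrime := RingHom.ker_isPrime h.toRingHom
  have hQB : Q.comap (algebraMap B' (R ⊗[A] B')) = q' := by
    rw [← hg₂]
    ext b
    rw [Ideal.mem_comap, RingHom.mem_ker, RingHom.mem_ker]
    change h (1 ⊗ₜ b) = 0 ↔ _
    rw [Algebra.TensorProduct.productMap_right_apply]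
    rfl
  have hQR : Q.comap (algebraMap R (R ⊗[A] B')) = maximalIdeal R := by
    rw [← hg₁]
    ext r
    rw [Ideal.mem_comap, RingHom.mem_ker, RingHom.mem_ker]
    change h (r ⊗ₜ 1) = 0 ↔ _
    rw [Algebra.TensorProduct.productMap_left_apply]
    rfl
  haveI : Algebra.IsIntegral R (R ⊗[A] B') := inferInstance
  haveI hQ : Q.IsMaximal := Ideal.isMaximal_of_isIntegral_of_isMaximal_comap (R := R) Q (by
    rw [hQR]; exact maximalIdeal.isMaximal R)
  subst hQB
  exact flat_of_henselian Q C

end abstract

section concrete

variable {A B' : Type u} [CommRing A] [IsNoetherianRing A] [CommRing B'] [Algebra A B']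
  [Module.Finite A B']

theorem henselianLocalRing_of_complete (R : Type u) [CommRing R] [IsLocalRing R]
    [IsAdicComplete (maximalIdeal R) R] : HenselianLocalRing R := by
  have h : HenselianRing R (maximalIdeal R) := inferInstance
  exact { is_henselian := fun f hf a₀ h₁ h₂ => h.is_henselian f hf a₀ h₁ (h₂.map _) }

set_option maxHeartbeats 1600000 in
/-- **Local statement**: the localisation of `ω_{B'/A}` at a prime of `B'` where `B'` is flat over
`A` is flat over `A`. -/
theorem flat_localization_omega (q' : Ideal B') [hq' : q'.IsPrime]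
    (C : Type u) [CommRing C] [Algebra B' C] [Algebra A C] [IsScalarTower A B' C]
    [IsLocalization.AtPrime C q'] [Module.Flat A C] :
    Module.Flat A (C ⊗[B'] Disc.Omega A B') := by
  let p : Ideal A := q'.comap (algebraMap A B')
  haveI hp : p.IsPrime := Ideal.comap_isPrime _ _
  let R₀ := Localization.AtPrime p
  let Rh := AdicCompletion (maximalIdeal R₀) R₀
  haveI : Module.Flat A Rh := Module.Flat.trans A R₀ Rh
  haveI : HenselianLocalRing Rh := henselianLocalRing_of_complete Rh
  haveI : Module.FinitePresentation A B' := Module.finitePresentation_of_finite A B'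
  have hbij : Function.Bijective (ResidueField.map (algebraMap R₀ Rh)) :=
    AdicCompletion.residueField_map_bijective_of_fg (IsNoetherian.noetherian _)
  let e : ResidueField R₀ ≃+* ResidueField Rh := RingEquiv.ofBijective _ hbij
  let k : p.ResidueField →ₐ[A] q'.ResidueField :=
    Ideal.ResidueField.mapₐ p q' (Algebra.ofId A B') rfl
  let g₁ : Rh →+* q'.ResidueField :=
    k.toRingHom.comp (e.symm.toRingHom.comp (residue Rh))
  have hg₁ : RingHom.ker g₁ = maximalIdeal Rh := by
    ext x
    rw [RingHom.mem_ker]
    change k (e.symm (residue Rh x)) = 0 ↔ _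
    rw [map_eq_zero_iff k k.toRingHom.injective, map_eq_zero_iff e.symm e.symm.injective,
      IsLocalRing.residue_eq_zero_iff]
  have hcomp : ∀ a : A, g₁ (algebraMap A Rh a) = algebraMap B' q'.ResidueField (algebraMap A B' a) := by
    intro a
    change k (e.symm (residue Rh (algebraMap A Rh a))) = _
    have h1 : residue Rh (algebraMap A Rh a) = e (residue R₀ (algebraMap A R₀ a)) := by
      rw [IsScalarTower.algebraMap_apply A R₀ Rh]
      rfl
    rw [h1, RingEquiv.symm_apply_apply]
    have h2 : residue R₀ (algebraMap A R₀ a) = algebraMap A p.ResidueField a := rfl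
    rw [h2, AlgHom.commutes, IsScalarTower.algebraMap_apply A B' q'.ResidueField]
  exact flat_of_henselian_field q' g₁ hg₁ (algebraMap B' q'.ResidueField)
    (Ideal.ker_algebraMap_residueField q') hcomp C

end concrete

end Groth.Agent.Lib.Helper52.DualFlatD
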