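import Mathlib
import Groth.Prelude.Def_Disc
import Groth.Agent.Lib.Helper52.DualFlatD

set_option linter.style.haveILetI false
set_option linter.unusedSectionVars false
set_option autoImplicit false

namespace Groth.Agent.Lib.Helper52.DualFlatE

open TensorProduct IsLocalRing AlgebraicGeometry CategoryTheory Groth.Agent.Lib.Helper52.DualFlatD

universe u

theorem localRingHom_bijective_of_isOpenImmersion {R S : Type u} [CommRing R] [CommRing S]
    [Algebra R S] (h : IsOpenImmersion (Spec.map (CommRingCat.ofHom (algebraMap R S))))
    (P : Ideal S) [P.IsPrime] :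
    Function.Bijective
      (Localization.localRingHom (P.comap (algebraMap R S)) P (algebraMap R S) rfl) := by
  let f := CommRingCat.ofHom (algebraMap R S)
  let x : PrimeSpectrum S := ⟨P, inferInstance⟩
  haveI hf : IsOpenImmersion (Spec.map f) := h
  have h1 : IsIso ((Spec.map f).stalkMap x) := (IsOpenImmersion.iff_isIso_stalkMap.1 hf).2 x
  have h2 : IsIso (CommRingCat.ofHom
      (Localization.localRingHom (x.comap f.hom).asIdeal x.asIdeal f.hom rfl)) :=
    ((MorphismProperty.isomorphisms CommRingCat).arrow_mk_iso_iff
      (Scheme.arrowStalkMapSpecIso f x)).1 h1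
  exact (ConcreteCategory.isIso_iff_bijective _).1 h2

theorem isLocalization_atPrime_of_isOpenImmersion {R S : Type u} [CommRing R] [CommRing S]
    [Algebra R S] (h : IsOpenImmersion (Spec.map (CommRingCat.ofHom (algebraMap R S))))
    (P : Ideal S) [P.IsPrime] :
    IsLocalization.AtPrime (Localization.AtPrime P) (P.comap (algebraMap R S)) := by
  let g := Localization.localRingHom (P.comap (algebraMap R S)) P (algebraMap R S) rfl
  have hg : Function.Bijective g := localRingHom_bijective_of_isOpenImmersion h P
  let gA : Localization.AtPrime (P.comap (algebraMap R S)) →ₐ[R] Localization.AtPrime P :=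
    { g with
      commutes' := fun r => by
        change g (algebraMap R _ r) = _
        rw [Localization.localRingHom_to_map]
        exact (IsScalarTower.algebraMap_apply R S (Localization.AtPrime P) r).symm }
  exact IsLocalization.isLocalization_of_algEquiv _ (AlgEquiv.ofBijective gA hg)

set_option maxHeartbeats 1600000 in
theorem flat_omega_baseChange (A B B' : Type u) [CommRing A] [CommRing B] [CommRing B']
    [IsNoetherianRing A] [Algebra A B] [Module.Flat A B] [Algebra A B']
    [Algebra B' B] [IsScalarTower A B' B] [Module.Finite A B']
    (hopen : IsOpenImmersion (Spec.map (CommRingCat.ofHom (algebraMap B' B)))) :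
    Module.Flat A (B ⊗[B'] Disc.Omega A B') := by
  refine Module.flat_of_isLocalized_maximal B (B ⊗[B'] Disc.Omega A B')
    (fun P _ => Localization.AtPrime P ⊗[B'] Disc.Omega A B')
    (fun P _ => TensorProduct.AlgebraTensorModule.rTensor B' (Disc.Omega A B')
      (Algebra.linearMap B (Localization.AtPrime P))) ?_
  intro P hP
  haveI := isLocalization_atPrime_of_isOpenImmersion hopen P
  haveI : Module.Flat A (Localization.AtPrime P) := Module.Flat.trans A B _
  exact flat_localization_omega (P.comap (algebraMap B' B)) (Localization.AtPrime P)

end Groth.Agent.Lib.Helper52.DualFlatE
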