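import Mathlib

/-!
# Comparing `ModuleCat.extendScalars (algebraMap R K)` with `K ⊗[R] -`

Helper library (helper52).  `eM K M : (extendScalars (algebraMap R K)).obj M ≃ₗ[K] K ⊗[R] M`,
natural in `M` (`eM_map`), plus dimension formulas for homology of the base-changed complex.
-/

set_option autoImplicit false
open scoped TensorProduct
open CategoryTheory
universe u

namespace Groth.Agent.Lib.Helper52.ExtScal

variable {R : Type u} [CommRing R] (K : Type u) [Field K] [Algebra R K]

def toK (x : ((ModuleCat.restrictScalars (algebraMap R K)).obj (ModuleCat.of K K))) : K := x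
def fromK (x : K) : ((ModuleCat.restrictScalars (algebraMap R K)).obj (ModuleCat.of K K)) := x

lemma toK_smul (r : R)
    (x : ((ModuleCat.restrictScalars (algebraMap R K)).obj (ModuleCat.of K K))) :
    toK K (r • x) = r • toK K x := by
  have h1 : toK K (r • x) = algebraMap R K r * toK K x := rfl
  rw [h1, Algebra.smul_def]

noncomputable def eK :
    ((ModuleCat.restrictScalars (algebraMap R K)).obj (ModuleCat.of K K)) ≃ₗ[R] K where
  toFun := toK K
  invFun := fromK K
  map_add' _ _ := rfl
  map_smul' r x := toK_smul K r x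
  left_inv _ := rfl
  right_inv _ := rfl

noncomputable def e0 (M : ModuleCat.{u} R) :
    (TensorProduct R ((ModuleCat.restrictScalars (algebraMap R K)).obj (ModuleCat.of K K)) M)
      ≃ₗ[R] K ⊗[R] M :=
  TensorProduct.congr (eK K) (LinearEquiv.refl R M)

def toT (M : ModuleCat.{u} R) (x : (ModuleCat.extendScalars (algebraMap R K)).obj M) :
    (TensorProduct R ((ModuleCat.restrictScalars (algebraMap R K)).obj (ModuleCat.of K K)) M) :=
  x

def fromT (M : ModuleCat.{u} R)
    (x : TensorProduct R ((ModuleCat.restrictScalars (algebraMap R K)).obj (ModuleCat.of K K)) M) :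
    (ModuleCat.extendScalars (algebraMap R K)).obj M := x

lemma toT_add (M : ModuleCat.{u} R) (x y : (ModuleCat.extendScalars (algebraMap R K)).obj M) :
    toT K M (x + y) = toT K M x + toT K M y := rfl

theorem es_induction (M : ModuleCat.{u} R)
    {motive : (ModuleCat.extendScalars (algebraMap R K)).obj M → Prop}
    (zero : motive 0) (tmul : ∀ (a : K) (m : M), motive (fromT K M (fromK K a ⊗ₜ[R] m)))
    (add : ∀ x y, motive x → motive y → motive (x + y)) : ∀ x, motive x := by
  intro x
  exact TensorProduct.induction_on (motive := fun t => motive (fromT K M t)) (toT K M x) zero tmul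
    (fun x y => add (fromT K M x) (fromT K M y))

lemma e0_smul (M : ModuleCat.{u} R) (s : K)
    (x : (ModuleCat.extendScalars (algebraMap R K)).obj M) :
    e0 K M (toT K M (s • x)) = s • e0 K M (toT K M x) := by
  induction x using es_induction K M with
  | zero =>
    rw [smul_zero]
    show e0 K M 0 = s • e0 K M 0
    rw [map_zero, smul_zero]
  | tmul a m => rfl
  | add x y hx hy =>
    rw [smul_add, toT_add, toT_add, map_add, map_add, smul_add, hx, hy]

/-- The comparison isomorphism. -/
noncomputable def eM (M : ModuleCat.{u} R) :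
    ((ModuleCat.extendScalars (algebraMap R K)).obj M) ≃ₗ[K] K ⊗[R] M where
  toFun := fun x => e0 K M (toT K M x)
  invFun := fun y => fromT K M ((e0 K M).symm y)
  map_add' := fun x y => by rw [toT_add, map_add]
  map_smul' := e0_smul K M
  left_inv := (e0 K M).left_inv
  right_inv := (e0 K M).right_inv

lemma eM_tmul (M : ModuleCat.{u} R) (a : K) (m : M) :
    eM K M (fromT K M (fromK K a ⊗ₜ[R] m)) = a ⊗ₜ[R] m := rfl

/-- Naturality of the comparison isomorphism. -/
lemma eM_map {M N : ModuleCat.{u} R} (g : M ⟶ N)
    (x : (ModuleCat.extendScalars (algebraMap R K)).obj M) :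
    eM K N (((ModuleCat.extendScalars (algebraMap R K)).map g).hom x) =
      (g.hom.baseChange K) (eM K M x) := by
  induction x using es_induction K M with
  | zero => rw [map_zero, map_zero, map_zero, map_zero]
  | tmul a m => rfl
  | add x y hx hy => rw [map_add, map_add, map_add, map_add, hx, hy]

section linalg
variable {K}
variable {X X' Y Y' Z : Type*} [AddCommGroup X] [Module K X] [AddCommGroup X'] [Module K X']
  [AddCommGroup Y] [Module K Y] [AddCommGroup Y'] [Module K Y'] [AddCommGroup Z] [Module K Z]

lemma finrank_ker_range_of_comm (e₁ : X' ≃ₗ[K] X) (e₂ : Y' ≃ₗ[K] Y) (f' : X' →ₗ[K] Y')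
    (f : X →ₗ[K] Y) (hcomm : ∀ x, e₂ (f' x) = f (e₁ x)) :
    Module.finrank K (LinearMap.ker f') = Module.finrank K (LinearMap.ker f) ∧
    Module.finrank K (LinearMap.range f') = Module.finrank K (LinearMap.range f) := by
  constructor
  · refine LinearEquiv.finrank_eq (LinearEquiv.ofSubmodules e₁ _ _ ?_)
    ext x
    simp only [Submodule.mem_map, LinearMap.mem_ker]
    constructor
    · rintro ⟨y, hy, rfl⟩
      show f (e₁ y) = 0
      rw [← hcomm, hy, map_zero]
    · intro hx
      refine ⟨e₁.symm x, ?_, by simp⟩
      apply e₂.injective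
      rw [hcomm, LinearEquiv.apply_symm_apply, hx, map_zero]
  · refine LinearEquiv.finrank_eq (LinearEquiv.ofSubmodules e₂ _ _ ?_)
    ext y
    simp only [Submodule.mem_map, LinearMap.mem_range]
    constructor
    · rintro ⟨_, ⟨x, rfl⟩, rfl⟩
      exact ⟨e₁ x, (hcomm x).symm⟩
    · rintro ⟨x, rfl⟩
      exact ⟨f' (e₁.symm x), ⟨_, rfl⟩, by
        show e₂ (f' (e₁.symm x)) = f x
        rw [hcomm, LinearEquiv.apply_symm_apply]⟩

lemma finrank_quot_codRestrict [Module.Finite K Y] (f : X →ₗ[K] Y) (g : Y →ₗ[K] Z)
    (h : ∀ x, g (f x) = 0) :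
    Module.finrank K (LinearMap.ker g ⧸ LinearMap.range (f.codRestrict (LinearMap.ker g) h)) +
      Module.finrank K (LinearMap.range f) = Module.finrank K (LinearMap.ker g) := by
  have h1 := Submodule.finrank_quotient_add_finrank
    (LinearMap.range (f.codRestrict (LinearMap.ker g) h))
  have h2 : Module.finrank K (LinearMap.range (f.codRestrict (LinearMap.ker g) h)) =
      Module.finrank K (LinearMap.range f) := by
    refine LinearEquiv.finrank_eq ?_
    refine (Submodule.equivMapOfInjective (LinearMap.ker g).subtype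
      (Submodule.injective_subtype _) _).trans (LinearEquiv.ofEq _ _ ?_)
    rw [← LinearMap.range_comp]
    rfl
  omega

end linalg

section homology
variable (P : CochainComplex (ModuleCat.{u} R) ℤ) (i : ℤ)

/-- Dimension of the homology of the base-changed complex in terms of `LinearMap.baseChange`. -/
lemma finrank_homology_extendScalars (hP : ∀ j, Module.Finite R (P.X j)) :
    Module.finrank K ((((ModuleCat.extendScalars (algebraMap R K)).mapHomologicalComplex
        (ComplexShape.up ℤ)).obj P).homology i)
      + Module.finrank K (LinearMap.range ((P.sc i).f.hom.baseChange K))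
      = Module.finrank K (LinearMap.ker ((P.sc i).g.hom.baseChange K)) := by
  set Q := ((ModuleCat.extendScalars (algebraMap R K)).mapHomologicalComplex
    (ComplexShape.up ℤ)).obj P with hQ
  have e : Q.homology i ≃ₗ[K] (Q.sc i).moduleCatLeftHomologyData.H :=
    (Q.sc i).moduleCatHomologyIso.toLinearEquiv
  rw [e.finrank_eq]
  have hfin : Module.Finite K (Q.sc i).X₂ := by
    have := hP i
    exact Module.Finite.equiv (eM K (P.X i)).symm
  have h1 := finrank_quot_codRestrict (Q.sc i).f.hom (Q.sc i).g.hom (Q.sc i).moduleCat_zero_apply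
  have h2 := finrank_ker_range_of_comm (eM K (P.sc i).X₂) (eM K (P.sc i).X₃) (Q.sc i).g.hom
    ((P.sc i).g.hom.baseChange K) (eM_map K (P.sc i).g)
  have h3 := finrank_ker_range_of_comm (eM K (P.sc i).X₁) (eM K (P.sc i).X₂) (Q.sc i).f.hom
    ((P.sc i).f.hom.baseChange K) (eM_map K (P.sc i).f)
  rw [← h2.1, ← h3.2]
  exact h1

end homology

end Groth.Agent.Lib.Helper52.ExtScal
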