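import Mathlib
import Groth.Agent.Lib.Helper47.AdicFinite

set_option autoImplicit false
universe u
open MvPolynomial

namespace Groth.Agent.Lib.Helper52.FAdicCore

variable (k : Type u) [Field k] (r : ℕ)

local notation "RR" => PowerSeries k
local notation "PP" => MvPolynomial (Fin r) (PowerSeries k)
local notation "II" => (Ideal.span {MvPolynomial.C (σ := Fin r) (PowerSeries.X (R := k))} : Ideal (MvPolynomial (Fin r) (PowerSeries k)))
local notation "At" => AdicCompletion (Ideal.span {MvPolynomial.C (σ := Fin r) (PowerSeries.X (R := k))}) (MvPolynomial (Fin r) (PowerSeries k))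

theorem algebraMap_At (s : RR) : algebraMap RR At s = AdicCompletion.of II PP (C s) := by
  rw [AdicCompletion.algebraMap_apply]
  rfl

/-- decomposition of an element of the completion: polynomial part plus `t^n` times something -/
theorem dec (n : ℕ) (f : At) : ∃ (p : PP) (g : At),
    f = AdicCompletion.of II PP p + algebraMap RR At (PowerSeries.X ^ n) * g := by
  obtain ⟨p, hp⟩ := Submodule.Quotient.mk_surjective _ (f.val n)
  have h0 : AdicCompletion.eval II PP n (f - AdicCompletion.of II PP p) = 0 := by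
    rw [map_sub, AdicCompletion.eval_of, AdicCompletion.eval_apply, ← hp]
    simp
  have hfg : (II).FG := ⟨{C PowerSeries.X}, by simp⟩
  have hmem : f - AdicCompletion.of II PP p ∈ (II ^ n • ⊤ : Submodule PP At) := by
    rw [AdicCompletion.pow_smul_top_eq_ker_eval hfg]
    exact h0
  rw [Ideal.span_singleton_pow, Submodule.ideal_span_singleton_smul] at hmem
  obtain ⟨g, -, hg⟩ := hmem
  refine ⟨p, g, ?_⟩
  have h2 : (C PowerSeries.X ^ n : PP) • g = algebraMap PP At (C PowerSeries.X ^ n) * g := by
    apply AdicCompletion.ext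
    intro m
    rw [AdicCompletion.val_smul, AdicCompletion.val_mul, AdicCompletion.algebraMap_apply]
    obtain ⟨y, hy⟩ := Submodule.Quotient.mk_surjective _ (g.val m)
    rw [Pi.smul_apply, ← hy, AdicCompletion.of_apply]
    simp only [Algebra.algebraMap_self, RingHom.id_apply, Submodule.mkQ_apply]
    rw [← Submodule.Quotient.mk_smul]
    rfl
  have h3 : algebraMap PP At (C PowerSeries.X ^ n) = algebraMap RR At (PowerSeries.X ^ n) := by
    rw [algebraMap_At, AdicCompletion.algebraMap_apply]
    simp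
  change (C PowerSeries.X ^ n : PP) • g = _ at hg
  rw [← h3, ← h2, hg]
  ring


/-- polynomial chain rule in the Kähler differentials of the target -/
theorem D_aeval {B : Type u} [CommRing B] [Algebra RR B] (χ : PP →ₐ[RR] B) (p : PP) :
    KaehlerDifferential.D RR B (χ p) =
      ∑ j, χ (pderiv j p) • KaehlerDifferential.D RR B (χ (X j)) := by
  classical
  induction p using MvPolynomial.induction_on with
  | C s =>
    have : χ (C s) = algebraMap RR B s := by
      rw [← MvPolynomial.algebraMap_eq]; exact χ.commutes s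
    rw [this, Derivation.map_algebraMap]
    simp
  | add p q hp hq =>
    rw [map_add, map_add, hp, hq, ← Finset.sum_add_distrib]
    refine Finset.sum_congr rfl fun j _ => ?_
    rw [map_add, map_add, add_smul]
  | mul_X p i hp =>
    rw [map_mul, Derivation.leibniz, hp]
    have h1 : ∀ j, χ (pderiv j (p * X i)) = χ p * (if i = j then 1 else 0) + χ (X i) * χ (pderiv j p) := by
      intro j
      rw [Derivation.leibniz, pderiv_X, map_add, smul_eq_mul, smul_eq_mul, map_mul, map_mul]
      congr 2
      by_cases h : i = j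
      · subst h; simp
      · rw [if_neg h, Pi.single_apply, if_neg h, map_zero]
    simp_rw [h1, add_smul, Finset.sum_add_distrib, mul_smul]
    congr 1
    · rw [← Finset.smul_sum]
      congr 1
      simp
    · rw [Finset.smul_sum]


section Main

variable {B : Type u} [CommRing B] [Algebra (PowerSeries k) B]

local notation "tB" => algebraMap (PowerSeries k) B PowerSeries.X
local notation "JJ" => (Ideal.span {algebraMap (PowerSeries k) B PowerSeries.X} : Ideal B)
local notation "Ωh" => AdicCompletion (Ideal.span {algebraMap (PowerSeries k) B PowerSeries.X}) (Ω[B⁄PowerSeries k])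
local notation "ofΩ" => AdicCompletion.of (Ideal.span {algebraMap (PowerSeries k) B PowerSeries.X}) (Ω[B⁄PowerSeries k])
local notation "ofA" => AdicCompletion.of (Ideal.span {MvPolynomial.C (σ := Fin r) (PowerSeries.X (R := k))}) (MvPolynomial (Fin r) (PowerSeries k))

/-- the polynomial-to-B map -/
noncomputable def chi (ψ : At →ₐ[RR] B) : PP →ₐ[RR] B :=
  { toRingHom := ψ.toRingHom.comp (algebraMap PP At)
    commutes' := fun s => by
      have : algebraMap PP At (algebraMap RR PP s) = algebraMap RR At s := by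
        rw [algebraMap_At, AdicCompletion.algebraMap_apply]; simp
      simp only [AlgHom.toRingHom_eq_coe, RingHom.toMonoidHom_eq_coe, OneHom.toFun_eq_coe,
        MonoidHom.toOneHom_coe, MonoidHom.coe_coe, RingHom.coe_comp, RingHom.coe_coe,
        Function.comp_apply]
      rw [this]
      exact ψ.commutes s }

theorem chi_apply (ψ : At →ₐ[RR] B) (p : PP) : chi k r ψ p = ψ (ofA p) := by
  change ψ (algebraMap PP At p) = _
  rw [AdicCompletion.algebraMap_apply]; simp

/-- the images of `dT_j` in the completed differentials -/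
noncomputable def om (ψ : At →ₐ[RR] B) (j : Fin r) : Ωh := ofΩ (KaehlerDifferential.D RR B (ψ (ofA (X j))))

/-- defect of the chain rule -/
noncomputable def del (ψ : At →ₐ[RR] B) (dd : Fin r → Derivation RR At At) (f : At) : Ωh :=
  ofΩ (KaehlerDifferential.D RR B (ψ f)) - ∑ j, ψ (dd j f) • om k r ψ j


theorem del_of (ψ : At →ₐ[RR] B) (dd : Fin r → Derivation RR At At)
    (hdd : ∀ j (p : PP), dd j (ofA p) = ofA (pderiv j p)) (p : PP) : del k r ψ dd (ofA p) = 0 := by
  unfold del
  rw [← chi_apply, D_aeval k r (chi k r ψ) p, map_sum, sub_eq_zero]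
  refine Finset.sum_congr rfl fun j _ => ?_
  rw [map_smul, hdd, chi_apply, chi_apply]
  rfl

theorem del_add (ψ : At →ₐ[RR] B) (dd : Fin r → Derivation RR At At) (f g : At) : del k r ψ dd (f + g) = del k r ψ dd f + del k r ψ dd g := by
  unfold del
  simp only [map_add, add_smul, Finset.sum_add_distrib]
  abel

theorem del_smul (ψ : At →ₐ[RR] B) (dd : Fin r → Derivation RR At At) (s : RR) (g : At) :
    del k r ψ dd (algebraMap RR At s * g) = algebraMap RR B s • del k r ψ dd g := by
  unfold del
  have h1 : ψ (algebraMap RR At s * g) = algebraMap RR B s * ψ g := by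
    rw [map_mul, AlgHom.commutes]
  have h2 : ∀ j, dd j (algebraMap RR At s * g) = algebraMap RR At s * dd j g := by
    intro j
    rw [Derivation.leibniz, Derivation.map_algebraMap, smul_zero, add_zero, smul_eq_mul]
  rw [h1, Derivation.leibniz, Derivation.map_algebraMap, smul_zero, add_zero, map_smul, smul_sub,
    Finset.smul_sum]
  congr 1
  refine Finset.sum_congr rfl fun j _ => ?_
  rw [h2, map_mul, AlgHom.commutes, mul_smul]

/-- chain rule in the completed differentials -/
theorem chain (ψ : At →ₐ[RR] B) (dd : Fin r → Derivation RR At At)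
    (hdd : ∀ j (p : PP), dd j (ofA p) = ofA (pderiv j p)) (f : At) :
    ofΩ (KaehlerDifferential.D RR B (ψ f)) = ∑ j, ψ (dd j f) • om k r ψ j := by
  have hH : IsHausdorff JJ Ωh :=
    (AdicCompletion.isAdicComplete (I := JJ) (M := Ω[B⁄RR]) ⟨{tB}, by simp⟩).toIsHausdorff
  rw [← sub_eq_zero]
  change del k r ψ dd f = 0
  apply hH.haus'
  intro n
  obtain ⟨p, g, rfl⟩ := dec k r n f
  rw [del_add, del_of k r ψ dd hdd, zero_add, del_smul, SModEq.zero, map_pow]
  exact Submodule.smul_mem_smul (Ideal.pow_mem_pow (Ideal.mem_span_singleton_self _) n)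
    Submodule.mem_top


/-- `B^r → Ω`, `e_j ↦ d(ψ T_j)` -/
noncomputable def Psi (ψ : At →ₐ[RR] B) : (Fin r → B) →ₗ[B] Ω[B⁄RR] :=
  Fintype.linearCombination B fun j => KaehlerDifferential.D RR B (ψ (ofA (X j)))

/-- `B^r → Ω̂` -/
noncomputable def Phi (ψ : At →ₐ[RR] B) : (Fin r → B) →ₗ[B] Ωh :=
  (AdicCompletion.of JJ (Ω[B⁄RR])) ∘ₗ Psi k r ψ

theorem Phi_apply (ψ : At →ₐ[RR] B) (x : Fin r → B) :
    Phi k r ψ x = ∑ j, x j • om k r ψ j := by
  unfold Phi Psi om
  rw [LinearMap.comp_apply, Fintype.linearCombination_apply, map_sum]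
  exact Finset.sum_congr rfl fun j _ => map_smul _ _ _

/-- rows of the Jacobian matrix -/
noncomputable def rows {c : ℕ} (ψ : At →ₐ[RR] B) (dd : Fin r → Derivation RR At At)
    (a : Fin c → At) (i : Fin c) : Fin r → B := fun j => ψ (dd j (a i))

/-- the Jacobian map `B^c → B^r` -/
noncomputable def sig {c : ℕ} (ψ : At →ₐ[RR] B) (dd : Fin r → Derivation RR At At)
    (a : Fin c → At) : (Fin c → B) →ₗ[B] (Fin r → B) :=
  Fintype.linearCombination B (rows k r ψ dd a)

theorem sig_apply {c : ℕ} (ψ : At →ₐ[RR] B) (dd : Fin r → Derivation RR At At)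
    (a : Fin c → At) (v : Fin c → B) (j : Fin r) :
    sig k r ψ dd a v j = ∑ i, v i * ψ (dd j (a i)) := by
  unfold sig rows
  rw [Fintype.linearCombination_apply, Finset.sum_apply]
  rfl

theorem Phi_sig {c : ℕ} (ψ : At →ₐ[RR] B) (dd : Fin r → Derivation RR At At)
    (hdd : ∀ j (p : PP), dd j (ofA p) = ofA (pderiv j p))
    (a : Fin c → At) (ha : ∀ i, ψ (a i) = 0) (v : Fin c → B) :
    Phi k r ψ (sig k r ψ dd a v) = 0 := by
  unfold sig
  rw [Fintype.linearCombination_apply, map_sum]
  refine Finset.sum_eq_zero fun i _ => ?_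
  rw [map_smul, Phi_apply]
  have : ∑ j, rows k r ψ dd a i j • om k r ψ j = 0 := by
    unfold rows
    rw [← chain k r ψ dd hdd (a i), ha i, map_zero, map_zero]
  rw [this, smul_zero]


/-- the `RR`-linear map `At → B^r / range σ`, `f ↦ [(ψ ∂_j f)_j]` -/
noncomputable def DtL {c : ℕ} (ψ : At →ₐ[RR] B) (dd : Fin r → Derivation RR At At)
    (a : Fin c → At) : At →ₗ[RR] ((Fin r → B) ⧸ LinearMap.range (sig k r ψ dd a)) :=
  ((LinearMap.range (sig k r ψ dd a)).mkQ.restrictScalars RR) ∘ₗ
    (LinearMap.pi fun j => ψ.toLinearMap ∘ₗ ((dd j : At →ₗ[RR] At)))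

theorem DtL_apply {c : ℕ} (ψ : At →ₐ[RR] B) (dd : Fin r → Derivation RR At At)
    (a : Fin c → At) (f : At) :
    DtL k r ψ dd a f = Submodule.Quotient.mk (fun j => ψ (dd j f)) := rfl

theorem DtL_mul {c : ℕ} (ψ : At →ₐ[RR] B) (dd : Fin r → Derivation RR At At)
    (a : Fin c → At) (f g : At) :
    DtL k r ψ dd a (f * g) = ψ f • DtL k r ψ dd a g + ψ g • DtL k r ψ dd a f := by
  simp only [DtL_apply]
  rw [← Submodule.Quotient.mk_smul, ← Submodule.Quotient.mk_smul, ← Submodule.Quotient.mk_add]
  congr 1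
  funext j
  simp [Derivation.leibniz]

theorem DtL_span {c : ℕ} (ψ : At →ₐ[RR] B) (dd : Fin r → Derivation RR At At)
    (a : Fin c → At) (hker : RingHom.ker ψ.toRingHom = Ideal.span (Set.range a))
    (h : At) (hh : h ∈ Ideal.span (Set.range a)) : DtL k r ψ dd a h = 0 := by
  have hψ0 : ∀ x ∈ Ideal.span (Set.range a), ψ x = 0 := by
    intro x hx
    rw [← hker] at hx
    exact hx
  refine Submodule.span_induction (p := fun h _ => DtL k r ψ dd a h = 0) ?_ ?_ ?_ ?_ hh
  · rintro _ ⟨i, rfl⟩
    rw [DtL_apply, Submodule.Quotient.mk_eq_zero]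
    refine ⟨Pi.single i 1, ?_⟩
    unfold sig
    rw [Fintype.linearCombination_apply_single, one_smul]
    rfl
  · exact map_zero _
  · intro x y _ _ hx hy
    rw [map_add, hx, hy, add_zero]
  · intro g x hx hx0
    rw [smul_eq_mul, DtL_mul, hx0, smul_zero, zero_add, hψ0 x hx, zero_smul]

theorem DtL_congr {c : ℕ} (ψ : At →ₐ[RR] B) (dd : Fin r → Derivation RR At At)
    (a : Fin c → At) (hker : RingHom.ker ψ.toRingHom = Ideal.span (Set.range a))
    (f f' : At) (h : ψ f = ψ f') : DtL k r ψ dd a f = DtL k r ψ dd a f' := by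
  rw [← sub_eq_zero, ← map_sub]
  apply DtL_span k r ψ dd a hker
  rw [← hker]
  change ψ (f - f') = 0
  rw [map_sub, h, sub_self]

/-- the induced derivation on `B` -/
noncomputable def DB {c : ℕ} (ψ : At →ₐ[RR] B) (hψ : Function.Surjective ψ)
    (dd : Fin r → Derivation RR At At)
    (a : Fin c → At) (hker : RingHom.ker ψ.toRingHom = Ideal.span (Set.range a)) :
    Derivation RR B ((Fin r → B) ⧸ LinearMap.range (sig k r ψ dd a)) :=
  Derivation.mk'
    { toFun := fun b => DtL k r ψ dd a (Function.surjInv hψ b)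
      map_add' := fun b b' => by
        rw [← map_add]
        apply DtL_congr k r ψ dd a hker
        rw [map_add, Function.surjInv_eq hψ, Function.surjInv_eq hψ, Function.surjInv_eq hψ]
      map_smul' := fun s b => by
        rw [RingHom.id_apply, ← map_smul]
        apply DtL_congr k r ψ dd a hker
        rw [map_smul, Function.surjInv_eq hψ, Function.surjInv_eq hψ] }
    (fun b b' => by
      change DtL k r ψ dd a _ = b • DtL k r ψ dd a _ + b' • DtL k r ψ dd a _
      have := DtL_mul k r ψ dd a (Function.surjInv hψ b) (Function.surjInv hψ b')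
      rw [Function.surjInv_eq hψ, Function.surjInv_eq hψ] at this
      rw [← this]
      apply DtL_congr k r ψ dd a hker
      rw [map_mul, Function.surjInv_eq hψ, Function.surjInv_eq hψ, Function.surjInv_eq hψ])

theorem DB_apply {c : ℕ} (ψ : At →ₐ[RR] B) (hψ : Function.Surjective ψ)
    (dd : Fin r → Derivation RR At At)
    (a : Fin c → At) (hker : RingHom.ker ψ.toRingHom = Ideal.span (Set.range a)) (f : At) :
    DB k r ψ hψ dd a hker (ψ f) = DtL k r ψ dd a f := by
  change DtL k r ψ dd a (Function.surjInv hψ (ψ f)) = _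
  apply DtL_congr k r ψ dd a hker
  rw [Function.surjInv_eq hψ]


theorem dd_X (dd : Fin r → Derivation RR At At)
    (hdd : ∀ j (p : PP), dd j (ofA p) = ofA (pderiv j p)) (ψ : At →ₐ[RR] B) (i j : Fin r) :
    ψ (dd i (ofA (X j))) = (Pi.single j 1 : Fin r → B) i := by
  classical
  rw [hdd, pderiv_X, ← chi_apply, Pi.single_apply, Pi.single_apply]
  by_cases h : j = i
  · subst h
    simp
  · rw [if_neg h, if_neg (Ne.symm h), map_zero]

theorem ker_Phi_le {c : ℕ} [IsNoetherianRing B] (hJ : JJ ≤ Ideal.jacobson ⊥)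
    (ψ : At →ₐ[RR] B) (hψ : Function.Surjective ψ)
    (dd : Fin r → Derivation RR At At)
    (hdd : ∀ j (p : PP), dd j (ofA p) = ofA (pderiv j p))
    (a : Fin c → At) (hker : RingHom.ker ψ.toRingHom = Ideal.span (Set.range a))
    (x : Fin r → B) (hx : Phi k r ψ x = 0) : x ∈ LinearMap.range (sig k r ψ dd a) := by
  classical
  set N := LinearMap.range (sig k r ψ dd a) with hN
  let L := (DB k r ψ hψ dd a hker).liftKaehlerDifferential
  have hL : L (Psi k r ψ x) = Submodule.Quotient.mk x := by
    unfold Psi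
    rw [Fintype.linearCombination_apply, map_sum]
    have h1 : ∀ j, L (x j • KaehlerDifferential.D RR B (ψ (ofA (X j)))) =
        N.mkQ (x j • (Pi.single j 1 : Fin r → B)) := by
      intro j
      rw [map_smul, Derivation.liftKaehlerDifferential_comp_D, DB_apply, DtL_apply,
        Submodule.mkQ_apply, Submodule.Quotient.mk_smul]
      congr 2
      funext i
      exact dd_X k r dd hdd ψ i j
    simp_rw [h1]
    rw [← map_sum, Submodule.mkQ_apply]
    congr 1
    funext i
    simp [Finset.sum_apply, Pi.single_apply]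
  have hmem : ∀ n, Psi k r ψ x ∈ (JJ ^ n • ⊤ : Submodule B (Ω[B⁄RR])) := by
    intro n
    have h2 := congrArg (fun z => z.val n) hx
    simp only [Phi, LinearMap.comp_apply, AdicCompletion.of_apply, AdicCompletion.val_zero,
      Pi.zero_apply] at h2
    rwa [Submodule.mkQ_apply, Submodule.Quotient.mk_eq_zero] at h2
  have hmem2 : ∀ n, (Submodule.Quotient.mk x : (Fin r → B) ⧸ N) ∈
      (JJ ^ n • ⊤ : Submodule B ((Fin r → B) ⧸ N)) := by
    intro n
    rw [← hL]
    have := Submodule.mem_map_of_mem (f := L) (hmem n)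
    rw [Submodule.map_smul''] at this
    exact Submodule.smul_mono le_rfl le_top this
  have hbot : (⨅ n : ℕ, JJ ^ n • (⊤ : Submodule B ((Fin r → B) ⧸ N))) = ⊥ :=
    Ideal.iInf_pow_smul_eq_bot_of_le_jacobson _ hJ
  have : (Submodule.Quotient.mk x : (Fin r → B) ⧸ N) ∈
      (⨅ n : ℕ, JJ ^ n • (⊤ : Submodule B ((Fin r → B) ⧸ N))) :=
    (Submodule.mem_iInf _).mpr hmem2
  rw [hbot, Submodule.mem_bot, Submodule.Quotient.mk_eq_zero] at this
  exact this


theorem range_Psi_sup (ψ : At →ₐ[RR] B) (hψ : Function.Surjective ψ) :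
    LinearMap.range (Psi k r ψ) ⊔ (JJ ^ 1 • ⊤ : Submodule B (Ω[B⁄RR])) = ⊤ := by
  have h : Submodule.span B (Set.range (KaehlerDifferential.D RR B)) ≤
      LinearMap.range (Psi k r ψ) ⊔ (JJ ^ 1 • ⊤ : Submodule B (Ω[B⁄RR])) := by
    refine Submodule.span_le.mpr ?_
    rintro _ ⟨b, rfl⟩
    obtain ⟨f, rfl⟩ := hψ b
    obtain ⟨p, g, rfl⟩ := dec k r 1 f
    rw [map_add, map_mul, AlgHom.commutes, map_add, Derivation.leibniz, Derivation.map_algebraMap,
      smul_zero, add_zero, ← chi_apply, D_aeval k r (chi k r ψ) p]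
    refine Submodule.add_mem_sup ⟨fun j => chi k r ψ (pderiv j p), ?_⟩ ?_
    · unfold Psi
      rw [Fintype.linearCombination_apply]
      refine Finset.sum_congr rfl fun j _ => ?_
      simp only [chi_apply]
    · rw [map_pow]
      exact Submodule.smul_mem_smul (Ideal.pow_mem_pow (Ideal.mem_span_singleton_self _) 1)
        Submodule.mem_top
  rw [KaehlerDifferential.span_range_derivation] at h
  exact eq_top_iff.mpr h

theorem Phi_surjective [IsPrecomplete JJ B] (ψ : At →ₐ[RR] B) (hψ : Function.Surjective ψ) :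
    Function.Surjective (Phi k r ψ) := by
  have hfg : (JJ).FG := ⟨{tB}, by simp⟩
  haveI : IsHausdorff JJ Ωh :=
    (AdicCompletion.isAdicComplete (I := JJ) (M := Ω[B⁄RR]) hfg).toIsHausdorff
  haveI : IsPrecomplete JJ (Fin r → B) := Groth.Agent.Lib.Helper47.AdicFinite.isPrecomplete_pi_fin JJ r
  apply surjective_of_mkQ_comp_surjective (I := JJ)
  intro z'
  obtain ⟨z, rfl⟩ := Submodule.mkQ_surjective _ z'
  obtain ⟨y, hy⟩ := Submodule.Quotient.mk_surjective _ (z.val 1)
  have hytop : y ∈ LinearMap.range (Psi k r ψ) ⊔ (JJ ^ 1 • ⊤ : Submodule B (Ω[B⁄RR])) := by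
    rw [range_Psi_sup k r ψ hψ]; trivial
  obtain ⟨_, ⟨x, rfl⟩, w, hw, rfl⟩ := Submodule.mem_sup.mp hytop
  refine ⟨x, ?_⟩
  rw [LinearMap.comp_apply, Submodule.mkQ_apply, Submodule.mkQ_apply, Submodule.Quotient.eq]
  have h1 : Phi k r ψ x - z ∈ (JJ ^ 1 • ⊤ : Submodule B Ωh) := by
    rw [AdicCompletion.pow_smul_top_eq_ker_eval hfg, LinearMap.mem_ker, map_sub,
      AdicCompletion.eval_apply, AdicCompletion.eval_apply, ← hy]
    unfold Phi
    rw [LinearMap.comp_apply, AdicCompletion.of_apply, Submodule.mkQ_apply,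
      ← Submodule.Quotient.mk_sub, Submodule.Quotient.mk_eq_zero]
    have : Psi k r ψ x - (Psi k r ψ x + w) = -w := by abel
    rw [this]
    exact Submodule.neg_mem _ hw
  rwa [pow_one] at h1

theorem sig_injective {c : ℕ} (ψ : At →ₐ[RR] B) (dd : Fin r → Derivation RR At At)
    (a : Fin c → At) [IsHausdorff JJ B] (hreg : ∀ b : B, tB * b = 0 → b = 0)
    (hmod : ∀ v : Fin c → B, (∀ j, sig k r ψ dd a v j ∈ JJ) → ∀ i, v i ∈ JJ) :
    Function.Injective (sig k r ψ dd a) := by
  rw [injective_iff_map_eq_zero]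
  have key : ∀ n : ℕ, ∀ v : Fin c → B, sig k r ψ dd a v = 0 → ∀ i, v i ∈ JJ ^ n := by
    intro n
    induction n with
    | zero => intro v _ i; simp
    | succ n ih =>
      intro v hv i
      have h1 : ∀ i, v i ∈ JJ := hmod v fun j => by rw [hv]; exact Ideal.zero_mem _
      choose w hw using fun i => Ideal.mem_span_singleton'.mp (h1 i)
      have hvw : v = tB • w := by
        funext i
        rw [Pi.smul_apply, smul_eq_mul, ← hw i, mul_comm]
      have hw0 : sig k r ψ dd a w = 0 := by
        rw [hvw, map_smul] at hv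
        funext j
        apply hreg
        have := congrFun hv j
        rwa [Pi.smul_apply, smul_eq_mul] at this
      rw [← hw i, pow_succ]
      exact Ideal.mul_mem_mul (ih w hw0 i) (Ideal.mem_span_singleton_self _)
  intro v hv
  funext i
  apply IsHausdorff.haus' (I := JJ) (v i)
  intro n
  rw [SModEq.zero, smul_eq_mul, Ideal.mul_top]
  exact key n v hv i

/-- the two-term free resolution of the completed differentials -/
theorem exists_resolution_core {c : ℕ} [IsNoetherianRing B] [IsAdicComplete JJ B]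
    (ψ : At →ₐ[RR] B) (hψ : Function.Surjective ψ)
    (dd : Fin r → Derivation RR At At)
    (hdd : ∀ j (p : PP), dd j (ofA p) = ofA (pderiv j p))
    (a : Fin c → At) (hker : RingHom.ker ψ.toRingHom = Ideal.span (Set.range a))
    (hreg : ∀ b : B, tB * b = 0 → b = 0)
    (hmod : ∀ v : Fin c → B, (∀ j, sig k r ψ dd a v j ∈ JJ) → ∀ i, v i ∈ JJ) :
    ∃ (π : (Fin r → B) →ₗ[B] Ωh) (σ : (Fin c → B) →ₗ[B] (Fin r → B)),
      Function.Surjective π ∧ Function.Injective σ ∧ LinearMap.range σ = LinearMap.ker π := by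
  have ha : ∀ i, ψ (a i) = 0 := by
    intro i
    have : a i ∈ RingHom.ker ψ.toRingHom := by
      rw [hker]; exact Ideal.subset_span ⟨i, rfl⟩
    exact this
  refine ⟨Phi k r ψ, sig k r ψ dd a, Phi_surjective k r ψ hψ, sig_injective k r ψ dd a hreg hmod, ?_⟩
  apply le_antisymm
  · rintro _ ⟨v, rfl⟩
    exact Phi_sig k r ψ dd hdd a ha v
  · intro x hx
    exact ker_Phi_le k r (IsAdicComplete.le_jacobson_bot JJ) ψ hψ dd hdd a hker x hx

end Main

end Groth.Agent.Lib.Helper52.FAdicCore
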