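import Mathlib
import Groth.Agent.Lib.Helper52.FAdicCore
import Groth.Agent.Lib.Helper77.FAdicG2a

set_option autoImplicit false
universe u
open MvPolynomial

namespace Groth.Agent.Lib.Helper52.FAdicRed

open Groth.Agent.Lib.Helper52.FAdicCore

variable (k : Type u) [Field k] (r : ℕ)

local notation "RR" => PowerSeries k
local notation "PP" => MvPolynomial (Fin r) (PowerSeries k)
local notation "II" => (Ideal.span {MvPolynomial.C (σ := Fin r) (PowerSeries.X (R := k))} : Ideal (MvPolynomial (Fin r) (PowerSeries k)))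
local notation "At" => AdicCompletion (Ideal.span {MvPolynomial.C (σ := Fin r) (PowerSeries.X (R := k))}) (MvPolynomial (Fin r) (PowerSeries k))

variable {B : Type u} [CommRing B] [Algebra (PowerSeries k) B]

local notation "tB" => algebraMap (PowerSeries k) B PowerSeries.X
local notation "JJ" => (Ideal.span {algebraMap (PowerSeries k) B PowerSeries.X} : Ideal B)
local notation "ofA" => AdicCompletion.of (Ideal.span {MvPolynomial.C (σ := Fin r) (PowerSeries.X (R := k))}) (MvPolynomial (Fin r) (PowerSeries k))

/-- the mod-`t` injectivity of the Jacobian, from the closed-fibre statement `G1` -/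
theorem hmod_of {c : ℕ}
    (G1 : ∀ (B₀ : Type u) [CommRing B₀] [Algebra k B₀] [IsReduced B₀]
      (φ : MvPolynomial (Fin r) k →ₐ[k] B₀) (_ : Function.Surjective φ)
      (a : Fin c → MvPolynomial (Fin r) k)
      (_ : RingTheory.Sequence.IsRegular (MvPolynomial (Fin r) k) (List.ofFn a))
      (_ : RingHom.ker φ.toRingHom = Ideal.span (Set.range a)),
      Function.Injective (fun (v : Fin c → B₀) (j : Fin r) =>
        ∑ i, v i * φ (MvPolynomial.pderiv j (a i))))
    (ψ : At →ₐ[RR] B) (hψ : Function.Surjective ψ)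
    (dd : Fin r → Derivation RR At At)
    (hdd : ∀ j (p : PP), dd j (ofA p) = ofA (pderiv j p))
    (a : Fin c → At) (hker : RingHom.ker ψ.toRingHom = Ideal.span (Set.range a))
    (hreg0 : RingTheory.Sequence.IsRegular
      (At ⧸ Ideal.span {algebraMap RR At PowerSeries.X ^ (0 + 1)})
      ((List.ofFn a).map (Ideal.Quotient.mk (Ideal.span {algebraMap RR At PowerSeries.X ^ (0 + 1)}))))
    [IsReduced (B ⧸ JJ)] :
    ∀ v : Fin c → B, (∀ j, sig k r ψ dd a v j ∈ JJ) → ∀ i, v i ∈ JJ := by
  classical
  obtain ⟨ρ, hρs, hρk, hρof, hρreg⟩ := Groth.Agent.Lib.Helper77.FAdicG2a.exists_red k r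
  let q := Ideal.Quotient.mk JJ
  letI algk : Algebra k (B ⧸ JJ) :=
    (q.comp ((algebraMap RR B).comp (algebraMap k RR))).toAlgebra
  let φ0 : MvPolynomial (Fin r) k →ₐ[k] B ⧸ JJ :=
    MvPolynomial.aeval (fun j => q (ψ (ofA (X j))))
  have hρt : ρ (algebraMap RR At PowerSeries.X) = 0 := by
    have : algebraMap RR At PowerSeries.X ∈ RingHom.ker ρ := by
      rw [hρk]; exact Ideal.mem_span_singleton_self _
    exact this
  have hqt : q tB = 0 := Ideal.Quotient.eq_zero_iff_mem.mpr (Ideal.mem_span_singleton_self _)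
  -- (a) on polynomials
  have hpoly : ∀ p : PP, φ0 (MvPolynomial.map (PowerSeries.constantCoeff (R := k)) p) =
      q (chi k r ψ p) := by
    have h : (φ0 : MvPolynomial (Fin r) k →+* B ⧸ JJ).comp
        (MvPolynomial.map (PowerSeries.constantCoeff (R := k))) =
        q.comp (chi k r ψ : PP →+* B) := by
      apply MvPolynomial.ringHom_ext
      · intro s
        simp only [RingHom.coe_comp, RingHom.coe_coe, Function.comp_apply, MvPolynomial.map_C]
        have h1 : φ0 (C (PowerSeries.constantCoeff s)) =
            q (algebraMap RR B (algebraMap k RR (PowerSeries.constantCoeff s))) := by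
          rw [← MvPolynomial.algebraMap_eq, AlgHom.commutes]
          rfl
        have h2 : chi k r ψ (C s) = algebraMap RR B s := by
          rw [← MvPolynomial.algebraMap_eq]; exact (chi k r ψ).commutes s
        rw [h1, h2, ← sub_eq_zero, ← map_sub, ← map_sub]
        have h3 : PowerSeries.X ∣ algebraMap k RR (PowerSeries.constantCoeff s) - s := by
          rw [PowerSeries.X_dvd_iff, map_sub]
          simp
        obtain ⟨s', hs'⟩ := h3
        rw [hs', map_mul, map_mul, hqt, zero_mul]
      · intro j
        simp only [RingHom.coe_comp, RingHom.coe_coe, Function.comp_apply, MvPolynomial.map_X]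
        rw [chi_apply]
        exact MvPolynomial.aeval_X _ j
    intro p
    exact congrFun (congrArg DFunLike.coe h) p
  -- (a) in general
  have hρdec : ∀ (p : PP) (g : At), ρ (ofA p + algebraMap RR At (PowerSeries.X ^ 1) * g) =
      MvPolynomial.map (PowerSeries.constantCoeff (R := k)) p := by
    intro p g
    simp only [map_add, map_mul, map_pow, hρt, hρof]
    simp
  have hφρ : ∀ f : At, φ0 (ρ f) = q (ψ f) := by
    intro f
    obtain ⟨p, g, rfl⟩ := dec k r 1 f
    rw [hρdec, hpoly, chi_apply]
    simp only [map_add, map_mul, map_pow, AlgHom.commutes, hqt]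
    simp
  -- (b)
  have hφs : Function.Surjective φ0 := by
    intro b
    obtain ⟨b', rfl⟩ := Ideal.Quotient.mk_surjective b
    obtain ⟨f, rfl⟩ := hψ b'
    exact ⟨ρ f, hφρ f⟩
  -- (c)
  have hφk : RingHom.ker φ0.toRingHom = Ideal.span (Set.range fun i => ρ (a i)) := by
    apply le_antisymm
    · intro u hu
      obtain ⟨f, rfl⟩ := hρs u
      have h1 : q (ψ f) = 0 := by rw [← hφρ]; exact hu
      rw [Ideal.Quotient.eq_zero_iff_mem, Ideal.mem_span_singleton'] at h1
      obtain ⟨b, hb⟩ := h1
      obtain ⟨g, rfl⟩ := hψ b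
      have h2 : f - g * algebraMap RR At PowerSeries.X ∈ Ideal.span (Set.range a) := by
        rw [← hker]
        change ψ (f - g * algebraMap RR At PowerSeries.X) = 0
        rw [map_sub, map_mul, AlgHom.commutes, hb, sub_self]
      have h3 : ρ f = ρ (f - g * algebraMap RR At PowerSeries.X) := by
        rw [map_sub, map_mul, hρt, mul_zero, sub_zero]
      rw [h3]
      have h4 := Ideal.mem_map_of_mem ρ h2
      rw [Ideal.map_span, ← Set.range_comp] at h4
      exact h4
    · rw [Ideal.span_le]
      rintro _ ⟨i, rfl⟩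
      change φ0 (ρ (a i)) = 0
      rw [hφρ]
      have : ψ (a i) = 0 := by
        have : a i ∈ RingHom.ker ψ.toRingHom := by
          rw [hker]; exact Ideal.subset_span ⟨i, rfl⟩
        exact this
      rw [this, map_zero]
  -- (d)
  have hpd : ∀ (j : Fin r) (f : At), pderiv j (ρ f) = ρ (dd j f) := by
    intro j f
    obtain ⟨p, g, rfl⟩ := dec k r 1 f
    rw [hρdec, MvPolynomial.pderiv_map, map_add, hdd, Derivation.leibniz,
      Derivation.map_algebraMap, smul_zero, add_zero, smul_eq_mul, ← hρdec (pderiv j p) (dd j g)]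
  have hreg' := hρreg c a hreg0
  have hinj := G1 (B ⧸ JJ) φ0 hφs (fun i => ρ (a i)) hreg' hφk
  intro v hv i
  have h0 : (fun i => q (v i)) = 0 := by
    apply hinj
    funext j
    simp only [Pi.zero_apply, zero_mul, Finset.sum_const_zero]
    have h1 : ∀ i, φ0 (pderiv j (ρ (a i))) = q (ψ (dd j (a i))) := by
      intro i
      rw [hpd, hφρ]
    simp_rw [h1, ← map_mul, ← map_sum, ← sig_apply]
    exact Ideal.Quotient.eq_zero_iff_mem.mpr (hv j)
  exact Ideal.Quotient.eq_zero_iff_mem.mp (congrFun h0 i)

end Groth.Agent.Lib.Helper52.FAdicRed
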