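import Mathlib
import Groth.Agent.Lib.Helper52.FAdicCore
import Groth.Agent.Lib.Helper52.FAdicRed
import Groth.Agent.Lib.Helper7.FAdicA
import Groth.Agent.Lib.Helper92.FAdicG1

set_option autoImplicit false
universe u
open MvPolynomial

namespace Groth.Agent.Lib.Helper52.FAdicAsm

/-- the two-term free resolution of the `t`-adically completed differentials, in the exact shape of
the rows S16191–S16193 -/
theorem exists_resolution
    (k : Type u) [Field k] [IsAlgClosed k] (r c : ℕ)
    (a : Fin c → AdicCompletion (Ideal.span {MvPolynomial.C (σ := Fin r) (PowerSeries.X (R := k))}) (MvPolynomial (Fin r) (PowerSeries k)))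
    (B : Type u) [CommRing B] [Algebra (PowerSeries k) B] [IsNoetherianRing B]
    [IsAdicComplete (Ideal.span {algebraMap (PowerSeries k) B PowerSeries.X}) B]
    [Module.Flat (PowerSeries k) B]
    (ψ : AdicCompletion (Ideal.span {MvPolynomial.C (σ := Fin r) (PowerSeries.X (R := k))}) (MvPolynomial (Fin r) (PowerSeries k)) →ₐ[PowerSeries k] B)
    (hψ : Function.Surjective ψ) (hker : RingHom.ker ψ.toRingHom = Ideal.span (Set.range a))
    (hreg0 : RingTheory.Sequence.IsRegular
      (AdicCompletion (Ideal.span {MvPolynomial.C (σ := Fin r) (PowerSeries.X (R := k))}) (MvPolynomial (Fin r) (PowerSeries k)) ⧸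
        Ideal.span {algebraMap (PowerSeries k) (AdicCompletion (Ideal.span {MvPolynomial.C (σ := Fin r) (PowerSeries.X (R := k))}) (MvPolynomial (Fin r) (PowerSeries k))) PowerSeries.X ^ (0 + 1)})
      ((List.ofFn a).map (Ideal.Quotient.mk (Ideal.span {algebraMap (PowerSeries k)
        (AdicCompletion (Ideal.span {MvPolynomial.C (σ := Fin r) (PowerSeries.X (R := k))}) (MvPolynomial (Fin r) (PowerSeries k))) PowerSeries.X ^ (0 + 1)}))))
    [IsReduced (B ⧸ Ideal.span {algebraMap (PowerSeries k) B PowerSeries.X})] :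
    ∃ (π : (Fin r → B) →ₗ[B] AdicCompletion (Ideal.span {algebraMap (PowerSeries k) B PowerSeries.X})
          (KaehlerDifferential (PowerSeries k) B))
      (σ : (Fin c → B) →ₗ[B] (Fin r → B)),
      Function.Surjective π ∧ Function.Injective σ ∧ LinearMap.range σ = LinearMap.ker π := by
  choose dd hdd1 _ using fun j => Groth.Agent.Lib.Helper7.FAdicA.exists_pderiv k r j
  have hregX : IsSMulRegular (PowerSeries k) (PowerSeries.X : PowerSeries k) :=
    (IsRegular.of_ne_zero PowerSeries.X_ne_zero).left.isSMulRegular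
  have hregB' : IsSMulRegular B (algebraMap (PowerSeries k) B PowerSeries.X) :=
    IsSMulRegular.of_flat hregX
  have hregB : ∀ b : B, algebraMap (PowerSeries k) B PowerSeries.X * b = 0 → b = 0 := by
    intro b hb
    apply hregB'
    simpa [smul_eq_mul] using hb
  have hmod := Groth.Agent.Lib.Helper52.FAdicRed.hmod_of k r
    (fun B₀ _ _ _ φ hφ a' ha' hk' =>
      Groth.Agent.Lib.Helper92.FAdicG1.jacobian_injective k r c B₀ φ hφ a' ha' hk')
    ψ hψ dd hdd1 a hker hreg0
  exact Groth.Agent.Lib.Helper52.FAdicCore.exists_resolution_core k r ψ hψ dd hdd1 a hker hregB hmod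

end Groth.Agent.Lib.Helper52.FAdicAsm
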