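import Mathlib
import Groth.Agent.Lib.Helper52.FAdicCore

set_option autoImplicit false
universe u
open MvPolynomial

namespace Groth.Agent.Lib.Helper52.FAdicLevel

open Groth.Agent.Lib.Helper52.FAdicCore

variable (k : Type u) [Field k] (r : ℕ)

local notation "RR" => PowerSeries k
local notation "PP" => MvPolynomial (Fin r) (PowerSeries k)
local notation "At" => AdicCompletion (Ideal.span {MvPolynomial.C (σ := Fin r) (PowerSeries.X (R := k))}) (MvPolynomial (Fin r) (PowerSeries k))

variable {B : Type u} [CommRing B] [Algebra (PowerSeries k) B]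

local notation "tB" => algebraMap (PowerSeries k) B PowerSeries.X
local notation "JJ" => (Ideal.span {algebraMap (PowerSeries k) B PowerSeries.X} : Ideal B)
local notation "ofA" => AdicCompletion.of (Ideal.span {MvPolynomial.C (σ := Fin r) (PowerSeries.X (R := k))}) (MvPolynomial (Fin r) (PowerSeries k))

/-- when `t^m = 0` in `B`, `ψ f` only depends on a polynomial approximation -/
theorem psi_dec (m : ℕ) (h : tB ^ m = 0) (ψ : At →ₐ[RR] B) (p : PP) (g : At) :
    ψ (ofA p + algebraMap RR At (PowerSeries.X ^ m) * g) = chi k r ψ p := by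
  rw [map_add, map_mul, AlgHom.commutes, map_pow, h, zero_mul, add_zero, chi_apply]

theorem Psi_surjective_of_nilp (m : ℕ) (h : tB ^ m = 0) (ψ : At →ₐ[RR] B)
    (hψ : Function.Surjective ψ) : Function.Surjective (Psi k r ψ) := by
  rw [← LinearMap.range_eq_top, eq_top_iff, ← KaehlerDifferential.span_range_derivation,
    Submodule.span_le]
  rintro _ ⟨b, rfl⟩
  obtain ⟨f, rfl⟩ := hψ b
  obtain ⟨p, g, rfl⟩ := dec k r m f
  rw [psi_dec k r m h, D_aeval k r (chi k r ψ) p]
  refine ⟨fun j => chi k r ψ (pderiv j p), ?_⟩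
  unfold Psi
  rw [Fintype.linearCombination_apply]
  refine Finset.sum_congr rfl fun j _ => ?_
  simp only [chi_apply]

/-- chain rule in `Ω` when `t` is nilpotent -/
theorem chain_nilp (m : ℕ) (h : tB ^ m = 0) (ψ : At →ₐ[RR] B)
    (dd : Fin r → Derivation RR At At)
    (hdd : ∀ j (p : PP), dd j (ofA p) = ofA (pderiv j p)) (f : At) :
    KaehlerDifferential.D RR B (ψ f) =
      ∑ j, ψ (dd j f) • KaehlerDifferential.D RR B (ψ (ofA (X j))) := by
  obtain ⟨p, g, rfl⟩ := dec k r m f
  rw [psi_dec k r m h, D_aeval k r (chi k r ψ) p]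
  refine Finset.sum_congr rfl fun j _ => ?_
  have : dd j (ofA p + algebraMap RR At (PowerSeries.X ^ m) * g) =
      ofA (pderiv j p) + algebraMap RR At (PowerSeries.X ^ m) * dd j g := by
    rw [map_add, hdd, Derivation.leibniz, Derivation.map_algebraMap, smul_zero, add_zero,
      smul_eq_mul]
  rw [this, psi_dec k r m h, chi_apply, chi_apply]

theorem Psi_sig_nilp {c : ℕ} (m : ℕ) (h : tB ^ m = 0) (ψ : At →ₐ[RR] B)
    (dd : Fin r → Derivation RR At At)
    (hdd : ∀ j (p : PP), dd j (ofA p) = ofA (pderiv j p))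
    (a : Fin c → At) (ha : ∀ i, ψ (a i) = 0) (v : Fin c → B) :
    Psi k r ψ (sig k r ψ dd a v) = 0 := by
  unfold sig
  rw [Fintype.linearCombination_apply, map_sum]
  refine Finset.sum_eq_zero fun i _ => ?_
  rw [map_smul]
  have : Psi k r ψ (rows k r ψ dd a i) = 0 := by
    unfold Psi rows
    rw [Fintype.linearCombination_apply, ← chain_nilp k r m h ψ dd hdd (a i), ha i, map_zero]
  rw [this, smul_zero]

theorem L_Psi {c : ℕ} (ψ : At →ₐ[RR] B) (hψ : Function.Surjective ψ)
    (dd : Fin r → Derivation RR At At)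
    (hdd : ∀ j (p : PP), dd j (ofA p) = ofA (pderiv j p))
    (a : Fin c → At) (hker : RingHom.ker ψ.toRingHom = Ideal.span (Set.range a))
    (x : Fin r → B) :
    (DB k r ψ hψ dd a hker).liftKaehlerDifferential (Psi k r ψ x) =
      (LinearMap.range (sig k r ψ dd a)).mkQ x := by
  classical
  unfold Psi
  rw [Fintype.linearCombination_apply, map_sum]
  have h1 : ∀ j, (DB k r ψ hψ dd a hker).liftKaehlerDifferential
      (x j • KaehlerDifferential.D RR B (ψ (ofA (X j)))) =
      (LinearMap.range (sig k r ψ dd a)).mkQ (x j • (Pi.single j 1 : Fin r → B)) := by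
    intro j
    rw [map_smul, Derivation.liftKaehlerDifferential_comp_D, DB_apply, DtL_apply,
      Submodule.mkQ_apply, Submodule.Quotient.mk_smul]
    congr 2
    funext i
    exact dd_X k r dd hdd ψ i j
  simp_rw [h1]
  rw [← map_sum]
  congr 1
  funext i
  simp [Finset.sum_apply, Pi.single_apply]

theorem ker_Psi_le {c : ℕ} (ψ : At →ₐ[RR] B) (hψ : Function.Surjective ψ)
    (dd : Fin r → Derivation RR At At)
    (hdd : ∀ j (p : PP), dd j (ofA p) = ofA (pderiv j p))
    (a : Fin c → At) (hker : RingHom.ker ψ.toRingHom = Ideal.span (Set.range a))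
    (x : Fin r → B) (hx : Psi k r ψ x = 0) : x ∈ LinearMap.range (sig k r ψ dd a) := by
  have := L_Psi k r ψ hψ dd hdd a hker x
  rw [hx, map_zero] at this
  exact (Submodule.Quotient.mk_eq_zero _).mp this.symm

end Groth.Agent.Lib.Helper52.FAdicLevel
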