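import Mathlib
import Groth.Agent.Lib.Helper52.FAdicCore
import Groth.Agent.Lib.Helper52.FAdicLevel

set_option autoImplicit false
universe u
open MvPolynomial

namespace Groth.Agent.Lib.Helper52.FAdicLevelN

open Groth.Agent.Lib.Helper52.FAdicCore Groth.Agent.Lib.Helper52.FAdicLevel

variable (k : Type u) [Field k] (r : ℕ)

local notation "RR" => PowerSeries k
local notation "PP" => MvPolynomial (Fin r) (PowerSeries k)
local notation "At" => AdicCompletion (Ideal.span {MvPolynomial.C (σ := Fin r) (PowerSeries.X (R := k))}) (MvPolynomial (Fin r) (PowerSeries k))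

variable {B : Type u} [CommRing B] [Algebra (PowerSeries k) B]

local notation "tB" => algebraMap (PowerSeries k) B PowerSeries.X
local notation "JJ" => (Ideal.span {algebraMap (PowerSeries k) B PowerSeries.X} : Ideal B)
local notation "ofA" => AdicCompletion.of (Ideal.span {MvPolynomial.C (σ := Fin r) (PowerSeries.X (R := k))}) (MvPolynomial (Fin r) (PowerSeries k))

/-- the mod-`t` injectivity propagates to all powers of `t` -/
theorem hmod_pow {c : ℕ} (ψ : At →ₐ[RR] B) (dd : Fin r → Derivation RR At At) (a : Fin c → At)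
    (hreg : ∀ b : B, tB * b = 0 → b = 0)
    (hmod : ∀ v : Fin c → B, (∀ j, sig k r ψ dd a v j ∈ JJ) → ∀ i, v i ∈ JJ) :
    ∀ (m : ℕ) (v : Fin c → B), (∀ j, sig k r ψ dd a v j ∈ Ideal.span {tB ^ m}) →
      ∀ i, v i ∈ Ideal.span {tB ^ m} := by
  intro m
  induction m with
  | zero => intro v _ i; simp
  | succ m ih =>
    intro v hv i
    have h1 : ∀ i, v i ∈ JJ := hmod v fun j => by
      obtain ⟨z, hz⟩ := Ideal.mem_span_singleton'.mp (hv j)
      rw [← hz, pow_succ, ← mul_assoc]
      exact Ideal.mul_mem_left _ _ (Ideal.mem_span_singleton_self _)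
    choose w hw using fun i => Ideal.mem_span_singleton'.mp (h1 i)
    have hvw : v = tB • w := by
      funext i
      rw [Pi.smul_apply, smul_eq_mul, ← hw i, mul_comm]
    have hw0 : ∀ j, sig k r ψ dd a w j ∈ Ideal.span {tB ^ m} := by
      intro j
      obtain ⟨z, hz⟩ := Ideal.mem_span_singleton'.mp (hv j)
      rw [hvw, map_smul, Pi.smul_apply, smul_eq_mul] at hz
      have : tB * (sig k r ψ dd a w j - z * tB ^ m) = 0 := by
        rw [mul_sub, ← hz, pow_succ]; ring
      have h2 := hreg _ this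
      rw [sub_eq_zero] at h2
      rw [h2]
      exact Ideal.mul_mem_left _ _ (Ideal.mem_span_singleton_self _)
    obtain ⟨z, hz⟩ := Ideal.mem_span_singleton'.mp (ih w hw0 i)
    rw [← hw i, ← hz, pow_succ]
    exact Ideal.mem_span_singleton'.mpr ⟨z, by ring⟩

/-- the level-`n` two-term free resolution of `Ω_{B_n/R}`, compatible with the Jacobian over `B` -/
theorem exists_level {c : ℕ} (ψ : At →ₐ[RR] B) (hψ : Function.Surjective ψ)
    (dd : Fin r → Derivation RR At At)
    (hdd : ∀ j (p : PP), dd j (ofA p) = ofA (pderiv j p))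
    (a : Fin c → At) (hker : RingHom.ker ψ.toRingHom = Ideal.span (Set.range a))
    (hreg : ∀ b : B, tB * b = 0 → b = 0)
    (hmod : ∀ v : Fin c → B, (∀ j, sig k r ψ dd a v j ∈ JJ) → ∀ i, v i ∈ JJ) (n : ℕ) :
    ∃ (π' : (Fin r → B ⧸ Ideal.span {tB ^ (n + 1)}) →ₗ[B ⧸ Ideal.span {tB ^ (n + 1)}]
          Ω[(B ⧸ Ideal.span {tB ^ (n + 1)})⁄RR])
      (σ' : (Fin c → B ⧸ Ideal.span {tB ^ (n + 1)}) →ₗ[B ⧸ Ideal.span {tB ^ (n + 1)}]
          (Fin r → B ⧸ Ideal.span {tB ^ (n + 1)})),
      Function.Surjective π' ∧ Function.Injective σ' ∧ LinearMap.range σ' = LinearMap.ker π' ∧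
      ∀ (v : Fin c → B) (j : Fin r),
        σ' (fun i => Ideal.Quotient.mk (Ideal.span {tB ^ (n + 1)}) (v i)) j =
          Ideal.Quotient.mk (Ideal.span {tB ^ (n + 1)}) (sig k r ψ dd a v j) := by
  classical
  set In : Ideal B := Ideal.span {tB ^ (n + 1)} with hIn
  let ψn : At →ₐ[RR] (B ⧸ In) := (Ideal.Quotient.mkₐ RR In).comp ψ
  have hψn : Function.Surjective ψn := (Ideal.Quotient.mkₐ_surjective RR In).comp hψ
  have hψn_apply : ∀ f, ψn f = Ideal.Quotient.mk In (ψ f) := fun f => rfl
  have htn : (algebraMap RR (B ⧸ In) PowerSeries.X) ^ (n + 1) = 0 := by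
    have : algebraMap RR (B ⧸ In) PowerSeries.X = Ideal.Quotient.mk In tB := rfl
    rw [this, ← map_pow]
    exact Ideal.Quotient.eq_zero_iff_mem.mpr (Ideal.mem_span_singleton_self _)
  have ha : ∀ i, ψ (a i) = 0 := by
    intro i
    have : a i ∈ RingHom.ker ψ.toRingHom := by
      rw [hker]; exact Ideal.subset_span ⟨i, rfl⟩
    exact this
  have han : ∀ i, ψn (a i) = 0 := fun i => by rw [hψn_apply, ha i, map_zero]
  -- extended family
  let ap : Fin (c + 1) → At := Fin.snoc a (algebraMap RR At (PowerSeries.X ^ (n + 1)))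
  have hkerp : RingHom.ker ψn.toRingHom = Ideal.span (Set.range ap) := by
    apply le_antisymm
    · intro f hf
      have h1 : Ideal.Quotient.mk In (ψ f) = 0 := hf
      rw [Ideal.Quotient.eq_zero_iff_mem, hIn, Ideal.mem_span_singleton'] at h1
      obtain ⟨b, hb⟩ := h1
      obtain ⟨g, rfl⟩ := hψ b
      have h2 : f - g * algebraMap RR At (PowerSeries.X ^ (n + 1)) ∈ Ideal.span (Set.range a) := by
        rw [← hker]
        change ψ (f - g * algebraMap RR At (PowerSeries.X ^ (n + 1))) = 0
        rw [map_sub, map_mul, AlgHom.commutes, map_pow, hb, sub_self]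
      have h3 : Ideal.span (Set.range a) ≤ Ideal.span (Set.range ap) := by
        apply Ideal.span_mono
        rintro _ ⟨i, rfl⟩
        exact ⟨Fin.castSucc i, by simp [ap]⟩
      have h4 : g * algebraMap RR At (PowerSeries.X ^ (n + 1)) ∈ Ideal.span (Set.range ap) :=
        Ideal.mul_mem_left _ _ (Ideal.subset_span ⟨Fin.last c, by simp [ap]⟩)
      have := Ideal.add_mem _ (h3 h2) h4
      rwa [sub_add_cancel] at this
    · rw [Ideal.span_le]
      rintro _ ⟨i, rfl⟩
      change ψn (ap i) = 0
      refine Fin.lastCases ?_ (fun i => ?_) i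
      · simp only [ap, Fin.snoc_last]
        rw [AlgHom.commutes, map_pow, htn]
      · simp only [ap, Fin.snoc_castSucc]
        exact han i
  have hrange : LinearMap.range (sig k r ψn dd ap) ≤ LinearMap.range (sig k r ψn dd a) := by
    rintro _ ⟨w, rfl⟩
    refine ⟨fun i => w (Fin.castSucc i), ?_⟩
    funext j
    rw [sig_apply, sig_apply, Fin.sum_univ_castSucc]
    simp only [ap, Fin.snoc_castSucc, Fin.snoc_last, Derivation.map_algebraMap, map_zero, mul_zero,
      add_zero]
  refine ⟨Psi k r ψn, sig k r ψn dd a, Psi_surjective_of_nilp k r (n + 1) htn ψn hψn, ?_, ?_, ?_⟩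
  · -- injectivity
    rw [injective_iff_map_eq_zero]
    intro vb hvb
    choose v hv using fun i => Ideal.Quotient.mk_surjective (vb i)
    have hvb' : vb = fun i => Ideal.Quotient.mk In (v i) := funext fun i => (hv i).symm
    have h1 : ∀ j, sig k r ψ dd a v j ∈ Ideal.span {tB ^ (n + 1)} := by
      intro j
      rw [← hIn, ← Ideal.Quotient.eq_zero_iff_mem]
      have := congrFun hvb j
      rw [hvb', sig_apply] at this
      rw [sig_apply, map_sum]
      simpa [hψn_apply] using this
    have h2 := hmod_pow k r ψ dd a hreg hmod (n + 1) v h1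
    funext i
    rw [hvb']
    exact Ideal.Quotient.eq_zero_iff_mem.mpr (h2 i)
  · apply le_antisymm
    · rintro _ ⟨v, rfl⟩
      exact Psi_sig_nilp k r (n + 1) htn ψn dd hdd a han v
    · intro x hx
      exact hrange (ker_Psi_le k r ψn hψn dd hdd ap hkerp x hx)
  · intro v j
    rw [sig_apply, sig_apply, map_sum]
    simp [hψn_apply]

end Groth.Agent.Lib.Helper52.FAdicLevelN
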