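import Mathlib

set_option linter.style.haveILetI false
set_option linter.unusedSectionVars false
set_option autoImplicit false

namespace Groth.Agent.Lib.Helper52.FibInv1

open TensorProduct IsLocalRing

universe u

/-- flatness over a base `A` is preserved by tensoring with a flat module over the acting ring -/
theorem flat_tensor_of_flat (A C D M : Type*) [CommRing A] [CommRing C] [CommRing D]
    [Algebra A C] [Algebra C D] [Algebra A D] [IsScalarTower A C D] [Module.Flat C D]
    [AddCommGroup M] [Module A M] [Module C M] [IsScalarTower A C M] [Module.Flat A M] :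
    Module.Flat A (D ⊗[C] M) := by
  rw [Module.Flat.iff_lTensor_injective']
  intro I
  let g : M ⊗[A] I →ₗ[C] M ⊗[A] A := TensorProduct.AlgebraTensorModule.lTensor C M (I.subtype)
  have hg : ⇑g = ⇑(LinearMap.lTensor M I.subtype) := rfl
  have hginj : Function.Injective g := by
    rw [hg]
    exact Module.Flat.lTensor_preserves_injective_linearMap (M := M) I.subtype
      Subtype.val_injective
  have hDg : Function.Injective (LinearMap.lTensor D g) :=
    Module.Flat.lTensor_preserves_injective_linearMap (M := D) g hginj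
  let e₁ := TensorProduct.AlgebraTensorModule.assoc A C D D M I
  let e₂ := TensorProduct.AlgebraTensorModule.assoc A C D D M A
  have key : ∀ x : (D ⊗[C] M) ⊗[A] I,
      (LinearMap.lTensor D g) (e₁ x) = e₂ (LinearMap.lTensor (D ⊗[C] M) I.subtype x) := by
    intro x
    induction x using TensorProduct.induction_on with
    | zero => simp
    | add x y hx hy => simp only [map_add, hx, hy]
    | tmul dm i =>
      induction dm using TensorProduct.induction_on with
      | zero => simp
      | add x y hx hy => simp only [TensorProduct.add_tmul, map_add, hx, hy]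
      | tmul d m => rfl
  intro x x' hx
  apply e₁.injective
  apply hDg
  rw [key, key, hx]

section local_

variable {A Λ N κ : Type u} [CommRing A] [CommRing Λ] [IsLocalRing Λ] [IsNoetherianRing Λ]
  [Algebra A Λ] [AddCommGroup N] [Module Λ N] [Module A N] [IsScalarTower A Λ N]
  [Module.Finite Λ N] [Module.Flat A N] [CommRing κ] [Algebra A κ]

set_option maxHeartbeats 1600000 in
theorem nonempty_equiv_of_fibre (θ : Λ ⊗[A] κ →ₐ[Λ] ResidueField Λ)
    [hinv : Module.Invertible (Λ ⊗[A] κ) ((Λ ⊗[A] κ) ⊗[Λ] N)] : Nonempty (N ≃ₗ[Λ] Λ) := by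
  letI : Algebra (Λ ⊗[A] κ) (ResidueField Λ) := θ.toRingHom.toAlgebra
  haveI : IsScalarTower Λ (Λ ⊗[A] κ) (ResidueField Λ) :=
    IsScalarTower.of_algebraMap_eq (fun l => (θ.commutes l).symm)
  -- Step 1: N is cyclic
  haveI h1 : Module.Invertible (ResidueField Λ) (ResidueField Λ ⊗[Λ] N) :=
    Module.Invertible.congr (AlgebraTensorModule.cancelBaseChange Λ (Λ ⊗[A] κ) (ResidueField Λ)
      (ResidueField Λ) N)
  have hfr : Module.finrank (ResidueField Λ) (ResidueField Λ ⊗[Λ] N) = 1 :=
    Module.Invertible.finrank_eq_one _ _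
  haveI : Nontrivial (ResidueField Λ ⊗[Λ] N) := Module.nontrivial_of_finrank_pos (R := ResidueField Λ)
    (by rw [hfr]; exact Nat.one_pos)
  obtain ⟨v, hv⟩ := exists_ne (0 : ResidueField Λ ⊗[Λ] N)
  obtain ⟨n, hn⟩ := TensorProduct.mk_surjective Λ N (ResidueField Λ)
    Ideal.Quotient.mk_surjective v
  have hspan : Submodule.span Λ (Set.range (fun _ : Unit => n)) = ⊤ :=
    IsLocalRing.span_eq_top_of_tmul_eq_basis (fun _ : Unit => n)
      (FiniteDimensional.basisSingleton Unit hfr v hv) (fun i => by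
        rw [FiniteDimensional.basisSingleton_apply]
        exact hn)
  let g : Λ →ₗ[Λ] N := LinearMap.toSpanSingleton Λ N n
  have hgsurj : Function.Surjective g := by
    rw [← LinearMap.range_eq_top, LinearMap.range_toSpanSingleton]
    rw [← hspan]
    congr 1
    ext y
    simp
  -- Step 2: the kernel vanishes
  let K : Submodule Λ Λ := LinearMap.ker g
  have hK : ∀ x ∈ K, x • n = 0 := fun x hx => hx
  let G : Λ ⊗[A] κ →ₗ[Λ ⊗[A] κ] (Λ ⊗[A] κ) ⊗[Λ] N :=
    LinearMap.toSpanSingleton (Λ ⊗[A] κ) _ ((1 : Λ ⊗[A] κ) ⊗ₜ[Λ] n)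
  have hG : ∀ z : Λ ⊗[A] κ, G z = z ⊗ₜ[Λ] n := by
    intro z
    change z • ((1 : Λ ⊗[A] κ) ⊗ₜ[Λ] n) = _
    rw [TensorProduct.smul_tmul', smul_eq_mul, mul_one]
  have hGsurj : Function.Surjective G := by
    rw [← LinearMap.range_eq_top, eq_top_iff]
    rintro z -
    induction z using TensorProduct.induction_on with
    | zero => exact Submodule.zero_mem _
    | add a b ha hb => exact Submodule.add_mem _ ha hb
    | tmul z y =>
      obtain ⟨l, rfl⟩ := hgsurj y
      refine ⟨l • z, ?_⟩
      rw [hG]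
      change (l • z) ⊗ₜ[Λ] n = z ⊗ₜ[Λ] (l • n)
      rw [TensorProduct.smul_tmul]
  have hGinj : Function.Injective G := (Module.Invertible.bijective_of_surjective hGsurj).1
  have hx0 : ∀ x ∈ K, x ⊗ₜ[A] (1 : κ) = (0 : Λ ⊗[A] κ) := by
    intro x hx
    apply hGinj
    rw [hG, map_zero]
    have : x ⊗ₜ[A] (1 : κ) = x • (1 : Λ ⊗[A] κ) := by
      rw [Algebra.TensorProduct.one_def, TensorProduct.smul_tmul', smul_eq_mul, mul_one]
    rw [this, TensorProduct.smul_tmul, hK x hx, tmul_zero]
  have hflat : Function.Injective ((K.subtype.restrictScalars A).lTensor κ) :=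
    LinearMap.lTensor_injective_of_exact_of_flat (g.restrictScalars A) hgsurj
      (K.subtype.restrictScalars A) (Submodule.injective_subtype K)
      (by
        intro y
        constructor
        · intro hy
          exact ⟨⟨y, hy⟩, rfl⟩
        · rintro ⟨z, rfl⟩
          exact z.2) κ
  have hx1 : ∀ x : K, (1 : κ) ⊗ₜ[A] x = (0 : κ ⊗[A] K) := by
    intro x
    apply hflat
    rw [map_zero, LinearMap.lTensor_tmul]
    change (1 : κ) ⊗ₜ[A] (x : Λ) = 0
    have := congrArg (TensorProduct.comm A Λ κ) (hx0 x x.2)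
    rwa [TensorProduct.comm_tmul, map_zero] at this
  haveI hsub1 : Subsingleton (κ ⊗[A] K) := by
    refine ⟨fun a b => ?_⟩
    have h0 : ∀ z : κ ⊗[A] K, z = 0 := by
      intro z
      induction z using TensorProduct.induction_on with
      | zero => rfl
      | add a b ha hb => rw [ha, hb, add_zero]
      | tmul c x =>
        have : c ⊗ₜ[A] x = c • ((1 : κ) ⊗ₜ[A] x) := by
          rw [TensorProduct.smul_tmul', smul_eq_mul, mul_one]
        rw [this, hx1, smul_zero]
    rw [h0 a, h0 b]
  haveI hsub2 : Subsingleton (K ⊗[A] κ) := (TensorProduct.comm A K κ).toEquiv.subsingleton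
  haveI hsub3 : Subsingleton (K ⊗[Λ] (Λ ⊗[A] κ)) :=
    (AlgebraTensorModule.cancelBaseChange A Λ Λ K κ).toEquiv.subsingleton
  haveI hsub4 : Subsingleton ((Λ ⊗[A] κ) ⊗[Λ] K) :=
    (TensorProduct.comm Λ (Λ ⊗[A] κ) K).toEquiv.subsingleton
  haveI hsub5 : Subsingleton (ResidueField Λ ⊗[Λ ⊗[A] κ] ((Λ ⊗[A] κ) ⊗[Λ] K)) := by
    refine ⟨fun a b => ?_⟩
    have h0 : ∀ z : ResidueField Λ ⊗[Λ ⊗[A] κ] ((Λ ⊗[A] κ) ⊗[Λ] K), z = 0 := by
      intro z
      induction z using TensorProduct.induction_on with
      | zero => rfl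
      | add a b ha hb => rw [ha, hb, add_zero]
      | tmul c x => rw [Subsingleton.elim x 0, tmul_zero]
    rw [h0 a, h0 b]
  haveI hsub6 : Subsingleton (ResidueField Λ ⊗[Λ] K) :=
    (AlgebraTensorModule.cancelBaseChange Λ (Λ ⊗[A] κ) (ResidueField Λ)
      (ResidueField Λ) K).symm.toEquiv.subsingleton
  haveI hsubK : Subsingleton K := IsLocalRing.subsingleton_tensorProduct.1 hsub6
  have hginj : Function.Injective g := by
    rw [← LinearMap.ker_eq_bot]
    exact Submodule.eq_bot_of_subsingleton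
  exact ⟨(LinearEquiv.ofBijective g ⟨hginj, hgsurj⟩).symm⟩

end local_

end Groth.Agent.Lib.Helper52.FibInv1
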