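import Mathlib

set_option linter.style.haveILetI false
set_option linter.unusedSectionVars false
set_option autoImplicit false

namespace Groth.Agent.Lib.Helper52.QFBC4

open TensorProduct

universe u

attribute [local instance] Algebra.TensorProduct.rightAlgebra

section model

variable {A R : Type u} [CommRing A] [CommRing R] [Algebra A R]

section defs

variable (A R) (X Y : Type u) [CommRing X] [CommRing Y] [Algebra A X] [Algebra A Y] [Algebra X Y]
  [IsScalarTower A X Y]

/-- `X ⊗ R → Y ⊗ R` -/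
noncomputable def tmapHom : X ⊗[A] R →ₐ[A] Y ⊗[A] R :=
  Algebra.TensorProduct.map (IsScalarTower.toAlgHom A X Y) (AlgHom.id A R)

/-- `R ⊗ X → Y ⊗ R` -/
noncomputable def tswapHom : R ⊗[A] X →ₐ[A] Y ⊗[A] R :=
  (tmapHom A R X Y).comp (Algebra.TensorProduct.comm A R X).toAlgHom

@[simp] theorem tmapHom_tmul (x : X) (r : R) : tmapHom A R X Y (x ⊗ₜ r) = algebraMap X Y x ⊗ₜ r := by
  simp [tmapHom]

@[simp] theorem tswapHom_tmul (x : X) (r : R) :
    tswapHom A R X Y (r ⊗ₜ x) = algebraMap X Y x ⊗ₜ r := by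
  simp [tswapHom, tmapHom]

/-- algebra structure `X ⊗ R → Y ⊗ R` -/
@[instance_reducible]
noncomputable def tmapAlg : Algebra (X ⊗[A] R) (Y ⊗[A] R) := (tmapHom A R X Y).toRingHom.toAlgebra

/-- algebra structure `R ⊗ X → Y ⊗ R` -/
@[instance_reducible]
noncomputable def tswapAlg : Algebra (R ⊗[A] X) (Y ⊗[A] R) := (tswapHom A R X Y).toRingHom.toAlgebra

end defs

attribute [local instance 50] tmapAlg tswapAlg

section towers

variable (X Y : Type u) [CommRing X] [CommRing Y] [Algebra A X] [Algebra A Y] [Algebra X Y]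
  [IsScalarTower A X Y]

theorem tmap_algebraMap (z : X ⊗[A] R) :
    algebraMap (X ⊗[A] R) (Y ⊗[A] R) z = tmapHom A R X Y z := rfl

theorem tswap_algebraMap (z : R ⊗[A] X) :
    algebraMap (R ⊗[A] X) (Y ⊗[A] R) z = tswapHom A R X Y z := rfl

instance tower_R : IsScalarTower R (X ⊗[A] R) (Y ⊗[A] R) :=
  IsScalarTower.of_algebraMap_eq (fun r => by
    rw [tmap_algebraMap, Algebra.TensorProduct.right_algebraMap_apply,
      Algebra.TensorProduct.right_algebraMap_apply, tmapHom_tmul, map_one])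

instance tower_R' : IsScalarTower R (R ⊗[A] X) (Y ⊗[A] R) :=
  IsScalarTower.of_algebraMap_eq (fun r => by
    rw [tswap_algebraMap, Algebra.TensorProduct.algebraMap_apply,
      Algebra.TensorProduct.right_algebraMap_apply, Algebra.algebraMap_self, RingHom.id_apply,
      tswapHom_tmul, map_one])

instance tower_X' : IsScalarTower X (R ⊗[A] X) (Y ⊗[A] R) :=
  IsScalarTower.of_algebraMap_eq (fun x => by
    rw [tswap_algebraMap, Algebra.TensorProduct.right_algebraMap_apply,
      Algebra.TensorProduct.algebraMap_apply, tswapHom_tmul])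

instance tower_A' : IsScalarTower A (R ⊗[A] X) (Y ⊗[A] R) :=
  IsScalarTower.of_algebraMap_eq (fun a => by
    rw [tswap_algebraMap, AlgHom.commutes])

instance tower_A : IsScalarTower A (X ⊗[A] R) (Y ⊗[A] R) :=
  IsScalarTower.of_algebraMap_eq (fun a => by
    rw [tmap_algebraMap, AlgHom.commutes])

variable (W : Type u) [CommRing W] [Algebra W X] [Algebra W Y] [IsScalarTower W X Y]
  [SMulCommClass A W X] [SMulCommClass A W Y]

instance tower_W : IsScalarTower W (X ⊗[A] R) (Y ⊗[A] R) :=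
  IsScalarTower.of_algebraMap_eq (fun w => by
    rw [tmap_algebraMap, Algebra.TensorProduct.algebraMap_apply,
      Algebra.TensorProduct.algebraMap_apply, tmapHom_tmul,
      ← IsScalarTower.algebraMap_apply W X Y])


end towers


section towers3

variable (X Y Z : Type u) [CommRing X] [CommRing Y] [CommRing Z] [Algebra A X] [Algebra A Y]
  [Algebra A Z] [Algebra X Y] [Algebra Y Z] [Algebra X Z]
  [IsScalarTower A X Y] [IsScalarTower A Y Z] [IsScalarTower A X Z] [IsScalarTower X Y Z]

instance tower_3 : IsScalarTower (X ⊗[A] R) (Y ⊗[A] R) (Z ⊗[A] R) :=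
  IsScalarTower.of_algebraMap_eq (fun z => by
    rw [tmap_algebraMap, tmap_algebraMap, tmap_algebraMap]
    induction z using TensorProduct.induction_on with
    | zero => simp
    | add a b ha hb => rw [map_add, map_add, map_add, ha, hb]
    | tmul x r =>
      rw [tmapHom_tmul, tmapHom_tmul, tmapHom_tmul, ← IsScalarTower.algebraMap_apply X Y Z])

instance tower_3' : IsScalarTower (R ⊗[A] X) (Y ⊗[A] R) (Z ⊗[A] R) :=
  IsScalarTower.of_algebraMap_eq (fun z => by
    rw [tswap_algebraMap, tmap_algebraMap, tswap_algebraMap]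
    induction z using TensorProduct.induction_on with
    | zero => simp
    | add a b ha hb => rw [map_add, map_add, map_add, ha, hb]
    | tmul r x =>
      rw [tswapHom_tmul, tswapHom_tmul, tmapHom_tmul, ← IsScalarTower.algebraMap_apply X Y Z])

end towers3

section pushouts

variable (X Y : Type u) [CommRing X] [CommRing Y] [Algebra A X] [Algebra A Y] [Algebra X Y]
  [IsScalarTower A X Y]

theorem isPushout_tmap : Algebra.IsPushout X Y (X ⊗[A] R) (Y ⊗[A] R) := by
  refine Algebra.IsPushout.tensorProduct_tensorProduct A R X Y ?_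
  ext r
  change tmapHom A R X Y ((1 : X) ⊗ₜ r) = (1 : Y) ⊗ₜ r
  rw [tmapHom_tmul, map_one]

theorem isPushout_tswap : Algebra.IsPushout X Y (R ⊗[A] X) (Y ⊗[A] R) := by
  have h1 : Algebra.IsPushout A X R (R ⊗[A] X) := inferInstance
  have h2 : Algebra.IsPushout A Y R (Y ⊗[A] R) := inferInstance
  exact (Algebra.IsPushout.comp_iff A X R (S' := R ⊗[A] X) (T := Y) (T' := Y ⊗[A] R)).1 h2

end pushouts


section cube

variable {A₁ B' B'₁ : Type u} [CommRing A₁] [CommRing B'] [CommRing B'₁]
  [Algebra A B'] [Algebra A A₁] [Algebra B' B'₁] [Algebra A₁ B'₁] [Algebra A B'₁]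
  [IsScalarTower A A₁ B'₁] [IsScalarTower A B' B'₁]

theorem isPushout_cube (h : Algebra.IsPushout A A₁ B' B'₁) :
    Algebra.IsPushout R (A₁ ⊗[A] R) (R ⊗[A] B') (B'₁ ⊗[A] R) := by
  have hS : Algebra.IsPushout B' B'₁ (R ⊗[A] B') (B'₁ ⊗[A] R) := isPushout_tswap B' B'₁
  haveI : Algebra.IsPushout A B' A₁ B'₁ := h.symm
  have h2 : Algebra.IsPushout A (R ⊗[A] B') A₁ (B'₁ ⊗[A] R) :=
    (Algebra.IsPushout.comp_iff A B' A₁ (S' := B'₁) (T := R ⊗[A] B') (T' := B'₁ ⊗[A] R)).2 hS.symm
  have h3 : Algebra.IsPushout R (R ⊗[A] B') (A₁ ⊗[A] R) (B'₁ ⊗[A] R) :=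
    (Algebra.IsPushout.comp_iff A R A₁ (S' := A₁ ⊗[A] R) (T := R ⊗[A] B')
      (T' := B'₁ ⊗[A] R)).1 h2
  exact h3.symm

end cube

end model

end Groth.Agent.Lib.Helper52.QFBC4
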