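import Mathlib
import Groth.Agent.Lib.Helper66.OT8
import Groth.Agent.Lib.Helper52.QFBC4
import Groth.Agent.Lib.Helper52.FibInv1

set_option linter.style.haveILetI false
set_option linter.unusedSectionVars false
set_option autoImplicit false

namespace Groth.Agent.Lib.Helper52.FibInv2

open TensorProduct IsLocalRing Groth.Agent.Lib.Helper52.QFBC4 Groth.Agent.Lib.Helper52.FibInv1

universe u

attribute [local instance] Algebra.TensorProduct.rightAlgebra
attribute [local instance 50] tmapAlg tswapAlg

variable {A B M : Type u} [CommRing A] [CommRing B] [IsNoetherianRing B] [Algebra A B]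
  [AddCommGroup M] [Module B M] [Module A M] [IsScalarTower A B M] [Module.Finite B M]
  [Module.Flat A M]

set_option maxHeartbeats 1600000 in
set_option synthInstance.maxHeartbeats 400000 in
theorem nonempty_localized_equiv
    (H : ∀ (p : Ideal A) [p.IsPrime], Module.Invertible (B ⊗[A] p.ResidueField)
      ((B ⊗[A] p.ResidueField) ⊗[B] M)) (P : Ideal B) [hP : P.IsPrime] :
    Nonempty (LocalizedModule P.primeCompl M ≃ₗ[Localization.AtPrime P] Localization.AtPrime P) := by
  let p : Ideal A := P.comap (algebraMap A B)
  haveI hp : p.IsPrime := Ideal.comap_isPrime _ _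
  haveI := H p
  haveI : Module.Flat A (Localization.AtPrime P ⊗[B] M) :=
    flat_tensor_of_flat A B (Localization.AtPrime P) M
  let kmap : p.ResidueField →ₐ[A] ResidueField (Localization.AtPrime P) :=
    Ideal.ResidueField.mapₐ p P (Algebra.ofId A B) rfl
  let θ : Localization.AtPrime P ⊗[A] p.ResidueField →ₐ[Localization.AtPrime P]
      ResidueField (Localization.AtPrime P) :=
    Algebra.TensorProduct.lift (Algebra.ofId _ _) kmap (fun _ _ => Commute.all _ _)
  let e1 := AlgebraTensorModule.cancelBaseChange B (B ⊗[A] p.ResidueField)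
    (Localization.AtPrime P ⊗[A] p.ResidueField) (Localization.AtPrime P ⊗[A] p.ResidueField) M
  let e2 := AlgebraTensorModule.cancelBaseChange B (Localization.AtPrime P)
    (Localization.AtPrime P ⊗[A] p.ResidueField) (Localization.AtPrime P ⊗[A] p.ResidueField) M
  haveI hinv : Module.Invertible (Localization.AtPrime P ⊗[A] p.ResidueField)
      ((Localization.AtPrime P ⊗[A] p.ResidueField) ⊗[Localization.AtPrime P]
        (Localization.AtPrime P ⊗[B] M)) :=
    Module.Invertible.congr (e1 ≪≫ₗ e2.symm)
  obtain ⟨e⟩ := nonempty_equiv_of_fibre (N := Localization.AtPrime P ⊗[B] M) θ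
  exact ⟨(LocalizedModule.equivTensorProduct P.primeCompl M) ≪≫ₗ e⟩

theorem invertible_of_fibres
    (H : ∀ (p : Ideal A) [p.IsPrime], Module.Invertible (B ⊗[A] p.ResidueField)
      ((B ⊗[A] p.ResidueField) ⊗[B] M)) : Module.Invertible B M := by
  haveI : Module.FinitePresentation B M := Module.finitePresentation_of_finite B M
  haveI : Module.Projective B M := Module.projective_of_localization_maximal (fun I hI => by
    haveI := hI.isPrime
    obtain ⟨e⟩ := nonempty_localized_equiv H I
    exact Module.Projective.of_equiv e.symm)
  apply Groth.Agent.Lib.Helper66.OT8.invertible_of_rank_one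
  intro q
  obtain ⟨e⟩ := nonempty_localized_equiv H q.asIdeal
  exact (LinearEquiv.finrank_eq e).trans (Module.finrank_self _)

end Groth.Agent.Lib.Helper52.FibInv2
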