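import Mathlib
import Groth.Prelude.Def_QFDual

set_option linter.style.haveILetI false
set_option linter.unusedSectionVars false
set_option autoImplicit false

namespace Groth.Agent.Lib.Helper52.QFBC1

open TensorProduct

universe u

/-- additive hom version of `toLinearMap` -/
def tlm (A B : Type u) [CommRing A] [CommRing B] [Algebra A B] :
    Disc.Omega A B →+ (B →ₗ[A] A) where
  toFun := Disc.Omega.toLinearMap
  map_zero' := rfl
  map_add' _ _ := rfl

theorem sum_toLinearMap {A B : Type u} [CommRing A] [CommRing B] [Algebra A B] {ι : Type u}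
    (s : Finset ι) (f : ι → Disc.Omega A B) :
    (∑ k ∈ s, f k).toLinearMap = ∑ k ∈ s, (f k).toLinearMap := map_sum (tlm A B) f s

section LemmaC

variable {R R₁ S S₁ T : Type u} [CommRing R] [CommRing R₁] [CommRing S] [CommRing S₁] [CommRing T]
  [Algebra R S] [Algebra R R₁] [Algebra S S₁] [Algebra R₁ S₁] [Algebra R S₁]
  [IsScalarTower R R₁ S₁] [IsScalarTower R S S₁]
  (hRR : Algebra.IsPushout R R₁ S S₁)
  [Algebra S₁ T] [Algebra S T] [IsScalarTower S S₁ T]
  (e : S) (he : algebraMap S T e = 1)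
  {ι : Type u} [Fintype ι] (x : ι → S) (φ : ι → (S →ₗ[R] R))
  (H1 : ∀ s, e * s = ∑ k, φ k s • x k) (H2 : ∀ k, e * x k = x k)
  (H3 : ∀ k s, φ k (e * s) = φ k s)

include H1 in
theorem smul_e_eq (ω : Disc.Omega R S) :
    e • ω = ∑ k, (algebraMap R S (ω.toLinearMap (x k))) • (⟨φ k⟩ : Disc.Omega R S) := by
  apply Disc.Omega.toLinearMap_injective
  apply LinearMap.ext
  intro s
  rw [Disc.Omega.smul_toLinearMap_apply, sum_toLinearMap, LinearMap.sum_apply, H1 s, map_sum]
  apply Finset.sum_congr rfl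
  intro k _
  rw [map_smul, Disc.Omega.smul_toLinearMap_apply]
  change _ = φ k (_ * s)
  rw [← Algebra.smul_def, map_smul, smul_eq_mul, smul_eq_mul, mul_comm]

include H3 in
theorem smul_e_phi (k : ι) : e • (⟨φ k⟩ : Disc.Omega R S) = ⟨φ k⟩ := by
  apply Disc.Omega.toLinearMap_injective
  apply LinearMap.ext
  intro s
  rw [Disc.Omega.smul_toLinearMap_apply]
  exact H3 k s

include H1 H3 in
theorem sum_shift (j : ι) (s : S) :
    ∑ k, (algebraMap R S (φ j (s * x k))) • (⟨φ k⟩ : Disc.Omega R S) = s • ⟨φ j⟩ := by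
  have h := smul_e_eq e x φ H1 (s • (⟨φ j⟩ : Disc.Omega R S))
  rw [smul_comm, smul_e_phi e φ H3] at h
  rw [h]
  rfl

theorem map_smul_right (r : R) (y : S₁) : r • y = algebraMap R R₁ r • y :=
  (IsScalarTower.algebraMap_smul R₁ r y).symm

include H1 in
theorem smul_e_eq₁ (ψ : Disc.Omega R₁ S₁) :
    (algebraMap S S₁ e) • ψ = ∑ k, (algebraMap R₁ S₁ (ψ.toLinearMap (algebraMap S S₁ (x k)))) •
      QFDual.bcFin hRR (⟨φ k⟩ : Disc.Omega R S) := by
  apply Disc.Omega.toLinearMap_injective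
  refine hRR.out.algHom_ext _ _ fun s => ?_
  change ((algebraMap S S₁ e) • ψ).toLinearMap (algebraMap S S₁ s) =
    (∑ k, (algebraMap R₁ S₁ (ψ.toLinearMap (algebraMap S S₁ (x k)))) •
      QFDual.bcFin hRR (⟨φ k⟩ : Disc.Omega R S)).toLinearMap (algebraMap S S₁ s)
  rw [Disc.Omega.smul_toLinearMap_apply, sum_toLinearMap, LinearMap.sum_apply, ← map_mul, H1 s,
    map_sum, map_sum]
  apply Finset.sum_congr rfl
  intro k _
  have hL : ψ.toLinearMap (algebraMap S S₁ (φ k s • x k)) =
      algebraMap R R₁ (φ k s) * ψ.toLinearMap (algebraMap S S₁ (x k)) := by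
    rw [Algebra.smul_def, map_mul, ← IsScalarTower.algebraMap_apply R S S₁,
      IsScalarTower.algebraMap_apply R R₁ S₁, ← Algebra.smul_def, map_smul, smul_eq_mul]
  have hR : ((algebraMap R₁ S₁ (ψ.toLinearMap (algebraMap S S₁ (x k)))) •
      QFDual.bcFin hRR (⟨φ k⟩ : Disc.Omega R S)).toLinearMap (algebraMap S S₁ s) =
      ψ.toLinearMap (algebraMap S S₁ (x k)) * algebraMap R R₁ (φ k s) := by
    rw [Disc.Omega.smul_toLinearMap_apply, ← Algebra.smul_def, map_smul,
      QFDual.bcFin_apply_algebraMap, smul_eq_mul]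
  rw [hL, hR, mul_comm]


include he H1 in
theorem omegaBC_surjective : Function.Surjective (QFDual.omegaBC (B₁ := T) hRR) := by
  rw [← LinearMap.range_eq_top, eq_top_iff]
  rintro z -
  induction z using TensorProduct.induction_on with
  | zero => exact Submodule.zero_mem _
  | add a b ha hb => exact Submodule.add_mem _ ha hb
  | tmul t ψ =>
    have h1 : t ⊗ₜ[S₁] ψ = t ⊗ₜ[S₁] ((algebraMap S S₁ e) • ψ) := by
      rw [← TensorProduct.smul_tmul, Algebra.smul_def, ← IsScalarTower.algebraMap_apply, he,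
        one_mul]
    rw [h1, smul_e_eq₁ hRR e x φ H1 ψ, TensorProduct.tmul_sum]
    apply Submodule.sum_mem
    intro k _
    rw [← TensorProduct.smul_tmul]
    exact ⟨(_ • t) ⊗ₜ[S] ⟨φ k⟩, rfl⟩

/-- the candidate inverse on the second factor -/
noncomputable def G₀ : Disc.Omega R₁ S₁ →+ T ⊗[S] Disc.Omega R S where
  toFun ψ := ∑ k, (algebraMap S₁ T (algebraMap R₁ S₁ (ψ.toLinearMap (algebraMap S S₁ (x k)))))
    ⊗ₜ[S] (⟨φ k⟩ : Disc.Omega R S)
  map_zero' := by simp
  map_add' ψ ψ' := by simp [add_tmul, Finset.sum_add_distrib]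

theorem G₀_apply (ψ : Disc.Omega R₁ S₁) :
    G₀ (T := T) x φ ψ =
      ∑ k, (algebraMap S₁ T (algebraMap R₁ S₁ (ψ.toLinearMap (algebraMap S S₁ (x k)))))
        ⊗ₜ[S] (⟨φ k⟩ : Disc.Omega R S) := rfl

theorem gamma_eq (r : R) :
    algebraMap S₁ T (algebraMap R₁ S₁ (algebraMap R R₁ r)) = algebraMap S T (algebraMap R S r) := by
  rw [← IsScalarTower.algebraMap_apply R R₁ S₁, IsScalarTower.algebraMap_apply R S S₁,
    ← IsScalarTower.algebraMap_apply S S₁ T]

theorem G₀_smul_base (r₁ : R₁) (ψ : Disc.Omega R₁ S₁) :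
    G₀ (T := T) x φ ((algebraMap R₁ S₁ r₁) • ψ) =
      algebraMap S₁ T (algebraMap R₁ S₁ r₁) • G₀ (T := T) x φ ψ := by
  rw [G₀_apply, G₀_apply, Finset.smul_sum]
  apply Finset.sum_congr rfl
  intro k _
  rw [Disc.Omega.smul_toLinearMap_apply, ← Algebra.smul_def, map_smul, smul_eq_mul, map_mul,
    map_mul, TensorProduct.smul_tmul', smul_eq_mul]

include hRR H1 H2 H3 in
theorem G₀_smul (s₁ : S₁) (ψ : Disc.Omega R₁ S₁) :
    G₀ (T := T) x φ (s₁ • ψ) = algebraMap S₁ T s₁ • G₀ (T := T) x φ ψ := by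
  have hbc := hRR.out
  induction s₁ using hbc.inductionOn with
  | zero => rw [zero_smul, map_zero, map_zero, zero_smul]
  | add a b ha hb => rw [add_smul, map_add, ha, hb, map_add, add_smul]
  | smul r₁ y hy =>
    rw [Algebra.smul_def, mul_smul, G₀_smul_base, hy, map_mul, mul_smul]
  | tmul s =>
    change G₀ (T := T) x φ ((algebraMap S S₁ s) • ψ) =
      algebraMap S₁ T (algebraMap S S₁ s) • G₀ (T := T) x φ ψ
    rw [← IsScalarTower.algebraMap_apply S S₁ T, G₀_apply, G₀_apply]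
    -- Step 1
    have step1 : ∀ k, ψ.toLinearMap (algebraMap S S₁ s * algebraMap S S₁ (x k)) =
        ∑ j, algebraMap R R₁ (φ j (s * x k)) * ψ.toLinearMap (algebraMap S S₁ (x j)) := by
      intro k
      have h2 : s * x k = ∑ j, φ j (s * x k) • x j := by
        rw [← H1, mul_left_comm, H2]
      rw [← map_mul]
      conv_lhs => rw [h2]
      rw [map_sum, map_sum]
      apply Finset.sum_congr rfl
      intro j _
      rw [Algebra.smul_def, map_mul, ← IsScalarTower.algebraMap_apply R S S₁,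
        IsScalarTower.algebraMap_apply R R₁ S₁, ← Algebra.smul_def, map_smul, smul_eq_mul]
    have step2 : ∀ k, (algebraMap S₁ T (algebraMap R₁ S₁
        (((algebraMap S S₁ s) • ψ).toLinearMap (algebraMap S S₁ (x k)))))
        ⊗ₜ[S] (⟨φ k⟩ : Disc.Omega R S) =
        ∑ j, (algebraMap S₁ T (algebraMap R₁ S₁ (ψ.toLinearMap (algebraMap S S₁ (x j)))))
          ⊗ₜ[S] ((algebraMap R S (φ j (s * x k))) • (⟨φ k⟩ : Disc.Omega R S)) := by
      intro k
      rw [Disc.Omega.smul_toLinearMap_apply, step1, map_sum, map_sum, TensorProduct.sum_tmul]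
      apply Finset.sum_congr rfl
      intro j _
      rw [map_mul, map_mul, gamma_eq (S := S),
        ← Algebra.smul_def (algebraMap R S (φ j (s * x k)))
          (algebraMap S₁ T (algebraMap R₁ S₁ (ψ.toLinearMap (algebraMap S S₁ (x j))))),
        TensorProduct.smul_tmul]
    rw [Finset.sum_congr rfl (fun k _ => step2 k), Finset.sum_comm, Finset.smul_sum]
    apply Finset.sum_congr rfl
    intro j _
    rw [← TensorProduct.tmul_sum, sum_shift e x φ H1 H3, ← TensorProduct.smul_tmul,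
      TensorProduct.smul_tmul', Algebra.smul_def, smul_eq_mul]


include hRR he H1 H2 H3 in
theorem omegaBC_injective : Function.Injective (QFDual.omegaBC (B₁ := T) hRR) := by
  let f : T →+ Disc.Omega R₁ S₁ →+ T ⊗[S] Disc.Omega R S :=
    AddMonoidHom.mk' (fun t =>
      (DistribSMul.toAddMonoidHom (T ⊗[S] Disc.Omega R S) t).comp (G₀ (T := T) x φ))
      (fun t t' => by
        ext ψ
        simp [add_smul])
  have hf : ∀ (s₁ : S₁) (t : T) (ψ : Disc.Omega R₁ S₁), f (s₁ • t) ψ = f t (s₁ • ψ) := by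
    intro s₁ t ψ
    change (s₁ • t) • G₀ (T := T) x φ ψ = t • G₀ (T := T) x φ (s₁ • ψ)
    rw [G₀_smul hRR e x φ H1 H2 H3, Algebra.smul_def, mul_comm, mul_smul]
  let G : T ⊗[S₁] Disc.Omega R₁ S₁ →+ T ⊗[S] Disc.Omega R S := TensorProduct.liftAddHom f hf
  have hG : ∀ z, G (QFDual.omegaBC (B₁ := T) hRR z) = z := by
    intro z
    induction z using TensorProduct.induction_on with
    | zero => rw [map_zero, map_zero]
    | add a b ha hb => rw [map_add, map_add, ha, hb]
    | tmul t ω =>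
      rw [QFDual.omegaBC_tmul]
      change t • G₀ (T := T) x φ (QFDual.bcFin hRR ω) = _
      rw [G₀_apply]
      have h1 : ∀ k, (algebraMap S₁ T (algebraMap R₁ S₁
          ((QFDual.bcFin hRR ω).toLinearMap (algebraMap S S₁ (x k))))) ⊗ₜ[S]
          (⟨φ k⟩ : Disc.Omega R S) =
          (1 : T) ⊗ₜ[S] ((algebraMap R S (ω.toLinearMap (x k))) • (⟨φ k⟩ : Disc.Omega R S)) := by
        intro k
        rw [QFDual.bcFin_apply_algebraMap, gamma_eq (S := S), ← TensorProduct.smul_tmul,
          Algebra.smul_def, mul_one]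
      rw [Finset.sum_congr rfl (fun k _ => h1 k), ← TensorProduct.tmul_sum,
        ← smul_e_eq e x φ H1 ω, ← TensorProduct.smul_tmul, Algebra.smul_def, he, mul_one,
        TensorProduct.smul_tmul', smul_eq_mul, mul_one]
  intro z z' hzz'
  rw [← hG z, ← hG z', hzz']

include hRR he H1 H2 H3 in
theorem omegaBC_bijective_of_idempotent : Function.Bijective (QFDual.omegaBC (B₁ := T) hRR) :=
  ⟨omegaBC_injective hRR e he x φ H1 H2 H3, omegaBC_surjective hRR e he x φ H1⟩

end LemmaC

end Groth.Agent.Lib.Helper52.QFBC1
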