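import Mathlib
import Groth.Prelude.Def_QFDual

set_option linter.style.haveILetI false
set_option linter.unusedSectionVars false
set_option autoImplicit false

namespace Groth.Agent.Lib.Helper52.QFBC2

open TensorProduct

universe u

section cover

variable {T : Type u} [CommRing T]

theorem subsingleton_of_flat_cover {K : Type u} [AddCommGroup K] [Module T K]
    (H : ∀ P : Ideal T, P.IsMaximal → ∃ (T' : Type u) (_ : CommRing T') (_ : Algebra T T')
        (_ : Module.Flat T T'), P.map (algebraMap T T') ≠ ⊤ ∧ Subsingleton (T' ⊗[T] K)) :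
    Subsingleton K := by
  by_contra hK
  rw [not_subsingleton_iff_nontrivial] at hK
  obtain ⟨x, hx⟩ := exists_ne (0 : K)
  let g : T →ₗ[T] K := LinearMap.toSpanSingleton T K x
  have hI : LinearMap.ker g ≠ ⊤ := by
    intro h
    have : (1 : T) ∈ LinearMap.ker g := by rw [h]; trivial
    rw [LinearMap.mem_ker, LinearMap.toSpanSingleton_apply, one_smul] at this
    exact hx this
  obtain ⟨P, hP, hIP⟩ := Ideal.exists_le_maximal (LinearMap.ker g) hI
  obtain ⟨T', _, _, _, hPT, hsub⟩ := H P hP
  apply hPT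
  rw [Ideal.eq_top_iff_one]
  have hmem : (1 : T') ⊗ₜ[T] (1 : T) ∈ LinearMap.ker (AlgebraTensorModule.lTensor T' T' g) := by
    rw [LinearMap.mem_ker]
    exact Subsingleton.elim _ _
  rw [Module.Flat.ker_lTensor_eq] at hmem
  obtain ⟨z, hz⟩ := hmem
  have key : ∀ z : T' ⊗[T] ↥(LinearMap.ker g),
      (TensorProduct.rid T T') (AlgebraTensorModule.lTensor T' T' (LinearMap.ker g).subtype z) ∈
        P.map (algebraMap T T') := by
    intro z
    induction z using TensorProduct.induction_on with
    | zero => simp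
    | tmul a k =>
      rw [AlgebraTensorModule.lTensor_tmul, TensorProduct.rid_tmul, Submodule.subtype_apply,
        Algebra.smul_def]
      exact Ideal.mul_mem_right _ _ (Ideal.mem_map_of_mem _ (hIP k.2))
    | add a b ha hb =>
      rw [map_add, map_add]
      exact Ideal.add_mem _ ha hb
  have := key z
  rw [hz, TensorProduct.rid_tmul, one_smul] at this
  exact this

theorem bijective_of_flat_cover {M N : Type u} [AddCommGroup M] [Module T M] [AddCommGroup N]
    [Module T N] (f : M →ₗ[T] N)
    (H : ∀ P : Ideal T, P.IsMaximal → ∃ (T' : Type u) (_ : CommRing T') (_ : Algebra T T')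
        (_ : Module.Flat T T'), P.map (algebraMap T T') ≠ ⊤ ∧
          Function.Bijective (LinearMap.lTensor T' f)) : Function.Bijective f := by
  constructor
  · rw [← LinearMap.ker_eq_bot]
    haveI : Subsingleton (LinearMap.ker f) := subsingleton_of_flat_cover (fun P hP => by
      obtain ⟨T', i1, i2, i3, hPT, hbij⟩ := H P hP
      refine ⟨T', i1, i2, i3, hPT, ?_⟩
      have hinj : Function.Injective (LinearMap.lTensor T' (LinearMap.ker f).subtype) :=
        Module.Flat.lTensor_preserves_injective_linearMap _ (Submodule.injective_subtype _)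
      have hzero : ∀ a, LinearMap.lTensor T' f (LinearMap.lTensor T' (LinearMap.ker f).subtype a)
          = 0 := by
        intro a
        rw [← LinearMap.comp_apply, ← LinearMap.lTensor_comp]
        have : f ∘ₗ (LinearMap.ker f).subtype = 0 := by
          ext k
          exact k.2
        rw [this, LinearMap.lTensor_zero]
        rfl
      refine ⟨fun a b => hinj (hbij.1 ?_)⟩
      rw [hzero, hzero])
    exact Submodule.eq_bot_of_subsingleton
  · rw [← LinearMap.range_eq_top]
    have hs : Subsingleton (N ⧸ LinearMap.range f) := subsingleton_of_flat_cover (fun P hP => by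
      obtain ⟨T', i1, i2, i3, hPT, hbij⟩ := H P hP
      refine ⟨T', i1, i2, i3, hPT, ?_⟩
      have hsurj : Function.Surjective (LinearMap.lTensor T' (LinearMap.range f).mkQ) :=
        LinearMap.lTensor_surjective _ (Submodule.mkQ_surjective _)
      have hzero : ∀ a, LinearMap.lTensor T' (LinearMap.range f).mkQ (LinearMap.lTensor T' f a)
          = 0 := by
        intro a
        rw [← LinearMap.comp_apply, ← LinearMap.lTensor_comp]
        have : (LinearMap.range f).mkQ ∘ₗ f = 0 := by
          ext m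
          simp
        rw [this, LinearMap.lTensor_zero]
        rfl
      refine ⟨fun a b => ?_⟩
      obtain ⟨a', rfl⟩ := hsurj a
      obtain ⟨b', rfl⟩ := hsurj b
      obtain ⟨a'', rfl⟩ := hbij.2 a'
      obtain ⟨b'', rfl⟩ := hbij.2 b'
      rw [hzero, hzero])
    exact Submodule.Quotient.subsingleton_iff.1 hs

end cover

section naturality

variable {A B' A₁ B'₁ : Type u} [CommRing A] [CommRing B'] [CommRing A₁] [CommRing B'₁]
  [Algebra A B'] [Algebra A A₁] [Algebra B' B'₁] [Algebra A₁ B'₁] [Algebra A B'₁]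
  [IsScalarTower A A₁ B'₁] [IsScalarTower A B' B'₁]
  (h : Algebra.IsPushout A A₁ B' B'₁)
  {B₁ T : Type u} [CommRing B₁] [CommRing T] [Algebra B'₁ B₁] [Algebra B' B₁]
  [IsScalarTower B' B'₁ B₁]
  [Algebra B₁ T] [Algebra B'₁ T] [Algebra B' T] [IsScalarTower B' B'₁ T] [IsScalarTower B' B₁ T]
  [IsScalarTower B'₁ B₁ T]

theorem lTensor_bijective (hT : Function.Bijective (QFDual.omegaBC (B₁ := T) h)) :
    Function.Bijective (LinearMap.lTensor T (QFDual.omegaBC (B₁ := B₁) h)) := by
  let c1 := AlgebraTensorModule.cancelBaseChange B' B₁ T T (Disc.Omega A B')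
  let c2 := AlgebraTensorModule.cancelBaseChange B'₁ B₁ T T (Disc.Omega A₁ B'₁)
  have hcomp : (QFDual.omegaBC (B₁ := T) h) ∘ c1 =
      c2 ∘ (LinearMap.lTensor T (QFDual.omegaBC (B₁ := B₁) h)) := by
    funext z
    induction z using TensorProduct.induction_on with
    | zero => simp
    | tmul t y =>
      induction y using TensorProduct.induction_on with
      | zero => simp
      | tmul b φ =>
        simp only [Function.comp_apply]
        rw [LinearMap.lTensor_tmul, QFDual.omegaBC_tmul]
        change QFDual.omegaBC (B₁ := T) h (c1 (t ⊗ₜ[B₁] (b ⊗ₜ[B'] φ))) =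
          c2 (t ⊗ₜ[B₁] (b ⊗ₜ[B'₁] QFDual.bcFin h φ))
        rw [AlgebraTensorModule.cancelBaseChange_tmul, QFDual.omegaBC_tmul,
          AlgebraTensorModule.cancelBaseChange_tmul]
      | add x y hx hy =>
        simp only [Function.comp_apply] at hx hy ⊢
        rw [tmul_add, map_add, map_add, hx, hy, map_add, map_add]
    | add x y hx hy =>
      simp only [Function.comp_apply] at hx hy ⊢
      rw [map_add, map_add, hx, hy, map_add, map_add]
  have h1 : Function.Bijective
      (c2 ∘ (LinearMap.lTensor T (QFDual.omegaBC (B₁ := B₁) h))) := by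
    rw [← hcomp]
    exact hT.comp c1.bijective
  exact (Function.Bijective.of_comp_iff' c2.bijective _).1 h1

end naturality

section cube

variable {A A₁ B' B'₁ R R₁ S S₁ T : Type u} [CommRing A] [CommRing A₁] [CommRing B']
  [CommRing B'₁] [CommRing R] [CommRing R₁] [CommRing S] [CommRing S₁] [CommRing T]
  [Algebra A B'] [Algebra A A₁] [Algebra B' B'₁] [Algebra A₁ B'₁] [Algebra A B'₁]
  [IsScalarTower A A₁ B'₁] [IsScalarTower A B' B'₁]
  (h : Algebra.IsPushout A A₁ B' B'₁)
  [Algebra A R] [Algebra B' S] [Algebra R S] [Algebra A S] [IsScalarTower A R S]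
  [IsScalarTower A B' S]
  (hR : Algebra.IsPushout A R B' S)
  [Algebra A₁ R₁] [Algebra B'₁ S₁] [Algebra R₁ S₁] [Algebra A₁ S₁] [IsScalarTower A₁ R₁ S₁]
  [IsScalarTower A₁ B'₁ S₁]
  (hR₁ : Algebra.IsPushout A₁ R₁ B'₁ S₁)
  [Algebra R R₁] [Algebra S S₁] [Algebra R S₁] [IsScalarTower R R₁ S₁] [IsScalarTower R S S₁]
  (hRR : Algebra.IsPushout R R₁ S S₁)
  (hc1 : ∀ a : A, algebraMap A₁ R₁ (algebraMap A A₁ a) = algebraMap R R₁ (algebraMap A R a))
  (hc2 : ∀ b : B', algebraMap B'₁ S₁ (algebraMap B' B'₁ b) = algebraMap S S₁ (algebraMap B' S b))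

include hc1 hc2 in
theorem bcFin_square (φ : Disc.Omega A B') :
    QFDual.bcFin hR₁ (QFDual.bcFin h φ) = QFDual.bcFin hRR (QFDual.bcFin hR φ) := by
  apply Disc.Omega.toLinearMap_injective
  refine hR₁.out.algHom_ext _ _ fun y => ?_
  change (QFDual.bcFin hR₁ (QFDual.bcFin h φ)).toLinearMap (algebraMap B'₁ S₁ y) =
    (QFDual.bcFin hRR (QFDual.bcFin hR φ)).toLinearMap (algebraMap B'₁ S₁ y)
  rw [QFDual.bcFin_apply_algebraMap]
  have hbc := h.out
  induction y using hbc.inductionOn with
  | zero => simp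
  | add y z hy hz => rw [map_add, map_add, map_add, map_add, hy, hz]
  | tmul b =>
    change algebraMap A₁ R₁ ((QFDual.bcFin h φ).toLinearMap (algebraMap B' B'₁ b)) =
      (QFDual.bcFin hRR (QFDual.bcFin hR φ)).toLinearMap
        (algebraMap B'₁ S₁ (algebraMap B' B'₁ b))
    rw [QFDual.bcFin_apply_algebraMap, hc2, QFDual.bcFin_apply_algebraMap,
      QFDual.bcFin_apply_algebraMap, hc1]
  | smul a₁ y hy =>
    have e1 : algebraMap B'₁ S₁ (a₁ • y) = (algebraMap A₁ R₁ a₁) • algebraMap B'₁ S₁ y := by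
      rw [Algebra.smul_def, map_mul, ← IsScalarTower.algebraMap_apply A₁ B'₁ S₁,
        IsScalarTower.algebraMap_apply A₁ R₁ S₁, ← Algebra.smul_def]
    have e2 : algebraMap A₁ R₁ ((QFDual.bcFin h φ).toLinearMap (a₁ • y)) =
        algebraMap A₁ R₁ a₁ * algebraMap A₁ R₁ ((QFDual.bcFin h φ).toLinearMap y) := by
      rw [map_smul, smul_eq_mul, map_mul]
    have e3 : (QFDual.bcFin hRR (QFDual.bcFin hR φ)).toLinearMap
        ((algebraMap A₁ R₁ a₁) • algebraMap B'₁ S₁ y) =
        algebraMap A₁ R₁ a₁ * (QFDual.bcFin hRR (QFDual.bcFin hR φ)).toLinearMap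
          (algebraMap B'₁ S₁ y) := by
      rw [map_smul, smul_eq_mul]
    rw [e1, e2, e3, hy]

variable [Algebra B' T] [Algebra B'₁ T] [Algebra S T] [Algebra S₁ T] [IsScalarTower B' B'₁ T]
  [IsScalarTower B' S T] [IsScalarTower B'₁ S₁ T] [IsScalarTower S S₁ T]

include hc1 hc2 in
theorem omegaBC_bijective_of_cube
    (b1 : Function.Bijective (QFDual.omegaBC (B₁ := T) hR))
    (b2 : Function.Bijective (QFDual.omegaBC (B₁ := T) hR₁))
    (b3 : Function.Bijective (QFDual.omegaBC (B₁ := T) hRR)) :
    Function.Bijective (QFDual.omegaBC (B₁ := T) h) := by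
  have hcomp : (QFDual.omegaBC (B₁ := T) hR₁) ∘ (QFDual.omegaBC (B₁ := T) h) =
      (QFDual.omegaBC (B₁ := T) hRR) ∘ (QFDual.omegaBC (B₁ := T) hR) := by
    funext z
    induction z using TensorProduct.induction_on with
    | zero => simp
    | tmul t φ =>
      simp only [Function.comp_apply]
      rw [QFDual.omegaBC_tmul, QFDual.omegaBC_tmul, QFDual.omegaBC_tmul, QFDual.omegaBC_tmul,
        bcFin_square h hR hR₁ hRR hc1 hc2]
    | add x y hx hy =>
      simp only [Function.comp_apply] at hx hy ⊢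
      rw [map_add, map_add, hx, hy, map_add, map_add]
  have h1 : Function.Bijective
      ((QFDual.omegaBC (B₁ := T) hR₁) ∘ (QFDual.omegaBC (B₁ := T) h)) := by
    rw [hcomp]
    exact b3.comp b1
  exact (Function.Bijective.of_comp_iff' b2 _).1 h1

end cube

end Groth.Agent.Lib.Helper52.QFBC2
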