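import Mathlib
import Groth.Prelude.Def_Disc
import Groth.Agent.Lib.Helper9.HenselSplit
import Groth.Agent.Lib.Helper52.DualFlatC

set_option linter.style.haveILetI false
set_option linter.unusedSectionVars false
set_option autoImplicit false

namespace Groth.Agent.Lib.Helper52.QFBC3

open TensorProduct IsLocalRing Groth.Agent.Lib.Helper52.DualFlatC

universe u

attribute [local instance] Algebra.TensorProduct.rightAlgebra

section aux

variable {A R B' : Type u} [CommRing A] [CommRing R] [Algebra A R] [Module.Flat A R]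
  [IsLocalRing R] [CommRing B'] [Algebra A B'] [Module.Finite A B']
  {D : Type u} [CommRing D] [IsLocalRing D] [Algebra R D] [Algebra B' D] [Algebra A D]
  [IsScalarTower A R D] [IsScalarTower A B' D] [Module.Finite R D]
  (π : R ⊗[A] B' →ₐ[R] D) (hπ : ∀ b : B', π (1 ⊗ₜ b) = algebraMap B' D b)
  (σ : D →ₗ[R] R ⊗[A] B') (hσπ : ∀ d, π (σ d) = d)
  (hσ : ∀ (s : R ⊗[A] B') (d : D), σ (π s * d) = s * σ d)

include hπ hσπ hσ in
set_option maxHeartbeats 1600000 in
theorem free_of_local_factor (Q : Ideal (R ⊗[A] B')) [hQ : Q.IsMaximal]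
    (hQD : (maximalIdeal D).comap π.toRingHom = Q)
    (C : Type u) [CommRing C] [Algebra B' C] [Algebra A C] [IsScalarTower A B' C]
    [IsLocalization.AtPrime C (Q.comap (algebraMap B' (R ⊗[A] B')))] [Module.Flat A C] :
    Module.Free R D := by
  set q' : Ideal B' := Q.comap (algebraMap B' (R ⊗[A] B')) with hq'
  have hπι : ∀ b : B', π (algebraMap B' (R ⊗[A] B') b) = algebraMap B' D b := fun b => hπ b
  -- units
  have hunit : ∀ b : B', b ∉ q' ↔ IsUnit (algebraMap B' D b) := by
    intro b
    rw [← hπι, ← IsLocalRing.notMem_maximalIdeal, hq', Ideal.mem_comap, ← hQD, Ideal.mem_comap]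
    rfl
  let f : C →+* D := IsLocalization.lift (M := q'.primeCompl) (g := algebraMap B' D)
    (fun y => (hunit y.1).1 y.2)
  letI : Algebra C D := f.toAlgebra
  have hf : ∀ b : B', algebraMap C D (algebraMap B' C b) = algebraMap B' D b := fun b =>
    IsLocalization.lift_eq _ b
  haveI : IsScalarTower B' C D := IsScalarTower.of_algebraMap_eq (fun b => (hf b).symm)
  haveI : IsScalarTower A C D := IsScalarTower.of_algebraMap_eq (fun a => by
    rw [IsScalarTower.algebraMap_apply A B' C, hf, ← IsScalarTower.algebraMap_apply A B' D])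
  -- flatness of D over R
  let j : R ⊗[A] B' →ₗ[R] R ⊗[A] C :=
    LinearMap.baseChange R (IsScalarTower.toAlgHom A B' C).toLinearMap
  let τ : R ⊗[A] C →ₗ[R] D := (IsScalarTower.toAlgHom A C D).toLinearMap.liftBaseChange R
  have hτj : ∀ s, τ (j s) = π s := by
    intro s
    induction s using TensorProduct.induction_on with
    | zero => simp
    | add x y hx hy => rw [map_add, map_add, map_add, hx, hy]
    | tmul r b =>
      change τ (r ⊗ₜ algebraMap B' C b) = _
      rw [LinearMap.liftBaseChange_tmul]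
      change r • algebraMap C D (algebraMap B' C b) = _
      rw [hf, ← hπ]
      rw [← map_smul, TensorProduct.smul_tmul', smul_eq_mul, mul_one]
  haveI : Module.Flat R (R ⊗[A] C) := inferInstance
  haveI : Module.Flat R D := Module.Flat.of_retract (j ∘ₗ σ) τ (by
    ext d
    change τ (j (σ d)) = d
    rw [hτj, hσπ])
  exact Module.free_of_flat_of_isLocalRing

end aux

section hens

variable {A R B' : Type u} [CommRing A] [CommRing R] [Algebra A R] [Module.Flat A R]
  [HenselianLocalRing R] [CommRing B'] [Algebra A B'] [Module.Finite A B']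

set_option maxHeartbeats 1600000 in
theorem exists_idempotent_coords (Q : Ideal (R ⊗[A] B')) [hQ : Q.IsMaximal]
    (C : Type u) [CommRing C] [Algebra B' C] [Algebra A C] [IsScalarTower A B' C]
    [IsLocalization.AtPrime C (Q.comap (algebraMap B' (R ⊗[A] B')))] [Module.Flat A C] :
    ∃ (e : R ⊗[A] B') (ι : Type u) (_ : Fintype ι) (x : ι → R ⊗[A] B')
      (φ : ι → (R ⊗[A] B' →ₗ[R] R)),
      e ∉ Q ∧ (∀ s, e * s = ∑ k, φ k s • x k) ∧ (∀ k, e * x k = x k) ∧
        (∀ k s, φ k (e * s) = φ k s) := by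
  obtain ⟨n, e, he, hloc⟩ :=
    Groth.Agent.Lib.Helper9.exists_completeOrthogonalIdempotents_of_finite (R := R)
      (R ⊗[A] B')
  obtain ⟨i, hi⟩ : ∃ i, e i ∉ Q := by
    by_contra hcon
    push Not at hcon
    have : (1 : R ⊗[A] B') ∈ Q := by
      rw [← he.complete]; exact Q.sum_mem (fun i _ => hcon i)
    exact hQ.ne_top ((Ideal.eq_top_iff_one _).2 this)
  have hidem : IsIdempotentElem (e i) := he.idem i
  have hmain : ∀ (ei : R ⊗[A] B'), IsIdempotentElem ei → ei ∉ Q →
      IsLocalRing ((R ⊗[A] B') ⧸ Ideal.span {1 - ei}) →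
      ∃ (ι : Type u) (_ : Fintype ι) (x : ι → R ⊗[A] B')
      (φ : ι → (R ⊗[A] B' →ₗ[R] R)),
      (∀ s, ei * s = ∑ k, φ k s • x k) ∧ (∀ k, ei * x k = x k) ∧
        (∀ k s, φ k (ei * s) = φ k s) := by
    clear hi hidem hloc he
    intro ei hidem hi hlocD
    let I : Ideal (R ⊗[A] B') := Ideal.span {1 - ei}
    haveI : IsLocalRing ((R ⊗[A] B') ⧸ I) := hlocD
    let π : R ⊗[A] B' →ₐ[R] ((R ⊗[A] B') ⧸ I) := Ideal.Quotient.mkₐ R I
    have hπe : π ei = 1 := by
      have h0 : π (1 - ei) = 0 :=
        Ideal.Quotient.eq_zero_iff_mem.2 (Ideal.mem_span_singleton_self _)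
      rw [map_sub, map_one, sub_eq_zero] at h0
      exact h0.symm
    have hIker : I ≤ LinearMap.ker (LinearMap.mulLeft (R ⊗[A] B') ei) := by
      change Submodule.span (R ⊗[A] B') {1 - ei} ≤ _
      rw [Submodule.span_le]
      rintro _ rfl
      change ei * (1 - ei) = 0
      rw [mul_sub, mul_one, hidem.eq, sub_self]
    let σS : ((R ⊗[A] B') ⧸ I) →ₗ[R ⊗[A] B'] (R ⊗[A] B') :=
      Submodule.liftQ I (LinearMap.mulLeft (R ⊗[A] B') ei) hIker
    have hσS : ∀ s : R ⊗[A] B', σS (Ideal.Quotient.mk I s) = ei * s := fun s => rfl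
    let σ : ((R ⊗[A] B') ⧸ I) →ₗ[R] (R ⊗[A] B') := σS.restrictScalars R
    have hσπ : ∀ d, π (σ d) = d := by
      intro d
      obtain ⟨s, rfl⟩ := Ideal.Quotient.mk_surjective d
      change π (σS (Ideal.Quotient.mk I s)) = _
      rw [hσS, map_mul, hπe, one_mul]
      rfl
    have hσ : ∀ s d, σ (π s * d) = s * σ d := by
      intro s d
      obtain ⟨s', rfl⟩ := Ideal.Quotient.mk_surjective d
      change σS (Ideal.Quotient.mk I s * Ideal.Quotient.mk I s') =
        s * σS (Ideal.Quotient.mk I s')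
      rw [← map_mul, hσS, hσS]
      ring
    have hπ : ∀ b : B', π (1 ⊗ₜ b) = algebraMap B' ((R ⊗[A] B') ⧸ I) b := fun b => rfl
    have hIQ : I ≤ Q := by
      change Ideal.span {1 - ei} ≤ Q
      rw [Ideal.span_singleton_le_iff_mem]
      have : ei * (1 - ei) ∈ Q := by
        rw [mul_sub, mul_one, hidem.eq, sub_self]; exact Q.zero_mem
      exact (hQ.isPrime.mem_or_mem this).resolve_left hi
    have hQD : (maximalIdeal ((R ⊗[A] B') ⧸ I)).comap π.toRingHom = Q := by
      have hmapmax : (Q.map (Ideal.Quotient.mk I)).IsMaximal := by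
        rcases Ideal.map_eq_top_or_isMaximal_of_surjective (Ideal.Quotient.mk I)
          Ideal.Quotient.mk_surjective hQ with h | h
        · exfalso
          have := Ideal.comap_map_mk hIQ
          rw [h, Ideal.comap_top] at this
          exact hQ.ne_top this.symm
        · exact h
      rw [← IsLocalRing.eq_maximalIdeal hmapmax]
      exact Ideal.comap_map_mk hIQ
    haveI : Module.Free R ((R ⊗[A] B') ⧸ I) := free_of_local_factor π hπ σ hσπ hσ Q hQD C
    let b := Module.Free.chooseBasis R ((R ⊗[A] B') ⧸ I)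
    have hσπ' : ∀ s, σ (π s) = ei * s := fun s => hσS s
    refine ⟨Module.Free.ChooseBasisIndex R ((R ⊗[A] B') ⧸ I), inferInstance,
      fun k => σ (b k), fun k => (b.coord k) ∘ₗ π.toLinearMap, ?_, ?_, ?_⟩
    · intro s
      rw [← hσπ' s]
      conv_lhs => rw [← b.sum_repr (π s)]
      rw [map_sum]
      apply Finset.sum_congr rfl
      intro k _
      rw [map_smul]
      rfl
    · intro k
      rw [← hσπ', hσπ]
    · intro k s
      change b.coord k (π (ei * s)) = b.coord k (π s)
      rw [map_mul, hπe, one_mul]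
  obtain ⟨ι, hι, x, φ, h1, h2, h3⟩ := hmain (e i) hidem hi (hloc i)
  exact ⟨e i, ι, hι, x, φ, hi, h1, h2, h3⟩

end hens

end Groth.Agent.Lib.Helper52.QFBC3
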