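import Mathlib
import Groth.Prelude.Def_QFDual
import Groth.Agent.Lib.Helper94.QFDualLib
import Groth.Agent.Lib.Helper52.DualFlatE
import Groth.Agent.Lib.Helper52.QFBC1
import Groth.Agent.Lib.Helper52.QFBC2
import Groth.Agent.Lib.Helper52.QFBC3
import Groth.Agent.Lib.Helper52.QFBC4

set_option linter.style.haveILetI false
set_option linter.unusedSectionVars false
set_option autoImplicit false

namespace Groth.Agent.Lib.Helper52.QFBC5

open TensorProduct IsLocalRing Groth.Agent.Lib.Helper52.QFBC4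

universe u

attribute [local instance] Algebra.TensorProduct.rightAlgebra
attribute [local instance 50] tmapAlg tswapAlg

section partI

variable {A A₁ B' B'₁ B₁ R : Type u} [CommRing A] [CommRing A₁] [CommRing B'] [CommRing B'₁]
  [CommRing B₁] [CommRing R]
  [Algebra A B'] [Algebra A A₁] [Algebra B' B'₁] [Algebra A₁ B'₁] [Algebra A B'₁]
  [IsScalarTower A A₁ B'₁] [IsScalarTower A B' B'₁]
  [Algebra A B₁] [Algebra B'₁ B₁] [Algebra B' B₁] [IsScalarTower B' B'₁ B₁]
  [IsScalarTower A B' B₁] [IsScalarTower A B'₁ B₁]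
  [Algebra A R] [Module.Flat A R] [HenselianLocalRing R]
  [Module.Finite A B'] [Module.FinitePresentation A B'] [Module.FinitePresentation A₁ B'₁]

set_option maxHeartbeats 1600000 in
theorem omegaBC_bijective_local (h : Algebra.IsPushout A A₁ B' B'₁)
    (𝔑 : Ideal (B₁ ⊗[A] R)) [h𝔑 : 𝔑.IsPrime]
    (h𝔑R : 𝔑.comap (algebraMap R (B₁ ⊗[A] R)) = maximalIdeal R)
    (q' : Ideal B') [hq' : q'.IsPrime] (hq : 𝔑.comap (algebraMap B' (B₁ ⊗[A] R)) = q')
    (C : Type u) [CommRing C] [Algebra B' C] [Algebra A C] [IsScalarTower A B' C]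
    [hC : IsLocalization.AtPrime C q'] [Module.Flat A C] :
    Function.Bijective (QFDual.omegaBC (B₁ := Localization.AtPrime 𝔑) h) := by
  -- the maximal ideal Q of S
  let Q : Ideal (R ⊗[A] B') := 𝔑.comap (algebraMap (R ⊗[A] B') (B₁ ⊗[A] R))
  haveI hQp : Q.IsPrime := Ideal.comap_isPrime _ _
  have hQR : Q.comap (algebraMap R (R ⊗[A] B')) = maximalIdeal R := by
    rw [← h𝔑R, Ideal.comap_comap, ← IsScalarTower.algebraMap_eq]
  haveI : Algebra.IsIntegral R (R ⊗[A] B') := inferInstance
  haveI hQ : Q.IsMaximal := Ideal.isMaximal_of_isIntegral_of_isMaximal_comap (R := R) Q (by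
    rw [hQR]; exact maximalIdeal.isMaximal R)
  have hQB : Q.comap (algebraMap B' (R ⊗[A] B')) = q' := by
    rw [← hq, Ideal.comap_comap, ← IsScalarTower.algebraMap_eq]
  subst hQB
  obtain ⟨e, ι, hι, x, φ, heQ, H1, H2, H3⟩ := QFBC3.exists_idempotent_coords Q C
  -- the image of e in T is 1
  have hidem : IsIdempotentElem e := by
    have := H1 e
    change e * e = e
    have h2 : e * e = ∑ k, φ k e • x k := H1 e
    have h3 : e * 1 = ∑ k, φ k 1 • x k := H1 1
    have h4 : ∀ k, φ k e = φ k 1 := fun k => by rw [← H3 k 1, mul_one]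
    rw [h2, Finset.sum_congr rfl (fun k _ => by rw [h4 k]), ← h3, mul_one]
  have he : algebraMap (R ⊗[A] B') (Localization.AtPrime 𝔑) e = 1 := by
    have hu : IsUnit (algebraMap (R ⊗[A] B') (Localization.AtPrime 𝔑) e) := by
      rw [IsScalarTower.algebraMap_apply (R ⊗[A] B') (B₁ ⊗[A] R) (Localization.AtPrime 𝔑)]
      exact IsLocalization.map_units (Localization.AtPrime 𝔑)
        (⟨algebraMap (R ⊗[A] B') (B₁ ⊗[A] R) e, heQ⟩ : 𝔑.primeCompl)
    have hi : IsIdempotentElem (algebraMap (R ⊗[A] B') (Localization.AtPrime 𝔑) e) :=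
      hidem.map _
    exact (IsIdempotentElem.iff_eq_one_of_isUnit hu).1 hi
  have hR : Algebra.IsPushout A R B' (R ⊗[A] B') := inferInstance
  have hR₁ : Algebra.IsPushout A₁ (A₁ ⊗[A] R) B'₁ (B'₁ ⊗[A] R) := (isPushout_tmap A₁ B'₁).symm
  have hRR : Algebra.IsPushout R (A₁ ⊗[A] R) (R ⊗[A] B') (B'₁ ⊗[A] R) := isPushout_cube h
  refine QFBC2.omegaBC_bijective_of_cube h hR hR₁ hRR ?_ ?_ ?_ ?_ ?_
  · intro a
    rw [Algebra.TensorProduct.algebraMap_apply, Algebra.TensorProduct.right_algebraMap_apply,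
      Algebra.algebraMap_self, RingHom.id_apply, Algebra.algebraMap_eq_smul_one,
      Algebra.algebraMap_eq_smul_one (A := R), TensorProduct.smul_tmul]
  · intro b
    rw [tswap_algebraMap, Algebra.TensorProduct.right_algebraMap_apply, tswapHom_tmul,
      Algebra.TensorProduct.algebraMap_apply, Algebra.algebraMap_self, RingHom.id_apply]
  · exact Groth.Agent.Lib.Helper94.QFDualLib.omegaBC_bijective hR
      (Groth.Agent.Lib.Helper94.QFDualLib.isBaseChange_toDual_of_flat hR) _
  · exact Groth.Agent.Lib.Helper94.QFDualLib.omegaBC_bijective hR₁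
      (Groth.Agent.Lib.Helper94.QFDualLib.isBaseChange_toDual_of_flat hR₁) _
  · exact QFBC1.omegaBC_bijective_of_idempotent hRR e he x φ H1 H2 H3

end partI


section partII

open Groth.Agent.Lib.Helper52.DualFlatD Groth.Agent.Lib.Helper52.DualFlatE

set_option maxHeartbeats 1600000 in
set_option synthInstance.maxHeartbeats 400000 in
theorem omegaBC_bijective_of_flat (A B' B A₁ B'₁ B₁ : Type u) [CommRing A] [CommRing B']
    [CommRing B] [CommRing A₁] [CommRing B'₁] [CommRing B₁] [IsNoetherianRing A]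
    [IsNoetherianRing A₁] [Algebra A B'] [Algebra B' B] [Algebra A B]
    [IsScalarTower A B' B] [Module.Flat A B] (hf : QFDual.IsQFFactor A B' B) [Algebra A A₁]
    [Algebra B' B'₁] [Algebra A₁ B'₁] [Algebra A B'₁] [IsScalarTower A A₁ B'₁]
    [IsScalarTower A B' B'₁] (h : Algebra.IsPushout A A₁ B' B'₁) [Algebra B B₁] [Algebra A₁ B₁]
    [Algebra A B₁] [IsScalarTower A A₁ B₁] [IsScalarTower A B B₁]
    [Algebra B'₁ B₁] [Algebra B' B₁] [IsScalarTower B' B'₁ B₁] [IsScalarTower B' B B₁]
    [IsScalarTower A₁ B'₁ B₁] :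
    Function.Bijective (QFDual.omegaBC (B₁ := B₁) h) := by
  haveI := hf.finite
  haveI : Module.FinitePresentation A B' := Module.finitePresentation_of_finite A B'
  haveI : Module.Finite A₁ B'₁ := Module.Finite.equiv h.out.equiv
  haveI : Module.FinitePresentation A₁ B'₁ := Module.finitePresentation_of_finite A₁ B'₁
  haveI tw1 : IsScalarTower A B' B₁ := IsScalarTower.of_algebraMap_eq (fun a => by
    rw [IsScalarTower.algebraMap_apply A B B₁, IsScalarTower.algebraMap_apply A B' B,
      ← IsScalarTower.algebraMap_apply B' B B₁])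
  haveI tw2 : IsScalarTower A B'₁ B₁ := IsScalarTower.of_algebraMap_eq (fun a => by
    rw [IsScalarTower.algebraMap_apply A A₁ B₁, IsScalarTower.algebraMap_apply A₁ B'₁ B₁,
      ← IsScalarTower.algebraMap_apply A A₁ B'₁])
  apply QFBC2.bijective_of_flat_cover
  intro P₁ hP₁
  haveI hP₁p : P₁.IsPrime := hP₁.isPrime
  let p : Ideal A := P₁.comap (algebraMap A B₁)
  haveI hp : p.IsPrime := Ideal.comap_isPrime _ _
  let R₀ := Localization.AtPrime p
  let Rh := AdicCompletion (maximalIdeal R₀) R₀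
  haveI : Module.Flat A Rh := Module.Flat.trans A R₀ Rh
  haveI : HenselianLocalRing Rh := henselianLocalRing_of_complete Rh
  have hbij : Function.Bijective (ResidueField.map (algebraMap R₀ Rh)) :=
    AdicCompletion.residueField_map_bijective_of_fg (IsNoetherian.noetherian _)
  let e : ResidueField R₀ ≃+* ResidueField Rh := RingEquiv.ofBijective _ hbij
  let k : p.ResidueField →ₐ[A] P₁.ResidueField :=
    Ideal.ResidueField.mapₐ p P₁ (Algebra.ofId A B₁) rfl
  let g₁ : Rh →+* P₁.ResidueField :=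
    k.toRingHom.comp (e.symm.toRingHom.comp (residue Rh))
  have hg₁ : RingHom.ker g₁ = maximalIdeal Rh := by
    ext x
    rw [RingHom.mem_ker]
    change k (e.symm (residue Rh x)) = 0 ↔ _
    rw [map_eq_zero_iff k k.toRingHom.injective, map_eq_zero_iff e.symm e.symm.injective,
      IsLocalRing.residue_eq_zero_iff]
  have hcomp : ∀ a : A, g₁ (algebraMap A Rh a) = algebraMap A P₁.ResidueField a := by
    intro a
    change k (e.symm (residue Rh (algebraMap A Rh a))) = _
    have h1 : residue Rh (algebraMap A Rh a) = e (residue R₀ (algebraMap A R₀ a)) := by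
      rw [IsScalarTower.algebraMap_apply A R₀ Rh]
      rfl
    rw [h1, RingEquiv.symm_apply_apply]
    have h2 : residue R₀ (algebraMap A R₀ a) = algebraMap A p.ResidueField a := rfl
    rw [h2, AlgHom.commutes]
  let g₁' : Rh →ₐ[A] P₁.ResidueField := { g₁ with commutes' := fun a => hcomp a }
  let hE : B₁ ⊗[A] Rh →ₐ[A] P₁.ResidueField :=
    Algebra.TensorProduct.productMap (IsScalarTower.toAlgHom A B₁ P₁.ResidueField) g₁'
  let 𝔑 : Ideal (B₁ ⊗[A] Rh) := RingHom.ker hE.toRingHom
  haveI h𝔑p : 𝔑.IsPrime := RingHom.ker_isPrime hE.toRingHom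
  have h𝔑B : 𝔑.comap (algebraMap B₁ (B₁ ⊗[A] Rh)) = P₁ := by
    rw [← Ideal.ker_algebraMap_residueField P₁]
    ext b
    rw [Ideal.mem_comap, RingHom.mem_ker, RingHom.mem_ker]
    change hE (algebraMap B₁ (B₁ ⊗[A] Rh) b) = 0 ↔ _
    rw [Algebra.TensorProduct.algebraMap_apply, Algebra.algebraMap_self, RingHom.id_apply,
      Algebra.TensorProduct.productMap_left_apply]
    rfl
  have h𝔑R : 𝔑.comap (algebraMap Rh (B₁ ⊗[A] Rh)) = maximalIdeal Rh := by
    rw [← hg₁]
    ext r
    rw [Ideal.mem_comap, RingHom.mem_ker, RingHom.mem_ker]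
    change hE ((1 : B₁) ⊗ₜ r) = 0 ↔ _
    rw [Algebra.TensorProduct.productMap_right_apply]
    rfl
  let P : Ideal B := P₁.comap (algebraMap B B₁)
  haveI hPp : P.IsPrime := Ideal.comap_isPrime _ _
  haveI := isLocalization_atPrime_of_isOpenImmersion hf.isOpenImmersion P
  haveI : Module.Flat A (Localization.AtPrime P) := Module.Flat.trans A B _
  have hq : 𝔑.comap (algebraMap B' (B₁ ⊗[A] Rh)) = P.comap (algebraMap B' B) := by
    rw [IsScalarTower.algebraMap_eq B' B₁ (B₁ ⊗[A] Rh), ← Ideal.comap_comap, h𝔑B,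
      Ideal.comap_comap, ← IsScalarTower.algebraMap_eq]
  have hmain := omegaBC_bijective_local h 𝔑 h𝔑R (P.comap (algebraMap B' B)) hq
    (Localization.AtPrime P)
  haveI : Module.Flat B₁ (Localization.AtPrime 𝔑) :=
    Module.Flat.trans B₁ (B₁ ⊗[A] Rh) (Localization.AtPrime 𝔑)
  refine ⟨Localization.AtPrime 𝔑, inferInstance, inferInstance, inferInstance, ?_, ?_⟩
  · intro htop
    have hle : P₁.map (algebraMap B₁ (Localization.AtPrime 𝔑)) ≤
        maximalIdeal (Localization.AtPrime 𝔑) := by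
      rw [Ideal.map_le_iff_le_comap]
      intro b hb
      rw [Ideal.mem_comap,
        IsScalarTower.algebraMap_apply B₁ (B₁ ⊗[A] Rh) (Localization.AtPrime 𝔑),
        IsLocalization.AtPrime.to_map_mem_maximal_iff (Localization.AtPrime 𝔑) 𝔑]
      rw [← h𝔑B] at hb
      exact hb
    rw [htop] at hle
    exact (maximalIdeal.isMaximal (Localization.AtPrime 𝔑)).ne_top (top_le_iff.1 hle)
  · exact QFBC2.lTensor_bijective h hmain

end partII

end Groth.Agent.Lib.Helper52.QFBC5
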