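import Mathlib
import Groth.Prelude.Def_QFDual
import Groth.Agent.Lib.Helper94.QFDualLib
import Groth.Agent.Lib.Helper52.DualFlatE
import Groth.Agent.Lib.Helper52.QFBC5
import Groth.Agent.Lib.Helper52.FibInv2

set_option linter.style.haveILetI false
set_option linter.unusedSectionVars false
set_option autoImplicit false

namespace Groth.Agent.Lib.Helper52.FibInv3

open TensorProduct IsLocalRing Groth.Agent.Lib.Helper52.QFBC4 Groth.Agent.Lib.Helper52.FibInv2

universe u

attribute [local instance] Algebra.TensorProduct.rightAlgebra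
attribute [local instance 50] tmapAlg tswapAlg

section finite

open Groth.Agent.Lib.Helper94.QFDualLib

attribute [local instance 10] omegaModule

theorem finite_omega (A B' : Type u) [CommRing A] [CommRing B'] [IsNoetherianRing A]
    [Algebra A B'] [Module.Finite A B'] : Module.Finite B' (Disc.Omega A B') := by
  haveI : Module.Finite A (Disc.Omega A B') :=
    Module.Finite.equiv (omegaToDual (A := A) (B' := B')).symm
  exact Module.Finite.of_restrictScalars_finite A B' (Disc.Omega A B')

end finite

section main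

variable (A B' B : Type u) [CommRing A] [CommRing B'] [CommRing B] [IsNoetherianRing A]
  [IsNoetherianRing B] [Algebra A B'] [Algebra B' B] [Algebra A B] [IsScalarTower A B' B]
  [Module.Flat A B]

/-- forward direction, general presentation of the fibre -/
theorem invertible_fibre (hf : QFDual.IsQFFactor A B' B)
    [hinv : Module.Invertible B (QFDual.omega A B' B)]
    (A₁ B'₁ B₁ : Type u) [CommRing A₁] [IsNoetherianRing A₁] [CommRing B'₁] [CommRing B₁]
    [Algebra A A₁] [Algebra B' B'₁] [Algebra A₁ B'₁] [Algebra A B'₁]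
    [IsScalarTower A A₁ B'₁] [IsScalarTower A B' B'₁] [Algebra B B₁]
    [Algebra A₁ B₁] [Algebra A B₁] [IsScalarTower A A₁ B₁]
    [IsScalarTower A B B₁] [Algebra B'₁ B₁] [Algebra B' B₁] [IsScalarTower B' B'₁ B₁]
    [IsScalarTower B' B B₁] [IsScalarTower A₁ B'₁ B₁]
    (h : Algebra.IsPushout A A₁ B' B'₁) :
    Module.Invertible B₁ (QFDual.omega A₁ B'₁ B₁) := by
  have hbij := Groth.Agent.Lib.Helper52.QFBC5.omegaBC_bijective_of_flat A B' B A₁ B'₁ B₁ hf h
  let e0 := AlgebraTensorModule.cancelBaseChange B' B B₁ B₁ (Disc.Omega A B')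
  haveI : Module.Invertible B₁ (B₁ ⊗[B] (B ⊗[B'] Disc.Omega A B')) := inferInstance
  exact Module.Invertible.congr (e0 ≪≫ₗ LinearEquiv.ofBijective (QFDual.omegaBC (B₁ := B₁) h) hbij)

set_option maxHeartbeats 1600000 in
set_option synthInstance.maxHeartbeats 400000 in
/-- backward direction, with the tensor model of the fibres -/
theorem invertible_of_fibre_model (hf : QFDual.IsQFFactor A B' B)
    (H : ∀ (p : Ideal A) [p.IsPrime], Module.Invertible (B ⊗[A] p.ResidueField)
      (QFDual.omega p.ResidueField (B' ⊗[A] p.ResidueField) (B ⊗[A] p.ResidueField))) :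
    Module.Invertible B (QFDual.omega A B' B) := by
  haveI := hf.finite
  haveI := finite_omega A B'
  haveI : Module.Flat A (B ⊗[B'] Disc.Omega A B') :=
    Groth.Agent.Lib.Helper52.DualFlatE.flat_omega_baseChange A B B' hf.isOpenImmersion
  apply invertible_of_fibres (A := A) (B := B) (M := B ⊗[B'] Disc.Omega A B')
  intro p hp
  haveI := H p
  have h : Algebra.IsPushout A p.ResidueField B' (B' ⊗[A] p.ResidueField) := inferInstance
  have hbij := Groth.Agent.Lib.Helper52.QFBC5.omegaBC_bijective_of_flat A B' B p.ResidueField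
    (B' ⊗[A] p.ResidueField) (B ⊗[A] p.ResidueField) hf h
  let e0 := AlgebraTensorModule.cancelBaseChange B' B (B ⊗[A] p.ResidueField)
    (B ⊗[A] p.ResidueField) (Disc.Omega A B')
  exact Module.Invertible.congr
    ((LinearEquiv.ofBijective (QFDual.omegaBC (B₁ := B ⊗[A] p.ResidueField) h) hbij).symm ≪≫ₗ
      e0.symm)

end main

end Groth.Agent.Lib.Helper52.FibInv3
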