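import Mathlib

/-!
# Fibre ranks of finite modules

Helper library (helper52).
* `fr M p` : the dimension of `κ(p) ⊗ M` over `κ(p)`.
* `upperSemicontinuous_fr` : for a finite module the fibre rank is upper semicontinuous.
* `projective_of_isLocallyConstant_fr` : over a reduced ring a finite module with locally
  constant fibre rank is projective.
-/

set_option autoImplicit false
open scoped TensorProduct

namespace Groth.Agent.Lib.Helper52.FibreRank

variable {R : Type*} [CommRing R]

/-- The fibre rank of a module at a prime. -/
noncomputable abbrev fr (M : Type*) [AddCommGroup M] [Module R M] (p : PrimeSpectrum R) : ℕ :=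
  Module.finrank p.asIdeal.ResidueField (p.asIdeal.ResidueField ⊗[R] M)

section field
variable (K : Type*) [Field K] [Algebra R K] {M : Type*} [AddCommGroup M] [Module R M]

lemma span_one_tmul_eq_top :
    Submodule.span K (Set.range fun m : M => (1 : K) ⊗ₜ[R] m) = ⊤ := by
  rw [eq_top_iff]
  rintro t -
  induction t using TensorProduct.induction_on with
  | zero => exact zero_mem _
  | tmul a m =>
    have : a ⊗ₜ[R] m = a • ((1 : K) ⊗ₜ[R] m) := by
      rw [TensorProduct.smul_tmul', smul_eq_mul, mul_one]
    rw [this]
    exact Submodule.smul_mem _ _ (Submodule.subset_span ⟨m, rfl⟩)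
  | add x y hx hy => exact add_mem hx hy

/-- There are `finrank K (K ⊗ M)` elements of `M` whose images span the fibre. -/
lemma exists_fin_span_fibre [Module.Finite R M] :
    ∃ x : Fin (Module.finrank K (K ⊗[R] M)) → M,
      Submodule.span K (Set.range fun i => (1 : K) ⊗ₜ[R] x i) = ⊤ := by
  have hspan : ⊤ ≤ Submodule.span K (Set.range fun m : M => (1 : K) ⊗ₜ[R] m) :=
    (span_one_tmul_eq_top K).ge
  let b := Module.Basis.ofSpan hspan
  have : Fintype _ := FiniteDimensional.fintypeBasisIndex b
  have hcard := Module.finrank_eq_card_basis b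
  let e := Fintype.equivFinOfCardEq hcard.symm
  have hsub : ∀ i, ∃ m : M, (1 : K) ⊗ₜ[R] m = b i := fun i =>
    Module.Basis.ofSpan_subset hspan ⟨i, rfl⟩
  choose y hy using hsub
  refine ⟨fun j => y (e.symm j), ?_⟩
  have : Set.range (fun j => (1 : K) ⊗ₜ[R] y (e.symm j)) = Set.range b := by
    ext t
    constructor
    · rintro ⟨j, rfl⟩
      exact ⟨e.symm j, (hy _).symm⟩
    · rintro ⟨i, rfl⟩
      exact ⟨e i, by simp [hy]⟩
  rw [this, b.span_eq]

end field

section local_gen
variable {M : Type*} [AddCommGroup M] [Module R M]

/-- If the images of `x i` span the fibre at `p` of a finite module then they generate `M` up to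
multiplication by some `f ∉ p`. -/
lemma exists_smul_mem_span [Module.Finite R M] (p : PrimeSpectrum R) {ι : Type*} (x : ι → M)
    (hx : Submodule.span p.asIdeal.ResidueField
      (Set.range fun i => (1 : p.asIdeal.ResidueField) ⊗ₜ[R] x i) = ⊤) :
    ∃ f : R, f ∉ p.asIdeal ∧ ∀ m : M, f • m ∈ Submodule.span R (Set.range x) := by
  set N := Submodule.span R (Set.range x) with hN
  have h1 : ¬ Nontrivial (p.asIdeal.ResidueField ⊗[R] (M ⧸ N)) := by
    rw [not_nontrivial_iff_subsingleton]
    have hsurj : Function.Surjective (N.mkQ.baseChange p.asIdeal.ResidueField) :=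
      LinearMap.lTensor_surjective _ N.mkQ_surjective
    have hzero : N.mkQ.baseChange p.asIdeal.ResidueField = 0 := by
      rw [← LinearMap.ker_eq_top, eq_top_iff, ← hx, Submodule.span_le]
      rintro _ ⟨i, rfl⟩
      have : N.mkQ (x i) = 0 := by
        rw [Submodule.mkQ_apply, Submodule.Quotient.mk_eq_zero]
        exact Submodule.subset_span ⟨i, rfl⟩
      simp only [SetLike.mem_coe, LinearMap.mem_ker, LinearMap.baseChange_tmul, this,
        TensorProduct.tmul_zero]
    constructor
    intro a b
    obtain ⟨a, rfl⟩ := hsurj a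
    obtain ⟨b, rfl⟩ := hsurj b
    simp [hzero]
  rw [← Module.mem_support_iff_nontrivial_residueField_tensorProduct,
    Module.support_eq_zeroLocus, PrimeSpectrum.mem_zeroLocus, Set.not_subset] at h1
  obtain ⟨f, hf1, hf2⟩ := h1
  refine ⟨f, hf2, fun m => ?_⟩
  have := Module.mem_annihilator.mp hf1 (N.mkQ m)
  rw [← map_smul, Submodule.mkQ_apply, Submodule.Quotient.mk_eq_zero] at this
  exact this

/-- If `f • M ⊆ range φ` and `f` is invertible in the field `K` then `φ ⊗ K` is surjective. -/
lemma baseChange_surjective_of_smul_mem (K : Type*) [Field K] [Algebra R K]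
    {F : Type*} [AddCommGroup F] [Module R F] (φ : F →ₗ[R] M) (f : R)
    (hf : algebraMap R K f ≠ 0) (h : ∀ m : M, f • m ∈ LinearMap.range φ) :
    Function.Surjective (φ.baseChange K) := by
  rw [← LinearMap.range_eq_top, eq_top_iff, ← span_one_tmul_eq_top K, Submodule.span_le]
  rintro _ ⟨m, rfl⟩
  obtain ⟨a, ha⟩ := h m
  have h1 : (1 : K) ⊗ₜ[R] m = (algebraMap R K f)⁻¹ • φ.baseChange K ((1 : K) ⊗ₜ[R] a) := by
    rw [LinearMap.baseChange_tmul, ha, TensorProduct.tmul_smul, ← algebraMap_smul K f,
      smul_smul, inv_mul_cancel₀ hf, one_smul]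
  show (1 : K) ⊗ₜ[R] m ∈ LinearMap.range (φ.baseChange K)
  rw [h1]
  exact Submodule.smul_mem _ _ ⟨_, rfl⟩

end local_gen

section usc
variable {M : Type*} [AddCommGroup M] [Module R M]

/-- Around any prime `p`, a finite module is generated up to some `f ∉ p` by `fr M p` elements. -/
lemma exists_local_generators [Module.Finite R M] (p : PrimeSpectrum R) :
    ∃ (f : R) (φ : (Fin (fr M p) → R) →ₗ[R] M), f ∉ p.asIdeal ∧
      ∀ m : M, f • m ∈ LinearMap.range φ := by
  obtain ⟨x, hx⟩ := exists_fin_span_fibre (R := R) p.asIdeal.ResidueField (M := M)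
  obtain ⟨f, hf, h⟩ := exists_smul_mem_span p x hx
  refine ⟨f, Fintype.linearCombination R x, hf, fun m => ?_⟩
  rw [Fintype.range_linearCombination]
  exact h m

lemma finrank_baseChange_pi (K : Type*) [Field K] [Algebra R K] (d : ℕ) :
    Module.finrank K (K ⊗[R] (Fin d → R)) = d := by
  have : Nontrivial R := (algebraMap R K).domain_nontrivial
  rw [Module.finrank_baseChange, Module.finrank_pi, Fintype.card_fin]

lemma fr_le_of_smul_mem [Module.Finite R M] {d : ℕ} (φ : (Fin d → R) →ₗ[R] M) (f : R)
    (h : ∀ m : M, f • m ∈ LinearMap.range φ) (q : PrimeSpectrum R) (hq : f ∉ q.asIdeal) :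
    fr M q ≤ d := by
  have hs := baseChange_surjective_of_smul_mem q.asIdeal.ResidueField φ f
    (by rwa [Ne, Ideal.algebraMap_residueField_eq_zero]) h
  have := LinearMap.finrank_le_finrank_of_surjective hs
  rwa [finrank_baseChange_pi] at this

/-- The fibre rank of a finite module is upper semicontinuous. -/
theorem upperSemicontinuous_fr [Module.Finite R M] :
    UpperSemicontinuous (fr (R := R) M) := by
  intro p y hy
  obtain ⟨f, φ, hf, h⟩ := exists_local_generators (M := M) p
  have hopen : IsOpen ((PrimeSpectrum.basicOpen f : TopologicalSpace.Opens (PrimeSpectrum R)) :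
      Set (PrimeSpectrum R)) := (PrimeSpectrum.basicOpen f).isOpen
  filter_upwards [hopen.mem_nhds (show p ∈ PrimeSpectrum.basicOpen f from hf)] with q hq
  exact lt_of_le_of_lt (fr_le_of_smul_mem φ f h q hq) hy

end usc

section reduced
variable {M : Type*} [AddCommGroup M] [Module R M]

lemma algebraMap_apply_eq_zero_of_one_tmul_eq_zero (K : Type*) [Field K] [Algebra R K] {d : ℕ}
    (a : Fin d → R) (h : (1 : K) ⊗ₜ[R] a = 0) (i : Fin d) : algebraMap R K (a i) = 0 := by
  have h1 := congrArg ((LinearMap.proj i : (Fin d → R) →ₗ[R] R).baseChange K) h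
  rw [LinearMap.baseChange_tmul, map_zero] at h1
  have h2 := congrArg (TensorProduct.rid R K) h1
  rw [LinearMap.proj_apply, TensorProduct.rid_tmul, map_zero] at h2
  rw [Algebra.algebraMap_eq_smul_one]
  exact h2

/-- Over a reduced ring, if `φ ⊗ κ(q)` is injective for all `q ∈ D(h)` then `h` kills `ker φ`. -/
lemma smul_eq_zero_of_mem_ker [IsReduced R] {d : ℕ} (φ : (Fin d → R) →ₗ[R] M) (h : R)
    (hinj : ∀ q : PrimeSpectrum R, h ∉ q.asIdeal →
      Function.Injective (φ.baseChange q.asIdeal.ResidueField))
    (a : Fin d → R) (ha : φ a = 0) : h • a = 0 := by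
  ext i
  simp only [Pi.smul_apply, smul_eq_mul, Pi.zero_apply]
  have : h * a i ∈ nilradical R := by
    rw [nilradical_eq_sInf, Ideal.mem_sInf]
    intro q hq
    by_cases hh : h ∈ q
    · exact q.mul_mem_right _ hh
    · have hq' : q.IsPrime := hq
      have h0 : (1 : q.ResidueField) ⊗ₜ[R] a = 0 := hinj ⟨q, hq⟩ hh (by
        rw [LinearMap.baseChange_tmul, ha, TensorProduct.tmul_zero, map_zero])
      have := algebraMap_apply_eq_zero_of_one_tmul_eq_zero _ a h0 i
      rw [Ideal.algebraMap_residueField_eq_zero] at this
      exact q.mul_mem_left _ this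
  rwa [nilradical_eq_zero, Ideal.zero_eq_bot, Ideal.mem_bot] at this

/-- Over a reduced ring, a finite module whose fibre rank is constant near `p` is, up to some
`h ∉ p`, free of rank `fr M p`. -/
lemma exists_local_iso [IsReduced R] [Module.Finite R M] (p : PrimeSpectrum R)
    (hconst : ∀ᶠ q in nhds p, fr M q = fr M p) :
    ∃ (h : R) (φ : (Fin (fr M p) → R) →ₗ[R] M), h ∉ p.asIdeal ∧
      (∀ m : M, h • m ∈ LinearMap.range φ) ∧ ∀ a, φ a = 0 → h • a = 0 := by
  obtain ⟨f, φ, hf, hφ⟩ := exists_local_generators (M := M) p
  obtain ⟨g, hg, hsub⟩ : ∃ g : R, g ∉ p.asIdeal ∧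
      ∀ q : PrimeSpectrum R, g ∉ q.asIdeal → fr M q = fr M p := by
    rw [Filter.Eventually, mem_nhds_iff] at hconst
    obtain ⟨U, hU, hUo, hpU⟩ := hconst
    obtain ⟨_, ⟨g, rfl⟩, hpg, hgU⟩ :=
      PrimeSpectrum.isTopologicalBasis_basic_opens.exists_subset_of_mem_open hpU hUo
    exact ⟨g, hpg, fun q hq => hU (hgU hq)⟩
  refine ⟨f * g, φ, ?_, ?_, ?_⟩
  · exact fun hfg => (p.isPrime.mem_or_mem hfg).elim hf hg
  · intro m
    rw [mul_comm, mul_smul]
    exact Submodule.smul_mem _ _ (hφ m)
  · apply smul_eq_zero_of_mem_ker φ (f * g)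
    intro q hq
    have hfq : f ∉ q.asIdeal := fun h => hq (q.asIdeal.mul_mem_right _ h)
    have hgq : g ∉ q.asIdeal := fun h => hq (q.asIdeal.mul_mem_left _ h)
    have hs := baseChange_surjective_of_smul_mem q.asIdeal.ResidueField φ f
      (by rwa [Ne, Ideal.algebraMap_residueField_eq_zero]) hφ
    have hfr : Module.finrank q.asIdeal.ResidueField
        (q.asIdeal.ResidueField ⊗[R] (Fin (fr M p) → R)) =
        Module.finrank q.asIdeal.ResidueField (q.asIdeal.ResidueField ⊗[R] M) := by
      rw [finrank_baseChange_pi]
      exact (hsub q hgq).symm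
    exact (LinearMap.injective_iff_surjective_of_finrank_eq_finrank hfr).mpr hs

lemma localizedModule_mk_eq_zero_iff {S : Submonoid R} (m : M) (s : S) :
    LocalizedModule.mk m s = 0 ↔ ∃ u : S, u • m = 0 := by
  rw [← LocalizedModule.zero_mk (1 : S), LocalizedModule.mk_eq]
  simp

/-- If `φ : R^d → M` is an isomorphism up to `h`-torsion then `M_h` is free. -/
lemma free_localizedModule_of_iso {d : ℕ} (φ : (Fin d → R) →ₗ[R] M) (h : R)
    (h1 : ∀ m : M, h • m ∈ LinearMap.range φ) (h2 : ∀ a, φ a = 0 → h • a = 0) :
    Module.Free (Localization.Away h) (LocalizedModule.Away h M) := by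
  have hh : h ∈ Submonoid.powers h := Submonoid.mem_powers h
  have hinj : Function.Injective (LocalizedModule.map (Submonoid.powers h) φ) := by
    rw [injective_iff_map_eq_zero]
    intro z hz
    induction z using LocalizedModule.induction_on with
    | h a s =>
      rw [LocalizedModule.map_mk, localizedModule_mk_eq_zero_iff] at hz
      obtain ⟨u, hu⟩ := hz
      rw [localizedModule_mk_eq_zero_iff]
      refine ⟨⟨h, hh⟩ * u, ?_⟩
      have h3 : φ (u • a) = 0 := by
        rw [← hu]
        exact map_smul φ (u : R) a
      have := h2 _ h3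
      rw [mul_smul]
      exact this
  have hsurj : Function.Surjective (LocalizedModule.map (Submonoid.powers h) φ) := by
    intro z
    induction z using LocalizedModule.induction_on with
    | h m s =>
      obtain ⟨a, ha⟩ := h1 m
      refine ⟨LocalizedModule.mk a (⟨h, hh⟩ * s), ?_⟩
      rw [LocalizedModule.map_mk, ha]
      exact LocalizedModule.mk_cancel_common_left ⟨h, hh⟩ s m
  have : Module.Free (Localization.Away h) (LocalizedModule.Away h (Fin d → R)) :=
    Module.free_of_isLocalizedModule (Submonoid.powers h)
      (LocalizedModule.mkLinearMap (Submonoid.powers h) (Fin d → R))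
  exact Module.Free.of_equiv (LinearEquiv.ofBijective _ ⟨hinj, hsurj⟩)

end reduced

section global
variable {M : Type*} [AddCommGroup M] [Module R M]

/-- A finite module which is free on a standard open neighbourhood of every prime is projective. -/
theorem projective_of_forall_exists_free [Module.Finite R M]
    (H : ∀ p : PrimeSpectrum R, ∃ h : R, h ∉ p.asIdeal ∧
      Module.Free (Localization.Away h) (LocalizedModule.Away h M)) :
    Module.Projective R M := by
  let s : Set R := {h | Module.Free (Localization.Away h) (LocalizedModule.Away h M)}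
  have hs : Ideal.span s = ⊤ := by
    by_contra hne
    obtain ⟨m, hm, hle⟩ := Ideal.exists_le_maximal _ hne
    obtain ⟨h, hh, hfree⟩ := H ⟨m, hm.isPrime⟩
    exact hh (hle (Ideal.subset_span hfree))
  have hfp : Module.FinitePresentation R M := by
    apply Module.FinitePresentation.of_localizationSpan s hs
    rintro ⟨g, hg⟩
    have : Module.Free (Localization.Away g) (LocalizedModule.Away g M) := hg
    exact Module.finitePresentation_of_projective _ _
  have hflat : Module.Flat R M := by
    apply Module.flat_of_localized_span R M s hs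
    rintro ⟨g, hg⟩
    have : Module.Free (Localization.Away g) (LocalizedModule.Away g M) := hg
    have : Module.Flat R (Localization.Away g) := IsLocalization.flat _ (Submonoid.powers g)
    exact Module.Flat.trans R (Localization.Away g) _
  exact Module.Flat.projective_of_finitePresentation

/-- **Over a reduced ring, a finite module with locally constant fibre rank is projective.** -/
theorem projective_of_isLocallyConstant_fr [IsReduced R] [Module.Finite R M]
    (h : IsLocallyConstant (fr (R := R) M)) : Module.Projective R M := by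
  apply projective_of_forall_exists_free
  intro p
  have hconst : ∀ᶠ q in nhds p, fr M q = fr M p := h.eventually_eq p
  obtain ⟨h, φ, hp, h1, h2⟩ := exists_local_iso p hconst
  exact ⟨h, hp, free_localizedModule_of_iso φ h h1 h2⟩

/-- The fibre rank of a finitely presented flat module is locally constant. -/
theorem isLocallyConstant_fr_of_flat [Module.FinitePresentation R M] [Module.Flat R M] :
    IsLocallyConstant (fr (R := R) M) := by
  have h := Module.isLocallyConstant_rankAtStalk (R := R) (M := M)
  have heq : Module.rankAtStalk (R := R) M = fr M := by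
    funext p
    exact Module.rankAtStalk_eq p
  rwa [heq] at h

/-- The fibre rank of a finite projective module is locally constant. -/
theorem isLocallyConstant_fr_of_projective [Module.Finite R M] [Module.Projective R M] :
    IsLocallyConstant (fr (R := R) M) := by
  have : Module.FinitePresentation R M := Module.finitePresentation_of_projective R M
  have h := Module.isLocallyConstant_rankAtStalk (R := R) (M := M)
  have heq : Module.rankAtStalk (R := R) M = fr M := by
    funext p
    exact Module.rankAtStalk_eq p
  rwa [heq] at h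

end global

section image
variable {K K' : Type*} [AddCommGroup K] [Module R K] [AddCommGroup K'] [Module R K']

/-- Rank–nullity on the fibre: `dim κ⊗coker φ + rank (φ ⊗ κ) = dim κ⊗K'`. -/
lemma fr_coker_add_finrank_range [Module.Finite R K'] (φ : K →ₗ[R] K') (y : PrimeSpectrum R) :
    fr (K' ⧸ LinearMap.range φ) y + Module.finrank y.asIdeal.ResidueField
      (LinearMap.range (φ.baseChange y.asIdeal.ResidueField)) = fr K' y := by
  have hex : Function.Exact (φ.baseChange y.asIdeal.ResidueField)
      ((LinearMap.range φ).mkQ.baseChange y.asIdeal.ResidueField) :=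
    lTensor_exact y.asIdeal.ResidueField (LinearMap.exact_map_mkQ_range φ)
      (Submodule.mkQ_surjective _)
  have hsurj : Function.Surjective ((LinearMap.range φ).mkQ.baseChange y.asIdeal.ResidueField) :=
    LinearMap.lTensor_surjective _ (Submodule.mkQ_surjective _)
  have h1 := LinearMap.finrank_range_add_finrank_ker
    ((LinearMap.range φ).mkQ.baseChange y.asIdeal.ResidueField)
  rw [LinearMap.range_eq_top.mpr hsurj, finrank_top, LinearMap.exact_iff.mp hex] at h1
  exact h1

/-- The rank of the image on fibres is lower semicontinuous when the target has locally constant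
fibre rank. -/
theorem lowerSemicontinuous_finrank_range [Module.Finite R K']
    (hK' : IsLocallyConstant (fr (R := R) K')) (φ : K →ₗ[R] K') :
    LowerSemicontinuous (fun y : PrimeSpectrum R => Module.finrank y.asIdeal.ResidueField
      (LinearMap.range (φ.baseChange y.asIdeal.ResidueField))) := by
  intro y c hc
  have h1 : ∀ᶠ z in nhds y, fr K' z = fr K' y := hK'.eventually_eq y
  have h2 : ∀ᶠ z in nhds y, fr (K' ⧸ LinearMap.range φ) z <
      fr (K' ⧸ LinearMap.range φ) y + 1 :=
    upperSemicontinuous_fr y _ (Nat.lt_succ_self _)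
  filter_upwards [h1, h2] with z hz1 hz2
  have e1 := fr_coker_add_finrank_range φ y
  have e2 := fr_coker_add_finrank_range φ z
  simp only at hc ⊢
  omega

lemma projective_ker_of_surjective {P C : Type*} [AddCommGroup P] [Module R P] [AddCommGroup C]
    [Module R C] [Module.Projective R P] [Module.Projective R C] (π : P →ₗ[R] C)
    (hπ : Function.Surjective π) : Module.Projective R (LinearMap.ker π) := by
  obtain ⟨s, hs⟩ := Module.projective_lifting_property π LinearMap.id hπ
  have hs' : ∀ c, π (s c) = c := fun c => LinearMap.congr_fun hs c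
  let r : P →ₗ[R] LinearMap.ker π := (LinearMap.id - s ∘ₗ π).codRestrict (LinearMap.ker π) (by
    intro x
    simp [LinearMap.mem_ker, map_sub, hs'])
  refine Module.Projective.of_split (LinearMap.ker π).subtype r ?_
  ext x
  have hx : π x.1 = 0 := x.2
  simp [r, hx]

/-- Over a reduced ring: if the target has locally constant fibre rank and the image of `φ` has
locally constant fibre rank then the cokernel of `φ` is projective. -/
theorem projective_coker_of_isLocallyConstant [IsReduced R] [Module.Finite R K']
    (hK' : IsLocallyConstant (fr (R := R) K')) (φ : K →ₗ[R] K')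
    (hφ : IsLocallyConstant (fun y : PrimeSpectrum R => Module.finrank y.asIdeal.ResidueField
      (LinearMap.range (φ.baseChange y.asIdeal.ResidueField)))) :
    Module.Projective R (K' ⧸ LinearMap.range φ) := by
  apply projective_of_isLocallyConstant_fr
  have h := hK'.comp₂ hφ (fun a b => a - b)
  have heq : fr (R := R) (K' ⧸ LinearMap.range φ) = fun y => fr K' y - Module.finrank
      y.asIdeal.ResidueField (LinearMap.range (φ.baseChange y.asIdeal.ResidueField)) := by
    funext y
    have := fr_coker_add_finrank_range φ y
    omega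
  rw [heq]
  exact h

end image

section kernel
variable {M F : Type*} [AddCommGroup M] [Module R M] [AddCommGroup F] [Module R F]

/-- `dim ker(δ ⊗ κ) + dim κ⊗F = dim κ⊗M + dim κ⊗coker δ`. -/
lemma finrank_ker_add_fr [Module.Finite R M] [Module.Finite R F] (δ : M →ₗ[R] F)
    (y : PrimeSpectrum R) :
    Module.finrank y.asIdeal.ResidueField
      (LinearMap.ker (δ.baseChange y.asIdeal.ResidueField)) + fr F y =
      fr M y + fr (F ⧸ LinearMap.range δ) y := by
  have h1 : Module.finrank y.asIdeal.ResidueField
      (LinearMap.range (δ.baseChange y.asIdeal.ResidueField)) +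
      Module.finrank y.asIdeal.ResidueField
      (LinearMap.ker (δ.baseChange y.asIdeal.ResidueField)) = fr M y :=
    LinearMap.finrank_range_add_finrank_ker (δ.baseChange y.asIdeal.ResidueField)
  have h2 := fr_coker_add_finrank_range δ y
  omega

/-- Upper semicontinuity of the dimension of the kernel on fibres. -/
theorem upperSemicontinuous_finrank_ker [Module.Finite R M] [Module.Finite R F]
    (hF : IsLocallyConstant (fr (R := R) F)) (δ : M →ₗ[R] F) :
    UpperSemicontinuous (fun y : PrimeSpectrum R => Module.finrank y.asIdeal.ResidueField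
      (LinearMap.ker (δ.baseChange y.asIdeal.ResidueField))) := by
  intro y c hc
  have h1 : ∀ᶠ z in nhds y, fr F z = fr F y := hF.eventually_eq y
  have h2 : ∀ᶠ z in nhds y, fr (F ⧸ LinearMap.range δ) z <
      fr (F ⧸ LinearMap.range δ) y + 1 :=
    upperSemicontinuous_fr y _ (Nat.lt_succ_self _)
  have h3 : ∀ᶠ z in nhds y, fr M z < fr M y + 1 :=
    upperSemicontinuous_fr y _ (Nat.lt_succ_self _)
  filter_upwards [h1, h2, h3] with z hz1 hz2 hz3
  have e1 := finrank_ker_add_fr δ y
  have e2 := finrank_ker_add_fr δ z
  have hc' : Module.finrank y.asIdeal.ResidueField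
      (LinearMap.ker (δ.baseChange y.asIdeal.ResidueField)) < c := hc
  show Module.finrank z.asIdeal.ResidueField
      (LinearMap.ker (δ.baseChange z.asIdeal.ResidueField)) < c
  omega

/-- If the kernel dimension on fibres is locally constant (and `F` has locally constant fibre
rank) then so are the fibre ranks of `M` and of `coker δ`. -/
theorem isLocallyConstant_fr_of_ker [Module.Finite R M] [Module.Finite R F]
    (hF : IsLocallyConstant (fr (R := R) F)) (δ : M →ₗ[R] F)
    (h : IsLocallyConstant (fun y : PrimeSpectrum R => Module.finrank y.asIdeal.ResidueField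
      (LinearMap.ker (δ.baseChange y.asIdeal.ResidueField)))) :
    IsLocallyConstant (fr (R := R) M) ∧
      IsLocallyConstant (fr (R := R) (F ⧸ LinearMap.range δ)) := by
  have key : ∀ y : PrimeSpectrum R, ∀ᶠ z in nhds y, fr M z = fr M y ∧
      fr (F ⧸ LinearMap.range δ) z = fr (F ⧸ LinearMap.range δ) y := by
    intro y
    have h0 := h.eventually_eq y
    have h1 : ∀ᶠ z in nhds y, fr F z = fr F y := hF.eventually_eq y
    have h2 : ∀ᶠ z in nhds y, fr (F ⧸ LinearMap.range δ) z <
        fr (F ⧸ LinearMap.range δ) y + 1 :=
      upperSemicontinuous_fr y _ (Nat.lt_succ_self _)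
    have h3 : ∀ᶠ z in nhds y, fr M z < fr M y + 1 :=
      upperSemicontinuous_fr y _ (Nat.lt_succ_self _)
    filter_upwards [h0, h1, h2, h3] with z hz0 hz1 hz2 hz3
    have e1 := finrank_ker_add_fr δ y
    have e2 := finrank_ker_add_fr δ z
    have hz0' : Module.finrank z.asIdeal.ResidueField
      (LinearMap.ker (δ.baseChange z.asIdeal.ResidueField)) =
      Module.finrank y.asIdeal.ResidueField
      (LinearMap.ker (δ.baseChange y.asIdeal.ResidueField)) := hz0
    omega
  constructor
  · rw [IsLocallyConstant.iff_eventually_eq]
    intro y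
    exact (key y).mono fun z hz => hz.1
  · rw [IsLocallyConstant.iff_eventually_eq]
    intro y
    exact (key y).mono fun z hz => hz.2

/-- If `range δ` is a direct summand of `F` and `ker δ` is a direct summand of `M` then tensoring
with `N` keeps the sequence `0 → ker δ → M → F` exact. -/
lemma rTensor_ker_exact (δ : M →ₗ[R] F) (r : F →ₗ[R] LinearMap.range δ)
    (hr : ∀ x : LinearMap.range δ, r x.1 = x) (N : Type*) [AddCommGroup N] [Module R N] :
    Function.Exact (LinearMap.rTensor N (LinearMap.ker δ).subtype) (LinearMap.rTensor N δ) := by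
  have hfac : δ = (LinearMap.range δ).subtype ∘ₗ δ.rangeRestrict := by
    ext x
    rfl
  have hex : Function.Exact (LinearMap.ker δ).subtype δ.rangeRestrict := by
    rw [LinearMap.exact_iff, LinearMap.ker_rangeRestrict, Submodule.range_subtype]
  have h1 := rTensor_exact N hex δ.surjective_rangeRestrict
  have hinj : Function.Injective (LinearMap.rTensor N (LinearMap.range δ).subtype) := by
    have hcomp : (LinearMap.rTensor N r) ∘ₗ (LinearMap.rTensor N (LinearMap.range δ).subtype) =
        LinearMap.id := by
      rw [← LinearMap.rTensor_comp]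
      have : r ∘ₗ (LinearMap.range δ).subtype = LinearMap.id := by
        ext x
        simp [hr]
      rw [this, LinearMap.rTensor_id]
    exact Function.LeftInverse.injective (g := LinearMap.rTensor N r)
      (fun t => LinearMap.congr_fun hcomp t)
  intro t
  rw [← h1 t]
  conv_lhs => rw [hfac, LinearMap.rTensor_comp, LinearMap.comp_apply]
  constructor
  · intro h
    exact hinj (by rw [h, map_zero])
  · intro h
    rw [h, map_zero]

/-- The cluster result: over a reduced ring, if the kernel dimension on fibres is locally
constant then `M`, `ker δ`, `coker δ` are projective and `ker δ` commutes with tensor products. -/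
theorem projective_of_isLocallyConstant_ker [IsReduced R] [Module.Finite R M] [Module.Finite R F]
    [Module.Projective R F] (δ : M →ₗ[R] F)
    (h : IsLocallyConstant (fun y : PrimeSpectrum R => Module.finrank y.asIdeal.ResidueField
      (LinearMap.ker (δ.baseChange y.asIdeal.ResidueField)))) :
    Module.Projective R M ∧ Module.Projective R (LinearMap.ker δ) ∧
      Module.Projective R (F ⧸ LinearMap.range δ) ∧
      ∀ (N : Type*) [AddCommGroup N] [Module R N],
        Function.Injective (LinearMap.rTensor N (LinearMap.ker δ).subtype) ∧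
        Function.Exact (LinearMap.rTensor N (LinearMap.ker δ).subtype)
          (LinearMap.rTensor N δ) := by
  obtain ⟨hM, hC⟩ := isLocallyConstant_fr_of_ker isLocallyConstant_fr_of_projective δ h
  have pM : Module.Projective R M := projective_of_isLocallyConstant_fr hM
  have pC : Module.Projective R (F ⧸ LinearMap.range δ) := projective_of_isLocallyConstant_fr hC
  -- retraction of `F` onto `range δ`
  obtain ⟨s, hs⟩ := Module.projective_lifting_property (LinearMap.range δ).mkQ LinearMap.id
    (Submodule.mkQ_surjective _)
  have hs' : ∀ c, (LinearMap.range δ).mkQ (s c) = c := fun c => LinearMap.congr_fun hs c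
  let r : F →ₗ[R] LinearMap.range δ :=
    (LinearMap.id - s ∘ₗ (LinearMap.range δ).mkQ).codRestrict (LinearMap.range δ) (by
      intro x
      apply (Submodule.Quotient.mk_eq_zero _).mp
      show (LinearMap.range δ).mkQ
        (((LinearMap.id : F →ₗ[R] F) - s ∘ₗ (LinearMap.range δ).mkQ) x) = 0
      simp [map_sub, hs'])
  have hr : ∀ x : LinearMap.range δ, r x.1 = x := by
    intro x
    apply Subtype.ext
    have hx : (LinearMap.range δ).mkQ x.1 = 0 := by
      rw [← LinearMap.mem_ker, Submodule.ker_mkQ]
      exact x.2
    simp [r, hx]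
  have pR : Module.Projective R (LinearMap.range δ) :=
    Module.Projective.of_split (LinearMap.range δ).subtype r (by ext x; simp [hr])
  have pK : Module.Projective R (LinearMap.ker δ) := by
    have := projective_ker_of_surjective δ.rangeRestrict δ.surjective_rangeRestrict
    exact Module.Projective.of_equiv (LinearEquiv.ofEq _ _ (LinearMap.ker_rangeRestrict δ))
  refine ⟨pM, pK, pC, fun N _ _ => ⟨?_, rTensor_ker_exact δ r hr N⟩⟩
  -- retraction of `M` onto `ker δ`
  obtain ⟨s₂, hs₂⟩ := Module.projective_lifting_property δ.rangeRestrict LinearMap.id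
    δ.surjective_rangeRestrict
  have hs₂' : ∀ c, δ.rangeRestrict (s₂ c) = c := fun c => LinearMap.congr_fun hs₂ c
  let r₂ : M →ₗ[R] LinearMap.ker δ :=
    (LinearMap.id - s₂ ∘ₗ δ.rangeRestrict).codRestrict (LinearMap.ker δ) (by
      intro x
      rw [← LinearMap.ker_rangeRestrict δ, LinearMap.mem_ker]
      simp [map_sub, hs₂'])
  have hr₂ : r₂ ∘ₗ (LinearMap.ker δ).subtype = LinearMap.id := by
    ext x
    have hx : δ.rangeRestrict x.1 = 0 := by
      apply Subtype.ext
      exact x.2
    simp [r₂, hx]
  have hcomp : (LinearMap.rTensor N r₂) ∘ₗ (LinearMap.rTensor N (LinearMap.ker δ).subtype) =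
      LinearMap.id := by
    rw [← LinearMap.rTensor_comp, hr₂, LinearMap.rTensor_id]
  exact Function.LeftInverse.injective (g := LinearMap.rTensor N r₂)
    (fun t => LinearMap.congr_fun hcomp t)

end kernel

end Groth.Agent.Lib.Helper52.FibreRank
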