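import Groth.Agent.Lib.Helper52.FibreRank

/-!
# Fibre ranks II: Betti numbers of a three-term complex

Helper library (helper52).  Main result `homology_finite_projective`: over a reduced ring, for
`X₁ → X₂ → X₃` with `X₂, X₃` finite projective, if the Betti number
`dim ker(d₂⊗κ(p)) - rank(d₁⊗κ(p))` is locally constant then the homology is finite projective.
-/

set_option autoImplicit false
open scoped TensorProduct

namespace Groth.Agent.Lib.Helper52.FibreRank

variable {R : Type*} [CommRing R]

/-- Two upper semicontinuous `ℕ`-valued functions with locally constant sum are locally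
constant. -/
lemma isLocallyConstant_of_add {X : Type*} [TopologicalSpace X] (f g : X → ℕ)
    (hf : UpperSemicontinuous f) (hg : UpperSemicontinuous g)
    (h : IsLocallyConstant (fun x => f x + g x)) : IsLocallyConstant f ∧ IsLocallyConstant g := by
  have key : ∀ y : X, ∀ᶠ z in nhds y, f z = f y ∧ g z = g y := by
    intro y
    have h0 : ∀ᶠ z in nhds y, f z + g z = f y + g y := h.eventually_eq y
    have h1 : ∀ᶠ z in nhds y, f z < f y + 1 := hf y _ (Nat.lt_succ_self _)
    have h2 : ∀ᶠ z in nhds y, g z < g y + 1 := hg y _ (Nat.lt_succ_self _)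
    filter_upwards [h0, h1, h2] with z hz0 hz1 hz2
    omega
  constructor
  · rw [IsLocallyConstant.iff_eventually_eq]
    intro y
    exact (key y).mono fun z hz => hz.1
  · rw [IsLocallyConstant.iff_eventually_eq]
    intro y
    exact (key y).mono fun z hz => hz.2

section retraction
variable {M F : Type*} [AddCommGroup M] [Module R M] [AddCommGroup F] [Module R F]

/-- If `coker δ` is projective then `range δ` is a retract of `F`. -/
lemma exists_retraction_range (δ : M →ₗ[R] F) [Module.Projective R (F ⧸ LinearMap.range δ)] :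
    ∃ r : F →ₗ[R] LinearMap.range δ, ∀ x : LinearMap.range δ, r x.1 = x := by
  obtain ⟨s, hs⟩ := Module.projective_lifting_property (LinearMap.range δ).mkQ LinearMap.id
    (Submodule.mkQ_surjective _)
  have hs' : ∀ c, (LinearMap.range δ).mkQ (s c) = c := fun c => LinearMap.congr_fun hs c
  let r : F →ₗ[R] LinearMap.range δ :=
    (LinearMap.id - s ∘ₗ (LinearMap.range δ).mkQ).codRestrict (LinearMap.range δ) (by
      intro x
      apply (Submodule.Quotient.mk_eq_zero _).mp
      show (LinearMap.range δ).mkQ
        (((LinearMap.id : F →ₗ[R] F) - s ∘ₗ (LinearMap.range δ).mkQ) x) = 0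
      simp [map_sub, hs'])
  refine ⟨r, fun x => ?_⟩
  apply Subtype.ext
  have hx : (LinearMap.range δ).mkQ x.1 = 0 := by
    rw [← LinearMap.mem_ker, Submodule.ker_mkQ]
    exact x.2
  simp [r, hx]

/-- If `F` and `coker δ` are projective then `ker δ` is a retract of `M`. -/
lemma exists_retraction_ker (δ : M →ₗ[R] F) [Module.Projective R F]
    [Module.Projective R (F ⧸ LinearMap.range δ)] :
    ∃ ρ : M →ₗ[R] LinearMap.ker δ, ∀ x : LinearMap.ker δ, ρ x.1 = x := by
  obtain ⟨r, hr⟩ := exists_retraction_range δ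
  have pR : Module.Projective R (LinearMap.range δ) :=
    Module.Projective.of_split (LinearMap.range δ).subtype r (by ext x; simp [hr])
  obtain ⟨s₂, hs₂⟩ := Module.projective_lifting_property δ.rangeRestrict LinearMap.id
    δ.surjective_rangeRestrict
  have hs₂' : ∀ c, δ.rangeRestrict (s₂ c) = c := fun c => LinearMap.congr_fun hs₂ c
  let r₂ : M →ₗ[R] LinearMap.ker δ :=
    (LinearMap.id - s₂ ∘ₗ δ.rangeRestrict).codRestrict (LinearMap.ker δ) (by
      intro x
      rw [← LinearMap.ker_rangeRestrict δ, LinearMap.mem_ker]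
      simp [map_sub, hs₂'])
  refine ⟨r₂, fun x => ?_⟩
  apply Subtype.ext
  have hx : δ.rangeRestrict x.1 = 0 := by
    apply Subtype.ext
    exact x.2
  simp [r₂, hx]

end retraction

section betti
variable {X₁ X₂ X₃ : Type*} [AddCommGroup X₁] [Module R X₁] [AddCommGroup X₂] [Module R X₂]
  [AddCommGroup X₃] [Module R X₃]

/-- The homology of `X₁ → X₂ → X₃` is a retract of `coker d₁` when `X₃` and `coker d₂` are
projective. -/
lemma homology_retract (d₁ : X₁ →ₗ[R] X₂) (d₂ : X₂ →ₗ[R] X₃) (h : ∀ x, d₂ (d₁ x) = 0)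
    [Module.Projective R X₃] [Module.Projective R (X₃ ⧸ LinearMap.range d₂)] :
    ∃ (i : (LinearMap.ker d₂ ⧸ LinearMap.range (d₁.codRestrict (LinearMap.ker d₂) h)) →ₗ[R]
        (X₂ ⧸ LinearMap.range d₁))
      (s : (X₂ ⧸ LinearMap.range d₁) →ₗ[R]
        (LinearMap.ker d₂ ⧸ LinearMap.range (d₁.codRestrict (LinearMap.ker d₂) h))),
      s ∘ₗ i = LinearMap.id := by
  obtain ⟨ρ, hρ⟩ := exists_retraction_ker d₂
  have h1 : LinearMap.range (d₁.codRestrict (LinearMap.ker d₂) h) ≤
      Submodule.comap (LinearMap.ker d₂).subtype (LinearMap.range d₁) := by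
    rintro _ ⟨x, rfl⟩
    exact ⟨x, rfl⟩
  have h2 : LinearMap.range d₁ ≤
      Submodule.comap ρ (LinearMap.range (d₁.codRestrict (LinearMap.ker d₂) h)) := by
    rintro _ ⟨x, rfl⟩
    refine ⟨x, ?_⟩
    have := hρ ⟨d₁ x, h x⟩
    exact this.symm
  refine ⟨Submodule.mapQ _ _ (LinearMap.ker d₂).subtype h1, Submodule.mapQ _ _ ρ h2, ?_⟩
  apply Submodule.linearMap_qext
  ext z
  simp only [LinearMap.comp_apply, Submodule.mkQ_apply, Submodule.mapQ_apply,
    Submodule.subtype_apply, LinearMap.id_apply, hρ]

/-- **Locally constant Betti number over a reduced ring ⇒ finite projective homology.** -/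
theorem homology_finite_projective [IsReduced R] [Module.Finite R X₂] [Module.Projective R X₂]
    [Module.Finite R X₃] [Module.Projective R X₃]
    (d₁ : X₁ →ₗ[R] X₂) (d₂ : X₂ →ₗ[R] X₃) (h : ∀ x, d₂ (d₁ x) = 0)
    (hβ : IsLocallyConstant (fun p : PrimeSpectrum R =>
      Module.finrank p.asIdeal.ResidueField
        (LinearMap.ker (d₂.baseChange p.asIdeal.ResidueField)) -
      Module.finrank p.asIdeal.ResidueField
        (LinearMap.range (d₁.baseChange p.asIdeal.ResidueField)))) :
    Module.Finite R (LinearMap.ker d₂ ⧸ LinearMap.range (d₁.codRestrict (LinearMap.ker d₂) h)) ∧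
    Module.Projective R
      (LinearMap.ker d₂ ⧸ LinearMap.range (d₁.codRestrict (LinearMap.ker d₂) h)) := by
  have hle : ∀ p : PrimeSpectrum R,
      Module.finrank p.asIdeal.ResidueField
        (LinearMap.range (d₁.baseChange p.asIdeal.ResidueField)) ≤
      Module.finrank p.asIdeal.ResidueField
        (LinearMap.ker (d₂.baseChange p.asIdeal.ResidueField)) := by
    intro p
    apply Submodule.finrank_mono
    rintro _ ⟨t, rfl⟩
    rw [LinearMap.mem_ker, ← LinearMap.comp_apply, ← LinearMap.baseChange_comp]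
    have : d₂ ∘ₗ d₁ = 0 := LinearMap.ext h
    rw [this, LinearMap.baseChange_zero, LinearMap.zero_apply]
  have hsum : IsLocallyConstant (fun p : PrimeSpectrum R =>
      fr (X₂ ⧸ LinearMap.range d₁) p + fr (X₃ ⧸ LinearMap.range d₂) p) := by
    have h3 : IsLocallyConstant (fr (R := R) X₃) := isLocallyConstant_fr_of_projective
    have h4 := hβ.comp₂ h3 (fun a b => a + b)
    have heq : (fun p : PrimeSpectrum R =>
        fr (X₂ ⧸ LinearMap.range d₁) p + fr (X₃ ⧸ LinearMap.range d₂) p) =
        fun p : PrimeSpectrum R => (Module.finrank p.asIdeal.ResidueField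
        (LinearMap.ker (d₂.baseChange p.asIdeal.ResidueField)) -
      Module.finrank p.asIdeal.ResidueField
        (LinearMap.range (d₁.baseChange p.asIdeal.ResidueField))) + fr X₃ p := by
      funext p
      have e1 := finrank_ker_add_fr d₂ p
      have e2 := fr_coker_add_finrank_range d₁ p
      have e3 := hle p
      omega
    rw [heq]
    exact h4
  obtain ⟨hC₁, hC₂⟩ := isLocallyConstant_of_add _ _ upperSemicontinuous_fr
    upperSemicontinuous_fr hsum
  have pC₁ : Module.Projective R (X₂ ⧸ LinearMap.range d₁) :=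
    projective_of_isLocallyConstant_fr hC₁
  have pC₂ : Module.Projective R (X₃ ⧸ LinearMap.range d₂) :=
    projective_of_isLocallyConstant_fr hC₂
  obtain ⟨i, s, hs⟩ := homology_retract d₁ d₂ h
  constructor
  · exact Module.Finite.of_surjective s (fun y => ⟨i y, LinearMap.congr_fun hs y⟩)
  · exact Module.Projective.of_split i s hs

end betti

end Groth.Agent.Lib.Helper52.FibreRank
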