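import Mathlib

/-!
# Fixed locus of a finite linearly reductive group acting on a regular local ring

`A` a regular local `k`-algebra with residue field `k`, `G` a finite group of order invertible in
`k` acting by `k`-algebra automorphisms.  Then `A ⧸ J` is regular, `J` the ideal generated by the
`g • a - a`.  The proof uses the Reynolds operator `avg`.
-/

namespace Groth.Agent.Lib.Helper52.FixedLocus

open IsLocalRing

section Avg

variable (k : Type*) [Field k] {A : Type*} [CommRing A] [Algebra k A]
  (G : Type*) [Group G] [Fintype G] [MulSemiringAction G A] [SMulCommClass G k A]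

/-- The coinvariant ideal. -/
def coinv (A : Type*) [CommRing A] [MulSemiringAction G A] : Ideal A :=
  Ideal.span {x : A | ∃ (g : G) (a : A), x = g • a - a}

/-- The Reynolds (averaging) operator. -/
noncomputable def avg : A →ₗ[k] A where
  toFun a := (Fintype.card G : k)⁻¹ • ∑ g : G, g • a
  map_add' a b := by simp [smul_add, Finset.sum_add_distrib]
  map_smul' c a := by
    simp only [RingHom.id_apply]
    rw [smul_comm c]
    congr 1
    rw [Finset.smul_sum]
    exact Finset.sum_congr rfl fun g _ => smul_comm g c a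

variable {G}

omit [Fintype G] in
theorem smul_sub_mem_coinv (g : G) (a : A) : g • a - a ∈ coinv G A :=
  Ideal.subset_span ⟨g, a, rfl⟩

theorem smul_mem_of_mem {I : Ideal A} (c : k) {x : A} (hx : x ∈ I) : c • x ∈ I := by
  rw [Algebra.smul_def]; exact I.mul_mem_left _ hx

variable {k}

theorem sub_avg_eq (hG : (Fintype.card G : k) ≠ 0) (a : A) :
    a - avg k G a = (Fintype.card G : k)⁻¹ • ∑ g : G, (a - g • a) := by
  simp only [avg, LinearMap.coe_mk, AddHom.coe_mk, Finset.sum_sub_distrib, Finset.sum_const,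
    Finset.card_univ, smul_sub]
  congr 1
  rw [← Nat.cast_smul_eq_nsmul k, smul_smul, inv_mul_cancel₀ hG, one_smul]

theorem sub_avg_mem (hG : (Fintype.card G : k) ≠ 0) (a : A) : a - avg k G a ∈ coinv G A := by
  rw [sub_avg_eq hG]
  refine smul_mem_of_mem k _ (Ideal.sum_mem _ fun g _ => ?_)
  rw [← neg_sub]
  exact (coinv G A).neg_mem (smul_sub_mem_coinv g a)

theorem avg_smul (g : G) (a : A) : avg k G (g • a) = avg k G a := by
  simp only [avg, LinearMap.coe_mk, AddHom.coe_mk]
  congr 1
  simp only [← mul_smul]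
  exact Fintype.sum_equiv (Equiv.mulRight g) _ _ fun h => rfl

theorem avg_gen (g : G) (a : A) : avg k G (g • a - a) = 0 := by
  rw [map_sub, avg_smul, sub_self]

theorem mul_sub_avg_mem (hG : (Fintype.card G : k) ≠ 0) (M : Ideal A)
    (hM : ∀ (g : G), ∀ m ∈ M, g • m ∈ M) {m m' : A} (hm : m ∈ M) (hm' : m' ∈ M) :
    m * m' - avg k G (m * m') ∈ M * coinv G A := by
  rw [sub_avg_eq hG]
  refine smul_mem_of_mem k _ (Ideal.sum_mem _ fun g _ => ?_)
  have : m * m' - g • (m * m') = m' * (-(g • m - m)) + g • m * (-(g • m' - m')) := by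
    rw [smul_mul']; ring
  rw [this]
  refine Ideal.add_mem _ (Ideal.mul_mem_mul hm' ((coinv G A).neg_mem (smul_sub_mem_coinv g m)))
    (Ideal.mul_mem_mul (hM g m hm) ((coinv G A).neg_mem (smul_sub_mem_coinv g m')))

theorem sq_sub_avg_mem (hG : (Fintype.card G : k) ≠ 0) (M : Ideal A)
    (hM : ∀ (g : G), ∀ m ∈ M, g • m ∈ M) {a : A} (ha : a ∈ M ^ 2) :
    a - avg k G a ∈ M * coinv G A := by
  rw [pow_two] at ha
  induction ha using Submodule.mul_induction_on' with
  | mem_mul_mem m hm m' hm' => exact mul_sub_avg_mem hG M hM hm hm'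
  | add x _ y _ hx hy =>
    have : x + y - avg k G (x + y) = (x - avg k G x) + (y - avg k G y) := by
      rw [map_add]; ring
    rw [this]; exact Ideal.add_mem _ hx hy

/-- The coinvariant ideal is generated by the kernel of the Reynolds operator. -/
theorem coinv_eq_span_ker (hG : (Fintype.card G : k) ≠ 0) :
    coinv G A = Ideal.span ((LinearMap.ker (avg k G) : Submodule k A) : Set A) := by
  apply le_antisymm
  · refine Ideal.span_mono ?_
    rintro _ ⟨g, a, rfl⟩
    exact avg_gen g a
  · rw [Ideal.span_le]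
    intro a ha
    have h := sub_avg_mem hG (G := G) a
    rw [SetLike.mem_coe, LinearMap.mem_ker] at ha
    rwa [ha, sub_zero] at h

end Avg



theorem comap_mk_maximalIdeal' {R : Type*} [CommRing R] [IsLocalRing R] (K : Ideal R)
    [IsLocalRing (R ⧸ K)] :
    (maximalIdeal (R ⧸ K)).comap (Ideal.Quotient.mk K) = maximalIdeal R := by
  have hloc : IsLocalHom (Ideal.Quotient.mk K) :=
    Function.Surjective.isLocalHom _ Ideal.Quotient.mk_surjective
  exact ((local_hom_TFAE (Ideal.Quotient.mk K)).out 0 4).mp hloc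

theorem le_of_le_add_of_le {d : WithBot ℕ∞} {n s s' : ℕ} (h : (n : WithBot ℕ∞) ≤ d + (s' : ℕ))
    (hs : s' ≤ s) : ((n - s : ℕ) : WithBot ℕ∞) ≤ d := by
  induction d using WithBot.recBotCoe with
  | bot => simp at h
  | coe e =>
    induction e using ENat.recTopCoe with
    | top => exact le_top
    | coe m =>
      have : n ≤ m + s' := by exact_mod_cast h
      have h' : n - s ≤ m := by omega
      exact WithBot.coe_le_coe.mpr (by exact_mod_cast h')

/-- Quotient of a regular local ring by lifts of a linearly independent subset of the cotangent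
space is regular. -/
theorem isRegularLocalRing_quotient_of_lifts (A : Type*) [CommRing A] [IsRegularLocalRing A]
    (b : Set (CotangentSpace A)) (hb : LinearIndepOn (ResidueField A) id b)
    (y : CotangentSpace A → maximalIdeal A)
    (hy : ∀ v ∈ b, (maximalIdeal A).toCotangent (y v) = v) :
    IsRegularLocalRing (A ⧸ Ideal.span ((fun v => (y v : A)) '' b)) := by
  classical
  set I : Ideal A := Ideal.span ((fun v => (y v : A)) '' b) with hI
  have hIM : I ≤ maximalIdeal A := by
    rw [hI, Ideal.span_le]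
    rintro _ ⟨v, -, rfl⟩
    exact (y v).2
  have hne : I ≠ ⊤ := fun h => (maximalIdeal.isMaximal A).ne_top (top_le_iff.mp (h ▸ hIM))
  have : Nontrivial (A ⧸ I) := Ideal.Quotient.nontrivial_iff.mpr hne
  have : IsLocalRing (A ⧸ I) :=
    IsLocalRing.of_surjective' (Ideal.Quotient.mk I) Ideal.Quotient.mk_surjective
  set B := hb.extend (Set.subset_univ b) with hB
  have hbB : b ⊆ B := hb.subset_extend _
  let bas := Module.Basis.extend hb
  have : Finite B := Module.Finite.finite_basis bas
  have hBfin : B.Finite := Set.toFinite B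
  have hbfin : b.Finite := hBfin.subset hbB
  have hspanB : Submodule.span (ResidueField A) B = ⊤ := by
    have := bas.span_eq
    rwa [Module.Basis.range_extend] at this
  have hcardB : B.ncard = Module.finrank (ResidueField A) (CotangentSpace A) := by
    rw [Module.finrank_eq_nat_card_basis bas, Nat.card_coe_set_eq]
  let σ : CotangentSpace A → maximalIdeal A :=
    Function.surjInv (maximalIdeal A).toCotangent_surjective
  let ℓ : CotangentSpace A → maximalIdeal A := fun v => if v ∈ b then y v else σ v
  have hℓ : ∀ v, (maximalIdeal A).toCotangent (ℓ v) = v := by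
    intro v
    by_cases hv : v ∈ b
    · simp only [ℓ, if_pos hv]; exact hy v hv
    · simp only [ℓ, if_neg hv]; exact Function.surjInv_eq _ v
  set S : Set (maximalIdeal A) := ℓ '' B with hS
  have hSB : (maximalIdeal A).toCotangent '' S = B := by
    rw [hS, Set.image_image]
    simp only [hℓ, Set.image_id']
  have hspanS : Submodule.span A S = ⊤ := by
    rw [← CotangentSpace.span_image_eq_top_iff, hSB, hspanB]
  have hM : maximalIdeal A = Ideal.span (Subtype.val '' S) := by
    have h1 := Submodule.map_span (maximalIdeal A).subtype S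
    rw [hspanS, Submodule.map_top, Submodule.range_subtype] at h1
    exact h1
  -- the maximal ideal of the quotient
  have hmax : maximalIdeal (A ⧸ I) = (maximalIdeal A).map (Ideal.Quotient.mk I) := by
    rw [← comap_mk_maximalIdeal' I, Ideal.map_comap_of_surjective _ Ideal.Quotient.mk_surjective]
  set T' : Set (A ⧸ I) := (fun v => Ideal.Quotient.mk I (ℓ v : A)) '' (B \ b) with hT'
  have hmax2 : maximalIdeal (A ⧸ I) = Ideal.span T' := by
    rw [hmax, hM, Ideal.map_span]
    apply le_antisymm
    · rw [Ideal.span_le]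
      rintro _ ⟨_, ⟨_, ⟨v, hvB, rfl⟩, rfl⟩, rfl⟩
      by_cases hv : v ∈ b
      · have : Ideal.Quotient.mk I (ℓ v : A) = 0 := by
          rw [Ideal.Quotient.eq_zero_iff_mem]
          simp only [ℓ, if_pos hv]
          exact Ideal.subset_span ⟨v, hv, rfl⟩
        rw [this]; exact Ideal.zero_mem _
      · exact Ideal.subset_span ⟨v, ⟨hvB, hv⟩, rfl⟩
    · apply Ideal.span_mono
      rintro _ ⟨v, ⟨hvB, -⟩, rfl⟩
      exact ⟨_, ⟨_, ⟨v, hvB, rfl⟩, rfl⟩, rfl⟩
  have h1 : (maximalIdeal (A ⧸ I)).spanFinrank ≤ B.ncard - b.ncard := by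
    rw [hmax2]
    calc (Ideal.span T').spanFinrank ≤ T'.ncard :=
          Submodule.spanFinrank_span_le_ncard_of_finite ((hBfin.sdiff).image _)
      _ ≤ (B \ b).ncard := Set.ncard_image_le hBfin.sdiff
      _ = B.ncard - b.ncard := Set.ncard_sdiff hbB hbfin
  have h2 : I.spanFinrank ≤ b.ncard := by
    calc I.spanFinrank ≤ ((fun v => (y v : A)) '' b).ncard :=
          Submodule.spanFinrank_span_le_ncard_of_finite (hbfin.image _)
      _ ≤ b.ncard := Set.ncard_image_le hbfin
  have h3 : ringKrullDim A ≤ ringKrullDim (A ⧸ I) + I.spanFinrank :=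
    ringKrullDim_le_ringKrullDim_quotient_add_spanFinrank I
      (hIM.trans (IsLocalRing.ringJacobson_eq_maximalIdeal A).ge)
  have h4 : ringKrullDim A = (B.ncard : ℕ) := by
    rw [hcardB, ← spanFinrank_maximalIdeal_eq_finrank_cotangentSpace]
    exact IsRegularLocalRing.spanFinrank_maximalIdeal.symm
  apply IsRegularLocalRing.of_spanFinrank_maximalIdeal_le
  rw [h4] at h3
  refine le_trans ?_ (le_of_le_add_of_le h3 h2)
  exact_mod_cast h1


section Local

variable {k : Type*} [Field k] {A : Type*} [CommRing A] [Algebra k A] [IsLocalRing A]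
  {G : Type*} [Group G] [Fintype G] [MulSemiringAction G A] [SMulCommClass G k A]

omit [Fintype G] in
theorem smul_mem_maximalIdeal (g : G) {m : A} (hm : m ∈ maximalIdeal A) :
    g • m ∈ maximalIdeal A := by
  rw [mem_maximalIdeal, mem_nonunits_iff] at hm ⊢
  intro hu
  apply hm
  have := hu.map (MulSemiringAction.toRingHom G A g⁻¹)
  simpa using this

omit [Fintype G] [IsLocalRing A] in
theorem smul_algebraMap (g : G) (c : k) : g • (algebraMap k A c) = algebraMap k A c := by
  rw [Algebra.algebraMap_eq_smul_one, smul_comm, smul_one]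

omit [Fintype G] in
theorem exists_decomp (hres : Function.Surjective (algebraMap k (ResidueField A))) (a : A) :
    ∃ (c : k) (m : A), m ∈ maximalIdeal A ∧ a = algebraMap k A c + m := by
  obtain ⟨c, hc⟩ := hres (residue A a)
  refine ⟨c, a - algebraMap k A c, ?_, by ring⟩
  rw [← residue_eq_zero_iff, map_sub, ← hc, IsScalarTower.algebraMap_apply k A (ResidueField A)]
  exact sub_self _

omit [Fintype G] in
theorem coinv_le_maximalIdeal (hres : Function.Surjective (algebraMap k (ResidueField A))) :
    coinv G A ≤ maximalIdeal A := by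
  rw [coinv, Ideal.span_le]
  rintro _ ⟨g, a, rfl⟩
  obtain ⟨c, m, hm, rfl⟩ := exists_decomp hres a
  have : g • (algebraMap k A c + m) - (algebraMap k A c + m) = g • m - m := by
    rw [smul_add, smul_algebraMap]; ring
  rw [this]
  exact Ideal.sub_mem _ (smul_mem_maximalIdeal g hm) hm

end Local

section Main

variable {k : Type*} [Field k] {A : Type*} [CommRing A] [Algebra k A] [IsRegularLocalRing A]
  {G : Type*} [Group G] [Fintype G] [MulSemiringAction G A] [SMulCommClass G k A]

omit [IsRegularLocalRing A] in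
theorem toCotangent_smul [IsLocalRing A] (c : k) {z : A} (hz : z ∈ maximalIdeal A)
    (h : c • z ∈ maximalIdeal A) :
    (maximalIdeal A).toCotangent ⟨c • z, h⟩ =
      algebraMap k (ResidueField A) c • (maximalIdeal A).toCotangent ⟨z, hz⟩ := by
  have h1 : (⟨c • z, h⟩ : maximalIdeal A) = algebraMap k A c • ⟨z, hz⟩ := by
    apply Subtype.ext
    simp [Algebra.smul_def]
  rw [h1, map_smul, IsScalarTower.algebraMap_apply k A (ResidueField A),
    IsScalarTower.algebraMap_smul (ResidueField A) (algebraMap k A c)]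

/-- **Smoothness of the fixed locus.**  The quotient of a regular local `k`-algebra with residue
field `k` by the coinvariant ideal of a finite group of order invertible in `k` is regular. -/
theorem isRegularLocalRing_quotient_coinv
    (hres : Function.Surjective (algebraMap k (ResidueField A)))
    (hG : (Fintype.card G : k) ≠ 0) :
    IsRegularLocalRing (A ⧸ coinv G A) := by
  classical
  set M := maximalIdeal A with hMdef
  set K : Submodule k A := LinearMap.ker (avg k G) with hKdef
  have hJM : coinv G A ≤ M := coinv_le_maximalIdeal hres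
  have hKJ : ∀ a ∈ K, a ∈ coinv G A := fun a ha => by
    rw [coinv_eq_span_ker hG]; exact Ideal.subset_span ha
  have hKM : ∀ a ∈ K, a ∈ M := fun a ha => hJM (hKJ a ha)
  let T : Set (CotangentSpace A) := {v | ∃ a, ∃ ha : a ∈ M, a ∈ K ∧ M.toCotangent ⟨a, ha⟩ = v}
  obtain ⟨b, hbT, hspan, hli⟩ := exists_linearIndependent (ResidueField A) T
  have hex : ∀ v : CotangentSpace A, ∃ m : M, v ∈ b → ((m : A) ∈ K ∧ M.toCotangent m = v) := by
    intro v
    by_cases hv : v ∈ b
    · obtain ⟨a, ha, haK, hav⟩ := hbT hv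
      exact ⟨⟨a, ha⟩, fun _ => ⟨haK, hav⟩⟩
    · exact ⟨0, fun h => absurd h hv⟩
  choose y hy using hex
  have hreg := isRegularLocalRing_quotient_of_lifts A b hli y (fun v hv => (hy v hv).2)
  set I := Ideal.span ((fun v => (y v : A)) '' b) with hIdef
  suffices h : coinv G A = I by rw [h]; exact hreg
  have hGM : ∀ (g : G), ∀ m ∈ M, g • m ∈ M := fun g m hm => smul_mem_maximalIdeal g hm
  -- every element of the span of `b` lifts to `K ∩ I`
  have hlift : ∀ v ∈ Submodule.span (ResidueField A) b,
      ∃ z : A, z ∈ K ∧ z ∈ I ∧ ∃ hz : z ∈ M, M.toCotangent ⟨z, hz⟩ = v := by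
    intro v hv
    induction hv using Submodule.span_induction with
    | mem v hvb =>
      exact ⟨y v, (hy v hvb).1, Ideal.subset_span ⟨v, hvb, rfl⟩, (y v).2, (hy v hvb).2⟩
    | zero => exact ⟨0, K.zero_mem, I.zero_mem, M.zero_mem, map_zero _⟩
    | add v w _ _ hv hw =>
      obtain ⟨z₁, h1K, h1I, h1M, h1⟩ := hv
      obtain ⟨z₂, h2K, h2I, h2M, h2⟩ := hw
      refine ⟨z₁ + z₂, K.add_mem h1K h2K, I.add_mem h1I h2I, M.add_mem h1M h2M, ?_⟩
      rw [← h1, ← h2, ← map_add]; rfl
    | smul c v _ hv =>
      obtain ⟨z, hK, hI, hM, h1⟩ := hv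
      obtain ⟨c', rfl⟩ := hres c
      have hcM : c' • z ∈ M := smul_mem_of_mem k c' hM
      refine ⟨c' • z, K.smul_mem c' hK, smul_mem_of_mem k c' hI, hcM, ?_⟩
      rw [toCotangent_smul c' hM hcM, h1]
  have key : ∀ a ∈ K, a ∈ I ⊔ M • coinv G A := by
    intro a haK
    have haM := hKM a haK
    have hvb : M.toCotangent ⟨a, haM⟩ ∈ Submodule.span (ResidueField A) b := by
      rw [hspan]; exact Submodule.subset_span ⟨a, haM, haK, rfl⟩
    obtain ⟨z, hzK, hzI, hzM, hz⟩ := hlift _ hvb
    have h0 : M.toCotangent ⟨a - z, M.sub_mem haM hzM⟩ = 0 := by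
      have : (⟨a - z, M.sub_mem haM hzM⟩ : M) = ⟨a, haM⟩ - ⟨z, hzM⟩ := rfl
      rw [this, map_sub, hz, sub_self]
    rw [Ideal.toCotangent_eq_zero] at h0
    have h1 := sq_sub_avg_mem hG M hGM h0
    have h2 : avg k G (a - z) = 0 := K.sub_mem haK hzK
    rw [h2, sub_zero] at h1
    have : a = z + (a - z) := by ring
    rw [this]
    exact Submodule.add_mem_sup hzI (by rwa [smul_eq_mul])
  apply le_antisymm
  · apply Submodule.le_of_le_smul_of_le_jacobson_bot (I := M) (IsNoetherian.noetherian _)
      (IsLocalRing.jacobson_eq_maximalIdeal _ bot_ne_top).ge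
    conv_lhs => rw [coinv_eq_span_ker hG (k := k)]
    rw [Ideal.span_le]
    exact fun a ha => key a ha
  · rw [hIdef, Ideal.span_le]
    rintro _ ⟨v, hv, rfl⟩
    exact hKJ _ (hy v hv).1

end Main

end Groth.Agent.Lib.Helper52.FixedLocus
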