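import Mathlib

/-!
# DVRs from flat extensions

* `isDVR_of_maximalIdeal_eq_span`: a Noetherian local ring whose maximal ideal is generated by a
  nonzerodivisor is a domain and a DVR.
* `main`: `R → S` flat, `S` Noetherian, `p` a prime of `R` with `R_p` a DVR and `S/pS` reduced;
  then `S_q` is a DVR for every associated prime `q` of `S/pS`.
-/

namespace Groth.Agent.Lib.Helper52.FlatDVR

open IsLocalRing

universe u

theorem isDVR_of_maximalIdeal_eq_span {B : Type*} [CommRing B] [IsNoetherianRing B]
    [IsLocalRing B] (t : B) (ht : t ∈ nonZeroDivisors B)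
    (hmax : maximalIdeal B = Ideal.span {t}) :
    ∃ _ : IsDomain B, IsDiscreteValuationRing B := by
  have hkrull : ⨅ n : ℕ, maximalIdeal B ^ n = ⊥ :=
    Ideal.iInf_pow_eq_bot_of_isLocalRing _ (Ideal.IsPrime.ne_top inferInstance)
  have hpow : ∀ n : ℕ, maximalIdeal B ^ n = Ideal.span {t ^ n} := by
    intro n
    rw [hmax, Ideal.span_singleton_pow]
  have hfac : ∀ b : B, b ≠ 0 → ∃ (n : ℕ) (u : B), IsUnit u ∧ b = u * t ^ n := by
    intro b hb
    have hex : ∃ n : ℕ, b ∉ maximalIdeal B ^ n := by
      by_contra hcon
      push Not at hcon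
      have : b ∈ ⨅ n : ℕ, maximalIdeal B ^ n := by
        rw [Ideal.mem_iInf]; exact hcon
      rw [hkrull] at this
      exact hb ((Ideal.mem_bot).mp this)
    classical
    let n := Nat.find hex
    have hn : b ∉ maximalIdeal B ^ n := Nat.find_spec hex
    have hn0 : n ≠ 0 := by
      intro h0
      rw [h0, pow_zero, Ideal.one_eq_top] at hn
      exact hn Submodule.mem_top
    obtain ⟨m, hm⟩ := Nat.exists_eq_succ_of_ne_zero hn0
    have hm' : b ∈ maximalIdeal B ^ m := by
      by_contra hcon
      have := Nat.find_min' hex hcon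
      omega
    rw [hpow, Ideal.mem_span_singleton'] at hm'
    obtain ⟨c, hc⟩ := hm'
    refine ⟨m, c, ?_, hc.symm⟩
    by_contra hcu
    have hcm : c ∈ maximalIdeal B := (mem_maximalIdeal c).mpr hcu
    rw [hmax, Ideal.mem_span_singleton'] at hcm
    obtain ⟨d, hd⟩ := hcm
    apply hn
    rw [hm, hpow, Ideal.mem_span_singleton']
    exact ⟨d, by rw [← hc, ← hd, pow_succ]; ring⟩
  have hdom : IsDomain B := by
    have : NoZeroDivisors B := by
      constructor
      intro a b hab
      by_contra hcon
      push Not at hcon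
      obtain ⟨n, u, hu, rfl⟩ := hfac a hcon.1
      obtain ⟨m, v, hv, rfl⟩ := hfac b hcon.2
      have h1 : (u * v) * t ^ (n + m) = 0 := by
        rw [← hab, pow_add]; ring
      have h2 : t ^ (n + m) = 0 := by
        have := (hu.mul hv).mul_right_eq_zero.mp h1
        exact this
      have h3 : t ^ (n + m) ∈ nonZeroDivisors B := pow_mem ht _
      exact nonZeroDivisors.ne_zero h3 h2
    exact NoZeroDivisors.to_isDomain B
  refine ⟨hdom, ?_⟩
  have hnf : ¬ IsField B := by
    rw [isField_iff_maximalIdeal_eq, hmax, Ideal.span_singleton_eq_bot]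
    exact nonZeroDivisors.ne_zero ht
  refine ((IsDiscreteValuationRing.TFAE B hnf).out 0 4).mpr ?_
  rw [hmax]
  exact ⟨⟨t, rfl⟩⟩

theorem main {R S : Type u} [CommRing R] [CommRing S] [Algebra R S] [IsNoetherianRing S]
    [Module.Flat R S] (p : Ideal R) [p.IsPrime] [IsDomain (Localization.AtPrime p)]
    [IsDiscreteValuationRing (Localization.AtPrime p)]
    (hp : IsReduced (S ⧸ p.map (algebraMap R S))) (q : Ideal S) [hqprime : q.IsPrime]
    (hq : q ∈ associatedPrimes S (S ⧸ p.map (algebraMap R S))) :
    ∃ _ : IsDomain (Localization.AtPrime q), IsDiscreteValuationRing (Localization.AtPrime q) := by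
  set P := p.map (algebraMap R S) with hP
  have hPrad : P.IsRadical := (Ideal.isRadical_iff_quotient_reduced P).mpr hp
  -- Step 1: `q` is minimal over `P`
  have hmin : q ∈ P.minimalPrimes := by
    obtain ⟨_, x, hx⟩ := (isAssociatedPrime_iff).mp hq
    obtain ⟨y, rfl⟩ := Ideal.Quotient.mk_surjective x
    have hmem : ∀ z, z ∈ q ↔ z * y ∈ P := by
      intro z
      rw [hx, Submodule.mem_colon_singleton, Submodule.mem_bot, Algebra.smul_def,
        Ideal.Quotient.algebraMap_eq, ← map_mul, Ideal.Quotient.eq_zero_iff_mem]
    have hy : y ∉ P := by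
      intro hy
      apply hqprime.ne_top
      rw [Ideal.eq_top_iff_one, hmem, one_mul]
      exact hy
    have hex : ∃ q'' ∈ P.minimalPrimes, y ∉ q'' := by
      by_contra hcon
      push Not at hcon
      apply hy
      rw [← hPrad.radical, ← Ideal.sInf_minimalPrimes, Ideal.mem_sInf]
      exact fun {I} hI => hcon I hI
    obtain ⟨q'', hq''min, hyq''⟩ := hex
    have hq''prime : q''.IsPrime := hq''min.1.1
    have hle : q ≤ q'' := by
      intro z hz
      have : z * y ∈ q'' := hq''min.1.2 ((hmem z).mp hz)
      exact (hq''prime.mem_or_mem this).resolve_right hyq''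
    have hPq : P ≤ q := by
      intro z hz
      rw [hmem]; exact P.mul_mem_right _ hz
    have hge : q'' ≤ q := hq''min.2 ⟨hqprime, hPq⟩ hle
    have : q = q'' := le_antisymm hle hge
    rw [this]; exact hq''min
  -- Step 2: `q` lies over `p`
  have hle : p ≤ q.comap (algebraMap R S) := fun r hr => hmin.1.2 (Ideal.mem_map_of_mem _ hr)
  have hcomap : p = q.comap (algebraMap R S) := by
    apply le_antisymm hle
    have hlo : q.LiesOver (q.comap (algebraMap R S)) := ⟨rfl⟩
    obtain ⟨Q, hQq, hQprime, hQlo⟩ :=
      Ideal.exists_ideal_le_liesOver_of_le (p := p) (q := q.comap (algebraMap R S)) q hle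
    have hQp : p = Q.comap (algebraMap R S) := Q.over_def p
    have hPQ : P ≤ Q := by
      rw [hP, Ideal.map_le_iff_le_comap]
      exact hQp.le
    have hqQ : q ≤ Q := hmin.2 ⟨hQprime, hPQ⟩ hQq
    have hQ : Q = q := le_antisymm hQq hqQ
    rw [← hQ]; exact hQp.ge
  -- Step 3: the local map
  let φ : Localization.AtPrime p →+* Localization.AtPrime q :=
    Localization.localRingHom p q (algebraMap R S) hcomap
  let _ : Algebra (Localization.AtPrime p) (Localization.AtPrime q) := φ.toAlgebra
  have htower : IsScalarTower R (Localization.AtPrime p) (Localization.AtPrime q) :=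
    IsScalarTower.of_algebraMap_eq (fun r => by
      show algebraMap R (Localization.AtPrime q) r = φ (algebraMap R (Localization.AtPrime p) r)
      rw [Localization.localRingHom_to_map]
      exact IsScalarTower.algebraMap_apply R S (Localization.AtPrime q) r)
  have hflatRB : Module.Flat R (Localization.AtPrime q) := inferInstance
  have hflat : Module.Flat (Localization.AtPrime p) (Localization.AtPrime q) :=
    (Module.flat_iff_of_isLocalization (Localization.AtPrime p) p.primeCompl
      (Localization.AtPrime q)).mpr hflatRB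
  -- Step 4: the uniformizer
  obtain ⟨ϖ, hϖ⟩ := IsDiscreteValuationRing.exists_irreducible (Localization.AtPrime p)
  have hmaxA : maximalIdeal (Localization.AtPrime p) = Ideal.span {ϖ} := hϖ.maximalIdeal_eq
  have hϖreg : IsSMulRegular (Localization.AtPrime p) ϖ := by
    intro a b h
    exact mul_left_cancel₀ hϖ.ne_zero h
  have htreg : IsSMulRegular (Localization.AtPrime q)
      (algebraMap (Localization.AtPrime p) (Localization.AtPrime q) ϖ) :=
    IsSMulRegular.of_flat hϖreg
  have ht : φ ϖ ∈ nonZeroDivisors (Localization.AtPrime q) := by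
    rw [mem_nonZeroDivisors_iff_right]
    intro x hx
    apply htreg
    show φ ϖ * x = φ ϖ * 0
    rw [mul_zero, mul_comm]; exact hx
  -- Step 5: the maximal ideal
  have hmaxB : maximalIdeal (Localization.AtPrime q) = Ideal.span {φ ϖ} := by
    have h1 : maximalIdeal (Localization.AtPrime q) =
        P.map (algebraMap S (Localization.AtPrime q)) := by
      have := IsLocalization.AtPrime.radical_map_of_mem_minimalPrimes
        (A := Localization.AtPrime q) q P hmin
      rw [← IsLocalization.map_radical q.primeCompl, hPrad.radical] at this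
      rw [this, IsLocalization.AtPrime.map_eq_maximalIdeal]
    apply le_antisymm
    · rw [h1, hP, Ideal.map_map, Ideal.map_le_iff_le_comap]
      intro r hr
      have hrA : algebraMap R (Localization.AtPrime p) r ∈
          maximalIdeal (Localization.AtPrime p) := by
        rw [← IsLocalization.AtPrime.map_eq_maximalIdeal p]; exact Ideal.mem_map_of_mem _ hr
      rw [hmaxA, Ideal.mem_span_singleton'] at hrA
      obtain ⟨a, ha⟩ := hrA
      rw [Ideal.mem_comap, RingHom.comp_apply, ← Localization.localRingHom_to_map p q _ hcomap,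
        ← ha, map_mul, Ideal.mem_span_singleton']
      exact ⟨φ a, rfl⟩
    · rw [Ideal.span_le, Set.singleton_subset_iff]
      have hϖm : ϖ ∈ maximalIdeal (Localization.AtPrime p) := by
        rw [hmaxA]; exact Ideal.mem_span_singleton_self ϖ
      exact (mem_maximalIdeal _).mpr
        (fun hu => (mem_maximalIdeal _).mp hϖm (isUnit_of_map_unit φ ϖ hu))
  have hnoeth : IsNoetherianRing (Localization.AtPrime q) :=
    IsLocalization.isNoetherianRing q.primeCompl _ inferInstance
  exact isDVR_of_maximalIdeal_eq_span (φ ϖ) ht hmaxB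

end Groth.Agent.Lib.Helper52.FlatDVR
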