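import Mathlib.RingTheory.AlgebraicIndependent.TranscendenceBasis
import Mathlib.RingTheory.Spectrum.Prime.Polynomial
import Mathlib.RingTheory.Ideal.GoingUp
import Mathlib.RingTheory.Algebraic.Integral
import Mathlib.RingTheory.FiniteType
import Mathlib.RingTheory.IntegralClosure.IsIntegralClosure.Basic

/-!
# Generic image of a finite type ring map

For an injective finite type map of domains `B → A`, the image of `Spec A → Spec B`
contains a nonempty basic open.  (EGA IV 1.8.x / AM 5.23 flavour.)
-/

namespace Groth.Agent.Lib.Helper52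

open PrimeSpectrum

/-- If `f : C → A` is injective and every element of `A` is, up to a power of `f b`,
in the range of `f`, then every prime of `C` avoiding `b` lifts to `A`. -/
theorem exists_prime_comap_eq_of_forall_pow_mul_mem_range {C A : Type*} [CommRing C] [CommRing A]
    (f : C →+* A) (hf : Function.Injective f) (b : C)
    (hb : ∀ α : A, ∃ N : ℕ, f b ^ N * α ∈ f.range) (q' : Ideal C) [q'.IsPrime] (hbq : b ∉ q') :
    ∃ q : Ideal A, q.IsPrime ∧ q.comap f = q' := by
  rw [← Ideal.comap_map_eq_self_iff_of_isPrime]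
  refine le_antisymm ?_ Ideal.le_comap_map
  -- the ideal of elements which land in `f q'` after multiplying by a power of `f b`
  let J : Ideal A :=
    { carrier := {y | ∃ N : ℕ, ∃ q ∈ q', f b ^ N * y = f q}
      add_mem' := by
        rintro y y' ⟨N, q, hq, h⟩ ⟨M, q₂, hq₂, h₂⟩
        refine ⟨N + M, b ^ M * q + b ^ N * q₂, add_mem (Ideal.mul_mem_left _ _ hq)
          (Ideal.mul_mem_left _ _ hq₂), ?_⟩
        simp only [map_add, map_mul, map_pow, ← h, ← h₂]
        ring
      zero_mem' := ⟨0, 0, zero_mem _, by simp⟩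
      smul_mem' := by
        rintro α y ⟨N, q, hq, h⟩
        obtain ⟨K, c, hc⟩ := hb α
        refine ⟨N + K, c * q, Ideal.mul_mem_left _ _ hq, ?_⟩
        simp only [map_mul, ← h, hc, smul_eq_mul]
        ring }
  have hJ : q'.map f ≤ J := by
    rw [Ideal.map_le_iff_le_comap]
    intro q hq
    exact ⟨0, q, hq, by simp⟩
  intro x hx
  obtain ⟨N, q, hq, h⟩ := hJ hx
  rw [← map_pow, ← map_mul] at h
  have := hf h
  rw [← this] at hq
  exact (Ideal.IsPrime.mem_or_mem inferInstance hq).resolve_left
    (fun h' => hbq (Ideal.IsPrime.mem_of_pow_mem inferInstance _ h'))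

/-- Algebraic finite type injective extension of domains: primes away from some nonzero
`b` lift. -/
theorem exists_ne_zero_forall_prime_exists_comap_eq_of_isAlgebraic (R A : Type*) [CommRing R]
    [IsDomain R] [CommRing A] [IsDomain A] [Algebra R A]
    (hinj : Function.Injective (algebraMap R A))
    [Algebra.FiniteType R A] [Algebra.IsAlgebraic R A] :
    ∃ b : R, b ≠ 0 ∧ ∀ p : Ideal R, p.IsPrime → b ∉ p →
      ∃ q : Ideal A, q.IsPrime ∧ q.comap (algebraMap R A) = p := by
  classical
  obtain ⟨s, hs⟩ := (Algebra.FiniteType.out : (⊤ : Subalgebra R A).FG)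
  choose y hy0 hy using fun a : A =>
    (Algebra.IsAlgebraic.isAlgebraic (R := R) a).exists_integral_multiple
  let C : Subalgebra R A := integralClosure R A
  let b : R := ∏ a ∈ s, y a
  have hb0 : b ≠ 0 := Finset.prod_ne_zero_iff.mpr fun a _ => hy0 a
  have hbs : ∀ a ∈ s, b • a ∈ C := by
    intro a ha
    have : b = (∏ a' ∈ s.erase a, y a') * y a := (Finset.prod_erase_mul s y ha).symm
    rw [this, mul_smul]
    exact C.smul_mem (hy a) _
  have hpow : ∀ α : A, ∃ N : ℕ, b ^ N • α ∈ C := by
    intro α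
    have hα : α ∈ Algebra.adjoin R (s : Set A) := hs ▸ Algebra.mem_top
    induction hα using Algebra.adjoin_induction with
    | mem x hx => exact ⟨1, by simpa using hbs x hx⟩
    | algebraMap r => exact ⟨0, by simp⟩
    | add x x' _ _ hx hx' =>
      obtain ⟨N, hN⟩ := hx
      obtain ⟨M, hM⟩ := hx'
      refine ⟨N + M, ?_⟩
      rw [smul_add, pow_add]
      refine C.add_mem ?_ ?_
      · rw [mul_comm, mul_smul]; exact C.smul_mem hN _
      · rw [mul_smul]; exact C.smul_mem hM _
    | mul x x' _ _ hx hx' =>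
      obtain ⟨N, hN⟩ := hx
      obtain ⟨M, hM⟩ := hx'
      refine ⟨N + M, ?_⟩
      have : b ^ (N + M) • (x * x') = (b ^ N • x) * (b ^ M • x') := by
        rw [smul_mul_smul_comm, pow_add]
      rw [this]
      exact C.mul_mem hN hM
  refine ⟨b, hb0, fun p hp hbp => ?_⟩
  have hinjC : Function.Injective (algebraMap R C) := by
    intro r r' h
    apply hinj
    have := congrArg (algebraMap C A) h
    simpa [← IsScalarTower.algebraMap_apply] using this
  obtain ⟨q', hq', hq'p⟩ := Ideal.exists_ideal_over_prime_of_isIntegral_of_isDomain (S := C) p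
    (by rw [(RingHom.injective_iff_ker_eq_bot _).mp hinjC]; exact bot_le)
  have hbq' : algebraMap R C b ∉ q' := by
    intro h
    apply hbp
    rw [← hq'p]
    exact h
  obtain ⟨q, hq, hqq'⟩ := exists_prime_comap_eq_of_forall_pow_mul_mem_range (algebraMap C A)
    Subtype.val_injective (algebraMap R C b) (fun α => by
      obtain ⟨N, hN⟩ := hpow α
      refine ⟨N, ⟨⟨_, hN⟩, ?_⟩⟩
      rw [← IsScalarTower.algebraMap_apply, ← map_pow, ← Algebra.smul_def]
      rfl) q' hbq'
  refine ⟨q, hq, ?_⟩
  rw [IsScalarTower.algebraMap_eq R C A, ← Ideal.comap_comap, hqq', hq'p]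

/-- Injective finite type extension of domains: the image of `Spec A → Spec B` contains a
nonempty basic open. -/
theorem exists_ne_zero_basicOpen_subset_range_comap (B A : Type*) [CommRing B] [IsDomain B]
    [CommRing A] [IsDomain A] [Algebra B A] (hinj : Function.Injective (algebraMap B A))
    [Algebra.FiniteType B A] :
    ∃ u : B, u ≠ 0 ∧
      (basicOpen u : Set (PrimeSpectrum B)) ⊆ Set.range (comap (algebraMap B A)) := by
  have : FaithfulSMul B A := (faithfulSMul_iff_algebraMap_injective B A).mpr hinj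
  obtain ⟨s, hs⟩ := exists_isTranscendenceBasis B A
  let ψ : MvPolynomial s B →ₐ[B] A := MvPolynomial.aeval (Subtype.val : s → A)
  have hψ : Function.Injective ψ := hs.1
  let : Algebra (MvPolynomial s B) A := ψ.toRingHom.toAlgebra
  have : IsScalarTower B (MvPolynomial s B) A :=
    IsScalarTower.of_algebraMap_eq (fun r => (ψ.commutes r).symm)
  have : Algebra.FiniteType (MvPolynomial s B) A :=
    Algebra.FiniteType.of_restrictScalars_finiteType B (MvPolynomial s B) A
  have : Algebra.IsAlgebraic (MvPolynomial s B) A := by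
    have := hs.isAlgebraic
    refine Algebra.IsAlgebraic.of_ringHom_of_comp_eq
      (S := Algebra.adjoin B (Set.range (Subtype.val : s → A))) (B := A)
      (hs.1.aevalEquiv : MvPolynomial s B →+* _) (RingHom.id A)
      hs.1.aevalEquiv.surjective Function.injective_id ?_
    ext x
    · simp [RingHom.algebraMap_toAlgebra, ψ]
    · simp [RingHom.algebraMap_toAlgebra, ψ]
  obtain ⟨w, hw0, hw⟩ :=
    exists_ne_zero_forall_prime_exists_comap_eq_of_isAlgebraic (MvPolynomial s B) A hψ
  obtain ⟨d, hd⟩ := MvPolynomial.ne_zero_iff.mp hw0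
  refine ⟨w.coeff d, hd, ?_⟩
  intro p hp
  have hp' : p ∈ comap (MvPolynomial.C (σ := s)) '' (basicOpen w) := by
    rw [MvPolynomial.image_comap_C_basicOpen]
    intro h
    exact hp (h ⟨d, rfl⟩)
  obtain ⟨P, hP, rfl⟩ := hp'
  obtain ⟨q, hq, hqP⟩ := hw P.asIdeal P.2 hP
  refine ⟨⟨q, hq⟩, ?_⟩
  ext1
  change Ideal.comap (algebraMap B A) q = Ideal.comap MvPolynomial.C P.asIdeal
  rw [← hqP, Ideal.comap_comap]
  congr 1
  ext r
  exact (ψ.commutes r).symm

/-- General form: a finite type ring map `φ : B → A` and a prime `q` of `A` whose contraction is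
contained in every prime of `B` (so it is the generic point of `Spec B`).  Then the image of
`Spec A → Spec B` contains a basic open neighbourhood of that generic point. -/
theorem exists_basicOpen_subset_range_comap_of_finiteType {B A : Type*} [CommRing B] [CommRing A]
    (φ : B →+* A) (hφ : φ.FiniteType) (q : PrimeSpectrum A)
    (h : ∀ p : PrimeSpectrum B, comap φ q ≤ p) :
    ∃ u : B, u ∉ (comap φ q).asIdeal ∧
      (basicOpen u : Set (PrimeSpectrum B)) ⊆ Set.range (comap φ) := by
  let φ' : B ⧸ (q.asIdeal.comap φ) →+* A ⧸ q.asIdeal := Ideal.quotientMap q.asIdeal φ le_rfl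
  have hφ'inj : Function.Injective φ' := Ideal.quotientMap_injective
  have hcomp : φ'.comp (Ideal.Quotient.mk (q.asIdeal.comap φ)) =
      (Ideal.Quotient.mk q.asIdeal).comp φ := by
    ext x; simp [φ']
  have hφ' : φ'.FiniteType := by
    refine RingHom.FiniteType.of_comp_finiteType (f := Ideal.Quotient.mk (q.asIdeal.comap φ)) ?_
    rw [hcomp]
    exact (RingHom.FiniteType.of_surjective _ Ideal.Quotient.mk_surjective).comp hφ
  let _ : Algebra (B ⧸ (q.asIdeal.comap φ)) (A ⧸ q.asIdeal) := φ'.toAlgebra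
  have : Algebra.FiniteType (B ⧸ (q.asIdeal.comap φ)) (A ⧸ q.asIdeal) := hφ'
  have : (q.asIdeal.comap φ).IsPrime := Ideal.comap_isPrime φ q.asIdeal
  obtain ⟨u', hu'0, hu'⟩ := exists_ne_zero_basicOpen_subset_range_comap
    (B ⧸ (q.asIdeal.comap φ)) (A ⧸ q.asIdeal) hφ'inj
  obtain ⟨u, rfl⟩ := Ideal.Quotient.mk_surjective u'
  refine ⟨u, fun hu => hu'0 (Ideal.Quotient.eq_zero_iff_mem.mpr hu), ?_⟩
  intro p hp
  have hp0 : p ∈ Set.range (comap (Ideal.Quotient.mk (q.asIdeal.comap φ))) := by
    rw [range_comap_of_surjective _ _ Ideal.Quotient.mk_surjective, Ideal.mk_ker]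
    exact h p
  obtain ⟨p', rfl⟩ := hp0
  have hp' : p' ∈ (basicOpen (Ideal.Quotient.mk (q.asIdeal.comap φ) u) : Set _) := hp
  obtain ⟨q'', hq''⟩ := hu' hp'
  refine ⟨comap (Ideal.Quotient.mk q.asIdeal) q'', ?_⟩
  rw [← comap_comp_apply, ← hcomp, comap_comp_apply]
  exact congrArg _ hq''

end Groth.Agent.Lib.Helper52
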