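import Groth.Agent.Lib.Helper52.KapProj
import Groth.Agent.S0586
import Mathlib.RingTheory.Flat.FaithfullyFlat.Basic
import Mathlib.LinearAlgebra.TensorProduct.RightExactness

/-!
# Raynaud–Gruson: projectivity descends along faithfully flat ring maps
-/

set_option autoImplicit false

namespace Groth.Agent.Lib.Helper52.Kap

open CAlg Submodule TensorProduct

universe u

section BaseChange

variable {R : Type u} [CommRing R] (S : Type u) [CommRing S] [Algebra R S]
  {M : Type u} [AddCommGroup M] [Module R M]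

theorem baseChange_iSup' {ι : Sort*} (p : ι → Submodule R M) :
    (⨆ i, p i).baseChange S = ⨆ i, (p i).baseChange S := by
  refine le_antisymm ?_ (iSup_le fun i => baseChange_mono S (le_iSup p i))
  rw [baseChange_eq_span, span_le]
  rintro _ ⟨m, hm, rfl⟩
  show TensorProduct.mk R S M 1 m ∈ ⨆ i, (p i).baseChange S
  induction hm using Submodule.iSup_induction' with
  | mem i x hx => exact mem_iSup_of_mem i (tmul_mem_baseChange_of_mem 1 hx)
  | zero => simp
  | add x y _ _ hx hy => rw [map_add]; exact add_mem hx hy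

theorem baseChange_sup' (p q : Submodule R M) :
    (p ⊔ q).baseChange S = p.baseChange S ⊔ q.baseChange S := by
  refine le_antisymm ?_ (sup_le (baseChange_mono S le_sup_left) (baseChange_mono S le_sup_right))
  rw [baseChange_eq_span, span_le]
  rintro _ ⟨m, hm, rfl⟩
  obtain ⟨a, ha, b, hb, rfl⟩ := Submodule.mem_sup.1 hm
  show TensorProduct.mk R S M 1 (a + b) ∈ _
  rw [map_add]
  exact add_mem (mem_sup_left (tmul_mem_baseChange_of_mem 1 ha))
    (mem_sup_right (tmul_mem_baseChange_of_mem 1 hb))

/-- Base change of a subquotient `N'/N` identified with a complement of `N^e` in `N'^e`. -/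
theorem projective_baseChange_quotient [Module.Flat R S] {N N' : Submodule R M} (hNN' : N ≤ N')
    (V : Submodule S (S ⊗[R] M)) (hV : Module.Projective S V)
    (hdisj : Disjoint (N.baseChange S) V) (hsup : N.baseChange S ⊔ V = N'.baseChange S) :
    Module.Projective S (S ⊗[R] (N' ⧸ N.comap N'.subtype)) := by
  set N₀ := N.comap N'.subtype with hN₀
  let a : S ⊗[R] N' →ₗ[S] S ⊗[R] M := N'.subtype.baseChange S
  have ha : Function.Injective a := by
    have := Module.Flat.lTensor_preserves_injective_linearMap (M := S) N'.subtype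
      N'.injective_subtype
    intro x y hxy
    exact this hxy
  let qS : S ⊗[R] N' →ₗ[S] S ⊗[R] (N' ⧸ N₀) := N₀.mkQ.baseChange S
  have hqS : Function.Surjective qS := LinearMap.lTensor_surjective S N₀.mkQ_surjective
  have hexact : Function.Exact (LinearMap.lTensor S N₀.subtype) (LinearMap.lTensor S N₀.mkQ) :=
    lTensor_exact S (LinearMap.exact_subtype_mkQ N₀) N₀.mkQ_surjective
  have hrange : LinearMap.range a = N'.baseChange S := rfl
  -- the kernel of `qS` corresponds to `N^e`
  have hker1 : ∀ c : S ⊗[R] N₀, a (LinearMap.lTensor S N₀.subtype c) ∈ N.baseChange S := by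
    intro c
    induction c with
    | zero => simp
    | add x y hx hy => rw [map_add, map_add]; exact add_mem hx hy
    | tmul s n => exact tmul_mem_baseChange_of_mem s n.2
  let e : N →ₗ[R] N₀ := LinearMap.codRestrict N₀ (Submodule.inclusion hNN') (fun n => n.2)
  have he : N'.subtype ∘ₗ N₀.subtype ∘ₗ e = N.subtype := rfl
  have hkey : ∀ b : S ⊗[R] N', qS b = 0 ↔ a b ∈ N.baseChange S := by
    intro b
    constructor
    · intro hb
      obtain ⟨c, rfl⟩ := (hexact b).1 hb
      exact hker1 c
    · rintro ⟨d, hd⟩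
      have h1 : a (LinearMap.lTensor S N₀.subtype (LinearMap.lTensor S e d)) = a b := by
        rw [← hd]
        show (LinearMap.lTensor S N'.subtype) _ = (LinearMap.lTensor S N.subtype) d
        rw [← LinearMap.comp_apply, ← LinearMap.comp_apply, ← LinearMap.lTensor_comp,
          ← LinearMap.lTensor_comp]
        rfl
      have h2 := ha h1
      exact (hexact b).2 ⟨_, h2⟩
  have hVle : V ≤ LinearMap.range a := by
    rw [hrange, ← hsup]
    exact le_sup_right
  let ainv := (LinearEquiv.ofInjective a ha).symm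
  have hainv : ∀ y : LinearMap.range a, a (ainv y) = y := fun y =>
    congrArg Subtype.val ((LinearEquiv.ofInjective a ha).apply_symm_apply y)
  let w : V →ₗ[S] S ⊗[R] (N' ⧸ N₀) :=
    qS ∘ₗ ainv.toLinearMap ∘ₗ Submodule.inclusion hVle
  have hw : Function.Bijective w := by
    constructor
    · rw [injective_iff_map_eq_zero]
      intro v hv
      have h1 : a (ainv (Submodule.inclusion hVle v)) ∈ N.baseChange S := (hkey _).1 hv
      rw [hainv] at h1
      have h2 : (v : S ⊗[R] M) ∈ N.baseChange S ⊓ V := ⟨h1, v.2⟩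
      rw [hdisj.eq_bot, mem_bot] at h2
      exact Subtype.ext h2
    · intro x
      obtain ⟨b, rfl⟩ := hqS x
      have hab : a b ∈ N.baseChange S ⊔ V := by
        rw [hsup, ← hrange]
        exact ⟨b, rfl⟩
      obtain ⟨n, hn, v, hv, hnv⟩ := Submodule.mem_sup.1 hab
      have hn' : n ∈ LinearMap.range a := by
        rw [hrange]
        exact baseChange_mono S hNN' hn
      obtain ⟨k, rfl⟩ := hn'
      refine ⟨⟨v, hv⟩, ?_⟩
      have h3 : ainv (Submodule.inclusion hVle ⟨v, hv⟩) = b - k := by
        apply ha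
        rw [hainv, map_sub, ← hnv]
        simp
      show qS (ainv (Submodule.inclusion hVle ⟨v, hv⟩)) = qS b
      rw [h3, map_sub, (hkey k).2 hn, sub_zero]
  exact Module.Projective.of_equiv (LinearEquiv.ofBijective w hw)

end BaseChange

section Quot

variable {R : Type u} [CommRing R] (S : Type u) [CommRing S] [Algebra R S]
  {M : Type u} [AddCommGroup M] [Module R M]

/-- The subquotient `N'/N` is countably generated when `N' = N ⊔ span T` for countable `T`. -/
theorem isCountablyGenerated_quotient {N N' : Submodule R M} {T : Set M} (hT : T.Countable)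
    (hN' : N' = N ⊔ span R T) :
    IsCountablyGenerated R (N' ⧸ N.comap N'.subtype) := by
  have hle : span R T ≤ N' := hN' ▸ le_sup_right
  let f : span R T →ₗ[R] N' ⧸ N.comap N'.subtype :=
    (N.comap N'.subtype).mkQ ∘ₗ Submodule.inclusion hle
  have hf : Function.Surjective f := by
    intro x
    obtain ⟨⟨x', hx'⟩, rfl⟩ := (N.comap N'.subtype).mkQ_surjective x
    have hx'' := hx'
    rw [hN'] at hx''
    obtain ⟨n, hn, t, ht, hnt⟩ := Submodule.mem_sup.1 hx''
    refine ⟨⟨t, ht⟩, ?_⟩
    show (N.comap N'.subtype).mkQ _ = (N.comap N'.subtype).mkQ _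
    rw [← sub_eq_zero, ← map_sub, Submodule.mkQ_apply, Submodule.Quotient.mk_eq_zero]
    show ((Submodule.inclusion hle ⟨t, ht⟩ - ⟨x', hx'⟩ : N') : M) ∈ N
    have : ((Submodule.inclusion hle ⟨t, ht⟩ - ⟨x', hx'⟩ : N') : M) = -n := by
      show t - x' = -n
      rw [← hnt]
      abel
    rw [this]
    exact neg_mem hn
  exact isCountablyGenerated_of_surjective f hf (CG.isCountablyGenerated ⟨T, hT, rfl⟩)

/-- If the subquotient `N'/N` is projective and countably generated, then `N` has a countably
generated complement in `N'`. -/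
theorem exists_compl_of_projective_quotient {N N' : Submodule R M} (hNN' : N ≤ N')
    (hproj : Module.Projective R (N' ⧸ N.comap N'.subtype))
    (hcg : IsCountablyGenerated R (N' ⧸ N.comap N'.subtype)) :
    ∃ L : Submodule R M, CG L ∧ Disjoint L N ∧ L ⊔ N = N' := by
  set N₀ := N.comap N'.subtype with hN₀
  obtain ⟨σ, hσ⟩ := Module.projective_lifting_property N₀.mkQ LinearMap.id N₀.mkQ_surjective
  have hσ' : ∀ y, N₀.mkQ (σ y) = y := fun y => LinearMap.congr_fun hσ y
  let g : (N' ⧸ N₀) →ₗ[R] M := N'.subtype ∘ₗ σ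
  refine ⟨LinearMap.range g, ?_, ?_, ?_⟩
  · have hsurj : Function.Surjective g.rangeRestrict := LinearMap.surjective_rangeRestrict g
    exact CG.of_isCountablyGenerated (isCountablyGenerated_of_surjective _ hsurj hcg)
  · rw [Submodule.disjoint_def]
    rintro x ⟨y, rfl⟩ hx
    have h1 : σ y ∈ N₀ := hx
    have h2 : N₀.mkQ (σ y) = 0 := by
      rw [Submodule.mkQ_apply, Submodule.Quotient.mk_eq_zero]
      exact h1
    rw [hσ'] at h2
    rw [h2, map_zero]
  · refine le_antisymm (sup_le ?_ hNN') ?_
    · rintro _ ⟨y, rfl⟩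
      exact (σ y).2
    · intro x hx
      let x' : N' := ⟨x, hx⟩
      have h1 : x' - σ (N₀.mkQ x') ∈ N₀ := by
        rw [← Submodule.Quotient.mk_eq_zero, ← Submodule.mkQ_apply, map_sub, hσ', sub_self]
      have h2 : x = g (N₀.mkQ x') + (x' - σ (N₀.mkQ x') : N') := by
        show x = (σ (N₀.mkQ x') : M) + (x - (σ (N₀.mkQ x') : M))
        abel
      rw [h2]
      exact add_mem (mem_sup_left ⟨_, rfl⟩) (mem_sup_right h1)

/-- The subquotient of two submodules whose base changes differ by a projective complement is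
projective, if countably generated. -/
theorem projective_quotient_of_baseChange [Module.FaithfullyFlat R S] {N N' : Submodule R M}
    (hNN' : N ≤ N') (V : Submodule S (S ⊗[R] M)) (hV : Module.Projective S V)
    (hdisj : Disjoint (N.baseChange S) V) (hsup : N.baseChange S ⊔ V = N'.baseChange S)
    (hcg : IsCountablyGenerated R (N' ⧸ N.comap N'.subtype)) :
    Module.Projective R (N' ⧸ N.comap N'.subtype) := by
  have hproj := projective_baseChange_quotient S hNN' V hV hdisj hsup
  have hflat : Module.Flat R (N' ⧸ N.comap N'.subtype) :=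
    Module.Flat.of_flat_tensorProduct R _ S
  have hML : IsMittagLeffler R (N' ⧸ N.comap N'.subtype) :=
    Groth.Agent.S0586.result R S _ (isMittagLeffler_of_projective _)
  exact projective_of_countablyGenerated _ hML hcg

end Quot

section LemmaK

variable {R : Type u} [CommRing R] (S : Type u) [CommRing S] [Algebra R S]
  {M : Type u} [AddCommGroup M] [Module R M] {I : Type u} (Q : I → Submodule S (S ⊗[R] M))

theorem exists_finset_mem_span_mk (g : S ⊗[R] M) :
    ∃ E : Finset M, g ∈ span S (TensorProduct.mk R S M 1 '' (E : Set M)) := by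
  classical
  induction g with
  | zero => exact ⟨∅, zero_mem _⟩
  | tmul s m =>
    refine ⟨{m}, ?_⟩
    have : s ⊗ₜ[R] m = s • (TensorProduct.mk R S M 1 m) := by
      show s ⊗ₜ[R] m = s • ((1 : S) ⊗ₜ[R] m)
      rw [TensorProduct.smul_tmul', smul_eq_mul, mul_one]
    rw [this]
    exact smul_mem _ _ (subset_span ⟨m, by simp, rfl⟩)
  | add x y hx hy =>
    obtain ⟨E₁, h₁⟩ := hx
    obtain ⟨E₂, h₂⟩ := hy
    exact ⟨E₁ ∪ E₂, add_mem (span_mono (Set.image_mono (by simp)) h₁)
      (span_mono (Set.image_mono (by simp)) h₂)⟩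

theorem exists_countable_closed (hQs : iSup Q = ⊤) (hQc : ∀ i, CG (Q i)) (i₀ : I) :
    ∃ (C : Set I) (T : Set M), C.Countable ∧ T.Countable ∧ i₀ ∈ C ∧
      (span R T).baseChange S = ⨆ i ∈ C, Q i := by
  classical
  choose G hG hGspan using hQc
  choose E hE using exists_finset_mem_span_mk (R := R) S (M := M)
  have hsupp : ∀ y : S ⊗[R] M, ∃ t : Finset I, y ∈ ⨆ i ∈ t, Q i := fun y =>
    mem_iSup_iff_exists_finset.1 (hQs ▸ mem_top)
  choose supp hsupp using hsupp
  let ι : M →ₗ[R] S ⊗[R] M := TensorProduct.mk R S M 1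
  let Φ : Set I → Set I := fun C =>
    C ∪ ⋃ c ∈ C, ⋃ g ∈ G c, ⋃ m ∈ (E g : Set M), (supp (ι m) : Set I)
  let Cn : ℕ → Set I := fun n => Φ^[n] {i₀}
  have hCn : ∀ n, (Cn n).Countable := by
    intro n
    induction n with
    | zero => exact Set.countable_singleton i₀
    | succ n ih =>
      simp only [Cn, Function.iterate_succ_apply']
      exact ih.union (ih.biUnion fun c _ => (hG c).biUnion fun g _ =>
        (Finset.countable_toSet _).biUnion fun m _ => Finset.countable_toSet _)
  have hC : (⋃ n, Cn n).Countable := Set.countable_iUnion hCn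
  refine ⟨⋃ n, Cn n, ⋃ c ∈ ⋃ n, Cn n, ⋃ g ∈ G c, (E g : Set M), hC, ?_,
    Set.mem_iUnion.2 ⟨0, rfl⟩, ?_⟩
  · exact hC.biUnion fun c _ => (hG c).biUnion fun g _ => Finset.countable_toSet _
  · rw [baseChange_span]
    apply le_antisymm
    · rw [span_le]
      rintro _ ⟨m, hm, rfl⟩
      obtain ⟨c, hc, hm⟩ := Set.mem_iUnion₂.1 hm
      obtain ⟨g, hg, hm⟩ := Set.mem_iUnion₂.1 hm
      obtain ⟨n, hn⟩ := Set.mem_iUnion.1 hc
      refine (biSup_mono ?_ : (⨆ i ∈ supp (ι m), Q i) ≤ _) (hsupp (ι m))
      intro j hj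
      refine Set.mem_iUnion.2 ⟨n + 1, ?_⟩
      simp only [Cn, Function.iterate_succ_apply']
      exact Or.inr (Set.mem_biUnion hn (Set.mem_biUnion hg (Set.mem_biUnion hm hj)))
    · refine iSup₂_le fun c hc => ?_
      rw [← hGspan c, span_le]
      intro g hg
      refine span_mono (Set.image_mono ?_) (hE g)
      intro m hm
      exact Set.mem_biUnion hc (Set.mem_biUnion hg hm)

end LemmaK

section Main

variable {R : Type u} [CommRing R] (S : Type u) [CommRing S] [Algebra R S]
  {M : Type u} [AddCommGroup M] [Module R M]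

theorem projective_biSup {B : Type u} [AddCommGroup B] [Module S B] [Module.Projective S B]
    {I : Type u} (Q : I → Submodule S B) (hQi : iSupIndep Q) (hQs : iSup Q = ⊤) (D : Set I) :
    Module.Projective S (⨆ i ∈ D, Q i : Submodule S B) := by
  have hcompl : IsCompl (⨆ i ∈ D, Q i) (⨆ i ∈ Dᶜ, Q i) := by
    refine ⟨hQi.disjoint_biSup_biSup disjoint_compl_right, ?_⟩
    rw [codisjoint_iff, ← iSup_union, Set.union_compl_self]
    simp [hQs]
  exact Module.Projective.of_split (Submodule.subtype _) (Submodule.projectionOnto _ _ hcompl)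
    (by ext x; simp)

theorem exists_decomp_of_baseChange [Module.FaithfullyFlat R S]
    [Module.Projective S (S ⊗[R] M)] {I : Type u} (Q : I → Submodule S (S ⊗[R] M))
    (hQi : iSupIndep Q) (hQs : iSup Q = ⊤) (hQc : ∀ i, CG (Q i)) :
    ∃ 𝒮 : Set (Submodule R M), (∀ K ∈ 𝒮, CG K) ∧ sSupIndep 𝒮 ∧ sSup 𝒮 = ⊤ := by
  classical
  let A : Set (Set I × Set (Submodule R M)) :=
    {p | (∀ K ∈ p.2, CG K) ∧ sSupIndep p.2 ∧ (sSup p.2).baseChange S = ⨆ i ∈ p.1, Q i}
  have hzorn : ∃ m, Maximal (· ∈ A) m := by
    apply zorn_le₀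
    intro c hcA hchain
    refine ⟨(⋃ p : c, p.1.1, ⋃ p : c, p.1.2), ⟨?_, ?_, ?_⟩, ?_⟩
    · intro K hK
      obtain ⟨p, hp⟩ := Set.mem_iUnion.1 hK
      exact (hcA p.2).1 K hp
    · refine sSupIndep_iUnion_of_directed ?_ fun p => (hcA p.2).2.1
      intro p q
      rcases hchain.total p.2 q.2 with h | h
      · exact ⟨q, h.2, le_rfl⟩
      · exact ⟨p, le_rfl, h.2⟩
    · show (sSup (⋃ p : c, p.1.2)).baseChange S = ⨆ i ∈ ⋃ p : c, p.1.1, Q i
      rw [sSup_iUnion, baseChange_iSup', iSup_iUnion]
      exact iSup_congr fun p => (hcA p.2).2.2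
    · intro z hz
      exact ⟨Set.subset_iUnion (fun p : c => p.1.1) ⟨z, hz⟩,
        Set.subset_iUnion (fun p : c => p.1.2) ⟨z, hz⟩⟩
  obtain ⟨m, ⟨hcg, hindep, hbc⟩, hmax⟩ := hzorn
  have huniv : m.1 = Set.univ := by
    by_contra hne
    obtain ⟨i₀, hi₀⟩ := (Set.ne_univ_iff_exists_notMem _).1 hne
    obtain ⟨C, T, hC, hT, hiC, hTC⟩ := exists_countable_closed S Q hQs hQc i₀
    have hNN' : sSup m.2 ≤ sSup m.2 ⊔ span R T := le_sup_left
    have hN'e : (sSup m.2 ⊔ span R T).baseChange S = ⨆ i ∈ m.1 ∪ C, Q i := by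
      rw [baseChange_sup', hbc, hTC, iSup_union]
    have hdisj : Disjoint ((sSup m.2).baseChange S) (⨆ i ∈ C \ m.1, Q i) := by
      rw [hbc]
      exact hQi.disjoint_biSup_biSup Set.disjoint_sdiff_right
    have hsup : (sSup m.2).baseChange S ⊔ (⨆ i ∈ C \ m.1, Q i) =
        (sSup m.2 ⊔ span R T).baseChange S := by
      rw [hN'e, hbc, ← iSup_union, Set.union_sdiff_self]
    have hVproj : Module.Projective S (⨆ i ∈ C \ m.1, Q i : Submodule S (S ⊗[R] M)) :=
      projective_biSup S Q hQi hQs _
    have hXcg := isCountablyGenerated_quotient (N := sSup m.2) hT rfl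
    have hXproj := projective_quotient_of_baseChange S hNN' _ hVproj hdisj hsup hXcg
    obtain ⟨L, hL, hLdisj, hLsup⟩ := exists_compl_of_projective_quotient hNN' hXproj hXcg
    have hmem : (m.1 ∪ C, insert L m.2) ∈ A := by
      refine ⟨?_, sSupIndep_insert hindep hLdisj, ?_⟩
      · rintro K (rfl | hK)
        · exact hL
        · exact hcg K hK
      · show (sSup (insert L m.2)).baseChange S = _
        rw [sSup_insert, hLsup, hN'e]
    have hle : m ≤ (m.1 ∪ C, insert L m.2) :=
      ⟨Set.subset_union_left, Set.subset_insert _ _⟩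
    exact hi₀ ((hmax hmem hle).1 (Or.inr hiC))
  refine ⟨m.2, hcg, hindep, ?_⟩
  apply Submodule.baseChange_injective (A := S)
  rw [hbc, huniv, baseChange_top]
  simp [hQs]

/-- **Raynaud–Gruson**: projectivity descends along faithfully flat ring maps. -/
theorem projective_of_faithfullyFlat_baseChange [Module.FaithfullyFlat R S]
    [Module.Projective S (S ⊗[R] M)] : Module.Projective R M := by
  classical
  have hflat : Module.Flat R M := Module.Flat.of_flat_tensorProduct R M S
  have hML : IsMittagLeffler R M :=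
    Groth.Agent.S0586.result R S M (isMittagLeffler_of_projective _)
  obtain ⟨I, Q, hQ, hQc⟩ := exists_isInternal_of_projective (R := S) (S ⊗[R] M)
  obtain ⟨𝒮, hcg, hindep, hsup⟩ := exists_decomp_of_baseChange S Q hQ.submodule_iSupIndep
    hQ.submodule_iSup_eq_top (fun i => CG.of_isCountablyGenerated (hQc i))
  have hint : DirectSum.IsInternal (fun k : 𝒮 => k.1) :=
    DirectSum.isInternal_submodule_of_iSupIndep_of_iSup_eq_top ((sSupIndep_iff 𝒮).1 hindep)
      (by rw [← sSup_eq_iSup', hsup])
  exact projective_of_isInternal M hML _ hint (fun k => (hcg k.1 k.2).isCountablyGenerated)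

end Main

end Groth.Agent.Lib.Helper52.Kap
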