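import Groth.Agent.Lib.Helper52.KapSummand
import Mathlib.Algebra.DirectSum.Finsupp
import Mathlib.LinearAlgebra.LinearIndependent.Lemmas

/-!
# Projective ⟺ flat + Mittag-Leffler + direct sum of countably generated modules
-/

set_option autoImplicit false

namespace Groth.Agent.Lib.Helper52.Kap

open CAlg Submodule DirectSum

universe u

variable {R : Type u} [CommRing R]

section ML

variable {M₁ M₂ : Type u} [AddCommGroup M₁] [Module R M₁] [AddCommGroup M₂] [Module R M₂]

theorem isMittagLeffler_of_retract (i : M₁ →ₗ[R] M₂) (r : M₂ →ₗ[R] M₁)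
    (h : r ∘ₗ i = LinearMap.id) (h₂ : IsMittagLeffler R M₂) : IsMittagLeffler R M₁ := by
  refine ML.of_universallyInjective i (fun Q _ _ => ?_) h₂
  have hcomp : (r.rTensor Q) ∘ₗ (i.rTensor Q) = LinearMap.id := by
    rw [← LinearMap.rTensor_comp, h, LinearMap.rTensor_id]
  exact Function.LeftInverse.injective (g := r.rTensor Q) fun x => LinearMap.congr_fun hcomp x

theorem isMittagLeffler_of_linearEquiv (e : M₁ ≃ₗ[R] M₂) (h₂ : IsMittagLeffler R M₂) :
    IsMittagLeffler R M₁ :=
  isMittagLeffler_of_retract e.toLinearMap e.symm.toLinearMap (by ext x; simp) h₂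

theorem isMittagLeffler_finsupp (ι : Type u) : IsMittagLeffler R (ι →₀ R) := by
  classical
  refine isMittagLeffler_of_linearEquiv (finsuppLEquivDirectSum R R ι) ?_
  exact (ML.directSum_iff (fun _ : ι => R)).2 fun _ => ML.of_finitePresentation R

theorem isMittagLeffler_of_projective (M : Type u) [AddCommGroup M] [Module R M]
    [Module.Projective R M] : IsMittagLeffler R M := by
  obtain ⟨s, hs⟩ := Module.projective_def'.1 (inferInstance : Module.Projective R M)
  exact isMittagLeffler_of_retract s _ hs (isMittagLeffler_finsupp M)

end ML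

section Internal

variable {A B : Type u} [AddCommMonoid A] [Module R A] [AddCommGroup B] [Module R B]

theorem isInternal_map_equiv {κ : Type u} [DecidableEq κ] (e : A ≃ₗ[R] B)
    (L : κ → Submodule R A) (hi : iSupIndep L) (hs : iSup L = ⊤) :
    IsInternal (fun k => (L k).map e.toLinearMap) := by
  refine isInternal_submodule_of_iSupIndep_of_iSup_eq_top ?_ ?_
  · exact hi.map_orderIso (Submodule.orderIsoMapComap e)
  · rw [← Submodule.map_iSup, hs, Submodule.map_top,
      LinearMap.range_eq_top.2 e.surjective]

open scoped Classical in
/-- A retract of an (internal) direct sum of countably generated submodules is an internal direct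
sum of countably generated submodules. -/
theorem exists_isInternal_of_retract {F M : Type u} [AddCommGroup F] [Module R F]
    [AddCommGroup M] [Module R M] (s : M →ₗ[R] F) (p : F →ₗ[R] M)
    (hps : ∀ m, p (s m) = m) {ι : Type u} (N : ι → Submodule R F) (hNi : iSupIndep N)
    (hNs : iSup N = ⊤) (hc : ∀ i, IsCountablyGenerated R (N i)) :
    ∃ (κ : Type u) (L : κ → Submodule R M), IsInternal L ∧
      ∀ k, IsCountablyGenerated R (L k) := by
  have hidem : IsIdempotentElem (s ∘ₗ p) := by
    refine LinearMap.ext fun x => ?_
    show s (p (s (p x))) = s (p x)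
    rw [hps]
  obtain ⟨κ, L, hLi, hLs, hLc⟩ := exists_indep_summand hNi hNs hc
    (LinearMap.IsIdempotentElem.isCompl hidem)
  -- the range of `s ∘ p` is isomorphic to `M`
  let g : LinearMap.range (s ∘ₗ p) →ₗ[R] M := p ∘ₗ (LinearMap.range (s ∘ₗ p)).subtype
  have hg : Function.Bijective g := by
    constructor
    · rw [injective_iff_map_eq_zero]
      rintro ⟨x, y, rfl⟩ hx
      have hx' : p (s (p y)) = 0 := hx
      rw [hps] at hx'
      apply Subtype.ext
      show s (p y) = 0
      rw [hx', map_zero]
    · intro m
      exact ⟨⟨s m, s m, by show s (p (s m)) = s m; rw [hps]⟩, hps m⟩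
  let e := LinearEquiv.ofBijective g hg
  refine ⟨κ, fun k => (L k).map e.toLinearMap, isInternal_map_equiv e L hLi hLs, fun k => ?_⟩
  exact isCountablyGenerated_of_surjective (e.submoduleMap (L k)).toLinearMap
    (e.submoduleMap (L k)).surjective (hLc k)

open scoped Classical in
/-- A projective module is an internal direct sum of countably generated submodules. -/
theorem exists_isInternal_of_projective (M : Type u) [AddCommGroup M] [Module R M]
    [Module.Projective R M] :
    ∃ (ι : Type u) (N : ι → Submodule R M), IsInternal N ∧
      ∀ i, IsCountablyGenerated R (N i) := by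
  obtain ⟨s, hs⟩ := Module.projective_def'.1 (inferInstance : Module.Projective R M)
  have hps : ∀ m, Finsupp.linearCombination R id (s m) = m := fun m => LinearMap.congr_fun hs m
  -- the free module is an internal direct sum of cyclic submodules
  let b : Module.Basis M R (M →₀ R) := Finsupp.basisSingleOne
  have hcg : ∀ m : M, IsCountablyGenerated R (R ∙ b m : Submodule R (M →₀ R)) := fun m =>
    CG.isCountablyGenerated ⟨{b m}, Set.countable_singleton _, rfl⟩
  refine exists_isInternal_of_retract s _ hps (fun m : M => R ∙ b m)
    b.linearIndependent.iSupIndep_span_singleton ?_ hcg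
  rw [← span_range_eq_iSup, b.span_eq]

/-- Flat Mittag-Leffler direct sums of countably generated modules are projective. -/
theorem projective_of_isInternal (M : Type u) [AddCommGroup M] [Module R M] [Module.Flat R M]
    (hML : IsMittagLeffler R M) {ι : Type u} [DecidableEq ι] (N : ι → Submodule R M)
    (hN : IsInternal N) (hc : ∀ i, IsCountablyGenerated R (N i)) : Module.Projective R M := by
  let e : (⨁ i, N i) ≃ₗ[R] M := LinearEquiv.ofBijective (DirectSum.coeLinearMap N) hN
  have hretr : ∀ i, (DirectSum.component R ι (fun i => N i) i ∘ₗ e.symm.toLinearMap) ∘ₗ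
      (N i).subtype = LinearMap.id := by
    intro i
    ext x : 1
    have h1 : e.symm (x : M) = DirectSum.lof R ι (fun i => N i) i x := by
      rw [LinearEquiv.symm_apply_eq]
      exact (DirectSum.coeLinearMap_of N i x).symm
    show DirectSum.component R ι (fun i => N i) i (e.symm (x : M)) = x
    rw [h1, DirectSum.component.lof_self]
  have hproj : ∀ i, Module.Projective R (N i) := by
    intro i
    have : Module.Flat R (N i) := Module.Flat.of_retract _ _ (hretr i)
    exact projective_of_countablyGenerated (N i)
      (isMittagLeffler_of_retract _ _ (hretr i) hML) (hc i)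
  exact Module.Projective.of_equiv e

end Internal

end Groth.Agent.Lib.Helper52.Kap
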