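import Groth.Agent.Lib.Helper52.Kaplansky
import Mathlib.LinearAlgebra.Projection
import Mathlib.Order.CompactlyGenerated.Basic
import Mathlib.Order.Zorn
import Mathlib.Algebra.DirectSum.Module

/-!
# Kaplansky's theorem on direct summands of direct sums of countably generated modules
-/

set_option autoImplicit false

namespace Groth.Agent.Lib.Helper52.Kap

open CAlg Submodule

universe u

section CG

variable {R : Type u} [CommRing R] {M : Type u} [AddCommGroup M] [Module R M]

/-- A submodule is the span of a countable set. -/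
def CG (K : Submodule R M) : Prop := ∃ s : Set M, s.Countable ∧ span R s = K

theorem CG.isCountablyGenerated {K : Submodule R M} (h : CG K) : IsCountablyGenerated R K := by
  obtain ⟨s, hs, rfl⟩ := h
  exact ⟨((↑) : span R s → M) ⁻¹' s, hs.preimage_of_injOn Subtype.val_injective.injOn,
    span_span_coe_preimage⟩

theorem CG.of_isCountablyGenerated {K : Submodule R M} (h : IsCountablyGenerated R K) : CG K := by
  obtain ⟨s, hs, hspan⟩ := h
  refine ⟨K.subtype '' s, hs.image _, ?_⟩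
  rw [← map_span, hspan, map_subtype_top]

theorem isCountablyGenerated_of_surjective {A B : Type u} [AddCommGroup A] [Module R A]
    [AddCommGroup B] [Module R B] (f : A →ₗ[R] B) (hf : Function.Surjective f)
    (h : IsCountablyGenerated R A) : IsCountablyGenerated R B := by
  obtain ⟨s, hs, hspan⟩ := h
  refine ⟨f '' s, hs.image _, ?_⟩
  rw [← map_span, hspan, Submodule.map_top, LinearMap.range_eq_top.2 hf]

/-- A complement (inside a submodule containing a countable generating set modulo `B`) is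
countably generated. -/
theorem CG.of_compl {L B : Submodule R M} (hLB : Disjoint L B) {S : Set M} (hS : S.Countable)
    (h1 : span R S ≤ L ⊔ B) (h2 : L ≤ B ⊔ span R S) : CG L := by
  have hmem : ∀ g : S, ∃ l ∈ L, ∃ b ∈ B, l + b = (g : M) := fun g =>
    Submodule.mem_sup.1 (h1 (subset_span g.2))
  choose l hl b hb hlb using hmem
  have : Countable S := hS.to_subtype
  have hle : span R (Set.range l) ≤ L := by
    rw [span_le]
    rintro _ ⟨g, rfl⟩
    exact hl g
  refine ⟨Set.range l, Set.countable_range l, le_antisymm hle ?_⟩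
  intro x hx
  obtain ⟨b₀, hb₀, y, hy, rfl⟩ := Submodule.mem_sup.1 (h2 hx)
  have key : ∀ y ∈ span R S, ∃ l' ∈ span R (Set.range l), y - l' ∈ B := by
    intro y hy
    induction hy using span_induction with
    | mem g hg =>
      refine ⟨l ⟨g, hg⟩, subset_span ⟨_, rfl⟩, ?_⟩
      have := hlb ⟨g, hg⟩
      have h3 : g - l ⟨g, hg⟩ = b ⟨g, hg⟩ := by
        rw [sub_eq_iff_eq_add, add_comm]
        exact this.symm
      rw [h3]
      exact hb _
    | zero => exact ⟨0, zero_mem _, by simp⟩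
    | add y z _ _ hy hz =>
      obtain ⟨ly, hly, hy'⟩ := hy
      obtain ⟨lz, hlz, hz'⟩ := hz
      exact ⟨ly + lz, add_mem hly hlz, by rw [add_sub_add_comm]; exact add_mem hy' hz'⟩
    | smul r y _ hy =>
      obtain ⟨ly, hly, hy'⟩ := hy
      exact ⟨r • ly, smul_mem _ r hly, by rw [← smul_sub]; exact smul_mem _ r hy'⟩
  obtain ⟨l', hl', hyl⟩ := key y hy
  have hl'L : l' ∈ L := hle hl'
  have h4 : b₀ + y - l' ∈ L ⊓ B :=
    ⟨sub_mem hx hl'L, by rw [add_sub_assoc]; exact add_mem hb₀ hyl⟩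
  rw [hLB.eq_bot, mem_bot, sub_eq_zero] at h4
  rw [h4]
  exact hl'

end CG

theorem sSupIndep_insert {α : Type*} [CompleteLattice α] [IsModularLattice α] {s : Set α} {a : α}
    (hs : sSupIndep s) (ha : Disjoint a (sSup s)) : sSupIndep (insert a s) := by
  intro x hx
  by_cases hxa : x = a
  · subst hxa
    refine ha.mono_right (sSup_le_sSup ?_)
    rintro y ⟨hy, hyx⟩
    exact hy.resolve_left hyx
  · have hxs : x ∈ s := hx.resolve_left hxa
    have h1 : insert a s \ {x} = insert a (s \ {x}) :=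
      (Set.insert_sdiff_singleton_comm (fun h => hxa h.symm) s).symm
    rw [h1, sSup_insert, sup_comm]
    have h2 : x ⊔ sSup (s \ {x}) = sSup s := by
      rw [← sSup_insert, Set.insert_sdiff_singleton, Set.insert_eq_of_mem hxs]
    apply Disjoint.disjoint_sup_right_of_disjoint_sup_left (hs hxs)
    rw [h2]
    exact ha.symm

section Good

variable {R : Type u} [CommRing R] {M : Type u} [AddCommGroup M] [Module R M]
  {ι : Type u} (N : ι → Submodule R M) (π : M →ₗ[R] M)

/-- Partial sums of the family `N`. -/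
def MJ (J : Set ι) : Submodule R M := ⨆ i ∈ J, N i

theorem MJ_mono {J J' : Set ι} (h : J ⊆ J') : MJ N J ≤ MJ N J' := biSup_mono h

theorem MJ_union (J J' : Set ι) : MJ N (J ∪ J') = MJ N J ⊔ MJ N J' := iSup_union

theorem MJ_iUnion {η : Type*} (J : η → Set ι) : MJ N (⋃ c, J c) = ⨆ c, MJ N (J c) :=
  iSup_iUnion _ _

theorem MJ_empty : MJ N ∅ = ⊥ := by simp [MJ]

theorem MJ_univ : MJ N Set.univ = iSup N := by simp [MJ]

/-- `J` is good when the partial sum over `J` is stable under `π`. -/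
def Good (J : Set ι) : Prop := (MJ N J).map π ≤ MJ N J

variable {N π}

theorem Good.union {J J' : Set ι} (h : Good N π J) (h' : Good N π J') : Good N π (J ∪ J') := by
  unfold Good
  rw [MJ_union, Submodule.map_sup]
  exact sup_le_sup h h'

theorem Good.iUnion {η : Type*} {J : η → Set ι} (h : ∀ c, Good N π (J c)) :
    Good N π (⋃ c, J c) := by
  unfold Good
  rw [MJ_iUnion, Submodule.map_iSup]
  exact iSup_mono h

variable (N π)

theorem good_empty : Good N π ∅ := by
  unfold Good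
  rw [MJ_empty, Submodule.map_bot]

theorem exists_countable_good (hN : iSup N = ⊤) (hc : ∀ i, CG (N i)) (i₀ : ι) :
    ∃ C : Set ι, C.Countable ∧ i₀ ∈ C ∧ Good N π C := by
  choose s hs hspan using hc
  have hsupp : ∀ m : M, ∃ t : Finset ι, m ∈ ⨆ i ∈ t, N i := fun m =>
    mem_iSup_iff_exists_finset.1 (hN ▸ mem_top)
  choose supp hsupp using hsupp
  let T : Set ι → Set ι := fun C => C ∪ ⋃ i ∈ C, ⋃ g ∈ s i, (supp (π g) : Set ι)
  let Cn : ℕ → Set ι := fun n => T^[n] {i₀}
  have hCn : ∀ n, (Cn n).Countable := by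
    intro n
    induction n with
    | zero => exact Set.countable_singleton i₀
    | succ n ih =>
      simp only [Cn, Function.iterate_succ_apply']
      exact ih.union (ih.biUnion fun i _ => (hs i).biUnion fun g _ => Finset.countable_toSet _)
  refine ⟨⋃ n, Cn n, Set.countable_iUnion hCn, Set.mem_iUnion.2 ⟨0, rfl⟩, ?_⟩
  unfold Good
  rw [map_le_iff_le_comap]
  refine iSup₂_le fun i hi => ?_
  obtain ⟨n, hn⟩ := Set.mem_iUnion.1 hi
  rw [← hspan i, span_le]
  intro g hg
  show π g ∈ MJ N (⋃ n, Cn n)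
  refine (biSup_mono ?_ : (⨆ j ∈ supp (π g), N j) ≤ _) (hsupp (π g))
  intro j hj
  refine Set.mem_iUnion.2 ⟨n + 1, ?_⟩
  simp only [Cn, Function.iterate_succ_apply']
  exact Or.inr (Set.mem_biUnion hn (Set.mem_biUnion hg hj))

variable {N π} {P Q : Submodule R M}

theorem Good.sup_eq (hπP : ∀ x, π x ∈ P) (hπQ : ∀ x, x - π x ∈ Q) {J : Set ι}
    (h : Good N π J) : P ⊓ MJ N J ⊔ Q ⊓ MJ N J = MJ N J := by
  refine le_antisymm (sup_le inf_le_right inf_le_right) fun x hx => ?_
  have h1 : π x ∈ MJ N J := h (mem_map_of_mem hx)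
  rw [← add_sub_cancel (π x) x]
  exact add_mem (mem_sup_left ⟨hπP x, h1⟩) (mem_sup_right ⟨hπQ x, sub_mem hx h1⟩)

theorem Good.exists_extension (hN : iSupIndep N) (hPQ : Disjoint P Q) (hπP : ∀ x, π x ∈ P)
    (hπQ : ∀ x, x - π x ∈ Q) {J C : Set ι} (hJ : Good N π J) (hJ' : Good N π (J ∪ C))
    (s : ι → Set M) (hs : ∀ i, (s i).Countable) (hspan : ∀ i, span R (s i) = N i)
    (hC : C.Countable) :
    ∃ L : Submodule R M, CG L ∧ Disjoint L (P ⊓ MJ N J) ∧
      L ⊔ P ⊓ MJ N J = P ⊓ MJ N (J ∪ C) := by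
  have hJD : J ∪ C = J ∪ (C \ J) := Set.union_sdiff_self.symm
  have hMJ' : MJ N (J ∪ C) = MJ N J ⊔ MJ N (C \ J) := by rw [hJD, MJ_union]
  have hdisj : Disjoint (MJ N J) (MJ N (C \ J)) :=
    hN.disjoint_biSup_biSup Set.disjoint_sdiff_right
  rw [Submodule.disjoint_def] at hdisj hPQ
  set L : Submodule R M := P ⊓ MJ N (J ∪ C) ⊓ (Q ⊓ MJ N J ⊔ MJ N (C \ J)) with hL
  have hLP : L ≤ P := inf_le_left.trans inf_le_left
  have h1 : Disjoint L (P ⊓ MJ N J) := by
    rw [Submodule.disjoint_def]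
    rintro x ⟨-, hx2⟩ ⟨hxP, hxJ⟩
    obtain ⟨q, ⟨hqQ, hqJ⟩, d, hd, rfl⟩ := Submodule.mem_sup.1 hx2
    have hd0 : d = 0 := by
      refine hdisj d ?_ hd
      have : d = q + d - q := by abel
      rw [this]
      exact sub_mem hxJ hqJ
    subst hd0
    rw [add_zero] at hxP ⊢
    exact hPQ q hxP hqQ
  have h2 : L ⊔ P ⊓ MJ N J = P ⊓ MJ N (J ∪ C) := by
    refine le_antisymm (sup_le inf_le_left (inf_le_inf_left _ (MJ_mono N Set.subset_union_left)))
      ?_
    rintro x ⟨hxP, hxJ'⟩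
    have hxJ'' := hxJ'
    rw [SetLike.mem_coe, hMJ'] at hxJ''
    obtain ⟨m, hm, d, hd, rfl⟩ := Submodule.mem_sup.1 hxJ''
    have hπm : π m ∈ MJ N J := hJ (mem_map_of_mem hm)
    have hsplit : m + d = (m + d - π m) + π m := by abel
    rw [hsplit]
    refine add_mem (mem_sup_left ⟨⟨sub_mem hxP (hπP m), sub_mem hxJ' ?_⟩, ?_⟩)
      (mem_sup_right ⟨hπP m, hπm⟩)
    · exact MJ_mono N Set.subset_union_left hπm
    · have : m + d - π m = (m - π m) + d := by abel
      rw [this]
      exact add_mem (mem_sup_left ⟨hπQ m, sub_mem hm hπm⟩) (mem_sup_right hd)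
  refine ⟨L, ?_, h1, h2⟩
  have hSspan : span R (⋃ i ∈ C, s i) = MJ N C := by
    rw [span_iUnion₂]
    simp only [hspan]
    rfl
  refine CG.of_compl (B := P ⊓ MJ N J ⊔ Q ⊓ MJ N (J ∪ C)) ?_
    (hC.biUnion fun i _ => hs i) ?_ ?_
  · rw [Submodule.disjoint_def]
    intro x hxL hxB
    obtain ⟨p, ⟨hpP, hpJ⟩, q, ⟨hqQ, hqJ'⟩, rfl⟩ := Submodule.mem_sup.1 hxB
    have hq0 : q = 0 := by
      refine hPQ q ?_ hqQ
      have : q = p + q - p := by abel
      rw [this]
      exact sub_mem (hLP hxL) hpP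
    subst hq0
    rw [add_zero] at hxL ⊢
    rw [Submodule.disjoint_def] at h1
    exact h1 p hxL ⟨hpP, hpJ⟩
  · rw [hSspan, ← sup_assoc, h2, Good.sup_eq hπP hπQ hJ']
    exact MJ_mono N Set.subset_union_right
  · rw [hSspan]
    calc L ≤ MJ N (J ∪ C) := inf_le_left.trans inf_le_right
      _ = (P ⊓ MJ N J ⊔ Q ⊓ MJ N J) ⊔ MJ N C := by rw [MJ_union, Good.sup_eq hπP hπQ hJ]
      _ ≤ _ := sup_le_sup_right (sup_le_sup_left
          (inf_le_inf_left _ (MJ_mono N Set.subset_union_left)) _) _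

theorem exists_decomp (hN : iSupIndep N) (hN' : iSup N = ⊤) (hc : ∀ i, CG (N i))
    (hPQ : IsCompl P Q) :
    ∃ 𝒮 : Set (Submodule R M), (∀ K ∈ 𝒮, CG K) ∧ sSupIndep 𝒮 ∧ sSup 𝒮 = P := by
  classical
  set π := P.projection Q hPQ with hπ
  have hπP : ∀ x, π x ∈ P := projection_apply_mem hPQ
  have hπQ : ∀ x, x - π x ∈ Q := by
    intro x
    rw [← projection_apply_eq_zero_iff hPQ, map_sub,
      projection_apply_of_mem_left hPQ (hπP x), sub_self]
  let A : Set (Set ι × Set (Submodule R M)) :=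
    {p | Good N π p.1 ∧ (∀ K ∈ p.2, CG K) ∧ sSupIndep p.2 ∧ sSup p.2 = P ⊓ MJ N p.1}
  have hzorn : ∃ m, Maximal (· ∈ A) m := by
    apply zorn_le₀
    intro c hcA hchain
    refine ⟨(⋃ p : c, p.1.1, ⋃ p : c, p.1.2), ⟨?_, ?_, ?_, ?_⟩, ?_⟩
    · exact Good.iUnion fun p => (hcA p.2).1
    · intro K hK
      obtain ⟨p, hp⟩ := Set.mem_iUnion.1 hK
      exact (hcA p.2).2.1 K hp
    · refine sSupIndep_iUnion_of_directed ?_ fun p => (hcA p.2).2.2.1
      intro p q
      rcases hchain.total p.2 q.2 with h | h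
      · exact ⟨q, h.2, le_rfl⟩
      · exact ⟨p, le_rfl, h.2⟩
    · show sSup (⋃ p : c, p.1.2) = P ⊓ MJ N (⋃ p : c, p.1.1)
      rw [sSup_iUnion, MJ_iUnion, Directed.inf_iSup_eq]
      · exact iSup_congr fun p => (hcA p.2).2.2.2
      · intro p q
        rcases hchain.total p.2 q.2 with h | h
        · exact ⟨q, MJ_mono N h.1, le_rfl⟩
        · exact ⟨p, le_rfl, MJ_mono N h.1⟩
    · intro z hz
      exact ⟨Set.subset_iUnion (fun p : c => p.1.1) ⟨z, hz⟩,
        Set.subset_iUnion (fun p : c => p.1.2) ⟨z, hz⟩⟩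
  obtain ⟨m, ⟨hgood, hcg, hindep, hsup⟩, hmax⟩ := hzorn
  have huniv : m.1 = Set.univ := by
    by_contra hne
    obtain ⟨i, hi⟩ := (Set.ne_univ_iff_exists_notMem _).1 hne
    obtain ⟨C, hC, hiC, hCgood⟩ := exists_countable_good N π hN' hc i
    choose s hs hspan using hc
    obtain ⟨L, hL, hLdisj, hLsup⟩ := hgood.exists_extension hN hPQ.disjoint hπP hπQ
      (hgood.union hCgood) s hs hspan hC
    have hmem : (m.1 ∪ C, insert L m.2) ∈ A := by
      refine ⟨hgood.union hCgood, ?_, ?_, ?_⟩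
      · rintro K (rfl | hK)
        · exact hL
        · exact hcg K hK
      · exact sSupIndep_insert hindep (hsup ▸ hLdisj)
      · show sSup (insert L m.2) = P ⊓ MJ N (m.1 ∪ C)
        rw [sSup_insert, hsup]
        exact hLsup
    have hle : m ≤ (m.1 ∪ C, insert L m.2) :=
      ⟨Set.subset_union_left, Set.subset_insert _ _⟩
    exact hi ((hmax hmem hle).1 (Or.inr hiC))
  refine ⟨m.2, hcg, hindep, ?_⟩
  rw [hsup, huniv, MJ_univ, hN', inf_top_eq]

theorem exists_indep_summand (hN : iSupIndep N) (hN' : iSup N = ⊤)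
    (hc : ∀ i, IsCountablyGenerated R (N i)) (hPQ : IsCompl P Q) :
    ∃ (κ : Type u) (L : κ → Submodule R P), iSupIndep L ∧ iSup L = ⊤ ∧
      ∀ k, IsCountablyGenerated R (L k) := by
  classical
  obtain ⟨𝒮, hcg, hindep, hsup⟩ := exists_decomp hN hN'
    (fun i => CG.of_isCountablyGenerated (hc i)) hPQ
  have hle : ∀ K ∈ 𝒮, K ≤ P := fun K hK => hsup ▸ le_sSup hK
  refine ⟨𝒮, fun k => comap P.subtype k.1, ?_, ?_, ?_⟩
  · have h1 : iSupIndep (fun k : 𝒮 => (⟨k.1, hle k.1 k.2⟩ : Set.Iic P)) :=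
      iSupIndep.of_coe_Iic_comp ((sSupIndep_iff 𝒮).1 hindep)
    exact h1.map_orderIso (P.mapIic).symm
  · apply map_injective_of_injective P.injective_subtype
    rw [Submodule.map_iSup, map_subtype_top]
    have : ∀ k : 𝒮, map P.subtype (comap P.subtype k.1) = k.1 := fun k => by
      rw [map_comap_subtype, inf_of_le_right (hle k.1 k.2)]
    simp only [this]
    rw [← hsup, sSup_eq_iSup']
  · intro k
    have e := comapSubtypeEquivOfLe (hle k.1 k.2)
    exact isCountablyGenerated_of_surjective e.symm.toLinearMap e.symm.surjective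
      (hcg k.1 k.2).isCountablyGenerated

open scoped Classical in
theorem exists_isInternal_summand (hN : DirectSum.IsInternal N)
    (hc : ∀ i, IsCountablyGenerated R (N i)) (hPQ : IsCompl P Q) :
    ∃ (κ : Type u) (L : κ → Submodule R P), DirectSum.IsInternal L ∧
      ∀ k, IsCountablyGenerated R (L k) := by
  obtain ⟨κ, L, hi, hs, hcg⟩ := exists_indep_summand hN.submodule_iSupIndep
    hN.submodule_iSup_eq_top hc hPQ
  refine ⟨κ, L, ?_, hcg⟩
  have := DirectSum.isInternal_submodule_of_iSupIndep_of_iSup_eq_top hi hs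
  convert this

end Good

end Groth.Agent.Lib.Helper52.Kap
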