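import Groth.Agent.Lib.Helper52.MittagLeffler
import Mathlib.LinearAlgebra.TensorProduct.Associator

/-!
# Mittag-Leffler modules, part 2

More API on top of `Groth.Agent.Lib.Helper52.MittagLeffler`:

* `forall_finite_dominate`: maps from finite modules into a Mittag-Leffler module are mutually
  dominated by a map to a finitely presented module (with a factorization).
* `exists_universal`: for `P` finitely presented and `f : P → M` with `M` Mittag-Leffler there is a
  universal element `y ∈ ker (f ⊗ ∏ Q)` such that every `g` killing `y` is dominated by `f`.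
* `finitePresentation_tensorProduct`.
* `dominates_map`: domination is compatible with tensor products of maps.
-/

set_option autoImplicit false

namespace Groth.Agent.Lib.Helper52.ML

open TensorProduct CAlg

universe u

variable {R : Type u} [CommRing R]

/-- Mittag-Leffler modules satisfy the domination condition for all finite sources. -/
theorem forall_finite_dominate (M : Type u) [AddCommGroup M] [Module R M]
    (hM : IsMittagLeffler R M) (P : Type u) [AddCommGroup P] [Module R P]
    [Module.Finite R P] (f : P →ₗ[R] M) :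
    ∃ (m : ℕ) (K₁ : Submodule R (Fin m → R)) (_ : K₁.FG)
      (g : P →ₗ[R] (Fin m → R) ⧸ K₁) (h : ((Fin m → R) ⧸ K₁) →ₗ[R] M),
      h ∘ₗ g = f ∧ ∀ (N : Type u) [AddCommGroup N] [Module R N],
        LinearMap.ker (f.rTensor N) = LinearMap.ker (g.rTensor N) := by
  obtain ⟨n, π, hπ⟩ := Module.Finite.exists_fin' R P
  obtain ⟨m, K₁, hK₁, g₀, h, hgh, hker⟩ := forall_finiteFree_dominate M hM n (f ∘ₗ π)
  have hle : LinearMap.ker π ≤ LinearMap.ker g₀ := by
    intro v hv
    have h1 : v ⊗ₜ[R] (1 : R) ∈ LinearMap.ker ((f ∘ₗ π).rTensor R) := by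
      rw [LinearMap.mem_ker, LinearMap.rTensor_tmul, LinearMap.comp_apply,
        LinearMap.mem_ker.mp hv, map_zero, TensorProduct.zero_tmul]
    rw [hker R, LinearMap.mem_ker, LinearMap.rTensor_tmul] at h1
    have h2 := congrArg (TensorProduct.rid R _) h1
    rw [TensorProduct.rid_tmul, one_smul, map_zero] at h2
    exact h2
  let g : P →ₗ[R] (Fin m → R) ⧸ K₁ :=
    ((LinearMap.ker π).liftQ g₀ hle) ∘ₗ (π.quotKerEquivOfSurjective hπ).symm.toLinearMap
  have hgπ : g ∘ₗ π = g₀ := by
    refine LinearMap.ext fun v => ?_
    simp only [g, LinearMap.comp_apply, LinearEquiv.coe_coe]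
    have : (π.quotKerEquivOfSurjective hπ).symm (π v) = (LinearMap.ker π).mkQ v := by
      rw [LinearEquiv.symm_apply_eq]
      rfl
    rw [this]
    rfl
  refine ⟨m, K₁, hK₁, g, h, ?_, fun N _ _ => ?_⟩
  · refine LinearMap.ext fun p => ?_
    obtain ⟨v, rfl⟩ := hπ p
    have := LinearMap.congr_fun hgh v
    rw [LinearMap.comp_apply] at this ⊢
    rw [← LinearMap.comp_apply (f := g), hgπ, this, LinearMap.comp_apply]
  · ext x
    obtain ⟨w, rfl⟩ := LinearMap.rTensor_surjective N hπ x
    rw [LinearMap.mem_ker, LinearMap.mem_ker, ← LinearMap.comp_apply, ← LinearMap.comp_apply,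
      ← LinearMap.rTensor_comp, ← LinearMap.rTensor_comp, hgπ, ← LinearMap.mem_ker,
      ← LinearMap.mem_ker (f := g₀.rTensor N), hker N]

/-- Index type for the family of all standard finitely presented modules together with an
element killed by `f` (general source). -/
structure IdxP {M P : Type u} [AddCommGroup M] [Module R M] [AddCommGroup P] [Module R P]
    (f : P →ₗ[R] M) : Type u where
  /-- number of generators -/
  m : ℕ
  /-- relations -/
  K : Submodule R (Fin m → R)
  hK : K.FG
  /-- the element -/
  x : P ⊗[R] ((Fin m → R) ⧸ K)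
  hx : f.rTensor _ x = 0

/-- The module attached to an index. -/
abbrev IdxP.Q {M P : Type u} [AddCommGroup M] [Module R M] [AddCommGroup P] [Module R P]
    {f : P →ₗ[R] M} (α : IdxP f) : Type u := (Fin α.m → R) ⧸ α.K

/-- For `P` finitely presented and `f : P → M` with `M` Mittag-Leffler there is a universal element
`y` of `ker (f ⊗ ∏ Q)`: every `g` killing `y` is dominated by `f`. -/
theorem exists_universal (M : Type u) [AddCommGroup M] [Module R M]
    (hM : IsMittagLeffler R M) (P : Type u) [AddCommGroup P] [Module R P]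
    [Module.FinitePresentation R P] (f : P →ₗ[R] M) :
    ∃ y : P ⊗[R] (∀ α : IdxP f, α.Q), f.rTensor _ y = 0 ∧
      ∀ (M' : Type u) [AddCommGroup M'] [Module R M'] (g : P →ₗ[R] M'), g.rTensor _ y = 0 →
        ∀ (N : Type u) [AddCommGroup N] [Module R N],
          LinearMap.ker (f.rTensor N) ≤ LinearMap.ker (g.rTensor N) := by
  obtain ⟨y, hy⟩ := (τ_bijective_of_finitePresentation (R := R) (M := P)
    (fun α : IdxP f => α.Q)).2 (fun α => α.x)
  have h1 : f.rTensor (∀ α : IdxP f, α.Q) y = 0 := by
    apply hM (IdxP f) (fun α => α.Q)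
    rw [map_zero]
    funext α
    rw [τ_rTensor, hy]
    exact α.hx
  refine ⟨y, h1, fun M' _ _ g hg => ?_⟩
  refine dominates_of_finitePresentation f g (fun N' _ _ hN' => ?_)
  intro x hx
  obtain ⟨m', K, e, hK⟩ := Module.FinitePresentation.exists_fin R N'
  have hx' : f.rTensor ((Fin m' → R) ⧸ K) (e.toLinearMap.lTensor P x) = 0 := by
    rw [← LinearMap.comp_apply, LinearMap.rTensor_comp_lTensor,
      ← LinearMap.lTensor_comp_rTensor, LinearMap.comp_apply, LinearMap.mem_ker.mp hx, map_zero]
  let α : IdxP f := ⟨m', K, hK, _, hx'⟩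
  have h2 : g.rTensor α.Q α.x = 0 := by
    have := congrFun hy α
    rw [← this, ← τ_rTensor, hg]
    rfl
  have h3 : e.toLinearMap.lTensor _ (g.rTensor N' x) = 0 := by
    rw [← LinearMap.comp_apply, LinearMap.lTensor_comp_rTensor, ← LinearMap.rTensor_comp_lTensor,
      LinearMap.comp_apply]
    exact h2
  rw [LinearMap.mem_ker]
  apply (LinearEquiv.lTensor _ e).injective
  rw [map_zero]
  exact h3

/-- The tensor product of two finitely presented modules is finitely presented. -/
theorem finitePresentation_tensorProduct (M N : Type u) [AddCommGroup M] [Module R M]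
    [AddCommGroup N] [Module R N] [Module.FinitePresentation R M]
    [Module.FinitePresentation R N] : Module.FinitePresentation R (M ⊗[R] N) := by
  obtain ⟨a, πM, hπM⟩ := Module.Finite.exists_fin' R M
  obtain ⟨b, πN, hπN⟩ := Module.Finite.exists_fin' R N
  have hKM : (LinearMap.ker πM).FG := Module.FinitePresentation.fg_ker πM hπM
  have hKN : (LinearMap.ker πN).FG := Module.FinitePresentation.fg_ker πN hπN
  have : Module.Finite R (LinearMap.ker πM) := Module.Finite.iff_fg.2 hKM
  have : Module.Finite R (LinearMap.ker πN) := Module.Finite.iff_fg.2 hKN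
  have : Module.FinitePresentation R ((Fin a → R) ⊗[R] (Fin b → R)) :=
    Module.finitePresentation_of_projective _ _
  refine Module.finitePresentation_of_surjective (TensorProduct.map πM πN)
    (TensorProduct.map_surjective hπM hπN) ?_
  rw [TensorProduct.map_ker (LinearMap.exact_subtype_ker_map πM) hπM
    (LinearMap.exact_subtype_ker_map πN) hπN]
  exact Submodule.FG.sup (Submodule.fg_range _) (Submodule.fg_range _)

section Dominate

variable {A B M N QM QN : Type u} [AddCommGroup A] [Module R A] [AddCommGroup B] [Module R B]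
  [AddCommGroup M] [Module R M] [AddCommGroup N] [Module R N] [AddCommGroup QM] [Module R QM]
  [AddCommGroup QN] [Module R QN]

/-- Domination is stable under `rTensor` with a fixed module. -/
theorem dominates_rTensor (f : A →ₗ[R] M) (g : A →ₗ[R] QM)
    (h : ∀ (T : Type u) [AddCommGroup T] [Module R T],
      LinearMap.ker (f.rTensor T) ≤ LinearMap.ker (g.rTensor T))
    (B : Type u) [AddCommGroup B] [Module R B] (T : Type u) [AddCommGroup T] [Module R T] :
    LinearMap.ker ((f.rTensor B).rTensor T) ≤ LinearMap.ker ((g.rTensor B).rTensor T) := by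
  intro x hx
  rw [LinearMap.mem_ker] at hx ⊢
  have h1 : f.rTensor (B ⊗[R] T) (TensorProduct.assoc R A B T x) = 0 := by
    rw [LinearMap.rTensor_tensor]
    simp only [LinearMap.comp_apply, LinearEquiv.coe_coe, LinearEquiv.symm_apply_apply, hx,
      map_zero]
  have h2 := h (B ⊗[R] T) h1
  rw [LinearMap.mem_ker, LinearMap.rTensor_tensor] at h2
  simp only [LinearMap.comp_apply, LinearEquiv.coe_coe, LinearEquiv.symm_apply_apply] at h2
  exact (TensorProduct.assoc R QM B T).injective (by rw [h2, map_zero])

/-- Domination is stable under `lTensor` with a fixed module. -/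
theorem dominates_lTensor (f : B →ₗ[R] N) (g : B →ₗ[R] QN)
    (h : ∀ (T : Type u) [AddCommGroup T] [Module R T],
      LinearMap.ker (f.rTensor T) ≤ LinearMap.ker (g.rTensor T))
    (A : Type u) [AddCommGroup A] [Module R A] (T : Type u) [AddCommGroup T] [Module R T] :
    LinearMap.ker ((f.lTensor A).rTensor T) ≤ LinearMap.ker ((g.lTensor A).rTensor T) := by
  intro x hx
  rw [LinearMap.mem_ker] at hx ⊢
  have e1 : ∀ {X : Type u} [AddCommGroup X] [Module R X] (k : B →ₗ[R] X),
      (k.lTensor A) = (TensorProduct.comm R X A).toLinearMap ∘ₗ (k.rTensor A) ∘ₗ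
        (TensorProduct.comm R A B).toLinearMap := by
    intro X _ _ k
    ext a b; rfl
  have h1 : (f.rTensor A).rTensor T (((TensorProduct.comm R A B).toLinearMap).rTensor T x) = 0 := by
    rw [e1 f, LinearMap.rTensor_comp, LinearMap.rTensor_comp] at hx
    simp only [LinearMap.comp_apply] at hx
    have hinj : Function.Injective (((TensorProduct.comm R N A).toLinearMap).rTensor T) :=
      (LinearEquiv.rTensor T (TensorProduct.comm R N A)).injective
    exact hinj (by rw [hx, map_zero])
  have h2 := dominates_rTensor f g h A T h1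
  rw [LinearMap.mem_ker] at h2
  rw [e1 g, LinearMap.rTensor_comp, LinearMap.rTensor_comp]
  simp only [LinearMap.comp_apply]
  rw [h2, map_zero]

/-- Domination is compatible with tensor products of maps. -/
theorem dominates_map (fM : A →ₗ[R] M) (gM : A →ₗ[R] QM) (fN : B →ₗ[R] N) (gN : B →ₗ[R] QN)
    (hM : ∀ (T : Type u) [AddCommGroup T] [Module R T],
      LinearMap.ker (fM.rTensor T) ≤ LinearMap.ker (gM.rTensor T))
    (hN : ∀ (T : Type u) [AddCommGroup T] [Module R T],
      LinearMap.ker (fN.rTensor T) ≤ LinearMap.ker (gN.rTensor T))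
    (T : Type u) [AddCommGroup T] [Module R T] :
    LinearMap.ker ((TensorProduct.map fM fN).rTensor T) ≤
      LinearMap.ker ((TensorProduct.map gM gN).rTensor T) := by
  intro x hx
  rw [LinearMap.mem_ker] at hx ⊢
  -- first replace `fM` by `gM`
  have e1 : TensorProduct.map fM fN = (fM.rTensor N) ∘ₗ (fN.lTensor A) := by
    ext a b; rfl
  have e2 : TensorProduct.map gM fN = (gM.rTensor N) ∘ₗ (fN.lTensor A) := by
    ext a b; rfl
  have e3 : TensorProduct.map gM fN = (fN.lTensor QM) ∘ₗ (gM.rTensor B) := by
    ext a b; rfl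
  have e4 : TensorProduct.map gM gN = (gN.lTensor QM) ∘ₗ (gM.rTensor B) := by
    ext a b; rfl
  have h1 : (TensorProduct.map gM fN).rTensor T x = 0 := by
    rw [e1, LinearMap.rTensor_comp, LinearMap.comp_apply] at hx
    have := dominates_rTensor fM gM hM N T hx
    rw [LinearMap.mem_ker] at this
    rw [e2, LinearMap.rTensor_comp, LinearMap.comp_apply, this]
  rw [e3, LinearMap.rTensor_comp, LinearMap.comp_apply] at h1
  have := dominates_lTensor fN gN hN QM T h1
  rw [LinearMap.mem_ker] at this
  rw [e4, LinearMap.rTensor_comp, LinearMap.comp_apply, this]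

end Dominate

end Groth.Agent.Lib.Helper52.ML
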