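import Groth.Agent.Lib.Helper52.MittagLeffler2
import Groth.Agent.S6361
import Mathlib.RingTheory.Flat.EquationalCriterion

/-!
# Countably generated flat Mittag-Leffler modules are projective; Kaplansky's theorem
-/

set_option autoImplicit false

namespace Groth.Agent.Lib.Helper52.Kap

open CAlg

universe u

variable {R : Type u} [CommRing R]

/-- In a countably generated flat Mittag-Leffler module, every finitely generated submodule is fixed
pointwise by an endomorphism factoring through a finite free module. -/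
theorem exists_finite_free_factor (M : Type u) [AddCommGroup M] [Module R M] [Module.Flat R M]
    (hML : IsMittagLeffler R M) (hc : IsCountablyGenerated R M) (P : Submodule R M) (hP : P.FG) :
    ∃ (k : ℕ) (β : M →ₗ[R] (Fin k →₀ R)) (γ : (Fin k →₀ R) →ₗ[R] M), ∀ y ∈ P, γ (β y) = y := by
  have : Module.Finite R P := Module.Finite.iff_fg.2 hP
  obtain ⟨Q, _, _, _, b, c, hbc⟩ := Groth.Agent.S6361.result R M hML hc P.subtype
  obtain ⟨k, h₂, h₃, rfl⟩ := Module.Flat.exists_factorization_of_finitePresentation c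
  refine ⟨k, h₂ ∘ₗ b, h₃, fun y hy => ?_⟩
  exact LinearMap.congr_fun hbc ⟨y, hy⟩

/-- A countably generated flat Mittag-Leffler module is projective. -/
theorem projective_of_countablyGenerated (M : Type u) [AddCommGroup M] [Module R M]
    [Module.Flat R M] (hML : IsMittagLeffler R M) (hc : IsCountablyGenerated R M) :
    Module.Projective R M := by
  classical
  have key := exists_finite_free_factor M hML hc
  choose k β γ hβγ using key
  obtain ⟨s, hs, hspan⟩ := hc
  have hs' : (insert (0 : M) s).Countable := hs.insert 0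
  obtain ⟨e, he⟩ := hs'.exists_eq_range (Set.insert_nonempty 0 s)
  have hspan' : Submodule.span R (Set.range e) = ⊤ := by
    rw [← he, eq_top_iff, ← hspan]
    exact Submodule.span_mono (Set.subset_insert 0 s)
  let Mn : ℕ → Submodule R M := fun n => Submodule.span R (e '' (Set.Iio n))
  have hmono : Monotone Mn := fun n m hnm =>
    Submodule.span_mono (Set.image_mono (Set.Iio_subset_Iio hnm))
  have hfg : ∀ (n : ℕ) (ρ : M →ₗ[R] M), ((Mn n).map ρ).FG := fun n ρ =>
    (Submodule.fg_span ((Set.finite_Iio n).image e)).map ρ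
  have hex : ∀ x : M, ∃ n, x ∈ Mn n := by
    intro x
    have hx : x ∈ ⨆ n, Mn n := by
      have : Submodule.span R (Set.range e) ≤ ⨆ n, Mn n := by
        rw [Submodule.span_le]
        rintro _ ⟨j, rfl⟩
        refine Submodule.mem_iSup_of_mem (j + 1) ?_
        exact Submodule.subset_span ⟨j, Nat.lt_succ_self j, rfl⟩
      exact this (hspan' ▸ Submodule.mem_top)
    exact (Submodule.mem_iSup_of_directed _ hmono.directed_le).1 hx
  -- the sequence of endomorphisms
  let r : ℕ → (M →ₗ[R] M) := fun n => Nat.rec LinearMap.id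
    (fun n ρ => (LinearMap.id - γ _ (hfg (n + 1) ρ) ∘ₗ β _ (hfg (n + 1) ρ)) ∘ₗ ρ) n
  have hr0 : r 0 = LinearMap.id := rfl
  have hrs : ∀ n, r (n + 1) =
      (LinearMap.id - γ _ (hfg (n + 1) (r n)) ∘ₗ β _ (hfg (n + 1) (r n))) ∘ₗ r n := fun n => rfl
  let kk : ℕ → ℕ := fun n => k _ (hfg (n + 1) (r n))
  let bb : ∀ n, M →ₗ[R] (Fin (kk n) →₀ R) := fun n => β _ (hfg (n + 1) (r n))
  let cc : ∀ n, (Fin (kk n) →₀ R) →ₗ[R] M := fun n => γ _ (hfg (n + 1) (r n))
  have hrs' : ∀ n y, r (n + 1) y = r n y - cc n (bb n (r n y)) := by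
    intro n y
    rw [hrs]
    rfl
  have hfix : ∀ n, ∀ y ∈ Mn (n + 1), cc n (bb n (r n y)) = r n y := by
    intro n y hy
    exact hβγ _ (hfg (n + 1) (r n)) (r n y) ⟨y, hy, rfl⟩
  have hkill : ∀ n m, n ≤ m → ∀ y ∈ Mn n, r m y = 0 := by
    intro n m hnm
    induction m, hnm using Nat.le_induction with
    | base =>
      intro y hy
      cases n with
      | zero =>
        have : Mn 0 = ⊥ := by
          simp only [Mn]
          rw [Set.Iio_eq_empty_iff.2 (by simp), Set.image_empty, Submodule.span_empty]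
        rw [this, Submodule.mem_bot] at hy
        rw [hy, map_zero]
      | succ n => rw [hrs', hfix n y hy, sub_self]
    | succ m hnm ih =>
      intro y hy
      rw [hrs', ih y hy, map_zero, map_zero, sub_zero]
  -- lifting property
  apply Module.Projective.of_lifting_property''
  intro f hf
  choose lam hlam using fun n => Module.projective_lifting_property f (cc n) hf
  let ψ : ∀ N, Mn N →ₗ[R] (M →₀ R) := fun N =>
    (∑ n ∈ Finset.range N, lam n ∘ₗ bb n ∘ₗ r n) ∘ₗ (Mn N).subtype
  have hψ : ∀ N (x : Mn N), ψ (N + 1) (Submodule.inclusion (hmono N.le_succ) x) = ψ N x := by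
    intro N x
    simp only [ψ, LinearMap.comp_apply, Submodule.subtype_apply, Submodule.coe_inclusion,
      Finset.sum_range_succ, LinearMap.add_apply]
    rw [hkill N N le_rfl x.1 x.2, map_zero, map_zero, add_zero]
  obtain ⟨Ψ, hΨ⟩ := Groth.Agent.S6361.exists_linearMap_of_chain Mn hmono hex ψ hψ
  refine ⟨Ψ, ?_⟩
  ext y
  obtain ⟨N, hN⟩ := hex y
  have h1 := hΨ N ⟨y, hN⟩
  simp only [ψ, LinearMap.comp_apply, Submodule.subtype_apply, LinearMap.coe_sum,
    Finset.sum_apply] at h1
  rw [LinearMap.comp_apply, LinearMap.id_apply]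
  have h1' : Ψ y = ∑ n ∈ Finset.range N, lam n (bb n (r n y)) := h1
  rw [h1', map_sum]
  have h2 : ∀ n, f (lam n (bb n (r n y))) = r n y - r (n + 1) y := by
    intro n
    have := LinearMap.congr_fun (hlam n) (bb n (r n y))
    rw [LinearMap.comp_apply] at this
    rw [this, hrs', sub_sub_cancel]
  simp only [h2]
  rw [Finset.sum_range_sub', hkill N N le_rfl y hN, sub_zero, hr0, LinearMap.id_apply]

end Groth.Agent.Lib.Helper52.Kap
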