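import Mathlib

/-!
# Lattices in `R⟦X⟧^n` (helper52)

General lemmas: purity ⇒ flat quotient; Schanuel-type retract lemma; regularity modulo an ideal
on projective modules.
-/

namespace Groth.Agent.Lib.Helper52.Lattice

open TensorProduct

section Pure
variable {R P : Type*} [CommRing R] [AddCommGroup P] [Module R P]

/-- If `P` is flat and `K ≤ P` is pure in the sense `K ∩ IP ⊆ IK` for all ideals `I`, then `P/K` is
flat. -/
theorem flat_quotient_of_pure [Module.Flat R P] (K : Submodule R P)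
    (h : ∀ I : Ideal R, K ⊓ (I • ⊤ : Submodule R P) ≤ I • K) : Module.Flat R (P ⧸ K) := by
  rw [Module.Flat.iff_rTensor_injective']
  intro I
  rw [injective_iff_map_eq_zero]
  intro z hz
  obtain ⟨z', rfl⟩ := LinearMap.lTensor_surjective I K.mkQ_surjective z
  set μ : I ⊗[R] P →ₗ[R] P := (TensorProduct.lid R P).toLinearMap ∘ₗ LinearMap.rTensor P I.subtype
    with hμ
  have hμ_tmul : ∀ (a : I) (p : P), μ (a ⊗ₜ p) = (a : R) • p := by
    intro a p; simp [hμ]
  have hμinj : Function.Injective μ := by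
    rw [hμ, LinearMap.coe_comp]
    exact (TensorProduct.lid R P).injective.comp
      ((Module.Flat.iff_rTensor_injective' (R := R) (M := P)).mp inferInstance I)
  -- μ z' ∈ K
  have hnat : ∀ y : I ⊗[R] P, K.mkQ (μ y) = (TensorProduct.lid R (P ⧸ K))
        (LinearMap.rTensor (P ⧸ K) I.subtype (LinearMap.lTensor I K.mkQ y)) := by
    intro y
    induction y using TensorProduct.induction_on with
    | zero => simp
    | tmul a p => simp [hμ]
    | add x y hx hy => simp only [map_add, hx, hy]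
  have h1 : μ z' ∈ K := by
    have := hnat z'
    rw [hz, map_zero] at this
    simpa using this
  have hsm : ∀ y : I ⊗[R] P, μ y ∈ (I • ⊤ : Submodule R P) := by
    intro y
    induction y using TensorProduct.induction_on with
    | zero => simp
    | tmul a p => rw [hμ_tmul]; exact Submodule.smul_mem_smul a.2 Submodule.mem_top
    | add x y hx hy => rw [map_add]; exact Submodule.add_mem _ hx hy
  have h2 : μ z' ∈ (I • ⊤ : Submodule R P) := hsm z'
  have h3 : μ z' ∈ I • K := h I ⟨h1, h2⟩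
  have h4 : ∀ x ∈ I • K, ∃ w : I ⊗[R] K, μ (LinearMap.lTensor I K.subtype w) = x := by
    intro x hx
    induction hx using Submodule.smul_induction_on' with
    | smul a ha k hk => exact ⟨(⟨a, ha⟩ : I) ⊗ₜ (⟨k, hk⟩ : K), by simp [hμ]⟩
    | add x hx y hy ihx ihy =>
      obtain ⟨w₁, hw₁⟩ := ihx
      obtain ⟨w₂, hw₂⟩ := ihy
      exact ⟨w₁ + w₂, by simp [hw₁, hw₂]⟩
  obtain ⟨w, hw⟩ := h4 _ h3
  have h5 : z' = LinearMap.lTensor I K.subtype w := (hμinj hw).symm
  rw [h5, ← LinearMap.comp_apply, ← LinearMap.lTensor_comp]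
  have : K.mkQ ∘ₗ K.subtype = 0 := by ext x; simp
  rw [this, LinearMap.lTensor_zero, LinearMap.zero_apply]

end Pure

section Schanuel
variable {S F E Q : Type*} [Ring S] [AddCommGroup F] [Module S F] [AddCommGroup E] [Module S E]
  [AddCommGroup Q] [Module S Q]

/-- Schanuel-type lemma: if `π : F → Q` and `ε : E → Q` are surjections from projective modules,
then `ker π` is a retract of `ker ε × F`. -/
theorem schanuel_retract [Module.Projective S F] [Module.Projective S E]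
    (π : F →ₗ[S] Q) (hπ : Function.Surjective π) (ε : E →ₗ[S] Q) (hε : Function.Surjective ε) :
    ∃ (i : LinearMap.ker π →ₗ[S] LinearMap.ker ε × F) (r : LinearMap.ker ε × F →ₗ[S] LinearMap.ker π),
      r ∘ₗ i = LinearMap.id := by
  obtain ⟨a, ha⟩ := Module.projective_lifting_property ε π hε
  obtain ⟨b, hb⟩ := Module.projective_lifting_property π ε hπ
  have ha' : ∀ v, ε (a v) = π v := fun v => by rw [← ha]; rfl
  have hb' : ∀ e, π (b e) = ε e := fun e => by rw [← hb]; rfl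
  refine ⟨LinearMap.prod
      (LinearMap.codRestrict (LinearMap.ker ε) (-(a ∘ₗ (LinearMap.ker π).subtype)) ?_)
      (LinearMap.ker π).subtype,
    LinearMap.codRestrict (LinearMap.ker π)
      (LinearMap.snd S _ F - b ∘ₗ ((LinearMap.ker ε).subtype ∘ₗ LinearMap.fst S _ F +
        a ∘ₗ LinearMap.snd S _ F)) ?_, ?_⟩
  · intro l
    simp only [LinearMap.mem_ker, LinearMap.neg_apply, LinearMap.comp_apply, map_neg,
      Submodule.subtype_apply, ha']
    rw [l.2, neg_zero]
  · rintro ⟨κ, v⟩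
    simp only [LinearMap.mem_ker, LinearMap.sub_apply, LinearMap.snd_apply, LinearMap.comp_apply,
      LinearMap.add_apply, LinearMap.fst_apply, Submodule.subtype_apply, map_sub, map_add, hb', ha']
    rw [κ.2]; simp
  · ext l
    simp

end Schanuel


section RegProj
variable {S N : Type*} [CommRing S] [AddCommGroup N] [Module S N]

/-- If `t` is regular modulo the ideal `J`, then it is regular on `N/JN` for projective `N`. -/
theorem mem_smul_top_of_smul_mem [Module.Projective S N] (J : Ideal S) (t : S)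
    (ht : ∀ s, t * s ∈ J → s ∈ J) (x : N) (hx : t • x ∈ (J • ⊤ : Submodule S N)) :
    x ∈ (J • ⊤ : Submodule S N) := by
  obtain ⟨i, hi⟩ := (Module.projective_def' (R := S) (P := N)).mp inferInstance
  have hcoord : ∀ y ∈ (J • ⊤ : Submodule S N), ∀ j, i y j ∈ J := by
    intro y hy
    induction hy using Submodule.smul_induction_on' with
    | smul a ha k hk => intro j; rw [map_smul, Finsupp.smul_apply]; exact J.mul_mem_right _ ha
    | add x hx y hy ihx ihy => intro j; rw [map_add, Finsupp.add_apply]; exact J.add_mem (ihx j) (ihy j)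
  have h1 : ∀ j, i x j ∈ J := by
    intro j
    apply ht
    have := hcoord _ hx j
    rwa [map_smul, Finsupp.smul_apply, smul_eq_mul] at this
  have h2 : x = Finsupp.linearCombination S id (i x) := by
    rw [← LinearMap.comp_apply, hi]; rfl
  rw [h2, Finsupp.linearCombination_apply]
  exact Submodule.sum_mem _ fun j _ => Submodule.smul_mem_smul (h1 j) Submodule.mem_top

theorem mem_smul_top_of_pow_smul_mem [Module.Projective S N] (J : Ideal S) (t : S)
    (ht : ∀ s, t * s ∈ J → s ∈ J) (M : ℕ) (x : N) (hx : t ^ M • x ∈ (J • ⊤ : Submodule S N)) :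
    x ∈ (J • ⊤ : Submodule S N) := by
  induction M with
  | zero => simpa using hx
  | succ M ih =>
    apply ih
    apply mem_smul_top_of_smul_mem J t ht
    rwa [smul_smul, ← pow_succ']

end RegProj

section PS
open PowerSeries
variable {R : Type*} [CommRing R]

/-- The shift map `f ↦ (f - f(0))/X`. -/
noncomputable def shift : R⟦X⟧ →ₗ[R] R⟦X⟧ where
  toFun f := PowerSeries.mk fun n => PowerSeries.coeff (n + 1) f
  map_add' f g := by ext n; simp
  map_smul' c f := by ext n; simp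

@[simp] theorem coeff_shift (f : R⟦X⟧) (n : ℕ) : coeff n (shift f) = coeff (n + 1) f := by
  simp [shift]

@[simp] theorem shift_X_mul (f : R⟦X⟧) : shift (X * f) = f := by
  ext n; simp [coeff_succ_X_mul]

theorem eq_X_mul_shift_add (f : R⟦X⟧) : f = X * shift f + C (constantCoeff f) :=
  eq_X_mul_shift_add_const f

theorem shift_mul (r s : R⟦X⟧) : shift (r * s) = C (constantCoeff r) * shift s + shift r * s := by
  conv_lhs => rw [eq_X_mul_shift_add r, add_mul, mul_assoc, map_add, shift_X_mul]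
  rw [add_comm]
  congr 1
  rw [← smul_eq_C_mul, map_smul, smul_eq_C_mul]

theorem X_regular_mod_map (I : Ideal R) (s : R⟦X⟧) (h : X * s ∈ I.map (C : R →+* R⟦X⟧)) :
    s ∈ I.map (C : R →+* R⟦X⟧) := by
  have key : ∀ y ∈ I.map (C : R →+* R⟦X⟧), shift y ∈ I.map (C : R →+* R⟦X⟧) := by
    intro y hy
    induction hy using Submodule.span_induction with
    | mem y hy =>
      obtain ⟨a, _, rfl⟩ := hy
      have : shift (C a : R⟦X⟧) = 0 := by ext n; simp
      rw [this]; exact Submodule.zero_mem _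
    | zero => rw [map_zero]; exact Submodule.zero_mem _
    | add x y hx hy ihx ihy => rw [map_add]; exact Submodule.add_mem _ ihx ihy
    | smul a x hx ihx =>
      rw [smul_eq_mul, shift_mul]
      exact Ideal.add_mem _ (Ideal.mul_mem_left _ _ ihx) (Ideal.mul_mem_left _ _ hx)
  have := key _ h
  rwa [shift_X_mul] at this

end PS


section Trunc
open PowerSeries
variable {R : Type*} [CommRing R] (ι : Type*) (M : ℕ)

/-- Coefficients of index `< M`. -/
noncomputable def tau : (ι → R⟦X⟧) →ₗ[R] (ι → Fin M → R) where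
  toFun v i j := coeff (j : ℕ) (v i)
  map_add' v w := by ext i j; simp
  map_smul' c v := by ext i j; simp

/-- Polynomial of degree `< M` with given coefficients. -/
noncomputable def phi : (ι → Fin M → R) →ₗ[R] (ι → R⟦X⟧) where
  toFun a i := ∑ j : Fin M, monomial (j : ℕ) (a i j)
  map_add' a b := by ext i n; simp [Finset.sum_add_distrib]
  map_smul' c a := by
    ext i n
    simp only [Pi.smul_apply, smul_eq_mul, map_sum, RingHom.id_apply, coeff_monomial, coeff_smul,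
      Finset.mul_sum]
    apply Finset.sum_congr rfl
    intro j _
    split_ifs <;> simp

@[simp] theorem tau_apply (v : ι → R⟦X⟧) (i : ι) (j : Fin M) : tau ι M v i j = coeff (j : ℕ) (v i) := rfl

theorem coeff_phi (a : ι → Fin M → R) (i : ι) (m : ℕ) :
    coeff m (phi ι M a i) = if h : m < M then a i ⟨m, h⟩ else 0 := by
  simp only [phi, LinearMap.coe_mk, AddHom.coe_mk, map_sum, coeff_monomial]
  split_ifs with h
  · rw [Finset.sum_eq_single (⟨m, h⟩ : Fin M)]
    · simp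
    · intro b _ hb
      rw [if_neg]
      intro h'
      exact hb (Fin.ext h'.symm)
    · simp
  · apply Finset.sum_eq_zero
    intro j _
    rw [if_neg]
    intro h'
    exact h (h' ▸ j.2)

theorem tau_phi (a : ι → Fin M → R) : tau ι M (phi ι M a) = a := by
  ext i j
  rw [tau_apply, coeff_phi, dif_pos j.2]

theorem tau_X_pow_smul (w : ι → R⟦X⟧) : tau ι M ((X : R⟦X⟧) ^ M • w) = 0 := by
  ext i j
  rw [tau_apply, Pi.smul_apply, smul_eq_mul, coeff_X_pow_mul', if_neg (not_le.mpr j.2)]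
  rfl

theorem exists_eq_phi_tau_add (v : ι → R⟦X⟧) :
    ∃ w : ι → R⟦X⟧, v = phi ι M (tau ι M v) + (X : R⟦X⟧) ^ M • w := by
  have : ∀ i, ∃ wi : R⟦X⟧, v i - phi ι M (tau ι M v) i = X ^ M * wi := by
    intro i
    have : (X : R⟦X⟧) ^ M ∣ v i - phi ι M (tau ι M v) i := by
      rw [X_pow_dvd_iff]
      intro m hm
      rw [map_sub, coeff_phi, dif_pos hm, tau_apply, sub_self]
    exact this
  choose w hw using this
  refine ⟨w, ?_⟩
  ext1 i
  rw [Pi.add_apply, Pi.smul_apply, smul_eq_mul, ← hw i]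
  ring

end Trunc


section Forward
open PowerSeries
variable {R : Type*} [CommRing R] {ι : Type*} (M : ℕ)
  (Λ : Submodule R⟦X⟧ (ι → R⟦X⟧))

/-- The `R`-linear composite `R^{ι×M} → R⟦X⟧^ι → R⟦X⟧^ι/Λ`. -/
noncomputable def psi : (ι → Fin M → R) →ₗ[R] ((ι → R⟦X⟧) ⧸ Λ) :=
  (Λ.mkQ.restrictScalars R) ∘ₗ phi ι M

theorem psi_apply (a : ι → Fin M → R) : psi M Λ a = Λ.mkQ (phi ι M a) := rfl

theorem mem_ker_psi (a : ι → Fin M → R) : a ∈ LinearMap.ker (psi M Λ) ↔ phi ι M a ∈ Λ := by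
  rw [LinearMap.mem_ker, psi_apply, Submodule.mkQ_apply, Submodule.Quotient.mk_eq_zero]

variable (hΛ : ∀ v : ι → R⟦X⟧, (X : R⟦X⟧) ^ M • v ∈ Λ)
include hΛ

theorem phi_tau_mem_iff (v : ι → R⟦X⟧) : phi ι M (tau ι M v) ∈ Λ ↔ v ∈ Λ := by
  obtain ⟨w, hw⟩ := exists_eq_phi_tau_add ι M v
  constructor
  · intro h
    rw [hw]
    exact Λ.add_mem h (hΛ w)
  · intro h
    have : phi ι M (tau ι M v) = v - (X : R⟦X⟧) ^ M • w := by
      rw [eq_sub_iff_add_eq]; exact hw.symm
    rw [this]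
    exact Λ.sub_mem h (hΛ w)

theorem psi_surjective : Function.Surjective (psi M Λ) := by
  intro q
  obtain ⟨v, rfl⟩ := Λ.mkQ_surjective q
  obtain ⟨w, hw⟩ := exists_eq_phi_tau_add ι M v
  refine ⟨tau ι M v, ?_⟩
  rw [psi_apply, eq_comm, ← sub_eq_zero, ← map_sub, Submodule.mkQ_apply,
    Submodule.Quotient.mk_eq_zero]
  have : v - phi ι M (tau ι M v) = (X : R⟦X⟧) ^ M • w := by
    rw [sub_eq_iff_eq_add, add_comm]; exact hw
  rw [this]
  exact hΛ w

theorem tau_mem_ker {μ : ι → R⟦X⟧} (hμ : μ ∈ Λ) : tau ι M μ ∈ LinearMap.ker (psi M Λ) := by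
  rw [mem_ker_psi, phi_tau_mem_iff M Λ hΛ]
  exact hμ

theorem ker_psi_fg [Module.Finite R⟦X⟧ Λ] : (LinearMap.ker (psi M Λ)).FG := by
  obtain ⟨m, g, hg⟩ := Module.Finite.exists_fin' R⟦X⟧ Λ
  set G : (Fin m → Fin M → R) →ₗ[R] (ι → Fin M → R) :=
    tau ι M ∘ₗ ((Λ.subtype ∘ₗ g).restrictScalars R) ∘ₗ phi (Fin m) M with hG
  have : LinearMap.ker (psi M Λ) = LinearMap.range G := by
    apply le_antisymm
    · intro a ha
      rw [mem_ker_psi] at ha
      obtain ⟨e, he⟩ := hg ⟨phi ι M a, ha⟩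
      obtain ⟨e', he'⟩ := exists_eq_phi_tau_add (Fin m) M e
      refine ⟨tau (Fin m) M e, ?_⟩
      have h1 : (g e : ι → R⟦X⟧) = phi ι M a := by rw [he]
      have h2 : (g e : ι → R⟦X⟧) = (g (phi (Fin m) M (tau (Fin m) M e)) : ι → R⟦X⟧) +
          (X : R⟦X⟧) ^ M • (g e' : ι → R⟦X⟧) := by
        conv_lhs => rw [he']
        rw [map_add, map_smul]
        rfl
      have h3 : tau ι M (g e : ι → R⟦X⟧) = a := by rw [h1, tau_phi]
      rw [h2, map_add, tau_X_pow_smul, add_zero] at h3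
      rw [← h3]
      rfl
    · rintro _ ⟨a, rfl⟩
      exact tau_mem_ker M Λ hΛ (g (phi (Fin m) M a)).2
  rw [this, LinearMap.range_eq_map]
  exact Submodule.FG.map _ Module.Finite.fg_top

theorem pure_S [Module.Projective R⟦X⟧ Λ] (I : Ideal R) {l : ι → R⟦X⟧} (hl : l ∈ Λ)
    (hl' : l ∈ (I.map (C : R →+* R⟦X⟧) • ⊤ : Submodule R⟦X⟧ (ι → R⟦X⟧))) :
    l ∈ I.map (C : R →+* R⟦X⟧) • Λ := by
  have h1' : ∀ y ∈ (I.map (C : R →+* R⟦X⟧) • ⊤ : Submodule R⟦X⟧ (ι → R⟦X⟧)),
      (X : R⟦X⟧) ^ M • y ∈ I.map (C : R →+* R⟦X⟧) • Λ := by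
    intro y hy
    induction hy using Submodule.smul_induction_on' with
    | smul a ha k hk =>
      rw [smul_comm]
      exact Submodule.smul_mem_smul ha (hΛ k)
    | add x hx y hy ihx ihy => rw [smul_add]; exact Submodule.add_mem _ ihx ihy
  have h1 : (X : R⟦X⟧) ^ M • l ∈ I.map (C : R →+* R⟦X⟧) • Λ := h1' l hl'
  have h2 : (X : R⟦X⟧) ^ M • (⟨l, hl⟩ : Λ) ∈
      (I.map (C : R →+* R⟦X⟧) • ⊤ : Submodule R⟦X⟧ Λ) := by
    rw [Submodule.mem_smul_top_iff]
    exact h1
  have h3 := mem_smul_top_of_pow_smul_mem (I.map (C : R →+* R⟦X⟧)) X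
    (X_regular_mod_map I) M _ h2
  rw [Submodule.mem_smul_top_iff] at h3
  exact h3

theorem pure_R [Module.Projective R⟦X⟧ Λ] (I : Ideal R) :
    LinearMap.ker (psi M Λ) ⊓ (I • ⊤ : Submodule R (ι → Fin M → R)) ≤
      I • LinearMap.ker (psi M Λ) := by
  rintro a ⟨haK, haI⟩
  have h1 : phi ι M a ∈ Λ := (mem_ker_psi M Λ a).mp haK
  have h2' : ∀ b ∈ (I • ⊤ : Submodule R (ι → Fin M → R)),
      phi ι M b ∈ (I.map (C : R →+* R⟦X⟧) • ⊤ : Submodule R⟦X⟧ (ι → R⟦X⟧)) := by
    intro b hb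
    induction hb using Submodule.smul_induction_on' with
    | smul c hc p hp =>
      have : phi ι M (c • p) = (C c : R⟦X⟧) • phi ι M p := by
        rw [map_smul]
        ext1 i
        rw [Pi.smul_apply, Pi.smul_apply, smul_eq_C_mul, smul_eq_mul]
      rw [this]
      exact Submodule.smul_mem_smul (Ideal.mem_map_of_mem _ hc) Submodule.mem_top
    | add x hx y hy ihx ihy => rw [map_add]; exact Submodule.add_mem _ ihx ihy
  have h2 := h2' a haI
  have h3 := pure_S M Λ hΛ I h1 h2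
  have key : ∀ c ∈ I.map (C : R →+* R⟦X⟧), ∀ l ∈ Λ,
      tau ι M (c • l) ∈ I • LinearMap.ker (psi M Λ) := by
    intro c hc
    induction hc using Submodule.span_induction with
    | mem c hc =>
      obtain ⟨a, ha, rfl⟩ := hc
      intro l hl
      have : tau ι M ((C a : R⟦X⟧) • l) = a • tau ι M l := by
        rw [← map_smul]
        congr 1
        ext1 i
        rw [Pi.smul_apply, Pi.smul_apply, smul_eq_C_mul, smul_eq_mul]
      rw [this]
      exact Submodule.smul_mem_smul ha (tau_mem_ker M Λ hΛ hl)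
    | zero => intro l _; rw [zero_smul, map_zero]; exact Submodule.zero_mem _
    | add x y hx hy ihx ihy =>
      intro l hl
      rw [add_smul, map_add]
      exact Submodule.add_mem _ (ihx l hl) (ihy l hl)
    | smul g x hx ihx =>
      intro l hl
      rw [smul_eq_mul, mul_comm, mul_smul]
      exact ihx _ (Λ.smul_mem g hl)
  have key2 : ∀ y ∈ I.map (C : R →+* R⟦X⟧) • Λ, tau ι M y ∈ I • LinearMap.ker (psi M Λ) := by
    intro y hy
    induction hy using Submodule.smul_induction_on' with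
    | smul c hc l hl => exact key c hc l hl
    | add x hx y hy ihx ihy => rw [map_add]; exact Submodule.add_mem _ ihx ihy
  have := key2 _ h3
  rwa [tau_phi] at this

/-- Forward direction: if `Λ` is finite projective over `R⟦X⟧` and contains `X^M R⟦X⟧^ι`, then the
quotient is projective over `R`. -/
theorem projective_quotient [Finite ι] [Module.Finite R⟦X⟧ Λ] [Module.Projective R⟦X⟧ Λ] :
    Module.Projective R ((ι → R⟦X⟧) ⧸ Λ) := by
  have hsurj := psi_surjective M Λ hΛ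
  have hfp : Module.FinitePresentation R ((ι → R⟦X⟧) ⧸ Λ) :=
    Module.finitePresentation_of_surjective (psi M Λ) hsurj (ker_psi_fg M Λ hΛ)
  have hflat : Module.Flat R ((ι → Fin M → R) ⧸ LinearMap.ker (psi M Λ)) :=
    flat_quotient_of_pure _ (pure_R M Λ hΛ)
  have hflat' : Module.Flat R ((ι → R⟦X⟧) ⧸ Λ) :=
    Module.Flat.of_linearEquiv ((psi M Λ).quotKerEquivOfSurjective hsurj).symm
  exact Module.Flat.projective_of_finitePresentation

end Forward


section Backward
open PowerSeries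
variable {R : Type*} [CommRing R] {Q : Type*} [AddCommGroup Q] [Module R Q] [Module R⟦X⟧ Q]
  [IsScalarTower R R⟦X⟧ Q]

variable (R Q) in
/-- Multiplication by `X` on `Q`, as an `R`-linear map. -/
noncomputable def mulX : Q →ₗ[R] Q where
  toFun q := (X : R⟦X⟧) • q
  map_add' := smul_add _
  map_smul' c q := by simp only [RingHom.id_apply]; rw [smul_comm]

@[simp] theorem mulX_apply (q : Q) : mulX R Q q = (X : R⟦X⟧) • q := rfl

theorem mulX_pow_apply (k : ℕ) (q : Q) : (mulX R Q ^ k) q = (X : R⟦X⟧) ^ k • q := by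
  induction k generalizing q with
  | zero => simp
  | succ k ih => rw [pow_succ, Module.End.mul_apply, ih, mulX_apply, smul_smul, ← pow_succ]

variable (R Q) in
/-- The action map `R⟦X⟧ ⊗ Q → Q`. -/
noncomputable def eps : R⟦X⟧ ⊗[R] Q →ₗ[R⟦X⟧] Q :=
  LinearMap.liftBaseChange R⟦X⟧ (LinearMap.id : Q →ₗ[R] Q)

@[simp] theorem eps_tmul (s : R⟦X⟧) (q : Q) : eps R Q (s ⊗ₜ q) = s • q := rfl

variable (R Q) in
/-- `X ⊗ 1 - 1 ⊗ X`. -/
noncomputable def delta : R⟦X⟧ ⊗[R] Q →ₗ[R⟦X⟧] R⟦X⟧ ⊗[R] Q :=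
  (X : R⟦X⟧) • LinearMap.id - LinearMap.baseChange R⟦X⟧ (mulX R Q)

theorem delta_apply (u : R⟦X⟧ ⊗[R] Q) :
    delta R Q u = (X : R⟦X⟧) • u - LinearMap.baseChange R⟦X⟧ (mulX R Q) u := rfl

theorem delta_tmul (s : R⟦X⟧) (q : Q) :
    delta R Q (s ⊗ₜ q) = (X * s) ⊗ₜ q - s ⊗ₜ ((X : R⟦X⟧) • q) := by
  rw [delta_apply, LinearMap.baseChange_tmul, TensorProduct.smul_tmul', smul_eq_mul, mulX_apply]

theorem eps_delta (u : R⟦X⟧ ⊗[R] Q) : eps R Q (delta R Q u) = 0 := by
  induction u using TensorProduct.induction_on with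
  | zero => simp
  | tmul s q => rw [delta_tmul, map_sub, eps_tmul, eps_tmul, mul_smul, smul_comm, sub_self]
  | add x y hx hy => rw [map_add, map_add, hx, hy, add_zero]

theorem eps_surjective : Function.Surjective (eps R Q) := fun q => ⟨1 ⊗ₜ q, by simp⟩

omit [Module R⟦X⟧ Q] [IsScalarTower R R⟦X⟧ Q] in
/-- `X` is a nonzerodivisor on `R⟦X⟧ ⊗ Q`. -/
theorem X_smul_eq_zero {u : R⟦X⟧ ⊗[R] Q} (h : (X : R⟦X⟧) • u = 0) : u = 0 := by
  have key : ∀ u : R⟦X⟧ ⊗[R] Q, LinearMap.rTensor Q (shift (R := R)) ((X : R⟦X⟧) • u) = u := by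
    intro u
    induction u using TensorProduct.induction_on with
    | zero => simp
    | tmul s q => rw [TensorProduct.smul_tmul', smul_eq_mul, LinearMap.rTensor_tmul, shift_X_mul]
    | add x y hx hy => rw [smul_add, map_add, hx, hy]
  rw [← key u, h, map_zero]

omit [Module R⟦X⟧ Q] [IsScalarTower R R⟦X⟧ Q] in
theorem X_pow_smul_eq_zero (k : ℕ) {u : R⟦X⟧ ⊗[R] Q} (h : (X : R⟦X⟧) ^ k • u = 0) : u = 0 := by
  induction k with
  | zero => simpa using h
  | succ k ih =>
    apply ih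
    apply X_smul_eq_zero
    rwa [smul_smul, ← pow_succ']

theorem delta_injective (M : ℕ) (hQ : ∀ q : Q, (X : R⟦X⟧) ^ M • q = 0) :
    Function.Injective (delta R Q) := by
  rw [injective_iff_map_eq_zero]
  intro u hu
  have h1 : (X : R⟦X⟧) • u = LinearMap.baseChange R⟦X⟧ (mulX R Q) u := by
    rw [delta_apply, sub_eq_zero] at hu; exact hu
  have h2 : ∀ k : ℕ, (X : R⟦X⟧) ^ k • u = LinearMap.baseChange R⟦X⟧ (mulX R Q ^ k) u := by
    intro k
    induction k with
    | zero =>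
      rw [pow_zero, one_smul, pow_zero]
      change u = LinearMap.baseChange R⟦X⟧ (LinearMap.id) u
      rw [LinearMap.baseChange_id]; rfl
    | succ k ih =>
      rw [pow_succ, mul_smul, h1, ← map_smul, ih, pow_succ']
      change _ = LinearMap.baseChange R⟦X⟧ (mulX R Q ∘ₗ (mulX R Q ^ k)) u
      rw [LinearMap.baseChange_comp]
      rfl
  have h3 : mulX R Q ^ M = 0 := by
    ext q
    rw [mulX_pow_apply, hQ]; rfl
  apply X_pow_smul_eq_zero M
  rw [h2 M, h3, LinearMap.baseChange_zero, LinearMap.zero_apply]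

theorem claimA (j : ℕ) (s : R⟦X⟧) (q : Q) :
    ((X : R⟦X⟧) ^ j * s) ⊗ₜ[R] q - s ⊗ₜ[R] ((X : R⟦X⟧) ^ j • q) ∈ LinearMap.range (delta R Q) := by
  induction j generalizing q with
  | zero => simp
  | succ j ih =>
    have h1 : ((X : R⟦X⟧) ^ (j + 1) * s) ⊗ₜ[R] q - s ⊗ₜ[R] ((X : R⟦X⟧) ^ (j + 1) • q) =
        delta R Q (((X : R⟦X⟧) ^ j * s) ⊗ₜ q) +
          (((X : R⟦X⟧) ^ j * s) ⊗ₜ[R] ((X : R⟦X⟧) • q) - s ⊗ₜ[R] ((X : R⟦X⟧) ^ j • (X : R⟦X⟧) • q)) := by
      rw [delta_tmul, smul_smul, ← pow_succ, ← mul_assoc, ← pow_succ']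
      abel
    rw [h1]
    exact Submodule.add_mem _ ⟨_, rfl⟩ (ih _)

theorem X_pow_smul_mem_range (M : ℕ) (hQ : ∀ q : Q, (X : R⟦X⟧) ^ M • q = 0) (u : R⟦X⟧ ⊗[R] Q) :
    (X : R⟦X⟧) ^ M • u ∈ LinearMap.range (delta R Q) := by
  induction u using TensorProduct.induction_on with
  | zero => simp
  | tmul s q =>
    have := claimA M s q
    rwa [hQ, TensorProduct.tmul_zero, sub_zero, ← smul_eq_mul, ← TensorProduct.smul_tmul'] at this
  | add x y hx hy => rw [smul_add]; exact Submodule.add_mem _ hx hy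

theorem claimB (N : ℕ) (s : R⟦X⟧) (q : Q) :
    ∃ (e u' : R⟦X⟧ ⊗[R] Q), s ⊗ₜ[R] q - (1 : R⟦X⟧) ⊗ₜ[R] (s • q) = delta R Q e + (X : R⟦X⟧) ^ N • u' := by
  induction N generalizing s q with
  | zero => exact ⟨0, s ⊗ₜ[R] q - (1 : R⟦X⟧) ⊗ₜ[R] (s • q), by simp⟩
  | succ N ih =>
    obtain ⟨e, u', h⟩ := ih (shift s) q
    refine ⟨(X : R⟦X⟧) • e + (1 : R⟦X⟧) ⊗ₜ[R] (shift s • q), u', ?_⟩
    have hc : (C (constantCoeff s) : R⟦X⟧) ⊗ₜ[R] q = (1 : R⟦X⟧) ⊗ₜ[R] ((C (constantCoeff s) : R⟦X⟧) • q) := by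
      have h1 : (C (constantCoeff s) : R⟦X⟧) = (constantCoeff s) • (1 : R⟦X⟧) := by
        rw [smul_eq_C_mul, mul_one]
      have h2 : (C (constantCoeff s) : R⟦X⟧) • q = (constantCoeff s) • q := by
        rw [h1, smul_assoc, one_smul]
      rw [h2, h1, TensorProduct.smul_tmul]
    have hs : s ⊗ₜ[R] q - (1 : R⟦X⟧) ⊗ₜ[R] (s • q) =
        (X : R⟦X⟧) • (shift s ⊗ₜ[R] q - (1 : R⟦X⟧) ⊗ₜ[R] (shift s • q)) +
          delta R Q ((1 : R⟦X⟧) ⊗ₜ[R] (shift s • q)) := by
      conv_lhs => rw [eq_X_mul_shift_add s]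
      rw [TensorProduct.add_tmul, add_smul, TensorProduct.tmul_add, hc, delta_tmul, smul_sub,
        TensorProduct.smul_tmul', TensorProduct.smul_tmul', smul_eq_mul, smul_eq_mul, mul_one,
        mul_smul]
      abel
    rw [hs, h, smul_add, map_add, map_smul, smul_smul, ← pow_succ']
    abel

theorem ker_eps_le_range_delta (M : ℕ) (hQ : ∀ q : Q, (X : R⟦X⟧) ^ M • q = 0) :
    LinearMap.ker (eps R Q) ≤ LinearMap.range (delta R Q) := by
  have key : ∀ u : R⟦X⟧ ⊗[R] Q, u - (1 : R⟦X⟧) ⊗ₜ[R] (eps R Q u) ∈ LinearMap.range (delta R Q) := by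
    intro u
    induction u using TensorProduct.induction_on with
    | zero => simp
    | tmul s q =>
      obtain ⟨e, u', h⟩ := claimB M s q
      rw [eps_tmul, h]
      exact Submodule.add_mem _ ⟨_, rfl⟩ (X_pow_smul_mem_range M hQ u')
    | add x y hx hy =>
      have : x + y - (1 : R⟦X⟧) ⊗ₜ[R] (eps R Q (x + y)) =
          (x - (1 : R⟦X⟧) ⊗ₜ[R] (eps R Q x)) + (y - (1 : R⟦X⟧) ⊗ₜ[R] (eps R Q y)) := by
        rw [map_add, TensorProduct.tmul_add]; abel
      rw [this]
      exact Submodule.add_mem _ hx hy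
  intro u hu
  have := key u
  rwa [LinearMap.mem_ker.mp hu, TensorProduct.tmul_zero, sub_zero] at this

theorem range_delta_eq_ker_eps (M : ℕ) (hQ : ∀ q : Q, (X : R⟦X⟧) ^ M • q = 0) :
    LinearMap.range (delta R Q) = LinearMap.ker (eps R Q) := by
  apply le_antisymm
  · rintro _ ⟨u, rfl⟩
    exact eps_delta u
  · exact ker_eps_le_range_delta M hQ

end Backward


section Main
open PowerSeries
variable {R : Type*} [CommRing R] {ι : Type*} [Finite ι] (M : ℕ)
  (Λ : Submodule R⟦X⟧ (ι → R⟦X⟧)) (hΛ : ∀ v : ι → R⟦X⟧, (X : R⟦X⟧) ^ M • v ∈ Λ)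
include hΛ

/-- Backward direction: if the quotient is `R`-projective then `Λ` is finite projective over
`R⟦X⟧`. -/
theorem finite_projective_of_projective_quotient [Module.Projective R ((ι → R⟦X⟧) ⧸ Λ)] :
    Module.Finite R⟦X⟧ Λ ∧ Module.Projective R⟦X⟧ Λ := by
  have hsurj := psi_surjective M Λ hΛ
  haveI : Module.Finite R ((ι → R⟦X⟧) ⧸ Λ) := Module.Finite.of_surjective (psi M Λ) hsurj
  have hQ : ∀ q : (ι → R⟦X⟧) ⧸ Λ, (X : R⟦X⟧) ^ M • q = 0 := by
    intro q
    obtain ⟨v, rfl⟩ := Λ.mkQ_surjective q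
    rw [← map_smul, Submodule.mkQ_apply, Submodule.Quotient.mk_eq_zero]
    exact hΛ v
  set Q := (ι → R⟦X⟧) ⧸ Λ
  have hδ := delta_injective (R := R) (Q := Q) M hQ
  have hr := range_delta_eq_ker_eps (R := R) (Q := Q) M hQ
  let e1 : (R⟦X⟧ ⊗[R] Q) ≃ₗ[R⟦X⟧] LinearMap.ker (eps R Q) :=
    (LinearEquiv.ofInjective (delta R Q) hδ).trans (LinearEquiv.ofEq _ _ hr)
  haveI : Module.Projective R⟦X⟧ (LinearMap.ker (eps R Q)) := Module.Projective.of_equiv e1
  haveI : Module.Finite R⟦X⟧ (LinearMap.ker (eps R Q)) := Module.Finite.equiv e1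
  obtain ⟨i, r, hir⟩ := schanuel_retract Λ.mkQ Λ.mkQ_surjective (eps R Q) eps_surjective
  haveI : Module.Projective R⟦X⟧ (LinearMap.ker Λ.mkQ) := Module.Projective.of_split i r hir
  haveI : Module.Finite R⟦X⟧ (LinearMap.ker Λ.mkQ) := by
    apply Module.Finite.of_surjective r
    intro x
    exact ⟨i x, by rw [← LinearMap.comp_apply, hir]; rfl⟩
  let e2 : LinearMap.ker Λ.mkQ ≃ₗ[R⟦X⟧] Λ := LinearEquiv.ofEq _ _ Λ.ker_mkQ
  exact ⟨Module.Finite.equiv e2, Module.Projective.of_equiv e2⟩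

/-- A submodule `Λ` of `R⟦X⟧^ι` containing `X^M R⟦X⟧^ι` is finite projective over `R⟦X⟧` iff the
quotient is projective over `R`. -/
theorem finite_projective_iff :
    (Module.Finite R⟦X⟧ Λ ∧ Module.Projective R⟦X⟧ Λ) ↔
      Module.Projective R ((ι → R⟦X⟧) ⧸ Λ) := by
  constructor
  · rintro ⟨h1, h2⟩
    exact projective_quotient M Λ hΛ
  · intro h
    exact finite_projective_of_projective_quotient M Λ hΛ

end Main

end Groth.Agent.Lib.Helper52.Lattice
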