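import Mathlib.Algebra.Module.Projective
import Mathlib.Algebra.Exact
import Mathlib.RingTheory.LocalProperties.Projective
import Mathlib.Algebra.Module.FinitePresentation
import Mathlib.LinearAlgebra.Finsupp.Supported
import Mathlib.Algebra.Module.LocalizedModule.Exact
import Mathlib.RingTheory.Localization.Module

set_option autoImplicit false

namespace Groth.Agent.Lib.Helper52

open Function

section transfer

variable {R : Type*} [CommRing R] {N P P' W W' : Type*}
  [AddCommGroup N] [Module R N] [AddCommGroup P] [Module R P] [AddCommGroup P'] [Module R P']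
  [AddCommGroup W] [Module R W] [AddCommGroup W'] [Module R W']

theorem proj_transfer [Module.Projective R P']
    (u : N →ₗ[R] P) (u' : N →ₗ[R] P') (a : P →ₗ[R] P') (b : P' →ₗ[R] P)
    (hau : a ∘ₗ u = u') (hbu : b ∘ₗ u' = u)
    (π : P →ₗ[R] W) (hπ : Surjective π) (hex : Exact u π)
    (π' : P' →ₗ[R] W') (hπ' : Surjective π') (hex' : Exact u' π')
    [Module.Projective R W] : Module.Projective R W' := by
  obtain ⟨σ, hσ⟩ := Module.projective_lifting_property π LinearMap.id hπ
  have hσ' : ∀ w, π (σ w) = w := fun w => LinearMap.congr_fun hσ w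
  let ρ : P →ₗ[R] P := LinearMap.id - σ ∘ₗ π
  have hρ_range : ∀ y, ∃ n, u n = ρ y := by
    intro y
    have : π (ρ y) = 0 := by
      simp only [ρ, LinearMap.sub_apply, LinearMap.id_apply, LinearMap.comp_apply, map_sub, hσ',
        sub_self]
    exact (hex (ρ y)).mp this
  have hρu : ∀ n, ρ (u n) = u n := by
    intro n
    have : π (u n) = 0 := hex.apply_apply_eq_zero n
    simp only [ρ, LinearMap.sub_apply, LinearMap.id_apply, LinearMap.comp_apply, this, map_zero,
      sub_zero]
  have hau' : ∀ n, a (u n) = u' n := fun n => LinearMap.congr_fun hau n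
  have hbu' : ∀ n, b (u' n) = u n := fun n => LinearMap.congr_fun hbu n
  let τ : P' →ₗ[R] P' := LinearMap.id - a ∘ₗ ρ ∘ₗ b
  have hτ_ker : LinearMap.ker π' ≤ LinearMap.ker τ := by
    intro x hx
    obtain ⟨n, rfl⟩ := (hex' x).mp hx
    simp only [τ, LinearMap.mem_ker, LinearMap.sub_apply, LinearMap.id_apply, LinearMap.comp_apply,
      hbu', hρu, hau', sub_self]
  have hπτ : ∀ x, π' (τ x) = π' x := by
    intro x
    obtain ⟨n, hn⟩ := hρ_range (b x)
    simp only [τ, LinearMap.sub_apply, LinearMap.id_apply, LinearMap.comp_apply, map_sub, ← hn, hau',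
      hex'.apply_apply_eq_zero, sub_zero]
  let σ' : W' →ₗ[R] P' :=
    (LinearMap.ker π').liftQ τ hτ_ker ∘ₗ (π'.quotKerEquivOfSurjective hπ').symm.toLinearMap
  refine Module.Projective.of_split σ' π' ?_
  ext w
  obtain ⟨x, rfl⟩ := hπ' w
  have : (π'.quotKerEquivOfSurjective hπ').symm (π' x) = Submodule.Quotient.mk x := by
    rw [LinearEquiv.symm_apply_eq]
    rfl
  simp only [σ', LinearMap.comp_apply, LinearEquiv.coe_coe, this, LinearMap.id_apply]
  exact hπτ x

end transfer

section localized

variable {R : Type*} [CommRing R] (S : Submonoid R) {M₀ M₁ M₂ : Type*}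
  [AddCommGroup M₀] [Module R M₀] [AddCommGroup M₁] [Module R M₁] [AddCommGroup M₂] [Module R M₂]

theorem locMap_comp (f : M₀ →ₗ[R] M₁) (g : M₁ →ₗ[R] M₂) :
    LocalizedModule.map S (g ∘ₗ f) = LocalizedModule.map S g ∘ₗ LocalizedModule.map S f := by
  ext x
  induction x using LocalizedModule.induction_on with
  | h m s => simp

theorem locMap_exact (f : M₀ →ₗ[R] M₁) (g : M₁ →ₗ[R] M₂) (h : Exact f g) :
    Exact (LocalizedModule.map S f) (LocalizedModule.map S g) :=
  LocalizedModule.map_exact S f g h

end localized

section model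

universe u v w

variable {R : Type u} [CommRing R] {P : Type v} {W : Type*}
  [AddCommGroup P] [Module R P] [AddCommGroup W] [Module R W]

theorem exists_fp_model_aux [Module.Projective R P] {U : Type*} [AddCommGroup U] [Module R U]
    [Module.Finite R U] {F₀ : Type w} [AddCommGroup F₀] [Module R F₀] [Module.Finite R F₀]
    [Module.Free R F₀]
    (u : U →ₗ[R] P) (a : P →ₗ[R] F₀) (b : F₀ →ₗ[R] P) (hbu : b ∘ₗ (a ∘ₗ u) = u)
    (π : P →ₗ[R] W) (hπ : Surjective π) (hex : Exact u π) :
    ∃ (K : Type w) (_ : AddCommGroup K) (_ : Module R K) (_ : Module.FinitePresentation R K),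
      (Module.Projective R W ↔ Module.Projective R K) ∧
      ∀ (S : Submonoid R), Module.Projective (Localization S) (LocalizedModule S W) ↔
        Module.Projective (Localization S) (LocalizedModule S K) := by
  let u₀ : U →ₗ[R] F₀ := a ∘ₗ u
  let K := F₀ ⧸ LinearMap.range u₀
  let π₀ : F₀ →ₗ[R] K := (LinearMap.range u₀).mkQ
  have hπ₀ : Surjective π₀ := Submodule.mkQ_surjective _
  have hex₀ : Exact u₀ π₀ := LinearMap.exact_map_mkQ_range u₀
  haveI : Module.FinitePresentation R F₀ := Module.finitePresentation_of_projective R F₀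
  have hKfp : Module.FinitePresentation R K := by
    apply Module.finitePresentation_of_surjective π₀ hπ₀
    rw [Submodule.ker_mkQ, LinearMap.range_eq_map]
    exact Module.Finite.fg_top.map u₀
  refine ⟨K, inferInstance, inferInstance, hKfp, ⟨?_, ?_⟩, ?_⟩
  · intro h
    exact proj_transfer u u₀ a b rfl hbu π hπ hex π₀ hπ₀ hex₀
  · intro h
    exact proj_transfer u₀ u b a hbu rfl π₀ hπ₀ hex₀ π hπ hex
  · intro S
    have h1 : LocalizedModule.map S a ∘ₗ LocalizedModule.map S u = LocalizedModule.map S u₀ :=
      (locMap_comp S u a).symm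
    have h2 : LocalizedModule.map S b ∘ₗ LocalizedModule.map S u₀ = LocalizedModule.map S u := by
      rw [← locMap_comp, hbu]
    constructor
    · intro h
      exact proj_transfer (LocalizedModule.map S u) (LocalizedModule.map S u₀)
        (LocalizedModule.map S a) (LocalizedModule.map S b) h1 h2
        (LocalizedModule.map S π) (LocalizedModule.map_surjective S π hπ) (locMap_exact S u π hex)
        (LocalizedModule.map S π₀) (LocalizedModule.map_surjective S π₀ hπ₀)
        (locMap_exact S u₀ π₀ hex₀)
    · intro h
      exact proj_transfer (LocalizedModule.map S u₀) (LocalizedModule.map S u)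
        (LocalizedModule.map S b) (LocalizedModule.map S a) h2 h1
        (LocalizedModule.map S π₀) (LocalizedModule.map_surjective S π₀ hπ₀)
        (locMap_exact S u₀ π₀ hex₀)
        (LocalizedModule.map S π) (LocalizedModule.map_surjective S π hπ) (locMap_exact S u π hex)

/-- A finitely presented model for the projectivity of a quotient of a projective module by a
finitely generated submodule. -/
theorem exists_fp_model [Module.Projective R P]
    (π : P →ₗ[R] W) (hπ : Surjective π) (hfg : (LinearMap.ker π).FG) :
    ∃ (K : Type (max u v)) (_ : AddCommGroup K) (_ : Module R K) (_ : Module.FinitePresentation R K),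
      (Module.Projective R W ↔ Module.Projective R K) ∧
      ∀ (S : Submonoid R), Module.Projective (Localization S) (LocalizedModule S W) ↔
        Module.Projective (Localization S) (LocalizedModule S K) := by
  classical
  obtain ⟨s, hs⟩ := (Module.projective_def' (R := R) (P := P)).mp inferInstance
  have hrs : ∀ x, Finsupp.linearCombination R id (s x) = x := fun x => LinearMap.congr_fun hs x
  obtain ⟨G, hG⟩ := hfg
  let T : Finset P := G.biUnion fun g => (s g).support
  have hex : Exact (LinearMap.ker π).subtype π := LinearMap.exact_subtype_ker_map π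
  have hT : ∀ x ∈ LinearMap.ker π, s x ∈ Finsupp.supported R R (T : Set P) := by
    intro x hx
    have hx' : x ∈ Submodule.span R (G : Set P) := by rw [hG]; exact hx
    have : Submodule.span R (G : Set P) ≤ (Finsupp.supported R R (T : Set P)).comap s := by
      rw [Submodule.span_le]
      intro g hg
      rw [SetLike.mem_coe, Submodule.mem_comap, Finsupp.mem_supported]
      intro y hy
      exact Finset.mem_coe.mpr (Finset.mem_biUnion.mpr ⟨g, hg, hy⟩)
    exact this hx'
  have hip : ∀ y ∈ Finsupp.supported R R (T : Set P),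
      (Finsupp.supported R R (T : Set P)).subtype (Finsupp.restrictDom R R (T : Set P) y) = y := by
    intro y hy
    have := LinearMap.congr_fun (Finsupp.restrictDom_comp_subtype (M := R) (R := R) (T : Set P)) ⟨y, hy⟩
    exact congrArg Subtype.val this
  let eF₀ : Finsupp.supported R R (T : Set P) ≃ₗ[R] ((T : Set P) →₀ R) :=
    Finsupp.supportedEquivFinsupp (T : Set P)
  haveI : Module.Finite R (Finsupp.supported R R (T : Set P)) := Module.Finite.equiv eF₀.symm
  haveI : Module.Free R (Finsupp.supported R R (T : Set P)) := Module.Free.of_equiv eF₀.symm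
  haveI : Module.Finite R (LinearMap.ker π) := Module.Finite.iff_fg.mpr ⟨G, hG⟩
  refine exists_fp_model_aux (F₀ := Finsupp.supported R R (T : Set P)) (LinearMap.ker π).subtype
    (Finsupp.restrictDom R R (T : Set P) ∘ₗ s)
    (Finsupp.linearCombination R id ∘ₗ (Finsupp.supported R R (T : Set P)).subtype) ?_ π hπ hex
  ext x
  simp only [LinearMap.comp_apply, Submodule.subtype_apply]
  have := hip _ (hT _ x.2)
  rw [Submodule.subtype_apply] at this
  rw [this, hrs]

/-- Projectivity of the quotient of a projective module by a finitely generated submodule is local. -/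
theorem projective_of_localization_maximal_of_fg_ker [Module.Projective R P]
    (π : P →ₗ[R] W) (hπ : Surjective π) (hfg : (LinearMap.ker π).FG)
    (H : ∀ (m : Ideal R) (_ : m.IsMaximal),
      Module.Projective (Localization.AtPrime m) (LocalizedModule m.primeCompl W)) :
    Module.Projective R W := by
  obtain ⟨K, _, _, _, hglob, hloc⟩ := exists_fp_model π hπ hfg
  rw [hglob]
  apply Module.projective_of_localization_maximal
  intro m hm
  exact (hloc m.primeCompl).mp (H m hm)

end model

section kerfg

variable {R : Type*} [CommRing R] {N P' Ω : Type*}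
  [AddCommGroup N] [Module R N] [AddCommGroup P'] [Module R P'] [AddCommGroup Ω] [Module R Ω]

/-- In an exact sequence `N → P' → Ω → 0` with `P'` and `Ω` projective and `N` finite, the kernel
of `N → P'` is finitely generated. -/
theorem ker_fg_of_projective_coker [Module.Projective R P'] [Module.Projective R Ω] [Module.Finite R N]
    (κ : N →ₗ[R] P') (π : P' →ₗ[R] Ω) (hπ : Surjective π) (hex : Exact κ π) :
    (LinearMap.ker κ).FG := by
  obtain ⟨σ, hσ⟩ := Module.projective_lifting_property π LinearMap.id hπ
  have hσ' : ∀ w, π (σ w) = w := fun w => LinearMap.congr_fun hσ w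
  let I := LinearMap.range κ
  have hI : ∀ x, x ∈ I ↔ π x = 0 := fun x => (hex x).symm
  let q : P' →ₗ[R] P' := LinearMap.id - σ ∘ₗ π
  have hq_mem : ∀ x, q x ∈ I := by
    intro x
    rw [hI]
    simp only [q, LinearMap.sub_apply, LinearMap.id_apply, LinearMap.comp_apply, map_sub, hσ', sub_self]
  let q' : P' →ₗ[R] I := q.codRestrict I hq_mem
  have hq'I : q' ∘ₗ I.subtype = LinearMap.id := by
    ext x
    have : π (x : P') = 0 := (hI _).mp x.2
    simp only [q', q, LinearMap.comp_apply, Submodule.subtype_apply, LinearMap.codRestrict_apply,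
      LinearMap.sub_apply, LinearMap.id_apply, this, map_zero, sub_zero]
  haveI : Module.Projective R I := Module.Projective.of_split I.subtype q' hq'I
  let κ' : N →ₗ[R] I := κ.rangeRestrict
  have hκ' : Surjective κ' := κ.surjective_rangeRestrict
  obtain ⟨τ, hτ⟩ := Module.projective_lifting_property κ' LinearMap.id hκ'
  have hτ' : ∀ y, κ' (τ y) = y := fun y => LinearMap.congr_fun hτ y
  let ρ : N →ₗ[R] N := LinearMap.id - τ ∘ₗ κ'
  have hρ_ker : ∀ n, κ (ρ n) = 0 := by
    intro n
    have h1 : κ' (ρ n) = 0 := by
      simp only [ρ, LinearMap.sub_apply, LinearMap.id_apply, LinearMap.comp_apply, map_sub, hτ', sub_self]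
    have := congrArg Subtype.val h1
    simpa [κ'] using this
  have hρ_id : ∀ n ∈ LinearMap.ker κ, ρ n = n := by
    intro n hn
    have : κ' n = 0 := by
      apply Subtype.ext
      simpa [κ'] using hn
    simp only [ρ, LinearMap.sub_apply, LinearMap.id_apply, LinearMap.comp_apply, this, map_zero, sub_zero]
  have heq : LinearMap.ker κ = LinearMap.range ρ := by
    apply le_antisymm
    · intro n hn
      exact ⟨n, hρ_id n hn⟩
    · rintro _ ⟨n, rfl⟩
      exact hρ_ker n
  rw [heq, LinearMap.range_eq_map]
  exact Module.Finite.fg_top.map ρ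

end kerfg

end Groth.Agent.Lib.Helper52
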