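import Mathlib

/-!
# Counting minimal primes and maximal ideals

* `ncard_minimalPrimes_of_isLocalization`: localizing at non-zero-divisors does not change the
  number of minimal primes.
* `ncard_minimalPrimes_eq_of_mul_mem_range`: if `f : R → S` is injective, `t` is a non-zero-divisor
  of `R` and `S` with `t S ⊆ f R`, then `R` and `S` have the same number of minimal primes.
* `ncard_minimalPrimes_eq_ncard_isMaximal`: if all localizations at maximal ideals are domains and
  each minimal prime lies in a unique maximal ideal, there are as many minimal primes as maximal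
  ideals.
* `ncard_isMaximal_eq`: maximal ideals along `ι : B → C` with `C = ι B + 𝔞 C`.
-/

namespace Groth.Agent.Lib.Helper52.MinPrimesCount

universe u

section Loc

variable {R : Type*} [CommRing R] (M : Submonoid R) (S : Type*) [CommRing S] [Algebra R S]
  [IsLocalization M S]

theorem ncard_minimalPrimes_of_isLocalization (hM : M ≤ nonZeroDivisors R) :
    (minimalPrimes S).ncard = (minimalPrimes R).ncard := by
  have hinj : Function.Injective (algebraMap R S) := IsLocalization.injective S hM
  have h1 := IsLocalization.minimalPrimes_comap M S (⊥ : Ideal S)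
  have h2 : (⊥ : Ideal S).comap (algebraMap R S) = ⊥ := by
    rw [← RingHom.ker_eq_comap_bot]
    exact (RingHom.injective_iff_ker_eq_bot _).mp hinj
  rw [h2] at h1
  change minimalPrimes R = _ at h1
  rw [h1]
  symm
  apply Set.InjOn.ncard_image
  intro P _ Q _ hPQ
  have hP := IsLocalization.map_under M S P
  have hQ := IsLocalization.map_under M S Q
  rw [← hP, ← hQ]
  exact congrArg _ hPQ

end Loc

section Range

variable {R S : Type u} [CommRing R] [CommRing S] (f : R →+* S)

theorem ncard_minimalPrimes_eq_of_mul_mem_range (hf : Function.Injective f) (t : R)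
    (ht : t ∈ nonZeroDivisors R) (ht' : f t ∈ nonZeroDivisors S)
    (hrange : ∀ y : S, f t * y ∈ f.range) :
    (minimalPrimes S).ncard = (minimalPrimes R).ncard := by
  have hS : (minimalPrimes (Localization.Away (f t))).ncard = (minimalPrimes S).ncard :=
    ncard_minimalPrimes_of_isLocalization (Submonoid.powers (f t)) (Localization.Away (f t))
      (Submonoid.powers_le.mpr ht')
  let _ : Algebra R (Localization.Away (f t)) :=
    ((algebraMap S (Localization.Away (f t))).comp f).toAlgebra
  have halg : ∀ x : R, algebraMap R (Localization.Away (f t)) x =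
      algebraMap S (Localization.Away (f t)) (f x) := fun x => rfl
  have hloc : IsLocalization (Submonoid.powers t) (Localization.Away (f t)) := by
    refine ⟨?_, ?_, ?_⟩
    · rintro ⟨_, n, rfl⟩
      rw [halg, map_pow]
      exact IsLocalization.map_units (Localization.Away (f t))
        (⟨f t ^ n, n, rfl⟩ : Submonoid.powers (f t))
    · intro z
      obtain ⟨⟨y, ⟨_, n, rfl⟩⟩, hy⟩ := IsLocalization.surj (Submonoid.powers (f t)) z
      obtain ⟨x, hx⟩ := hrange y
      refine ⟨(x, ⟨t ^ (n + 1), n + 1, rfl⟩), ?_⟩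
      simp only [halg] at hy ⊢
      rw [hx, map_mul, ← hy, map_pow, pow_succ, map_mul, map_pow]
      ring
    · intro x y hxy
      rw [halg, halg] at hxy
      obtain ⟨⟨_, n, rfl⟩, hc⟩ := (IsLocalization.eq_iff_exists (Submonoid.powers (f t)) _).mp hxy
      refine ⟨⟨t ^ n, n, rfl⟩, ?_⟩
      apply hf
      simp only at hc ⊢
      rw [map_mul, map_mul, map_pow]
      exact hc
  have hR : (minimalPrimes (Localization.Away (f t))).ncard = (minimalPrimes R).ncard :=
    ncard_minimalPrimes_of_isLocalization (Submonoid.powers t) (Localization.Away (f t))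
      (Submonoid.powers_le.mpr ht)
  rw [← hS, hR]

end Range

section MaxMin

variable {C : Type*} [CommRing C]

theorem ker_localization_le_of_le (N Q : Ideal C) [N.IsPrime] [hQ : Q.IsPrime] (hQN : Q ≤ N) :
    RingHom.ker (algebraMap C (Localization.AtPrime N)) ≤ Q := by
  intro x hx
  rw [RingHom.mem_ker, IsLocalization.map_eq_zero_iff N.primeCompl] at hx
  obtain ⟨u, hu⟩ := hx
  have : (u : C) * x ∈ Q := by rw [hu]; exact Q.zero_mem
  rcases hQ.mem_or_mem this with h | h
  · exact absurd (hQN h) u.2
  · exact h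

theorem ker_localization_le (N : Ideal C) [N.IsPrime] :
    RingHom.ker (algebraMap C (Localization.AtPrime N)) ≤ N :=
  ker_localization_le_of_le N N le_rfl

theorem ncard_minimalPrimes_eq_ncard_isMaximal
    (hdom : ∀ (N : Ideal C) [N.IsMaximal], IsDomain (Localization.AtPrime N))
    (huniq : ∀ Q ∈ minimalPrimes C, ∀ N N' : Ideal C, N.IsMaximal → N'.IsMaximal →
      Q ≤ N → Q ≤ N' → N = N') :
    (minimalPrimes C).ncard = {N : Ideal C | N.IsMaximal}.ncard := by
  symm
  have hkerprime : ∀ (N : Ideal C) [N.IsMaximal],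
      (RingHom.ker (algebraMap C (Localization.AtPrime N))).IsPrime := by
    intro N hN
    have := hdom N
    exact RingHom.ker_isPrime _
  have hkermin : ∀ (N : Ideal C) [N.IsMaximal],
      RingHom.ker (algebraMap C (Localization.AtPrime N)) ∈ minimalPrimes C := by
    intro N hN
    have hp := hkerprime N
    obtain ⟨Q₀, hQ₀, hQ₀le⟩ := Ideal.exists_minimalPrimes_le
      (bot_le : (⊥ : Ideal C) ≤ RingHom.ker (algebraMap C (Localization.AtPrime N)))
    have hQ₀p : Q₀.IsPrime := hQ₀.1.1
    have h1 : RingHom.ker (algebraMap C (Localization.AtPrime N)) ≤ Q₀ :=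
      ker_localization_le_of_le N Q₀ (hQ₀le.trans (ker_localization_le N))
    rw [le_antisymm h1 hQ₀le]
    exact hQ₀
  refine Set.ncard_congr
    (fun N (hN : N ∈ {N : Ideal C | N.IsMaximal}) =>
      have : N.IsMaximal := hN
      RingHom.ker (algebraMap C (Localization.AtPrime N))) ?_ ?_ ?_
  · intro N hN
    have : N.IsMaximal := hN
    exact hkermin N
  · intro N N' hN hN' heq
    have i1 : N.IsMaximal := hN
    have i2 : N'.IsMaximal := hN'
    simp only at heq
    refine huniq _ (hkermin N) N N' hN hN' (ker_localization_le N) ?_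
    rw [heq]
    exact ker_localization_le N'
  · intro Q hQ
    have hQp : Q.IsPrime := hQ.1.1
    obtain ⟨N, hN, hQN⟩ := Ideal.exists_le_maximal Q hQp.ne_top
    refine ⟨N, hN, ?_⟩
    have hp := hkerprime N
    have h1 : RingHom.ker (algebraMap C (Localization.AtPrime N)) ≤ Q :=
      ker_localization_le_of_le N Q hQN
    exact le_antisymm h1 (hQ.2 ⟨hp, bot_le⟩ h1)

end MaxMin

section MaxMax

variable {B C : Type*} [CommRing B] [CommRing C] (ι : B →+* C) (𝔞 : Ideal B)

/-- A maximal ideal `N ⊇ 𝔞 C` of `C = ι B + 𝔞 C` is generated by its contraction. -/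
theorem eq_map_comap_of_dense (hdense : ∀ c : C, ∃ b : B, c - ι b ∈ 𝔞.map ι) (N : Ideal C)
    (hN : 𝔞.map ι ≤ N) : N = (N.comap ι).map ι ⊔ 𝔞.map ι := by
  apply le_antisymm
  · intro c hc
    obtain ⟨b, hb⟩ := hdense c
    have hbN : ι b ∈ N := by
      have := N.sub_mem hc (hN hb)
      rwa [sub_sub_cancel] at this
    have h1 : ι b ∈ (N.comap ι).map ι := Ideal.mem_map_of_mem ι hbN
    have : c = ι b + (c - ι b) := by ring
    rw [this]
    exact Ideal.add_mem _ (Ideal.mem_sup_left h1) (Ideal.mem_sup_right hb)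
  · exact sup_le Ideal.map_comap_le hN

theorem ncard_isMaximal_eq (hdense : ∀ c : C, ∃ b : B, c - ι b ∈ 𝔞.map ι)
    (hjac : ∀ N : Ideal C, N.IsMaximal → 𝔞.map ι ≤ N)
    (hcomap : ∀ N : Ideal C, N.IsMaximal → (N.comap ι).IsMaximal)
    (hlift : ∀ M : Ideal B, M.IsMaximal → ∃ ρ : C →+* B ⧸ M, ρ.comp ι = Ideal.Quotient.mk M) :
    {N : Ideal C | N.IsMaximal}.ncard = {M : Ideal B | M.IsMaximal}.ncard := by
  refine Set.ncard_congr (fun N _ => N.comap ι) ?_ ?_ ?_
  · intro N hN
    exact hcomap N hN
  · intro N N' hN hN' heq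
    rw [eq_map_comap_of_dense ι 𝔞 hdense N (hjac N hN),
      eq_map_comap_of_dense ι 𝔞 hdense N' (hjac N' hN'), heq]
  · intro M hM
    have hMmax : M.IsMaximal := hM
    obtain ⟨ρ, hρ⟩ := hlift M hM
    have hsurj : Function.Surjective ρ := by
      intro y
      obtain ⟨b, rfl⟩ := Ideal.Quotient.mk_surjective y
      exact ⟨ι b, by rw [← hρ]; rfl⟩
    let _ : Field (B ⧸ M) := Ideal.Quotient.field M
    refine ⟨RingHom.ker ρ, RingHom.ker_isMaximal_of_surjective ρ hsurj, ?_⟩
    rw [RingHom.comap_ker, hρ, Ideal.mk_ker]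

end MaxMax

end Groth.Agent.Lib.Helper52.MinPrimesCount
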