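import Mathlib
import Groth.Agent.Lib.Helper52.MonicCI

/-!
# The top-coefficient form on `R[u]/(f_i(u_i))` is a perfect pairing
-/

set_option autoImplicit false
universe u v

namespace Groth.Agent.Lib.Helper52.MonicCI

open MvPolynomial PiTensorProduct
open scoped TensorProduct

/-- A matrix that is unitriangular with respect to a degree function has determinant one. -/
lemma det_eq_one_of_unitriangular {m R : Type*} [Fintype m] [DecidableEq m] [CommRing R]
    (M : Matrix m m R) (b : m → ℕ)
    (h0 : ∀ i j, i ≠ j → b i ≤ b j → M i j = 0) (h1 : ∀ i, M i i = 1) : M.det = 1 := by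
  rw [← Matrix.det_transpose]
  have hbt : Matrix.BlockTriangular M.transpose b := by
    intro j i hij
    rw [Matrix.transpose_apply]
    exact h0 i j (by rintro rfl; exact lt_irrefl _ hij) hij.le
  rw [hbt.det]
  apply Finset.prod_eq_one
  intro a _
  have : M.transpose.toSquareBlock b a = 1 := by
    ext ⟨j, hj⟩ ⟨i, hi⟩
    rw [Matrix.toSquareBlock_def, Matrix.of_apply, Matrix.transpose_apply, Matrix.one_apply]
    by_cases hji : j = i
    · subst hji
      simp [h1]
    · rw [if_neg (by simpa using hji)]
      exact h0 i j (Ne.symm hji) (by rw [hi, hj])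
  rw [this, Matrix.det_one]

variable {R : Type u} [CommRing R] {ι : Type v} (f : ι → Polynomial R)

/-- The inclusion of the `i`-th factor. -/
noncomputable def incl (i : ι) : AdjoinRoot (f i) →ₐ[R] Q f :=
  AdjoinRoot.liftAlgHom (f i) (Algebra.ofId R (Q f)) (gen f i) (by rw [← aeval_gen f i]; rfl)

@[simp] lemma incl_root (i : ι) : incl f i (AdjoinRoot.root (f i)) = gen f i := by
  simp [incl]

lemma incl_mk (i : ι) (q : Polynomial R) :
    incl f i (AdjoinRoot.mk (f i) q) = Polynomial.aeval (gen f i) q := by
  rw [← AdjoinRoot.aeval_eq, ← Polynomial.aeval_algHom_apply, incl_root]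

lemma repr_mk_of_degree_lt [Nontrivial R] {g : Polynomial R} (hg : g.Monic) (q : Polynomial R)
    (hq : q.degree < g.degree) (j : Fin g.natDegree) :
    (AdjoinRoot.powerBasisAux' hg).repr (AdjoinRoot.mk g q) j = q.coeff j := by
  rw [AdjoinRoot.powerBasisAux'_repr_apply_to_fun, AdjoinRoot.modByMonicHom_mk,
    (Polynomial.modByMonic_eq_self_iff hg).mpr hq]

variable [Fintype ι] [DecidableEq ι]

lemma ofTensor_tprod (x : ∀ i, AdjoinRoot (f i)) :
    ofTensor f (tprod R x) = ∏ i, incl f i (x i) := by
  unfold ofTensor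
  rw [liftAlgHom_apply, lift.tprod, ofTensorML_apply]
  rfl

variable (hf : ∀ i, (f i).Monic)

lemma basis_repr_prod_incl (x : ∀ i, AdjoinRoot (f i)) (γ : ∀ i, Fin (f i).natDegree) :
    (basis f hf).repr (∏ i, incl f i (x i)) γ =
      ∏ i, (AdjoinRoot.powerBasisAux' (hf i)).repr (x i) (γ i) := by
  rw [← ofTensor_tprod]
  have h1 : (basis f hf).repr (ofTensor f (tprod R x)) =
      (_root_.Basis.piTensorProduct (fun i => AdjoinRoot.powerBasisAux' (hf i))).repr (tprod R x) := by
    unfold basis
    rw [Module.Basis.map_repr]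
    simp only [LinearEquiv.trans_apply, LinearEquiv.symm_symm]
    congr 1
    exact DFunLike.congr_fun (toTensor_ofTensor f) (tprod R x)
  rw [h1, _root_.Basis.piTensorProduct_repr_tprod_apply]


section Gram

variable [Nontrivial R] (hd : ∀ i, 0 < (f i).natDegree)

/-- The top index `(d_i - 1)_i`. -/
def top : ∀ i, Fin (f i).natDegree := fun i => ⟨(f i).natDegree - 1, by have := hd i; omega⟩

/-- Index reversal `β ↦ (d_i - 1 - β_i)_i`. -/
def rev (β : ∀ i, Fin (f i).natDegree) : ∀ i, Fin (f i).natDegree := fun i => Fin.rev (β i)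

omit [Fintype ι] [DecidableEq ι] [Nontrivial R] in
lemma rev_rev (β : ∀ i, Fin (f i).natDegree) : rev f (rev f β) = β := by
  funext i; simp [rev]

/-- Reversal as an equivalence. -/
def revEquiv : (∀ i, Fin (f i).natDegree) ≃ (∀ i, Fin (f i).natDegree) where
  toFun := rev f
  invFun := rev f
  left_inv := rev_rev f
  right_inv := rev_rev f

/-- The top-coefficient functional. -/
noncomputable def topCoeff : Q f →ₗ[R] R := (basis f hf).coord (top f hd)

lemma topCoeff_prod_pow (e : ι → ℕ) (he : ∀ i, e i < (f i).natDegree) :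
    topCoeff f hf hd (∏ i, gen f i ^ e i) = ∏ i, if e i = (f i).natDegree - 1 then 1 else 0 := by
  have h1 : ∏ i, gen f i ^ e i = ∏ i, incl f i (AdjoinRoot.mk (f i) (Polynomial.X ^ e i)) := by
    refine Finset.prod_congr rfl fun i _ => ?_
    rw [incl_mk]; simp
  rw [h1, topCoeff, Module.Basis.coord_apply, basis_repr_prod_incl]
  refine Finset.prod_congr rfl fun i _ => ?_
  rw [repr_mk_of_degree_lt (hf i)]
  · rw [Polynomial.coeff_X_pow]
    have htop : ((top f hd i : Fin _) : ℕ) = (f i).natDegree - 1 := rfl
    split_ifs with h1 h2 h2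
    · rfl
    · exact absurd (by omega) h2
    · exact absurd (by omega) h1
    · rfl
  · rw [Polynomial.degree_X_pow, Polynomial.degree_eq_natDegree (hf i).ne_zero]
    exact_mod_cast he i

/-- The Gram matrix of the form with respect to the monomial basis and its reversal. -/
noncomputable def gram : Matrix (∀ i, Fin (f i).natDegree) (∀ i, Fin (f i).natDegree) R :=
  fun α β => topCoeff f hf hd (basis f hf α * basis f hf (rev f β))

lemma basis_mul_basis_rev (α β : ∀ i, Fin (f i).natDegree) :
    basis f hf α * basis f hf (rev f β) =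
      ∏ i, gen f i ^ ((α i : ℕ) + ((f i).natDegree - ((β i : ℕ) + 1))) := by
  rw [basis_apply, basis_apply, ← Finset.prod_mul_distrib]
  refine Finset.prod_congr rfl fun i _ => ?_
  rw [← pow_add]
  simp [rev, Fin.val_rev]

lemma gram_eq_zero (α β : ∀ i, Fin (f i).natDegree) (i : ι) (hi : (α i : ℕ) < β i) :
    gram f hf hd α β = 0 := by
  unfold gram
  rw [basis_mul_basis_rev]
  by_cases hall : ∀ j, (α j : ℕ) + ((f j).natDegree - ((β j : ℕ) + 1)) < (f j).natDegree
  · rw [topCoeff_prod_pow f hf hd _ hall]
    apply Finset.prod_eq_zero (Finset.mem_univ i)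
    rw [if_neg]
    have := (β i).2
    omega
  · -- some exponent is too large; use a different argument: split off factor i
    push Not at hall
    obtain ⟨j, hj⟩ := hall
    -- we still compute through the tensor formula
    have h1 : ∏ l, gen f l ^ ((α l : ℕ) + ((f l).natDegree - ((β l : ℕ) + 1))) =
        ∏ l, incl f l (AdjoinRoot.mk (f l)
          (Polynomial.X ^ ((α l : ℕ) + ((f l).natDegree - ((β l : ℕ) + 1))))) := by
      refine Finset.prod_congr rfl fun l _ => ?_
      rw [incl_mk]; simp
    rw [h1, topCoeff, Module.Basis.coord_apply, basis_repr_prod_incl]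
    apply Finset.prod_eq_zero (Finset.mem_univ i)
    rw [repr_mk_of_degree_lt (hf i)]
    · rw [Polynomial.coeff_X_pow, if_neg]
      have htop : ((top f hd i : Fin _) : ℕ) = (f i).natDegree - 1 := rfl
      have := (β i).2
      omega
    · rw [Polynomial.degree_X_pow, Polynomial.degree_eq_natDegree (hf i).ne_zero]
      have := (β i).2
      exact_mod_cast (by omega : (α i : ℕ) + ((f i).natDegree - ((β i : ℕ) + 1)) < (f i).natDegree)

lemma gram_self (α : ∀ i, Fin (f i).natDegree) : gram f hf hd α α = 1 := by
  unfold gram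
  rw [basis_mul_basis_rev, topCoeff_prod_pow]
  · apply Finset.prod_eq_one
    intro i _
    rw [if_pos]
    have := (α i).2
    omega
  · intro i
    have := (α i).2
    omega

lemma det_gram : (gram f hf hd).det = 1 := by
  apply det_eq_one_of_unitriangular _ (fun α => ∑ i, (α i : ℕ))
  · intro α β hne hle
    by_contra hg
    apply hne
    have hall : ∀ i, (β i : ℕ) ≤ α i := by
      intro i
      by_contra hi
      exact hg (gram_eq_zero f hf hd α β i (by omega))
    have hsum : ∑ i, (β i : ℕ) = ∑ i, (α i : ℕ) :=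
      le_antisymm (Finset.sum_le_sum fun i _ => hall i) hle
    have := (Finset.sum_eq_sum_iff_of_le (fun i _ => hall i)).mp hsum
    funext i
    exact Fin.ext (this i (Finset.mem_univ i)).symm
  · exact gram_self f hf hd


/-- The reversed basis. -/
noncomputable def basisRev : Module.Basis (∀ i, Fin (f i).natDegree) R (Q f) :=
  (basis f hf).reindex (revEquiv f)

omit [Nontrivial R] in
lemma basisRev_apply (β : ∀ i, Fin (f i).natDegree) : basisRev f hf β = basis f hf (rev f β) := by
  simp [basisRev, revEquiv]

lemma topCoeff_basis_mul (α : ∀ i, Fin (f i).natDegree) (t : Q f) :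
    topCoeff f hf hd (basis f hf α * t) =
      (gram f hf hd).mulVec (fun β => (basisRev f hf).repr t β) α := by
  conv_lhs => rw [← (basisRev f hf).sum_repr t]
  rw [Finset.mul_sum, map_sum, Matrix.mulVec, dotProduct]
  refine Finset.sum_congr rfl fun β _ => ?_
  rw [mul_smul_comm, map_smul, smul_eq_mul, mul_comm, basisRev_apply]
  rfl

/-- Nondegeneracy. -/
lemma eq_zero_of_topCoeff_mul (t : Q f) (h : ∀ s, topCoeff f hf hd (s * t) = 0) : t = 0 := by
  have hu : IsUnit (gram f hf hd).det := by rw [det_gram]; exact isUnit_one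
  have h1 : (gram f hf hd).mulVec (fun β => (basisRev f hf).repr t β) = 0 := by
    funext α
    rw [← topCoeff_basis_mul]
    exact h _
  have h2 : (fun β => (basisRev f hf).repr t β) = 0 := by
    have := congrArg ((gram f hf hd)⁻¹).mulVec h1
    rwa [Matrix.mulVec_mulVec, Matrix.nonsing_inv_mul _ hu, Matrix.one_mulVec,
      Matrix.mulVec_zero] at this
  apply (basisRev f hf).repr.injective
  rw [map_zero]
  ext β
  exact congrFun h2 β

/-- Every linear form is represented. -/
lemma exists_topCoeff_mul (ψ₀ : Q f →ₗ[R] R) : ∃ t : Q f, ∀ s, ψ₀ s = topCoeff f hf hd (s * t) := by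
  have hu : IsUnit (gram f hf hd).det := by rw [det_gram]; exact isUnit_one
  let v : (∀ i, Fin (f i).natDegree) → R := fun α => ψ₀ (basis f hf α)
  let c : (∀ i, Fin (f i).natDegree) → R := ((gram f hf hd)⁻¹).mulVec v
  let t : Q f := ∑ β, c β • basisRev f hf β
  have hrepr : (fun β => (basisRev f hf).repr t β) = c := by
    funext β
    simp only [t, map_sum, map_smul, Module.Basis.repr_self, Finsupp.coe_finsetSum,
      Finset.sum_apply, Finsupp.smul_apply, smul_eq_mul]
    rw [Finset.sum_eq_single β]
    · simp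
    · intro b _ hb; simp [hb]
    · intro h; exact absurd (Finset.mem_univ β) h
  refine ⟨t, ?_⟩
  have hlin : ψ₀ = (topCoeff f hf hd) ∘ₗ (LinearMap.mulRight R t) := by
    apply (basis f hf).ext
    intro α
    rw [LinearMap.comp_apply, LinearMap.mulRight_apply, topCoeff_basis_mul, hrepr]
    simp only [c]
    rw [Matrix.mulVec_mulVec, Matrix.mul_nonsing_inv _ hu, Matrix.one_mulVec]
  intro s
  rw [hlin]
  rfl


lemma topCoeff_prod_shift_pow (s : ι → R) (e : ι → ℕ) (he : ∀ i, e i < (f i).natDegree) :
    topCoeff f hf hd (∏ i, (gen f i + algebraMap R (Q f) (s i)) ^ e i) =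
      ∏ i, if e i = (f i).natDegree - 1 then 1 else 0 := by
  have h1 : ∏ i, (gen f i + algebraMap R (Q f) (s i)) ^ e i =
      ∏ i, incl f i (AdjoinRoot.mk (f i) ((Polynomial.X + Polynomial.C (s i)) ^ e i)) := by
    refine Finset.prod_congr rfl fun i _ => ?_
    rw [incl_mk]; simp
  rw [h1, topCoeff, Module.Basis.coord_apply, basis_repr_prod_incl]
  refine Finset.prod_congr rfl fun i _ => ?_
  have hmon : ((Polynomial.X + Polynomial.C (s i)) ^ e i : Polynomial R).Monic :=
    (Polynomial.monic_X_add_C (s i)).pow (e i)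
  have hdeg : ((Polynomial.X + Polynomial.C (s i)) ^ e i : Polynomial R).natDegree = e i := by
    rw [(Polynomial.monic_X_add_C (s i)).natDegree_pow, Polynomial.natDegree_X_add_C, mul_one]
  rw [repr_mk_of_degree_lt (hf i)]
  · have htop : ((top f hd i : Fin _) : ℕ) = (f i).natDegree - 1 := rfl
    rw [htop]
    split_ifs with h
    · rw [← h]
      have := hmon.coeff_natDegree
      rwa [hdeg] at this
    · apply Polynomial.coeff_eq_zero_of_natDegree_lt
      rw [hdeg]
      have := he i
      omega
  · rw [Polynomial.degree_eq_natDegree hmon.ne_zero, Polynomial.degree_eq_natDegree (hf i).ne_zero,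
      hdeg]
    exact_mod_cast he i

/-- The top-coefficient form is invariant under translations `u_i ↦ u_i + s_i`. -/
lemma topCoeff_comp_of_shift (τ : Q f →ₐ[R] Q f) (s : ι → R)
    (hτ : ∀ i, τ (gen f i) = gen f i + algebraMap R (Q f) (s i)) (t : Q f) :
    topCoeff f hf hd (τ t) = topCoeff f hf hd t := by
  have hlin : (topCoeff f hf hd) ∘ₗ τ.toLinearMap = topCoeff f hf hd := by
    apply (basis f hf).ext
    intro α
    rw [LinearMap.comp_apply, AlgHom.toLinearMap_apply, basis_apply, map_prod]
    simp only [map_pow, hτ]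
    rw [topCoeff_prod_shift_pow f hf hd s _ (fun i => (α i).2),
      topCoeff_prod_pow f hf hd _ (fun i => (α i).2)]
  exact LinearMap.congr_fun hlin t

end Gram

end Groth.Agent.Lib.Helper52.MonicCI
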