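import Mathlib
import Groth.Statements.S13432
import Groth.Agent.S13749
import Groth.Agent.Lib.Helper69.RatSec4
import Groth.Agent.Lib.Helper69.SmoothQF
import Groth.Agent.Lib.Helper30.SmoothLocal
import Groth.Agent.Lib.Helper46.NeronFinBC
import Groth.Agent.Lib.Helper68.NeronFinLFT
import Groth.Agent.Lib.Helper51.NeronFinOPS
import Groth.Agent.Lib.Helper45.NeronFinNHD
import Groth.Agent.Lib.Helper78.NeronFinSEC

set_option autoImplicit false
universe u
open CategoryTheory CategoryTheory.Limits AlgebraicGeometry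

namespace Groth.Agent.Lib.Helper52.NeronFin

/-- smooth over normal is normal -/
theorem isNormalScheme_of_smooth {X Y : Scheme.{u}} (f : X ⟶ Y) [Smooth f]
    (hY : Pi1.IsNormalScheme Y) : Pi1.IsNormalScheme X := fun x =>
  (Groth.Agent.Lib.Helper30.SmoothLocal.stalk_normal_iff_of_smoothAt f x
    (by rw [f.smoothLocus_eq_top]; trivial)).mpr (hY _)

/-- [NHD] -/
theorem exists_integral_affine_nhd {Y : Scheme.{u}} [IsLocallyNoetherian Y]
    (hY : ∀ y : Y, IsDomain (Y.presheaf.stalk y)) (y : Y) :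
    ∃ W : Y.Opens, y ∈ W ∧ IsAffineOpen W ∧ IsIntegral W.toScheme :=
  Groth.Agent.Lib.Helper45.NeronFinNHD.exists_integral_affine_nhd hY y

/-- [SEC] -/
theorem exists_section_of_finite {W P : Scheme.{u}} [IsIntegral W]
    (hnor : ∀ w : W, IsIntegrallyClosed (W.presheaf.stalk w))
    (p : P ⟶ W) [IsFinite p] (V : W.Opens) (hV : (V : Set W).Nonempty)
    (σ₀ : V.toScheme ⟶ P) [QuasiCompact σ₀] (hσ₀ : σ₀ ≫ p = V.ι) :
    ∃ σ : W ⟶ P, σ ≫ p = 𝟙 W ∧ V.ι ≫ σ = σ₀ :=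
  Groth.Agent.Lib.Helper78.NeronFinSEC.exists_section_of_finite hnor p V hV σ₀ hσ₀

/-- [OPS] -/
theorem isOpenImmersion_section {W P : Scheme.{u}} [IsLocallyNoetherian P]
    (hP : ∀ x : P, IsDomain (P.presheaf.stalk x))
    (p : P ⟶ W) [IsSeparated p] (σ : W ⟶ P) (hσ : σ ≫ p = 𝟙 W)
    (V : W.Opens) (hV : Dense (V : Set W)) [IsOpenImmersion (V.ι ≫ σ)] : IsOpenImmersion σ :=
  Groth.Agent.Lib.Helper51.NeronFinOPS.isOpenImmersion_section hP p σ hσ V hV

/-- [LFT] -/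
theorem isOpenImmersion_lift_smoothLocus {T S W : Scheme.{u}} (π : T ⟶ S) [IsFinite π]
    [LocallyOfFinitePresentation π] (g : W ⟶ S) (V : W.Opens)
    (a : V.toScheme ⟶ π.smoothLocus.toScheme)
    (ha : (a ≫ π.smoothLocus.ι) ≫ π = V.ι ≫ g) :
    IsOpenImmersion (pullback.lift (a ≫ π.smoothLocus.ι) V.ι ha : V.toScheme ⟶ pullback π g) :=
  Groth.Agent.Lib.Helper68.NeronFinLFT.isOpenImmersion_lift_smoothLocus π g V a ha

/-- [BC] -/
theorem fst_mem_smoothLocus_of_snd_mem {T S W : Scheme.{u}} (π : T ⟶ S)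
    [LocallyOfFinitePresentation π] (g : W ⟶ S) [Flat g] (x : ↥(pullback π g))
    (hx : x ∈ (pullback.snd π g).smoothLocus) : (pullback.fst π g) x ∈ π.smoothLocus :=
  Groth.Agent.Lib.Helper46.NeronFinBC.fst_mem_smoothLocus_of_snd_mem π g x hx

open Groth.Agent.S13749 in
/-- the local extension -/
theorem local_ext {S : Scheme.{u}} [IsLocallyNoetherian S] (hS : Pi1.IsNormalScheme S)
    (U : S.Opens) (hU : CInt.IsSchematicallyDense U)
    {T : Scheme.{u}} (π : T ⟶ S) [IsFinite π] [LocallyOfFinitePresentation π]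
    (hT : Pi1.IsNormalScheme T)
    {Y : Scheme.{u}} (q : Y ⟶ S) [Smooth q]
    (a : (q ⁻¹ᵁ U).toScheme ⟶ π.smoothLocus.toScheme)
    (ha : a ≫ (π.smoothLocus.ι ≫ π) = (q ⁻¹ᵁ U).ι ≫ q) (y : Y) :
    ∃ (W : Y.Opens) (_ : y ∈ W) (f : W.toScheme ⟶ π.smoothLocus.toScheme),
      f ≫ (π.smoothLocus.ι ≫ π) = W.ι ≫ q ∧
      Y.homOfLE (inf_le_left : W ⊓ q ⁻¹ᵁ U ≤ W) ≫ f =
        Y.homOfLE (inf_le_right : W ⊓ q ⁻¹ᵁ U ≤ q ⁻¹ᵁ U) ≫ a := by
  haveI : IsLocallyNoetherian Y := LocallyOfFiniteType.isLocallyNoetherian q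
  have hYn : Pi1.IsNormalScheme Y := isNormalScheme_of_smooth q hS
  obtain ⟨W, hyW, hWaff, hWint⟩ := exists_integral_affine_nhd (fun y => (hYn y).1) y
  let g : W.toScheme ⟶ S := W.ι ≫ q
  haveI : Smooth g := inferInstance
  haveI : Flat g := inferInstance
  have hWn : Pi1.IsNormalScheme W.toScheme := isNormalScheme_of_smooth g hS
  haveI : IsLocallyNoetherian W.toScheme := LocallyOfFiniteType.isLocallyNoetherian g
  let V : W.toScheme.Opens := g ⁻¹ᵁ U
  haveI hdom : IsSchemeTheoreticallyDominant V.ι := dominant_preimage U hU g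
  have hVd : Dense (V : Set W.toScheme) := by
    have := V.ι.denseRange
    rw [DenseRange, Scheme.Opens.range_ι] at this
    exact this
  have hVne : (V : Set W.toScheme).Nonempty := by
    haveI : Nonempty W.toScheme := ⟨⟨y, hyW⟩⟩
    exact hVd.nonempty
  -- the restricted map
  let a' : V.toScheme ⟶ π.smoothLocus.toScheme := (W.ι ∣_ (q ⁻¹ᵁ U)) ≫ a
  have ha' : (a' ≫ π.smoothLocus.ι) ≫ π = V.ι ≫ g := by
    change (((W.ι ∣_ (q ⁻¹ᵁ U)) ≫ a) ≫ π.smoothLocus.ι) ≫ π = (W.ι ⁻¹ᵁ (q ⁻¹ᵁ U)).ι ≫ W.ι ≫ q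
    rw [Category.assoc, Category.assoc, ha, ← Category.assoc, morphismRestrict_ι, Category.assoc]
  let pr₁ : pullback π g ⟶ T := pullback.fst π g
  let pr₂ : pullback π g ⟶ W.toScheme := pullback.snd π g
  let σ₀ : V.toScheme ⟶ pullback π g := pullback.lift (a' ≫ π.smoothLocus.ι) V.ι ha'
  have hσ₀ : σ₀ ≫ pr₂ = V.ι := pullback.lift_snd _ _ _
  have hσ₀1 : σ₀ ≫ pr₁ = a' ≫ π.smoothLocus.ι := pullback.lift_fst _ _ _
  haveI : IsOpenImmersion σ₀ := isOpenImmersion_lift_smoothLocus π g V a' ha'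
  haveI : QuasiCompact σ₀ := by
    haveI : IsNoetherianRing Γ(Y, W) := IsLocallyNoetherian.component_noetherian ⟨W, hWaff⟩
    haveI : TopologicalSpace.NoetherianSpace W := noetherianSpace_of_isAffineOpen W hWaff
    haveI : TopologicalSpace.NoetherianSpace W.toScheme := ‹_›
    haveI : TopologicalSpace.NoetherianSpace V.toScheme :=
      V.ι.isOpenEmbedding.isInducing.noetherianSpace
    infer_instance
  haveI : IsIntegral W.toScheme := hWint
  obtain ⟨σ, hσ1, hσ2⟩ := exists_section_of_finite (fun w => (hWn w).2) pr₂ V hVne σ₀ hσ₀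
  haveI : IsLocallyNoetherian (pullback π g) := LocallyOfFiniteType.isLocallyNoetherian pr₂
  have hPn : Pi1.IsNormalScheme (pullback π g) := isNormalScheme_of_smooth pr₁ hT
  haveI : IsOpenImmersion (V.ι ≫ σ) := by rw [hσ2]; infer_instance
  haveI : IsOpenImmersion σ := isOpenImmersion_section (fun x => (hPn x).1) pr₂ σ hσ1 V hVd
  have hsm : ∀ w : W.toScheme, σ w ∈ pr₂.smoothLocus := by
    intro w
    have h1 : σ ⁻¹ᵁ pr₂.smoothLocus = (σ ≫ pr₂).smoothLocus :=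
      Scheme.Hom.preimage_smoothLocus_eq σ pr₂
    have h2 : w ∈ σ ⁻¹ᵁ pr₂.smoothLocus := by
      rw [h1]
      haveI : Smooth (σ ≫ pr₂) := by rw [hσ1]; infer_instance
      rw [(σ ≫ pr₂).smoothLocus_eq_top]
      trivial
    exact h2
  have hrange : Set.range (σ ≫ pr₁) ⊆ Set.range π.smoothLocus.ι := by
    rintro _ ⟨w, rfl⟩
    rw [Scheme.Opens.range_ι]
    exact fst_mem_smoothLocus_of_snd_mem π g (σ w) (hsm w)
  refine ⟨W, hyW, IsOpenImmersion.lift π.smoothLocus.ι (σ ≫ pr₁) hrange, ?_, ?_⟩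
  · rw [← Category.assoc, IsOpenImmersion.lift_fac, Category.assoc]
    change σ ≫ pullback.fst π g ≫ π = _
    rw [pullback.condition, ← Category.assoc]
    change (σ ≫ pr₂) ≫ g = _
    rw [hσ1, Category.id_comp]
  · refine comp_eq_of_lift W.ι (q ⁻¹ᵁ U) a _ ?_ _ _ ?_
    · change V.ι ≫ _ = a'
      rw [← cancel_mono π.smoothLocus.ι, Category.assoc, IsOpenImmersion.lift_fac,
        ← Category.assoc, hσ2, hσ₀1]
    · rw [Scheme.homOfLE_ι, Scheme.homOfLE_ι]

end Groth.Agent.Lib.Helper52.NeronFin
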