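import Mathlib
import Groth.Agent.Lib.Helper52.NeronUnqR
import Groth.Agent.Lib.Helper51.SmoothSection

set_option autoImplicit false
universe u
open CategoryTheory CategoryTheory.Limits AlgebraicGeometry TensorProduct

namespace Groth.Agent.Lib.Helper52.NeronUnqS

attribute [local instance] Ideal.Quotient.field in
/-- ring level: a prime over `p` containing `I`, with finite separable residue extension, in the
form of an algebra map to a field. -/
theorem exists_algHom_field {R A : Type u} [CommRing R] [CommRing A] [Algebra R A]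
    [Algebra.FiniteType R A] (p : Ideal R) [p.IsPrime] [CharZero p.ResidueField]
    (I P : Ideal A) [P.IsPrime] (hIP : I ≤ P) (hP : P.comap (algebraMap R A) = p) :
    ∃ (L : Type u) (_ : Field L) (_ : Algebra p.ResidueField L)
      (_ : FiniteDimensional p.ResidueField L) (_ : Algebra.IsSeparable p.ResidueField L)
      (_ : Algebra R L) (_ : IsScalarTower R p.ResidueField L) (θA : A →ₐ[R] L),
      I ≤ RingHom.ker θA.toRingHom := by
  classical
  let k := p.ResidueField
  let B := A ⧸ I
  let F := k ⊗[R] B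
  have hntF : Nontrivial F := by
    have hp : (⟨p, inferInstance⟩ : PrimeSpectrum R) ∈
        Set.range (PrimeSpectrum.comap (algebraMap R B)) := by
      haveI : (P.map (Ideal.Quotient.mk I)).IsPrime :=
        Ideal.map_isPrime_of_surjective Ideal.Quotient.mk_surjective (by
          rw [Ideal.mk_ker]; exact hIP)
      refine ⟨⟨P.map (Ideal.Quotient.mk I), inferInstance⟩, ?_⟩
      apply PrimeSpectrum.ext
      change (P.map (Ideal.Quotient.mk I)).comap (algebraMap R B) = p
      have h1 : (algebraMap R B) = (Ideal.Quotient.mk I).comp (algebraMap R A) := rfl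
      rw [h1, ← Ideal.comap_comap,
        Ideal.comap_map_of_surjective _ Ideal.Quotient.mk_surjective, ← RingHom.ker_eq_comap_bot,
        Ideal.mk_ker, sup_eq_left.mpr hIP, hP]
    exact (PrimeSpectrum.nontrivial_iff_mem_rangeComap ⟨p, inferInstance⟩).mpr hp
  obtain ⟨m, hm⟩ := Ideal.exists_maximal F
  let L := F ⧸ m
  haveI : Algebra.FiniteType k F := inferInstance
  haveI : Algebra.FiniteType k L :=
    Algebra.FiniteType.of_surjective (Ideal.Quotient.mkₐ k m) Ideal.Quotient.mk_surjective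
  haveI hfin : Module.Finite k L := finite_of_finite_type_of_isJacobsonRing k L
  haveI : Algebra.IsAlgebraic k L := Algebra.IsAlgebraic.of_finite _ _
  haveI hsep : Algebra.IsSeparable k L := inferInstance
  let θA : A →ₐ[R] L :=
    ((Ideal.Quotient.mkₐ R m).comp
      (Algebra.TensorProduct.includeRight (R := R) (A := k) (B := B))).comp (Ideal.Quotient.mkₐ R I)
  refine ⟨L, inferInstance, inferInstance, hfin, hsep, inferInstance, inferInstance, θA, ?_⟩
  intro a ha
  rw [RingHom.mem_ker]
  change (Ideal.Quotient.mkₐ R m) ((Algebra.TensorProduct.includeRight (R := R) (A := k) (B := B))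
    (Ideal.Quotient.mk I a)) = 0
  rw [Ideal.Quotient.eq_zero_iff_mem.mpr ha, map_zero, map_zero]

/-- a nonempty closed subset of a smooth `S`-scheme (`S` over a char 0 field) contains a point
through which an étale quasi-section passes (EGA IV 17.16.3). Adapted from
`Helper51.SmoothSection.exists_etale_section`. -/
theorem exists_mem_etale_section {k : Type u} [Field k] [CharZero k] {X S : Scheme.{u}}
    (σ₀ : S ⟶ Spec (CommRingCat.of k)) (f : X ⟶ S) [Smooth f] (C : Set X) (hC : IsClosed C)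
    (hne : C.Nonempty) :
    ∃ c ∈ C, ∃ (S' : Scheme.{u}) (g : S' ⟶ S) (s' : S'), Etale g ∧
      ∃ h : S' ⟶ X, h ≫ f = g ∧ h s' = c := by
  obtain ⟨x, hxC⟩ := hne
  obtain ⟨U, hU, V, hV, hxV, e, hf⟩ := Smooth.exists_isStandardSmooth f x
  obtain ⟨n, g, hgC, hg⟩ := hf.exists_etale_mvPolynomial
  algebraize [(f.appLE U V e).hom]
  have hss : Algebra.IsStandardSmooth Γ(S, U) Γ(X, V) := hf
  let gA : MvPolynomial (Fin n) Γ(S, U) →ₐ[Γ(S, U)] Γ(X, V) :=
    { g with commutes' := fun r => congr($hgC r) }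
  let p : PrimeSpectrum Γ(S, U) := hU.primeIdealOf ⟨f x, e hxV⟩
  let P : PrimeSpectrum Γ(X, V) := hV.primeIdealOf ⟨x, hxV⟩
  have hpP : P.asIdeal.comap (algebraMap Γ(S, U) Γ(X, V)) = p.asIdeal :=
    congrArg PrimeSpectrum.asIdeal (IsAffineOpen.comap_primeIdealOf_appLE U hU V hV e hxV)
  -- char 0
  haveI : CharZero p.asIdeal.ResidueField := by
    let φ : k →+* p.asIdeal.ResidueField :=
      (algebraMap Γ(S, U) p.asIdeal.ResidueField).comp
        ((S.presheaf.map (homOfLE (le_top : U ≤ ⊤)).op).hom.comp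
          (σ₀.appTop.hom.comp (Scheme.ΓSpecIso (CommRingCat.of k)).inv.hom))
    exact charZero_of_injective_ringHom φ.injective
  -- the closed set in `Spec Γ(X, V)`
  let t : Set (PrimeSpectrum Γ(X, V)) := hV.fromSpec ⁻¹' C
  have ht : IsClosed t := hC.preimage hV.fromSpec.continuous
  have hPt : P ∈ t := by
    change hV.fromSpec P ∈ C
    rw [hV.fromSpec_primeIdealOf ⟨x, hxV⟩]
    exact hxC
  let I : Ideal Γ(X, V) := PrimeSpectrum.vanishingIdeal t
  have hIP : I ≤ P.asIdeal := by
    intro a ha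
    exact (PrimeSpectrum.mem_vanishingIdeal t a).mp ha P hPt
  haveI : Algebra.FiniteType Γ(S, U) Γ(X, V) := inferInstance
  obtain ⟨L, _, _, _, _, _, _, θA, hθ⟩ := exists_algHom_field p.asIdeal I P.asIdeal hIP hpP
  obtain ⟨R₂, _, _, hE, 𝔮₂, _, σ, h1, h2⟩ :=
    Groth.Agent.Lib.Helper52.NeronUnqR.exists_etale_section_data_of_algHom n gA p.asIdeal L θA
  let P' : Ideal Γ(X, V) := RingHom.ker θA.toRingHom
  haveI hP' : P'.IsPrime := RingHom.ker_isPrime _
  have hP't : (⟨P', hP'⟩ : PrimeSpectrum Γ(X, V)) ∈ t := by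
    have : (⟨P', hP'⟩ : PrimeSpectrum Γ(X, V)) ∈ PrimeSpectrum.zeroLocus (I : Set Γ(X, V)) := by
      rw [PrimeSpectrum.mem_zeroLocus]
      exact hθ
    rw [PrimeSpectrum.zeroLocus_vanishingIdeal_eq_closure, ht.closure_eq] at this
    exact this
  -- the schemes
  let a : Spec Γ(X, V) ⟶ Spec (.of (MvPolynomial (Fin n) Γ(S, U))) :=
    Spec.map (CommRingCat.ofHom g)
  let bσ : Spec (.of R₂) ⟶ Spec (.of (MvPolynomial (Fin n) Γ(S, U))) :=
    Spec.map (CommRingCat.ofHom σ.toRingHom)
  let c : Spec (.of R₂) ⟶ Spec Γ(S, U) := Spec.map (CommRingCat.ofHom (algebraMap Γ(S, U) R₂))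
  have ha : Etale a := HasRingHomProperty.Spec_iff.mpr hg
  have hc : Etale c := HasRingHomProperty.Spec_iff.mpr (RingHom.etale_algebraMap.mpr hE)
  let gfin : pullback a bσ ⟶ S := pullback.snd a bσ ≫ c ≫ hU.fromSpec
  let hfin : pullback a bσ ⟶ X := pullback.fst a bσ ≫ hV.fromSpec
  have hpt : a ⟨P', inferInstance⟩ = bσ ⟨𝔮₂, inferInstance⟩ := PrimeSpectrum.ext h2
  obtain ⟨z, hz1, hz2⟩ := Scheme.Pullback.exists_preimage_pullback (f := a) (g := bσ)
    ⟨P', inferInstance⟩ ⟨𝔮₂, inferInstance⟩ hpt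
  refine ⟨hfin z, ?_, pullback a bσ, gfin, z, inferInstance, hfin, ?_, rfl⟩
  · change hV.fromSpec (pullback.fst a bσ z) ∈ C
    rw [hz1]
    exact hP't
  · change (pullback.fst a bσ ≫ hV.fromSpec) ≫ f = pullback.snd a bσ ≫ c ≫ hU.fromSpec
    rw [Category.assoc, ← IsAffineOpen.SpecMap_appLE_fromSpec f hU hV e]
    have hfac : Spec.map (f.appLE U V e) =
        a ≫ Spec.map (CommRingCat.ofHom (MvPolynomial.C : Γ(S, U) →+* _)) := by
      rw [← Spec.map_comp]
      congr 1
      ext r
      exact congr($hgC r).symm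
    have hfac2 : c = bσ ≫ Spec.map (CommRingCat.ofHom (MvPolynomial.C : Γ(S, U) →+* _)) := by
      change Spec.map _ = Spec.map _ ≫ Spec.map _
      rw [← Spec.map_comp]
      congr 1
      ext r
      exact (σ.commutes r).symm
    rw [hfac, hfac2, Category.assoc, Category.assoc, pullback.condition_assoc]

end Groth.Agent.Lib.Helper52.NeronUnqS
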