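import Mathlib
import Groth.Statements.S13422
import Groth.Agent.S13749
import Groth.Agent.Lib.Helper52.NeronUnqS

set_option autoImplicit false
universe u
open CategoryTheory CategoryTheory.Limits AlgebraicGeometry

namespace Groth.Agent.Lib.Helper52.NeronUnq

/-- residue fields of a scheme over a char 0 field have char 0 -/
theorem charZero_residueField {k : Type u} [Field k] [CharZero k] {S : Scheme.{u}}
    (σ : S ⟶ Spec (CommRingCat.of k)) (s : S) : CharZero (S.residueField s) := by
  let φ : k →+* S.residueField s :=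
    ((S.evaluation ⊤ s trivial).hom.comp (σ.appTop.hom)).comp
      (Scheme.ΓSpecIso (CommRingCat.of k)).inv.hom
  exact charZero_of_injective_ringHom φ.injective

/-- a locally closed dense set is open -/
theorem isOpen_of_isLocallyClosed_of_dense {α : Type*} [TopologicalSpace α] {A : Set α}
    (hA : IsLocallyClosed A) (hd : Dense A) : IsOpen A := by
  obtain ⟨O, C, hO, hC, rfl⟩ := hA
  have : C = Set.univ := by
    have h1 : closure (O ∩ C) ⊆ C := closure_minimal Set.inter_subset_right hC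
    rw [hd.closure_eq] at h1
    exact Set.univ_subset_iff.mp h1
  rw [this, Set.inter_univ]
  exact hO

open Groth.Agent.S13749 in
theorem main {k : Type u} [Field k] [CharZero k] {S : Scheme.{u}}
    (σ : S ⟶ Spec (CommRingCat.of k)) [IsLocallyNoetherian S] (S₀ : S.Opens)
    (hS₀ : CInt.IsSchematicallyDense S₀)
    (N : Over S) [Smooth N.hom]
    (hN : ∀ U : Over S, Etale U.hom →
      Function.Injective (fun g : U ⟶ N => (Over.pullback S₀.ι).map g))
    (Z : Over S) [Smooth Z.hom] (g₁ g₂ : Z ⟶ N)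
    (h : (Over.pullback S₀.ι).map g₁ = (Over.pullback S₀.ι).map g₂) : g₁ = g₂ := by
  -- agreement on `Z₀`
  have hj : pullback.fst Z.hom S₀.ι ≫ g₁.left = pullback.fst Z.hom S₀.ι ≫ g₂.left := by
    have h1 := congrArg (fun φ => φ.left ≫ pullback.fst N.hom S₀.ι) h
    simp only [Over.pullback_map_left] at h1
    rw [pullback.lift_fst, pullback.lift_fst] at h1
    exact h1
  have hj' : (Z.hom ⁻¹ᵁ S₀).ι ≫ g₁.left = (Z.hom ⁻¹ᵁ S₀).ι ≫ g₂.left := by
    rw [← pullbackRestrictIsoRestrict_inv_fst Z.hom S₀, Category.assoc, hj, Category.assoc]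
  haveI hdom : IsSchemeTheoreticallyDominant (Z.hom ⁻¹ᵁ S₀).ι := dominant_preimage S₀ hS₀ Z.hom
  haveI : IsLocallyNoetherian Z.left := LocallyOfFiniteType.isLocallyNoetherian Z.hom
  let ι := equalizer.ι g₁.left g₂.left
  let l := equalizer.lift (Z.hom ⁻¹ᵁ S₀).ι hj'
  have hl : l ≫ ι = (Z.hom ⁻¹ᵁ S₀).ι := equalizer.lift_ι _ _
  -- the range of ι is open
  have hdense : Dense (Set.range ι) := by
    have h1 : Dense (Set.range (Z.hom ⁻¹ᵁ S₀).ι) := (Z.hom ⁻¹ᵁ S₀).ι.denseRange
    refine h1.mono ?_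
    rw [← hl]
    rintro _ ⟨x, rfl⟩
    exact ⟨l x, rfl⟩
  have hopen : IsOpen (Set.range ι) :=
    isOpen_of_isLocallyClosed_of_dense ι.isLocallyClosed_range hdense
  -- the range is everything
  have hsurj : Set.range ι = Set.univ := by
    by_contra hne
    have hCne : (Set.range ι)ᶜ.Nonempty := Set.nonempty_compl.mpr hne
    obtain ⟨c, hcC, U, g, u₀, hg, u, hu, hu₀⟩ :=
      Groth.Agent.Lib.Helper52.NeronUnqS.exists_mem_etale_section σ Z.hom (Set.range ι)ᶜ
        hopen.isClosed_compl hCne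
    let u' : Over.mk g ⟶ Z := Over.homMk u hu
    have heq : u' ≫ g₁ = u' ≫ g₂ := by
      apply hN (Over.mk g) hg
      change (Over.pullback S₀.ι).map (u' ≫ g₁) = (Over.pullback S₀.ι).map (u' ≫ g₂)
      rw [Functor.map_comp, Functor.map_comp, h]
    have heq' : u ≫ g₁.left = u ≫ g₂.left := congrArg (fun φ => φ.left) heq
    apply hcC
    refine ⟨equalizer.lift u heq' u₀, ?_⟩
    rw [← Scheme.Hom.comp_apply, equalizer.lift_ι, hu₀]
  -- closed immersion with trivial kernel
  haveI : IsClosedImmersion ι :=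
    IsClosedImmersion.of_isPreimmersion ι (by rw [hsurj]; exact isClosed_univ)
  have hker : ι.ker = ⊥ := by
    have h1 := Scheme.Hom.le_ker_comp l ι
    rw [hl, (Z.hom ⁻¹ᵁ S₀).ι.ker_eq_bot] at h1
    exact le_bot_iff.mp h1
  haveI : IsIso ι := IsClosedImmersion.isIso_iff_ker_eq_bot.mpr hker
  ext1
  rw [← cancel_epi ι]
  exact equalizer.condition g₁.left g₂.left

end Groth.Agent.Lib.Helper52.NeronUnq
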