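import Mathlib

/-!
# Reduced rings with finitely many minimal primes: normal ⇔ integrally closed in `Q(R)`
-/

namespace Groth.Agent.Lib.Helper52.NormalTotal

universe u

open Polynomial

section Idem

variable {R : Type u} [CommRing R] [IsReduced R]

/-- An element outside all minimal primes of a reduced ring is a non-zero-divisor. -/
theorem mem_nonZeroDivisors_of_notMem_minimalPrimes (s : R)
    (hs : ∀ q ∈ minimalPrimes R, s ∉ q) : s ∈ nonZeroDivisors R := by
  rw [mem_nonZeroDivisors_iff_right]
  intro c hc
  have hmem : c ∈ sInf (minimalPrimes R) := by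
    rw [Ideal.mem_sInf]
    intro q hq
    have hqp : q.IsPrime := hq.1.1
    have : c * s ∈ q := by rw [hc]; exact q.zero_mem
    rcases hqp.mem_or_mem this with h | h
    · exact h
    · exact absurd h (hs q hq)
  have h2 : sInf (minimalPrimes R) = ⊥ := by
    have := Ideal.sInf_minimalPrimes (I := (⊥ : Ideal R))
    rw [show (⊥ : Ideal R).radical = nilradical R from rfl, nilradical_eq_zero] at this
    exact this
  rw [h2] at hmem
  exact hmem

/-- If `R` is reduced with finitely many minimal primes and integrally closed in its total ring of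
fractions, then every minimal prime `q` is generated by an idempotent `1 - r`. -/
theorem exists_idempotent (hfin : (minimalPrimes R).Finite)
    (hic : IsIntegrallyClosedIn R (FractionRing R)) (q : Ideal R) (hq : q ∈ minimalPrimes R) :
    ∃ r : R, r * r = r ∧ (1 - r) ∈ q ∧ ∀ x ∈ q, r * x = 0 := by
  classical
  have hqprime : q.IsPrime := hq.1.1
  obtain ⟨hinj, hcl⟩ := isIntegrallyClosedIn_iff.mp hic
  set I' : Ideal R := (hfin.toFinset.erase q).inf id with hI'
  have hbot : ∀ x, x ∈ q → x ∈ I' → x = 0 := by
    intro x hxq hxI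
    have hmem : x ∈ sInf (minimalPrimes R) := by
      rw [Ideal.mem_sInf]
      intro q' hq'
      by_cases h : q' = q
      · rw [h]; exact hxq
      · have : I' ≤ q' := Finset.inf_le (f := id)
          (Finset.mem_erase.mpr ⟨h, hfin.mem_toFinset.mpr hq'⟩)
        exact this hxI
    have h2 : sInf (minimalPrimes R) = ⊥ := by
      have := Ideal.sInf_minimalPrimes (I := (⊥ : Ideal R))
      rw [show (⊥ : Ideal R).radical = nilradical R from rfl, nilradical_eq_zero] at this
      exact this
    rw [h2] at hmem
    exact hmem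
  -- prime avoidance
  have hnot : ¬ (((q ⊔ I' : Ideal R) : Set R) ⊆ ⋃ q' ∈ minimalPrimes R, (q' : Set R)) := by
    intro hsub
    have hsub' : (((q ⊔ I' : Ideal R)) : Set R) ⊆
        ⋃ P ∈ (↑hfin.toFinset : Set (Ideal R)), ((id P : Ideal R) : Set R) := by
      simpa using hsub
    rw [Ideal.subset_union_prime (⊤ : Ideal R) (⊤ : Ideal R)] at hsub'
    · obtain ⟨q', hq', hle⟩ := hsub'
      rw [Set.Finite.mem_toFinset] at hq'
      have hq'prime : q'.IsPrime := hq'.1.1
      have h1 : q ≤ q' := le_sup_left.trans hle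
      have h2 : q' ≤ q := hq'.2 ⟨hqprime, bot_le⟩ h1
      have heq : q' = q := le_antisymm h2 h1
      have h3 : I' ≤ q := heq ▸ (le_sup_right.trans hle)
      rw [hI', Ideal.IsPrime.inf_le' hqprime] at h3
      obtain ⟨q'', hq''mem, hq''le⟩ := h3
      rw [Finset.mem_erase, Set.Finite.mem_toFinset] at hq''mem
      have : q ≤ q'' := hq.2 ⟨hq''mem.2.1.1, bot_le⟩ hq''le
      exact hq''mem.1 (le_antisymm hq''le this)
    · intro P hP _ _
      rw [Set.Finite.mem_toFinset] at hP
      exact hP.1.1
  rw [Set.not_subset] at hnot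
  obtain ⟨s, hsmem, hsU⟩ := hnot
  have hsmin : ∀ q' ∈ minimalPrimes R, s ∉ q' := by
    intro q' hq' hsq'
    apply hsU
    simp only [Set.mem_iUnion]
    exact ⟨q', hq', hsq'⟩
  have hsnzd : s ∈ nonZeroDivisors R := mem_nonZeroDivisors_of_notMem_minimalPrimes s hsmin
  obtain ⟨a, ha, b, hb, hab⟩ := Submodule.mem_sup.mp hsmem
  have hab0 : a * b = 0 := hbot _ (q.mul_mem_right _ ha) (I'.mul_mem_left _ hb)
  have hbs : b * s = b * b := by rw [← hab, mul_add, mul_comm b a, hab0, zero_add]
  -- the idempotent of `Q(R)`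
  set S := algebraMap R (FractionRing R) s with hS
  have hSunit : IsUnit S := IsLocalization.map_units (FractionRing R) (⟨s, hsnzd⟩ : nonZeroDivisors R)
  set e := IsLocalization.mk' (FractionRing R) b (⟨s, hsnzd⟩ : nonZeroDivisors R) with he
  have heS : e * S = algebraMap R (FractionRing R) b := IsLocalization.mk'_spec _ _ _
  have hee : e * e = e := by
    have h1 : (e * e) * (S * S) = e * (S * S) := by
      calc (e * e) * (S * S) = (e * S) * (e * S) := by ring
        _ = algebraMap R (FractionRing R) (b * b) := by rw [heS, map_mul]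
        _ = algebraMap R (FractionRing R) (b * s) := by rw [hbs]
        _ = (e * S) * S := by rw [map_mul, heS]
        _ = e * (S * S) := by ring
    exact (hSunit.mul hSunit).mul_left_injective h1
  have hnt : Nontrivial R :=
    ⟨⟨0, 1, fun h => hqprime.ne_top ((Ideal.eq_top_iff_one q).mpr (h ▸ q.zero_mem))⟩⟩
  have hint : IsIntegral R e := by
    refine ⟨X ^ 2 - X, monic_X_pow_sub (by rw [degree_X]; exact_mod_cast one_lt_two), ?_⟩
    simp only [eval₂_sub, eval₂_pow, eval₂_X]
    rw [pow_two, hee, sub_self]
  obtain ⟨r, hr⟩ := hcl hint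
  have hrs : r * s = b := by
    apply hinj
    rw [map_mul, hr, heS]
  have hrr : r * r = r := by
    apply hinj
    rw [map_mul, hr, hee]
  refine ⟨r, hrr, ?_, ?_⟩
  · have h1 : (1 - r) * s = a := by
      rw [sub_mul, one_mul, hrs, ← hab]; ring
    have h2 : (1 - r) * s ∈ q := by rw [h1]; exact ha
    rcases hqprime.mem_or_mem h2 with h | h
    · exact h
    · exact absurd h (hsmin q hq)
  · intro x hx
    have h1 : (r * x) * s = 0 := by
      have : (r * x) * s = b * x := by rw [← hrs]; ring
      rw [this]
      exact hbot _ (q.mul_mem_left _ hx) (I'.mul_mem_right _ hb)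
    exact (mem_nonZeroDivisors_iff_right.mp hsnzd) _ h1

end Idem

section Quot

variable {R : Type u} [CommRing R]

/-- If the prime `q` is cut out by the idempotent `r` (`1 - r ∈ q`, `r q = 0`) and `R` is
integrally closed in its total ring of fractions, then `R ⧸ q` is integrally closed. -/
theorem isIntegrallyClosed_quotient (hic : IsIntegrallyClosedIn R (FractionRing R)) (q : Ideal R)
    [hqprime : q.IsPrime] (r : R) (hrr : r * r = r) (hr1 : (1 - r) ∈ q)
    (hrq : ∀ x ∈ q, r * x = 0) : IsIntegrallyClosed (R ⧸ q) := by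
  obtain ⟨hinj, hcl⟩ := isIntegrallyClosedIn_iff.mp hic
  have hinjD : Function.Injective (algebraMap (R ⧸ q) (FractionRing (R ⧸ q))) :=
    IsFractionRing.injective _ _
  have hmkr : Ideal.Quotient.mk q r = 1 := by
    have : Ideal.Quotient.mk q (1 - r) = 0 := Ideal.Quotient.eq_zero_iff_mem.mpr hr1
    rw [map_sub, map_one, sub_eq_zero] at this
    exact this.symm
  have hr0 : r ≠ 0 := by
    intro h0
    rw [h0, map_zero] at hmkr
    exact zero_ne_one hmkr
  have hr1r : r * (1 - r) = 0 := by rw [mul_sub, mul_one, hrr, sub_self]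
  -- the map `Q(R) → Frac(R/q)`
  let g : R →+* FractionRing (R ⧸ q) :=
    (algebraMap (R ⧸ q) (FractionRing (R ⧸ q))).comp (Ideal.Quotient.mk q)
  have hg : ∀ s : nonZeroDivisors R, IsUnit (g s) := by
    intro s
    apply IsUnit.mk0
    intro h0
    have h1 : Ideal.Quotient.mk q (s : R) = 0 := by
      apply hinjD
      rw [map_zero]
      exact h0
    have h2 : (s : R) ∈ q := Ideal.Quotient.eq_zero_iff_mem.mp h1
    have h3 : r * s = 0 := hrq _ h2
    exact hr0 ((mem_nonZeroDivisors_iff_right.mp s.2) _ h3)
  let ψ : FractionRing R →+* FractionRing (R ⧸ q) := IsLocalization.lift hg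
  have hψalg : ∀ c : R, ψ (algebraMap R (FractionRing R) c) = g c := fun c =>
    IsLocalization.lift_eq hg c
  have hker : ∀ z : FractionRing R, ψ z = 0 → algebraMap R (FractionRing R) r * z = 0 := by
    intro z hz
    obtain ⟨c, t, rfl⟩ := IsLocalization.exists_mk'_eq (nonZeroDivisors R) z
    rw [IsLocalization.lift_mk'_spec, mul_zero] at hz
    have h1 : Ideal.Quotient.mk q c = 0 := by
      apply hinjD
      rw [map_zero]
      exact hz
    have h2 : c ∈ q := Ideal.Quotient.eq_zero_iff_mem.mp h1
    rw [IsLocalization.mul_mk'_eq_mk'_of_mul, hrq c h2, IsLocalization.mk'_zero]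
  rw [isIntegrallyClosed_iff (FractionRing (R ⧸ q))]
  intro y hy
  obtain ⟨abar, bbar, rfl⟩ := IsLocalization.exists_mk'_eq (nonZeroDivisors (R ⧸ q)) y
  obtain ⟨a, rfl⟩ := Ideal.Quotient.mk_surjective abar
  obtain ⟨b, hb⟩ := Ideal.Quotient.mk_surjective (bbar : R ⧸ q)
  have hb0 : Ideal.Quotient.mk q b ≠ 0 := by
    rw [hb]; exact nonZeroDivisors.ne_zero bbar.2
  -- the denominator
  have hd : r * b + (1 - r) ∈ nonZeroDivisors R := by
    rw [mem_nonZeroDivisors_iff_right]
    intro c hc
    have h1 : r * c * b = 0 := by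
      have : r * (c * (r * b + (1 - r))) = r * c * b := by
        calc r * (c * (r * b + (1 - r))) = (r * r) * c * b + c * (r * (1 - r)) := by ring
          _ = r * c * b := by rw [hrr, hr1r, mul_zero, add_zero]
      rw [← this, hc, mul_zero]
    have h2 : Ideal.Quotient.mk q c * Ideal.Quotient.mk q b = 0 := by
      have := congrArg (Ideal.Quotient.mk q) h1
      rw [map_mul, map_mul, hmkr, one_mul, map_zero] at this
      exact this
    have h3 : Ideal.Quotient.mk q c = 0 := by
      rcases mul_eq_zero.mp h2 with h | h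
      · exact h
      · exact absurd h hb0
    have h4 : r * c = 0 := hrq c (Ideal.Quotient.eq_zero_iff_mem.mp h3)
    have h5 : (1 - r) * c = 0 := by
      have : (1 - r) * (c * (r * b + (1 - r))) = (1 - r) * c := by
        calc (1 - r) * (c * (r * b + (1 - r))) =
            c * b * (r * (1 - r)) + c * ((1 - r) - r * (1 - r)) := by ring
          _ = (1 - r) * c := by rw [hr1r]; ring
      rw [← this, hc, mul_zero]
    calc c = r * c + (1 - r) * c := by ring
      _ = 0 := by rw [h4, h5, add_zero]
  set x : FractionRing R := IsLocalization.mk' (FractionRing R) (r * a)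
    (⟨r * b + (1 - r), hd⟩ : nonZeroDivisors R) with hx
  have hmkd : Ideal.Quotient.mk q (r * b + (1 - r)) = bbar := by
    rw [map_add, map_mul, hmkr, one_mul, Ideal.Quotient.eq_zero_iff_mem.mpr hr1, add_zero, hb]
  have hψx : ψ x = IsLocalization.mk' (FractionRing (R ⧸ q)) (Ideal.Quotient.mk q a) bbar := by
    rw [IsLocalization.eq_mk'_iff_mul_eq]
    have h1 : ψ x * g (r * b + (1 - r)) = g (r * a) := by
      have := IsLocalization.lift_mk'_spec (S := FractionRing R) (g := g) hg (r * a) (ψ x)
        (⟨r * b + (1 - r), hd⟩ : nonZeroDivisors R)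
      rw [mul_comm]
      exact (this.mp rfl).symm
    have h2 : g (r * b + (1 - r)) = algebraMap (R ⧸ q) (FractionRing (R ⧸ q)) bbar := by
      simp only [g, RingHom.comp_apply]
      rw [hmkd]
    have h3 : g (r * a) = algebraMap (R ⧸ q) (FractionRing (R ⧸ q)) (Ideal.Quotient.mk q a) := by
      simp only [g, RingHom.comp_apply]
      rw [map_mul, hmkr, one_mul]
    rw [← h2, h1, h3]
  have hrx : algebraMap R (FractionRing R) r * x = x := by
    rw [hx, IsLocalization.mul_mk'_eq_mk'_of_mul, ← mul_assoc, hrr]
  -- integrality of `x`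
  obtain ⟨P, hPmonic, hPy⟩ := hy
  obtain ⟨P', hP'map, -, hP'monic⟩ := lifts_and_degree_eq_and_monic
    ((mem_lifts P).mpr (map_surjective _ Ideal.Quotient.mk_surjective P)) hPmonic
  have hψP : ψ (aeval x P') = 0 := by
    rw [aeval_def, hom_eval₂]
    have h1 : ψ.comp (algebraMap R (FractionRing R)) = g := by
      ext c; exact hψalg c
    rw [h1, hψx]
    have h2 : eval₂ g (IsLocalization.mk' (FractionRing (R ⧸ q)) (Ideal.Quotient.mk q a) bbar) P'
        = eval₂ (algebraMap (R ⧸ q) (FractionRing (R ⧸ q)))
          (IsLocalization.mk' (FractionRing (R ⧸ q)) (Ideal.Quotient.mk q a) bbar)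
          (P'.map (Ideal.Quotient.mk q)) := by
      rw [eval₂_map]
    rw [h2, hP'map]
    exact hPy
  have hrP := hker _ hψP
  have hxint : IsIntegral R x := by
    refine ⟨X * P', monic_X.mul hP'monic, ?_⟩
    rw [← aeval_def, map_mul, aeval_X]
    calc x * aeval x P' = (algebraMap R (FractionRing R) r * x) * aeval x P' := by rw [hrx]
      _ = x * (algebraMap R (FractionRing R) r * aeval x P') := by ring
      _ = 0 := by rw [hrP, mul_zero]
  obtain ⟨c, hc⟩ := hcl hxint
  refine ⟨Ideal.Quotient.mk q c, ?_⟩
  rw [← hψx, ← hc, hψalg]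
  rfl

end Quot

section Loc

variable {R : Type u} [CommRing R]

/-- If the prime `q ≤ p` is cut out by an idempotent `r`, then `R_p` is a localization of the
domain `R ⧸ q`; hence `R_p` is a domain, integrally closed if `R ⧸ q` is. -/
theorem localization_of_idempotent (q p : Ideal R) [hq : q.IsPrime] [hp : p.IsPrime] (hqp : q ≤ p)
    (r : R) (hr1 : (1 - r) ∈ q) (hrq : ∀ x ∈ q, r * x = 0) :
    IsDomain (Localization.AtPrime p) ∧
      (IsIntegrallyClosed (R ⧸ q) → IsIntegrallyClosed (Localization.AtPrime p)) := by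
  have hrp : r ∉ p := by
    intro hr
    have : (1 : R) ∈ p := by
      have := p.add_mem (hqp hr1) hr
      rwa [sub_add_cancel] at this
    exact hp.ne_top ((Ideal.eq_top_iff_one p).mpr this)
  have hkill : ∀ a ∈ q, algebraMap R (Localization.AtPrime p) a = 0 := by
    intro a ha
    rw [IsLocalization.map_eq_zero_iff p.primeCompl]
    exact ⟨⟨r, hrp⟩, hrq a ha⟩
  let f : R ⧸ q →+* Localization.AtPrime p :=
    Ideal.Quotient.lift q (algebraMap R (Localization.AtPrime p)) hkill
  let _ : Algebra (R ⧸ q) (Localization.AtPrime p) := f.toAlgebra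
  have hfmk : ∀ a : R, algebraMap (R ⧸ q) (Localization.AtPrime p) (Ideal.Quotient.mk q a) =
      algebraMap R (Localization.AtPrime p) a := fun a => rfl
  have hker : RingHom.ker (Ideal.Quotient.mk q) ≤ p := by rw [Ideal.mk_ker]; exact hqp
  have hpbar : (p.map (Ideal.Quotient.mk q)).IsPrime :=
    Ideal.map_isPrime_of_surjective Ideal.Quotient.mk_surjective hker
  have hmem : ∀ a : R, Ideal.Quotient.mk q a ∈ p.map (Ideal.Quotient.mk q) ↔ a ∈ p := by
    intro a
    constructor
    · intro h
      have h1 : a ∈ (p.map (Ideal.Quotient.mk q)).comap (Ideal.Quotient.mk q) := h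
      rw [Ideal.comap_map_of_surjective _ Ideal.Quotient.mk_surjective,
        ← RingHom.ker_eq_comap_bot, sup_eq_left.mpr hker] at h1
      exact h1
    · exact fun h => Ideal.mem_map_of_mem _ h
  have hloc : IsLocalization (p.map (Ideal.Quotient.mk q)).primeCompl (Localization.AtPrime p) := by
    refine ⟨?_, ?_, ?_⟩
    · rintro ⟨d, hd⟩
      obtain ⟨a, rfl⟩ := Ideal.Quotient.mk_surjective d
      have hap : a ∉ p := fun h => hd ((hmem a).mpr h)
      rw [hfmk]
      exact IsLocalization.map_units (Localization.AtPrime p) (⟨a, hap⟩ : p.primeCompl)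
    · intro z
      obtain ⟨⟨a, u⟩, hau⟩ := IsLocalization.surj p.primeCompl z
      refine ⟨(Ideal.Quotient.mk q a, ⟨Ideal.Quotient.mk q u, fun h => u.2 ((hmem _).mp h)⟩), ?_⟩
      simp only [hfmk]
      exact hau
    · intro x y hxy
      obtain ⟨a, rfl⟩ := Ideal.Quotient.mk_surjective x
      obtain ⟨b, rfl⟩ := Ideal.Quotient.mk_surjective y
      rw [hfmk, hfmk] at hxy
      obtain ⟨c, hc⟩ := (IsLocalization.eq_iff_exists p.primeCompl _).mp hxy
      refine ⟨⟨Ideal.Quotient.mk q c, fun h => c.2 ((hmem _).mp h)⟩, ?_⟩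
      simp only
      rw [← map_mul, ← map_mul, hc]
  have hle : (p.map (Ideal.Quotient.mk q)).primeCompl ≤ nonZeroDivisors (R ⧸ q) := by
    intro d hd
    apply mem_nonZeroDivisors_of_ne_zero
    intro h0
    apply hd
    rw [h0]
    exact Ideal.zero_mem _
  refine ⟨IsLocalization.isDomain_of_le_nonZeroDivisors (Localization.AtPrime p) hle,
    fun hicl => ?_⟩
  exact isIntegrallyClosed_of_isLocalization (Localization.AtPrime p)
    (p.map (Ideal.Quotient.mk q)).primeCompl hle

end Loc

section Forward

variable {R : Type u} [CommRing R]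

/-- If all localizations of `R` at primes are integrally closed domains, then `R` is integrally
closed in its total ring of fractions. -/
theorem isIntegrallyClosedIn_of_forall_localization
    (h : ∀ (p : Ideal R) [p.IsPrime],
      IsDomain (Localization.AtPrime p) ∧ IsIntegrallyClosed (Localization.AtPrime p)) :
    IsIntegrallyClosedIn R (FractionRing R) := by
  rw [isIntegrallyClosedIn_iff]
  refine ⟨IsLocalization.injective (FractionRing R) (le_refl _), ?_⟩
  intro x hx
  let I : Ideal R := Submodule.comap (LinearMap.toSpanSingleton R (FractionRing R) x)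
    (LinearMap.range (Algebra.linearMap R (FractionRing R)))
  have hImem : ∀ c : R, c ∈ I ↔ ∃ y : R, algebraMap R (FractionRing R) y =
      algebraMap R (FractionRing R) c * x := by
    intro c
    simp only [I, Submodule.mem_comap, LinearMap.mem_range, LinearMap.toSpanSingleton_apply,
      Algebra.linearMap_apply, Algebra.smul_def]
  suffices hI : I = ⊤ by
    have h1 : (1 : R) ∈ I := by rw [hI]; exact Submodule.mem_top
    obtain ⟨y, hy⟩ := (hImem 1).mp h1
    exact ⟨y, by rw [hy, map_one, one_mul]⟩
  by_contra hI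
  obtain ⟨p, hpmax, hIp⟩ := Ideal.exists_le_maximal I hI
  have hp : p.IsPrime := hpmax.isPrime
  obtain ⟨hdom, hicl⟩ := h p
  let g : R →+* FractionRing (Localization.AtPrime p) :=
    (algebraMap (Localization.AtPrime p) (FractionRing (Localization.AtPrime p))).comp
      (algebraMap R (Localization.AtPrime p))
  have hinjF : Function.Injective
      (algebraMap (Localization.AtPrime p) (FractionRing (Localization.AtPrime p))) :=
    IsFractionRing.injective _ _
  have hg : ∀ s : nonZeroDivisors R, IsUnit (g s) := by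
    intro s
    apply IsUnit.mk0
    intro h0
    have h1 : algebraMap R (Localization.AtPrime p) (s : R) = 0 := by
      apply hinjF
      rw [map_zero]
      exact h0
    rw [IsLocalization.map_eq_zero_iff p.primeCompl] at h1
    obtain ⟨m, hm⟩ := h1
    have : (m : R) = 0 := (mem_nonZeroDivisors_iff_right.mp s.2) _ hm
    exact m.2 (this ▸ p.zero_mem)
  let φ : FractionRing R →+* FractionRing (Localization.AtPrime p) := IsLocalization.lift hg
  have hφalg0 : ∀ c : R, φ (algebraMap R (FractionRing R) c) = g c := fun c =>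
    IsLocalization.lift_eq hg c
  have hφalg : φ.comp (algebraMap R (FractionRing R)) = g :=
    RingHom.ext fun c => by rw [RingHom.comp_apply]; exact hφalg0 c
  -- `φ x` is integral over `R_p`
  obtain ⟨P, hPmonic, hPx⟩ := hx
  have hint : IsIntegral (Localization.AtPrime p) (φ x) := by
    refine ⟨P.map (algebraMap R (Localization.AtPrime p)), hPmonic.map _, ?_⟩
    rw [eval₂_map]
    have : eval₂ g (φ x) P = φ (eval₂ (algebraMap R (FractionRing R)) x P) := by
      rw [hom_eval₂, hφalg]
    exact this.trans (by rw [hPx, map_zero])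
  obtain ⟨z, hz⟩ := (isIntegrallyClosed_iff (FractionRing (Localization.AtPrime p))).mp hicl hint
  obtain ⟨a, u, rfl⟩ := IsLocalization.exists_mk'_eq p.primeCompl z
  obtain ⟨b, s, rfl⟩ := IsLocalization.exists_mk'_eq (nonZeroDivisors R) x
  have h1 : g b = g s * φ (IsLocalization.mk' (FractionRing R) b s) :=
    (IsLocalization.lift_mk'_spec (S := FractionRing R) (g := g) hg b _ s).mp rfl
  have h2 : algebraMap R (Localization.AtPrime p) b =
      algebraMap R (Localization.AtPrime p) s * IsLocalization.mk' (Localization.AtPrime p) a u := by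
    apply hinjF
    rw [map_mul, hz]
    exact h1
  have h3 : algebraMap R (Localization.AtPrime p) (b * u) =
      algebraMap R (Localization.AtPrime p) (s * a) := by
    rw [map_mul, h2, map_mul, mul_assoc, IsLocalization.mk'_spec]
  obtain ⟨v, hv⟩ := (IsLocalization.eq_iff_exists p.primeCompl _).mp h3
  have hmemI : (v : R) * u ∈ I := by
    rw [hImem]
    refine ⟨v * a, ?_⟩
    rw [IsLocalization.mul_mk'_eq_mk'_of_mul, IsLocalization.eq_mk'_iff_mul_eq, ← map_mul]
    congr 1
    calc (v : R) * a * s = v * (s * a) := by ring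
      _ = v * (b * u) := by rw [hv]
      _ = v * u * b := by ring
  have hvu : (v : R) * u ∈ p := hIp hmemI
  rcases hp.mem_or_mem hvu with h | h
  · exact v.2 h
  · exact u.2 h

end Forward

theorem main {R : Type u} [CommRing R] [IsReduced R] (hfin : (minimalPrimes R).Finite) :
    (∀ (p : Ideal R) [p.IsPrime],
        IsDomain (Localization.AtPrime p) ∧ IsIntegrallyClosed (Localization.AtPrime p)) ↔
      IsIntegrallyClosedIn R (FractionRing R) := by
  constructor
  · exact isIntegrallyClosedIn_of_forall_localization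
  · intro hic p hp
    obtain ⟨q, hq, hqp⟩ := Ideal.exists_minimalPrimes_le (bot_le : ⊥ ≤ p)
    have hqprime : q.IsPrime := hq.1.1
    obtain ⟨r, hrr, hr1, hrq⟩ := exists_idempotent hfin hic q hq
    have h1 := isIntegrallyClosed_quotient hic q r hrr hr1 hrq
    obtain ⟨h2, h3⟩ := localization_of_idempotent q p hqp r hr1 hrq
    exact ⟨h2, h3 h1⟩

end Groth.Agent.Lib.Helper52.NormalTotal
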