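import Mathlib
import Groth.Agent.Lib.Helper52.NormalTotal

/-!
# The normalization of a reduced one-dimensional Noetherian local ring

`A` reduced Noetherian local of dimension one, `B` its integral closure in the total ring of
fractions, assumed finite over `A`. Then the localizations of `B` at its maximal ideals are DVRs.
-/

set_option linter.unusedSectionVars false

namespace Groth.Agent.Lib.Helper52.NormCountB

open IsLocalRing

universe u

variable (A : Type u) [CommRing A]

local notation "K" => FractionRing A
local notation "B" => integralClosure A (FractionRing A)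

theorem algebraMap_injective : Function.Injective (algebraMap A B) := by
  intro a b hab
  have h1 : algebraMap A K a = algebraMap A K b := by
    have := congrArg (algebraMap B K) hab
    rwa [← IsScalarTower.algebraMap_apply, ← IsScalarTower.algebraMap_apply] at this
  exact IsLocalization.injective K (le_refl _) h1

/-- Non-zero-divisors of `A` stay non-zero-divisors in `B`. -/
theorem algebraMap_mem_nonZeroDivisors (s : A) (hs : s ∈ nonZeroDivisors A) :
    algebraMap A B s ∈ nonZeroDivisors B := by
  rw [mem_nonZeroDivisors_iff_right]
  intro b hb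
  have hunit : IsUnit (algebraMap A K s) :=
    IsLocalization.map_units K (⟨s, hs⟩ : nonZeroDivisors A)
  have h1 : (b : K) * algebraMap A K s = 0 := by
    have := congrArg (algebraMap B K) hb
    rw [map_mul, map_zero, ← IsScalarTower.algebraMap_apply] at this
    exact this
  have h2 : (b : K) = 0 := hunit.mul_left_eq_zero.mp h1
  exact Subtype.ext h2

instance isFractionRing : IsFractionRing B K := by
  refine ⟨?_, ?_, ?_⟩
  · rintro ⟨b, hb⟩
    obtain ⟨a, s, has⟩ := IsLocalization.exists_mk'_eq (nonZeroDivisors A) (b : K)
    have hbs : (b : K) * algebraMap A K s = algebraMap A K a := by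
      rw [← has]; exact IsLocalization.mk'_spec _ _ _
    have ha : a ∈ nonZeroDivisors A := by
      rw [mem_nonZeroDivisors_iff_right]
      intro c hc
      have h1 : algebraMap A B c * b = 0 := by
        apply Subtype.ext
        have hsunit : IsUnit (algebraMap A K s) := IsLocalization.map_units K s
        have : (algebraMap A K c * (b : K)) * algebraMap A K s = 0 := by
          rw [mul_assoc, hbs, ← map_mul, hc, map_zero]
        have h2 := hsunit.mul_left_eq_zero.mp this
        simpa using h2
      have h3 := (mem_nonZeroDivisors_iff_right.mp hb) _ h1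
      exact algebraMap_injective A (by rw [h3, map_zero])
    have haunit : IsUnit (algebraMap A K a) :=
      IsLocalization.map_units K (⟨a, ha⟩ : nonZeroDivisors A)
    have hsunit : IsUnit (algebraMap A K s) := IsLocalization.map_units K s
    have : IsUnit ((b : K) * algebraMap A K s) := by rw [hbs]; exact haunit
    exact (IsUnit.mul_iff.mp this).1
  · intro z
    obtain ⟨a, s, rfl⟩ := IsLocalization.exists_mk'_eq (nonZeroDivisors A) z
    refine ⟨(algebraMap A B a, ⟨algebraMap A B s, algebraMap_mem_nonZeroDivisors A s s.2⟩), ?_⟩
    simp only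
    rw [← IsScalarTower.algebraMap_apply, ← IsScalarTower.algebraMap_apply]
    exact IsLocalization.mk'_spec _ _ _
  · intro x y hxy
    exact ⟨1, by rw [Subtype.ext hxy]⟩

theorem isIntegrallyClosedIn_fractionRing : IsIntegrallyClosedIn B (FractionRing B) :=
  (isIntegrallyClosed_iff_isIntegrallyClosedIn K).mpr inferInstance

variable [IsNoetherianRing A] [IsLocalRing A] [IsReduced A]

/-- A reduced Noetherian local ring of dimension one has a non-zero-divisor in its maximal
ideal. -/
theorem exists_mem_maximalIdeal_nonZeroDivisors (hdim : ringKrullDim A = 1) :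
    ∃ t ∈ maximalIdeal A, t ∈ nonZeroDivisors A := by
  classical
  have hfin : (minimalPrimes A).Finite := minimalPrimes.finite_of_isNoetherianRing A
  have hnot : ¬ ((maximalIdeal A : Set A) ⊆ ⋃ q ∈ minimalPrimes A, (q : Set A)) := by
    intro hsub
    have hsub' : (maximalIdeal A : Set A) ⊆
        ⋃ P ∈ (↑hfin.toFinset : Set (Ideal A)), ((id P : Ideal A) : Set A) := by
      simpa using hsub
    rw [Ideal.subset_union_prime (⊤ : Ideal A) (⊤ : Ideal A)] at hsub'
    · obtain ⟨q, hq, hle⟩ := hsub'
      rw [Set.Finite.mem_toFinset] at hq
      have hqp : q.IsPrime := hq.1.1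
      have hqm : q = maximalIdeal A := le_antisymm (le_maximalIdeal hqp.ne_top) hle
      -- then every prime is maximal, so the dimension is zero
      have h0 : Ring.KrullDimLE 0 A := by
        rw [Ring.krullDimLE_zero_iff]
        intro I hI
        have h1 : I ≤ maximalIdeal A := le_maximalIdeal hI.ne_top
        have h2 : q ≤ I := hq.2 ⟨hI, bot_le⟩ (hqm ▸ h1)
        have : I = maximalIdeal A := le_antisymm h1 (hqm ▸ h2)
        rw [this]; infer_instance
      have h1 : ringKrullDim A ≤ ((0 : ℕ) : WithBot ℕ∞) := Ring.krullDimLE_iff.mp h0
      rw [hdim] at h1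
      exact absurd h1 (by decide)
    · intro P hP _ _
      rw [Set.Finite.mem_toFinset] at hP
      exact hP.1.1
  rw [Set.not_subset] at hnot
  obtain ⟨t, htm, htU⟩ := hnot
  refine ⟨t, htm, Groth.Agent.Lib.Helper52.NormalTotal.mem_nonZeroDivisors_of_notMem_minimalPrimes t
    ?_⟩
  intro q hq htq
  apply htU
  simp only [Set.mem_iUnion]
  exact ⟨q, hq, htq⟩

variable [Module.Finite A (integralClosure A (FractionRing A))]

theorem comap_isMaximal (M : Ideal B) [hM : M.IsMaximal] :
    M.comap (algebraMap A B) = maximalIdeal A := by
  have : (M.comap (algebraMap A B)).IsMaximal := Ideal.isMaximal_comap_of_isIntegral_of_isMaximal M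
  exact eq_maximalIdeal this

/-- The localization of the normalization at a maximal ideal is a DVR. -/
theorem isDVR_localization (hdim : ringKrullDim A = 1) (M : Ideal B) [hM : M.IsMaximal] :
    ∃ _ : IsDomain (Localization.AtPrime M), IsDiscreteValuationRing (Localization.AtPrime M) := by
  have hBN : IsNoetherianRing B := IsNoetherianRing.of_finite A B
  have hinjK : Function.Injective (algebraMap B K) := Subtype.val_injective
  have hBred : IsReduced B := isReduced_of_injective (algebraMap B K) hinjK
  have hfin : (minimalPrimes B).Finite := minimalPrimes.finite_of_isNoetherianRing B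
  obtain ⟨hdom, hicl⟩ := (Groth.Agent.Lib.Helper52.NormalTotal.main hfin).mpr
    (isIntegrallyClosedIn_fractionRing A) M
  have hLN : IsNoetherianRing (Localization.AtPrime M) :=
    IsLocalization.isNoetherianRing M.primeCompl _ inferInstance
  -- not a field
  obtain ⟨t, htm, htnzd⟩ := exists_mem_maximalIdeal_nonZeroDivisors A hdim
  have htB := algebraMap_mem_nonZeroDivisors A t htnzd
  have htM : algebraMap A B t ∈ M := by
    have : t ∈ M.comap (algebraMap A B) := by rw [comap_isMaximal A M]; exact htm
    exact this
  have hne : maximalIdeal (Localization.AtPrime M) ≠ ⊥ := by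
    intro h0
    have h1 : algebraMap B (Localization.AtPrime M) (algebraMap A B t) ∈
        maximalIdeal (Localization.AtPrime M) := by
      rw [← IsLocalization.AtPrime.map_eq_maximalIdeal M (Localization.AtPrime M)]
      exact Ideal.mem_map_of_mem _ htM
    rw [h0, Ideal.mem_bot, IsLocalization.map_eq_zero_iff M.primeCompl] at h1
    obtain ⟨u, hu⟩ := h1
    have : (u : B) = 0 := (mem_nonZeroDivisors_iff_right.mp htB) _ hu
    exact u.2 (this ▸ M.zero_mem)
  -- dimension one
  have hK1 : Ring.KrullDimLE 1 A := by
    rw [Ring.krullDimLE_iff, hdim]; exact le_rfl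
  have hdim1 : ∀ P : Ideal (Localization.AtPrime M), P ≠ ⊥ → P.IsPrime →
      P = maximalIdeal (Localization.AtPrime M) := by
    intro P hP hPp
    have hP'p : (P.comap (algebraMap B (Localization.AtPrime M))).IsPrime := Ideal.comap_isPrime _ _
    have hnzd : NoZeroDivisors (Localization.AtPrime M) := @IsDomain.to_noZeroDivisors _ _ hdom
    have hbotp : (⊥ : Ideal (Localization.AtPrime M)).IsPrime := Ideal.isPrime_bot
    have hkp : ((⊥ : Ideal (Localization.AtPrime M)).comap
        (algebraMap B (Localization.AtPrime M))).IsPrime := Ideal.comap_isPrime _ _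
    have hmc1 : (P.comap (algebraMap B (Localization.AtPrime M))).map
        (algebraMap B (Localization.AtPrime M)) = P :=
      IsLocalization.map_under M.primeCompl (Localization.AtPrime M) P
    have hmc2 : ((⊥ : Ideal (Localization.AtPrime M)).comap
        (algebraMap B (Localization.AtPrime M))).map (algebraMap B (Localization.AtPrime M)) = ⊥ :=
      IsLocalization.map_under M.primeCompl (Localization.AtPrime M) ⊥
    have hle : (⊥ : Ideal (Localization.AtPrime M)).comap (algebraMap B (Localization.AtPrime M)) ≤
        P.comap (algebraMap B (Localization.AtPrime M)) := Ideal.comap_mono bot_le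
    have hne' : (⊥ : Ideal (Localization.AtPrime M)).comap (algebraMap B (Localization.AtPrime M)) ≠
        P.comap (algebraMap B (Localization.AtPrime M)) := by
      intro heq
      apply hP
      rw [← hmc1, ← heq, hmc2]
    obtain ⟨x, hxP, hxk⟩ := SetLike.exists_of_lt (lt_of_le_of_ne hle hne')
    have hlt := Ideal.comap_lt_comap_of_integral_mem_sdiff (R := A) hle ⟨hxP, hxk⟩
      (Algebra.IsIntegral.isIntegral x)
    have hpp : ((P.comap (algebraMap B (Localization.AtPrime M))).comap (algebraMap A B)).IsPrime :=
      Ideal.comap_isPrime _ _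
    have hkpA : (((⊥ : Ideal (Localization.AtPrime M)).comap
        (algebraMap B (Localization.AtPrime M))).comap (algebraMap A B)).IsPrime :=
      Ideal.comap_isPrime _ _
    have hmax : ((P.comap (algebraMap B (Localization.AtPrime M))).comap
        (algebraMap A B)).IsMaximal := by
      rcases Ring.krullDimLE_one_iff.mp hK1 _ hpp with h | h
      · exact absurd (h.2 ⟨hkpA, bot_le⟩ hlt.le) (not_le_of_gt hlt)
      · exact h
    have hP'max : (P.comap (algebraMap B (Localization.AtPrime M))).IsMaximal :=
      Ideal.isMaximal_of_isIntegral_of_isMaximal_comap (R := A) _ hmax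
    have hP'M : P.comap (algebraMap B (Localization.AtPrime M)) ≤ M :=
      (Ideal.comap_mono (le_maximalIdeal hPp.ne_top)).trans
        (le_of_eq (IsLocalization.AtPrime.under_maximalIdeal (Localization.AtPrime M) M))
    have hP'eq : P.comap (algebraMap B (Localization.AtPrime M)) = M :=
      hP'max.eq_of_le hM.ne_top hP'M
    rw [← hmc1, hP'eq, IsLocalization.AtPrime.map_eq_maximalIdeal]
  have htfae := (tfae_of_isNoetherianRing_of_isLocalRing_of_isDomain
    (Localization.AtPrime M)).out 3 0
  have hPIR : IsPrincipalIdealRing (Localization.AtPrime M) := htfae.mp ⟨hicl, hdim1⟩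
  exact ⟨hdom, { not_a_field' := hne }⟩

end Groth.Agent.Lib.Helper52.NormCountB
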