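import Mathlib
import Groth.Agent.Lib.Helper52.NormCountB
import Groth.Agent.Lib.Helper52.MinPrimesCount
import Groth.Agent.Lib.Helper52.FlatDVR
import Groth.Agent.Lib.Helper38.FiniteLocal
import Groth.Agent.S0543

/-!
# Maximal ideals of the normalization vs minimal primes of the completion
-/

set_option linter.unusedSectionVars false

namespace Groth.Agent.Lib.Helper52.NormCount

open IsLocalRing TensorProduct

universe u

variable (A : Type u) [CommRing A] [IsNoetherianRing A] [IsLocalRing A] [IsReduced A]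

local notation "K" => FractionRing A
local notation "B" => integralClosure A (FractionRing A)
local notation "Â" => AdicCompletion (maximalIdeal A) A
local notation "C" => AdicCompletion (maximalIdeal A) A ⊗[A] integralClosure A (FractionRing A)

instance : IsNoetherianRing Â := Groth.Agent.S0543.result A _

/-- `B → Â ⊗ B`. -/
noncomputable def ι : B →+* C :=
  (Algebra.TensorProduct.includeRight : B →ₐ[A] C).toRingHom

theorem ι_apply (b : B) : ι A b = (1 : Â) ⊗ₜ[A] b := rfl

theorem ι_comp_algebraMap : (ι A).comp (algebraMap A B) = algebraMap A C :=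
  (Algebra.TensorProduct.includeRight : B →ₐ[A] C).comp_algebraMap

theorem map_map_eq :
    ((maximalIdeal A).map (algebraMap A B)).map (ι A) =
      (maximalIdeal Â).map (algebraMap Â C) := by
  rw [Ideal.map_map, ι_comp_algebraMap, AdicCompletion.maximalIdeal_eq_map, Ideal.map_map,
    ← IsScalarTower.algebraMap_eq]

theorem exists_sub_mem_maximalIdeal (x : Â) :
    ∃ a : A, x - algebraMap A Â a ∈ maximalIdeal Â := by
  obtain ⟨a, ha⟩ := Ideal.Quotient.mk_surjective (AdicCompletion.evalOneₐ (maximalIdeal A) x)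
  refine ⟨a, ?_⟩
  rw [AdicCompletion.maximalIdeal_eq_map,
    ← AdicCompletion.ker_evalOneₐ_eq_map _ (maximalIdeal A).fg_of_isNoetherianRing]
  rw [RingHom.mem_ker, map_sub, sub_eq_zero]
  have := congrFun (congrArg DFunLike.coe
    (AdicCompletion.evalOneₐ_comp_algebraMap_eq_mk (maximalIdeal A))) a
  simp only [RingHom.comp_apply] at this
  exact ha.symm.trans this.symm

theorem dense (c : C) : ∃ b : B, c - ι A b ∈ ((maximalIdeal A).map (algebraMap A B)).map (ι A) := by
  rw [map_map_eq]
  induction c using TensorProduct.induction_on with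
  | zero => exact ⟨0, by rw [map_zero, sub_zero]; exact Ideal.zero_mem _⟩
  | tmul x b =>
    obtain ⟨a, ha⟩ := exists_sub_mem_maximalIdeal A x
    refine ⟨a • b, ?_⟩
    have h1 : x ⊗ₜ[A] b - ι A (a • b) =
        algebraMap Â C (x - algebraMap A Â a) * ((1 : Â) ⊗ₜ[A] b) := by
      rw [ι_apply, Algebra.TensorProduct.algebraMap_apply, Algebra.TensorProduct.tmul_mul_tmul,
        one_mul, Algebra.algebraMap_self_apply, mul_one, TensorProduct.sub_tmul,
        TensorProduct.tmul_smul, Algebra.algebraMap_eq_smul_one, TensorProduct.smul_tmul']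
    rw [h1]
    exact Ideal.mul_mem_right _ _ (Ideal.mem_map_of_mem _ ha)
  | add c₁ c₂ h₁ h₂ =>
    obtain ⟨b₁, hb₁⟩ := h₁
    obtain ⟨b₂, hb₂⟩ := h₂
    refine ⟨b₁ + b₂, ?_⟩
    have : c₁ + c₂ - ι A (b₁ + b₂) = (c₁ - ι A b₁) + (c₂ - ι A b₂) := by
      rw [map_add]; ring
    rw [this]
    exact Ideal.add_mem _ hb₁ hb₂

variable [Module.Finite A (integralClosure A (FractionRing A))]

theorem comap_algebraMap_eq (N : Ideal C) [hN : N.IsMaximal] :
    N.comap (algebraMap Â C) = maximalIdeal Â := by
  have hint : Algebra.IsIntegral Â C := Algebra.IsIntegral.of_finite Â C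
  have : (N.comap (algebraMap Â C)).IsMaximal := Ideal.isMaximal_comap_of_isIntegral_of_isMaximal N
  exact eq_maximalIdeal this

theorem map_le_of_isMaximal (N : Ideal C) (hN : N.IsMaximal) :
    ((maximalIdeal A).map (algebraMap A B)).map (ι A) ≤ N := by
  rw [map_map_eq, Ideal.map_le_iff_le_comap, comap_algebraMap_eq A N]

theorem comap_ι_isMaximal (N : Ideal C) (hN : N.IsMaximal) : (N.comap (ι A)).IsMaximal := by
  have hp : (N.comap (ι A)).IsPrime := Ideal.comap_isPrime _ _
  apply Ideal.isMaximal_of_isIntegral_of_isMaximal_comap (R := A)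
  have h1 : (N.comap (ι A)).comap (algebraMap A B) = maximalIdeal A := by
    rw [Ideal.comap_comap, ι_comp_algebraMap, IsScalarTower.algebraMap_eq A Â C,
      ← Ideal.comap_comap, comap_algebraMap_eq A N]
    exact IsLocalRing.maximalIdeal_comap (algebraMap A Â)
  rw [h1]
  infer_instance

theorem exists_lift (M : Ideal B) (hM : M.IsMaximal) :
    ∃ ρ : C →+* B ⧸ M, ρ.comp (ι A) = Ideal.Quotient.mk M := by
  have hle : maximalIdeal A ≤ M.comap (Algebra.ofId A B) := by
    have := Groth.Agent.Lib.Helper52.NormCountB.comap_isMaximal A M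
    exact le_of_eq this.symm
  let f : Â →ₐ[A] B ⧸ M :=
    (Ideal.quotientMapₐ M (Algebra.ofId A B) hle).comp (AdicCompletion.evalOneₐ (maximalIdeal A))
  let g : B →ₐ[A] B ⧸ M := Ideal.Quotient.mkₐ A M
  let ρ : C →ₐ[A] B ⧸ M := Algebra.TensorProduct.lift f g (fun x y => Commute.all (f x) (g y))
  refine ⟨ρ.toRingHom, ?_⟩
  ext b
  change ρ ((1 : Â) ⊗ₜ[A] b) = _
  rw [Algebra.TensorProduct.lift_tmul, map_one, one_mul]
  rfl

/-- The `B`-algebra structure on `C = Â ⊗ B`. -/
@[instance_reducible] noncomputable def algBC : Algebra B C := (ι A).toAlgebra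

theorem flat_BC : @Module.Flat B C _ _ (algBC A).toModule := by
  let _ := algBC A
  let e0 : C ≃ₐ[A] (B ⊗[A] Â) := Algebra.TensorProduct.comm A Â B
  let e : C ≃ₗ[B] (B ⊗[A] Â) :=
    { toFun := e0
      invFun := e0.symm
      left_inv := e0.left_inv
      right_inv := e0.right_inv
      map_add' := map_add e0
      map_smul' := fun b c => by
        simp only [RingHom.id_apply]
        change e0 (ι A b * c) = b • e0 c
        have key : ∀ x : B ⊗[A] Â, b • x = (b ⊗ₜ[A] (1 : Â)) * x := by
          intro x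
          induction x using TensorProduct.induction_on with
          | zero => rw [smul_zero, mul_zero]
          | tmul b' a' =>
            rw [TensorProduct.smul_tmul', smul_eq_mul, Algebra.TensorProduct.tmul_mul_tmul, one_mul]
          | add x y hx hy => rw [smul_add, mul_add, hx, hy]
        rw [key, map_mul, ι_apply]
        rfl }
  exact Module.Flat.of_linearEquiv e

instance : Module.Finite Â C := Module.Finite.base_change A Â B

instance : IsNoetherianRing C := IsNoetherianRing.of_finite Â C

theorem eq_map_of_isMaximal (N : Ideal C) (hN : N.IsMaximal) : (N.comap (ι A)).map (ι A) = N := by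
  have hMmax : (N.comap (ι A)).IsMaximal := comap_ι_isMaximal A N hN
  have h1 := Groth.Agent.Lib.Helper52.MinPrimesCount.eq_map_comap_of_dense (ι A) _ (dense A) N
    (map_le_of_isMaximal A N hN)
  have h2 : ((maximalIdeal A).map (algebraMap A B)).map (ι A) ≤ (N.comap (ι A)).map (ι A) := by
    apply Ideal.map_mono
    rw [Ideal.map_le_iff_le_comap, Groth.Agent.Lib.Helper52.NormCountB.comap_isMaximal A _]
  rw [sup_eq_left.mpr h2] at h1
  exact h1.symm

theorem isDomain_localization (hdim : ringKrullDim A = 1) (N : Ideal C) [hN : N.IsMaximal] :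
    IsDomain (Localization.AtPrime N) := by
  let _ := algBC A
  have hflat : Module.Flat B C := flat_BC A
  have hMmax : (N.comap (ι A)).IsMaximal := comap_ι_isMaximal A N hN
  obtain ⟨hdom, hdvr⟩ :=
    Groth.Agent.Lib.Helper52.NormCountB.isDVR_localization A hdim (N.comap (ι A))
  have hNeq : (N.comap (ι A)).map (algebraMap B C) = N := eq_map_of_isMaximal A N hN
  have hred : IsReduced (C ⧸ (N.comap (ι A)).map (algebraMap B C)) := by
    rw [hNeq]
    exact (Ideal.isRadical_iff_quotient_reduced N).mp hN.isPrime.isRadical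
  have hass : N ∈ associatedPrimes C (C ⧸ (N.comap (ι A)).map (algebraMap B C)) := by
    rw [hNeq, associatedPrimes.eq_singleton_of_isPrimary hN.isPrime.isPrimary, hN.isPrime.radical]
    rfl
  obtain ⟨h, -⟩ := Groth.Agent.Lib.Helper52.FlatDVR.main (R := B) (S := C) (N.comap (ι A)) hred N hass
  exact h

theorem unique_maximal (Q : Ideal C) [hQ : Q.IsPrime] (N N' : Ideal C) (hN : N.IsMaximal)
    (hN' : N'.IsMaximal) (hQN : Q ≤ N) (hQN' : Q ≤ N') : N = N' := by
  have : IsDomain (C ⧸ Q) := Ideal.Quotient.isDomain Q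
  have : Module.Finite Â (C ⧸ Q) :=
    Module.Finite.of_surjective (Ideal.Quotient.mkₐ Â Q).toLinearMap
      (Ideal.Quotient.mkₐ_surjective Â _)
  obtain ⟨hloc, -⟩ :=
    Groth.Agent.Lib.Helper38.FiniteLocal.isLocalRing_isAdicComplete_of_finite Â (C ⧸ Q)
  have h1 : (N.map (Ideal.Quotient.mk Q)).IsMaximal :=
    Ideal.IsMaximal.map_of_surjective_of_ker_le Ideal.Quotient.mk_surjective
      (by rw [Ideal.mk_ker]; exact hQN)
  have h2 : (N'.map (Ideal.Quotient.mk Q)).IsMaximal :=
    Ideal.IsMaximal.map_of_surjective_of_ker_le Ideal.Quotient.mk_surjective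
      (by rw [Ideal.mk_ker]; exact hQN')
  have e1 : N.map (Ideal.Quotient.mk Q) = maximalIdeal (C ⧸ Q) :=
    IsLocalRing.eq_maximalIdeal (R := C ⧸ Q) h1
  have e2 : N'.map (Ideal.Quotient.mk Q) = maximalIdeal (C ⧸ Q) :=
    IsLocalRing.eq_maximalIdeal (R := C ⧸ Q) h2
  have h3 : N.map (Ideal.Quotient.mk Q) = N'.map (Ideal.Quotient.mk Q) := e1.trans e2.symm
  have h4 := congrArg (Ideal.comap (Ideal.Quotient.mk Q)) h3
  rw [Ideal.comap_map_of_surjective _ Ideal.Quotient.mk_surjective,
    Ideal.comap_map_of_surjective _ Ideal.Quotient.mk_surjective, ← RingHom.ker_eq_comap_bot,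
    Ideal.mk_ker, sup_eq_left.mpr hQN, sup_eq_left.mpr hQN'] at h4
  exact h4

/-- A common denominator for the normalization. -/
theorem exists_denominator : ∃ s : A, s ∈ nonZeroDivisors A ∧
    ∀ b : B, ∃ a : A, algebraMap A B a = s • b := by
  classical
  obtain ⟨G, hG⟩ := (Module.Finite.fg_top : (⊤ : Submodule A B).FG)
  obtain ⟨s, hs⟩ := IsLocalization.exist_integer_multiples_of_finset (nonZeroDivisors A)
    (G.image (algebraMap B K))
  refine ⟨s, s.2, ?_⟩
  have hle : (⊤ : Submodule A B) ≤ Submodule.comap (LinearMap.lsmul A B (s : A))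
      (LinearMap.range (Algebra.linearMap A B)) := by
    rw [← hG, Submodule.span_le]
    intro g hg
    obtain ⟨a, ha⟩ := hs (algebraMap B K g) (Finset.mem_image_of_mem _ hg)
    refine ⟨a, ?_⟩
    apply Subtype.ext
    simp only [Algebra.linearMap_apply, LinearMap.lsmul_apply]
    rw [Subalgebra.coe_smul]
    exact ha
  intro b
  obtain ⟨a, ha⟩ := hle (Submodule.mem_top : b ∈ ⊤)
  exact ⟨a, ha⟩

theorem ncard_minimalPrimes_C : (minimalPrimes C).ncard = (minimalPrimes Â).ncard := by
  obtain ⟨s, hs, hden⟩ := exists_denominator A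
  have hinjAB : Function.Injective (algebraMap A B) :=
    Groth.Agent.Lib.Helper52.NormCountB.algebraMap_injective A
  have hinj : Function.Injective (algebraMap Â C) := by
    intro x y hxy
    apply Algebra.TensorProduct.includeLeft_injective (R := A) (S := A) (A := Â) hinjAB
    simpa [Algebra.TensorProduct.algebraMap_apply] using hxy
  have hregA : IsSMulRegular A s := by
    rw [isSMulRegular_iff_right_eq_zero_of_smul]
    intro a ha
    rw [smul_eq_mul, mul_comm] at ha
    exact (mem_nonZeroDivisors_iff_right.mp hs) a ha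
  have hregB : IsSMulRegular B s := by
    rw [isSMulRegular_iff_right_eq_zero_of_smul]
    intro b hb
    rw [Algebra.smul_def, mul_comm] at hb
    exact (mem_nonZeroDivisors_iff_right.mp
      (Groth.Agent.Lib.Helper52.NormCountB.algebraMap_mem_nonZeroDivisors A s hs)) b hb
  have ht : algebraMap A Â s ∈ nonZeroDivisors Â := by
    have h1 : IsSMulRegular Â (algebraMap A Â s) := IsSMulRegular.of_flat hregA
    rw [mem_nonZeroDivisors_iff_right]
    intro x hx
    rw [mul_comm] at hx
    exact (isSMulRegular_iff_right_eq_zero_of_smul.mp h1) x hx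
  have ht' : algebraMap Â C (algebraMap A Â s) ∈ nonZeroDivisors C := by
    have h1 : IsSMulRegular C (algebraMap A Â s) :=
      IsSMulRegular.of_flat_of_isBaseChange (TensorProduct.isBaseChange A B Â) hregB
    rw [mem_nonZeroDivisors_iff_right]
    intro x hx
    rw [mul_comm, ← Algebra.smul_def] at hx
    exact (isSMulRegular_iff_right_eq_zero_of_smul.mp h1) x hx
  have hrange : ∀ y : C, algebraMap Â C (algebraMap A Â s) * y ∈ (algebraMap Â C).range := by
    intro y
    induction y using TensorProduct.induction_on with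
    | zero => rw [mul_zero]; exact Subring.zero_mem _
    | tmul x b =>
      obtain ⟨a, ha⟩ := hden b
      refine ⟨a • x, ?_⟩
      calc algebraMap Â C (a • x) = (a • x) ⊗ₜ[A] (1 : B) := by
            rw [Algebra.TensorProduct.algebraMap_apply, Algebra.algebraMap_self_apply]
        _ = x ⊗ₜ[A] (a • (1 : B)) := TensorProduct.smul_tmul a x 1
        _ = x ⊗ₜ[A] (s • b) := by rw [← ha, Algebra.algebraMap_eq_smul_one]
        _ = (s • x) ⊗ₜ[A] b := (TensorProduct.smul_tmul s x b).symm
        _ = algebraMap Â C (algebraMap A Â s) * (x ⊗ₜ[A] b) := by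
            rw [Algebra.TensorProduct.algebraMap_apply, Algebra.algebraMap_self_apply,
              Algebra.TensorProduct.tmul_mul_tmul, one_mul, ← Algebra.smul_def]
    | add y₁ y₂ h₁ h₂ =>
      rw [mul_add]
      exact Subring.add_mem _ h₁ h₂
  exact Groth.Agent.Lib.Helper52.MinPrimesCount.ncard_minimalPrimes_eq_of_mul_mem_range
    (algebraMap Â C) hinj (algebraMap A Â s) ht ht' hrange

theorem main (hdim : ringKrullDim A = 1) :
    {P : Ideal B | P.IsMaximal}.ncard = (minimalPrimes Â).ncard := by
  rw [← ncard_minimalPrimes_C A,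
    Groth.Agent.Lib.Helper52.MinPrimesCount.ncard_minimalPrimes_eq_ncard_isMaximal
      (fun N hN => isDomain_localization A hdim N)
      (fun Q hQ N N' hN hN' h1 h2 => by
        have := hQ.1.1
        exact unique_maximal A Q N N' hN hN' h1 h2)]
  exact (Groth.Agent.Lib.Helper52.MinPrimesCount.ncard_isMaximal_eq (ι A) _ (dense A)
    (map_le_of_isMaximal A) (comap_ι_isMaximal A) (exists_lift A)).symm

end Groth.Agent.Lib.Helper52.NormCount
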