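import Mathlib

/-!
# The locus where a map of finite projective modules is fibrewise injective

Helper library (helper52).  For `φ : P₁ → P₂` we consider the ideal `retractIdeal φ` of all `g`
such that `ψ ∘ φ = g • id` for some `ψ : P₂ → P₁`.  For finite projective modules, the fibrewise
injectivity locus of `φ` is the complement of the zero locus of this ideal.
-/

set_option autoImplicit false
set_option linter.style.haveILetI false
universe u v
open scoped TensorProduct

namespace Groth.Agent.Lib.Helper52.OpenInj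

variable {R : Type u} [CommRing R] {P₁ P₂ : Type v} [AddCommGroup P₁] [Module R P₁]
  [AddCommGroup P₂] [Module R P₂]

/-- The ideal of elements `g` such that `g • id` factors through `φ` on the left. -/
def retractIdeal (φ : P₁ →ₗ[R] P₂) : Ideal R where
  carrier := {g | ∃ ψ : P₂ →ₗ[R] P₁, ψ ∘ₗ φ = g • LinearMap.id}
  add_mem' := by
    rintro a b ⟨ψa, ha⟩ ⟨ψb, hb⟩
    exact ⟨ψa + ψb, by rw [LinearMap.add_comp, ha, hb, add_smul]⟩
  zero_mem' := ⟨0, by simp⟩
  smul_mem' := by
    rintro c g ⟨ψ, h⟩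
    exact ⟨c • ψ, by rw [LinearMap.smul_comp, h, smul_smul, smul_eq_mul]⟩

lemma mem_retractIdeal (φ : P₁ →ₗ[R] P₂) (g : R) :
    g ∈ retractIdeal φ ↔ ∃ ψ : P₂ →ₗ[R] P₁, ψ ∘ₗ φ = g • LinearMap.id := Iff.rfl

lemma injective_of_mem (φ : P₁ →ₗ[R] P₂) (p : PrimeSpectrum R) {g : R}
    (hg : g ∈ retractIdeal φ) (hgp : g ∉ p.asIdeal) :
    Function.Injective (φ.lTensor p.asIdeal.ResidueField) := by
  obtain ⟨ψ, hψ⟩ := hg
  have h1 : (ψ.lTensor p.asIdeal.ResidueField) ∘ₗ (φ.lTensor p.asIdeal.ResidueField) =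
      g • LinearMap.id := by
    rw [← LinearMap.lTensor_comp, hψ, LinearMap.lTensor_smul, LinearMap.lTensor_id]
  rw [injective_iff_map_eq_zero]
  intro x hx
  have h2 := LinearMap.congr_fun h1 x
  rw [LinearMap.comp_apply, hx, map_zero, LinearMap.smul_apply, LinearMap.id_apply,
    ← algebraMap_smul p.asIdeal.ResidueField g x] at h2
  rcases smul_eq_zero.mp h2.symm with h3 | h3
  · exact absurd (Ideal.algebraMap_residueField_eq_zero.mp h3) hgp
  · exact h3

lemma exists_mem_of_injective [Module.Finite R P₁] [Module.Finite R P₂] [Module.Projective R P₂]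
    (φ : P₁ →ₗ[R] P₂) (p : PrimeSpectrum R)
    (h : Function.Injective (φ.lTensor p.asIdeal.ResidueField)) :
    ∃ g ∈ retractIdeal φ, g ∉ p.asIdeal := by
  let A := Localization.AtPrime p.asIdeal
  let k := p.asIdeal.ResidueField
  let l : A ⊗[R] P₁ →ₗ[A] A ⊗[R] P₂ := φ.baseChange A
  have hl : Function.Injective (l.lTensor (IsLocalRing.ResidueField A)) := by
    let e₁ := TensorProduct.AlgebraTensorModule.cancelBaseChange R A k k P₁
    let e₂ := TensorProduct.AlgebraTensorModule.cancelBaseChange R A k k P₂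
    have hcomm : ∀ z, e₂ (l.lTensor k z) = φ.lTensor k (e₁ z) := by
      intro z
      induction z using TensorProduct.induction_on with
      | zero => simp
      | tmul b y =>
        induction y using TensorProduct.induction_on with
        | zero => simp
        | tmul a x => simp [l, e₁, e₂]
        | add y₁ y₂ h₁ h₂ => simp only [TensorProduct.tmul_add, map_add, h₁, h₂]
      | add z₁ z₂ h₁ h₂ => simp only [map_add, h₁, h₂]
    intro z₁ z₂ hz
    apply e₁.injective
    apply h
    rw [← hcomm, ← hcomm]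
    exact congrArg e₂ hz
  haveI : Module.Free A (A ⊗[R] P₂) := Module.free_of_flat_of_isLocalRing
  haveI : Module.FinitePresentation R P₂ := Module.finitePresentation_of_projective R P₂
  obtain ⟨l', hl'⟩ := (IsLocalRing.split_injective_iff_lTensor_residueField_injective l).mpr hl
  let f₁ : P₁ →ₗ[R] A ⊗[R] P₁ := TensorProduct.mk R A P₁ 1
  let f₂ : P₂ →ₗ[R] A ⊗[R] P₂ := TensorProduct.mk R A P₂ 1
  obtain ⟨ψ, s, hψ⟩ := Module.FinitePresentation.exists_lift_of_isLocalizedModule
    p.asIdeal.primeCompl f₁ ((l'.restrictScalars R) ∘ₗ f₂)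
  have h2 : f₁ ∘ₗ (ψ ∘ₗ φ) = f₁ ∘ₗ ((s : R) • LinearMap.id) := by
    ext x
    have h3 := LinearMap.congr_fun hψ (φ x)
    have h4 : f₂ (φ x) = l (f₁ x) := by simp [f₁, f₂, l]
    have h5 := LinearMap.congr_fun hl' (f₁ x)
    simp only [LinearMap.comp_apply, LinearMap.smul_apply, LinearMap.id_apply,
      LinearMap.restrictScalars_apply] at h3 h5 ⊢
    rw [h3, h4, h5, map_smul]
    rfl
  obtain ⟨t, ht⟩ := Module.Finite.exists_smul_of_comp_eq_of_isLocalizedModule
    p.asIdeal.primeCompl f₁ _ _ h2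
  refine ⟨(t : R) * (s : R), ⟨(t : R) • ψ, ?_⟩, (t * s).2⟩
  rw [LinearMap.smul_comp, mul_smul]
  exact ht

/-- The fibrewise injectivity locus is the complement of the zero locus of `retractIdeal φ`. -/
lemma injLocus_eq [Module.Finite R P₁] [Module.Finite R P₂] [Module.Projective R P₂]
    (φ : P₁ →ₗ[R] P₂) :
    {p : PrimeSpectrum R | Function.Injective (φ.lTensor p.asIdeal.ResidueField)} =
      (PrimeSpectrum.zeroLocus (retractIdeal φ : Set R))ᶜ := by
  ext p
  simp only [Set.mem_ofPred_eq, Set.mem_compl_iff, PrimeSpectrum.mem_zeroLocus, Set.not_subset]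
  constructor
  · intro h
    obtain ⟨g, hg, hgp⟩ := exists_mem_of_injective φ p h
    exact ⟨g, hg, hgp⟩
  · rintro ⟨g, hg, hgp⟩
    exact injective_of_mem φ p hg hgp

lemma isOpen_injLocus [Module.Finite R P₁] [Module.Finite R P₂] [Module.Projective R P₂]
    (φ : P₁ →ₗ[R] P₂) :
    IsOpen {p : PrimeSpectrum R | Function.Injective (φ.lTensor p.asIdeal.ResidueField)} := by
  rw [injLocus_eq]
  exact (PrimeSpectrum.isClosed_zeroLocus _).isOpen_compl

/-- If `D(f)` lies in the injectivity locus then some power of `f` lies in `retractIdeal φ`. -/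
lemma exists_pow_mem [Module.Finite R P₁] [Module.Finite R P₂] [Module.Projective R P₂]
    (φ : P₁ →ₗ[R] P₂) (f : R)
    (hf : (↑(PrimeSpectrum.basicOpen f) : Set (PrimeSpectrum R)) ⊆
      {p : PrimeSpectrum R | Function.Injective (φ.lTensor p.asIdeal.ResidueField)}) :
    ∃ N : ℕ, ∃ ψ : P₂ →ₗ[R] P₁, ψ ∘ₗ φ = (f ^ N) • LinearMap.id := by
  have h1 : f ∈ (retractIdeal φ).radical := by
    rw [← PrimeSpectrum.vanishingIdeal_zeroLocus_eq_radical, PrimeSpectrum.mem_vanishingIdeal]
    intro p hp
    by_contra hfp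
    have h2 : p ∈ (↑(PrimeSpectrum.basicOpen f) : Set (PrimeSpectrum R)) := hfp
    have h3 := hf h2
    rw [injLocus_eq] at h3
    exact h3 hp
  obtain ⟨N, hN⟩ := h1
  exact ⟨N, hN⟩

section away
variable (φ : P₁ →ₗ[R] P₂) (f : R) (N : ℕ) (ψ : P₂ →ₗ[R] P₁)

lemma map_comp_apply' {M₁ M₂ M₃ : Type*} [AddCommGroup M₁] [Module R M₁] [AddCommGroup M₂]
    [Module R M₂] [AddCommGroup M₃] [Module R M₃] (S : Submonoid R)
    (a : M₁ →ₗ[R] M₂) (b : M₂ →ₗ[R] M₃) (x : LocalizedModule S M₁) :
    LocalizedModule.map S b (LocalizedModule.map S a x) = LocalizedModule.map S (b ∘ₗ a) x := by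
  induction x using LocalizedModule.induction_on with | _ m s
  simp

lemma pow_smul_injective {M₁ : Type*} [AddCommGroup M₁] [Module R M₁]
    (x y : LocalizedModule (Submonoid.powers f) M₁) (h : (f ^ N) • x = (f ^ N) • y) : x = y :=
  IsLocalizedModule.smul_injective (LocalizedModule.mkLinearMap (Submonoid.powers f) M₁)
    (⟨f ^ N, N, rfl⟩ : Submonoid.powers f) h

include ψ in
lemma localized_injective (hψ : ψ ∘ₗ φ = (f ^ N) • LinearMap.id) :
    Function.Injective (LocalizedModule.map (Submonoid.powers f) φ) := by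
  intro x y hxy
  apply pow_smul_injective f N
  have hx := map_comp_apply' (Submonoid.powers f) φ ψ x
  have hy := map_comp_apply' (Submonoid.powers f) φ ψ y
  rw [hψ, map_smul, LinearMap.smul_apply, LocalizedModule.map_id, LinearMap.id_apply] at hx hy
  rw [← hx, ← hy, hxy]

include ψ in
lemma localized_coker_projective [Module.Projective R P₂]
    (hψ : ψ ∘ₗ φ = (f ^ N) • LinearMap.id) :
    Module.Projective (Localization.Away f)
      (LocalizedModule (Submonoid.powers f) (P₂ ⧸ LinearMap.range φ)) := by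
  let S := Submonoid.powers f
  let π : P₂ →ₗ[R] P₂ ⧸ LinearMap.range φ := (LinearMap.range φ).mkQ
  have hker : LinearMap.range φ ≤ LinearMap.ker ((f ^ N) • LinearMap.id - φ ∘ₗ ψ) := by
    rintro _ ⟨x, rfl⟩
    have := LinearMap.congr_fun hψ x
    simp only [LinearMap.comp_apply, LinearMap.smul_apply, LinearMap.id_apply] at this
    simp [this]
  let i₀ : (P₂ ⧸ LinearMap.range φ) →ₗ[R] P₂ := (LinearMap.range φ).liftQ _ hker
  have hπi : π ∘ₗ i₀ = (f ^ N) • LinearMap.id := by
    apply Submodule.linearMap_qext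
    ext x
    simp [π, i₀]
  let u : Localization.Away f := IsLocalization.Away.invSelf f
  have hu : u ^ N * algebraMap R (Localization.Away f) (f ^ N) = 1 := by
    rw [map_pow, ← mul_pow, mul_comm, IsLocalization.Away.mul_invSelf, one_pow]
  let i : LocalizedModule S (P₂ ⧸ LinearMap.range φ) →ₗ[Localization.Away f] LocalizedModule S P₂ :=
    (u ^ N) • LocalizedModule.map S i₀
  refine Module.Projective.of_split i (LocalizedModule.map S π) ?_
  apply LinearMap.ext
  intro x
  simp only [LinearMap.comp_apply, LinearMap.id_apply, i, LinearMap.smul_apply, map_smul]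
  rw [map_comp_apply', hπi, map_smul, LinearMap.smul_apply, LocalizedModule.map_id,
    LinearMap.id_apply, ← algebraMap_smul (Localization.Away f) (f ^ N) x, smul_smul, hu, one_smul]

end away

end Groth.Agent.Lib.Helper52.OpenInj
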