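import Mathlib

/-!
# Subfields of the fraction field of `k[[T]]` generated by power series with restricted coefficients
-/

set_option linter.unusedSectionVars false

namespace Groth.Agent.Lib.Helper52.PSSubfield

open MvPowerSeries

universe u

variable {σ : Type*} {k : Type u} [Field k]

/-- power series with all coefficients in `F`. -/
def coeffSubring (σ : Type*) (F : Subfield k) : Subring (MvPowerSeries σ k) where
  carrier := {f | ∀ n, coeff n f ∈ F}
  mul_mem' := by
    intro a b ha hb n
    classical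
    rw [coeff_mul]
    exact Subfield.sum_mem _ (fun x _ => F.mul_mem (ha _) (hb _))
  one_mem' := by
    intro n
    classical
    rw [coeff_one]
    split_ifs
    · exact F.one_mem
    · exact F.zero_mem
  add_mem' := fun ha hb n => by rw [map_add]; exact F.add_mem (ha n) (hb n)
  zero_mem' := fun n => by rw [map_zero]; exact F.zero_mem
  neg_mem' := fun ha n => by rw [map_neg]; exact F.neg_mem (ha n)

theorem mem_coeffSubring {F : Subfield k} {f : MvPowerSeries σ k} :
    f ∈ coeffSubring σ F ↔ ∀ n, coeff n f ∈ F := Iff.rfl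

theorem coeffSubring_mono {F G : Subfield k} (h : F ≤ G) : coeffSubring σ F ≤ coeffSubring σ G :=
  fun _ hf n => h (hf n)

local notation "PS" => MvPowerSeries σ k
local notation "K" => FractionRing (MvPowerSeries σ k)

/-- the subfield `F((T))`. -/
noncomputable def fracField (σ : Type*) (F : Subfield k) :
    Subfield (FractionRing (MvPowerSeries σ k)) :=
  Subfield.closure (algebraMap (MvPowerSeries σ k) (FractionRing (MvPowerSeries σ k)) ''
    {f | ∀ n, coeff n f ∈ F})

theorem mem_fracField_iff (F : Subfield k) (x : K) :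
    x ∈ fracField σ F ↔ ∃ a b : PS, a ∈ coeffSubring σ F ∧ b ∈ coeffSubring σ F ∧ b ≠ 0 ∧
      x = algebraMap PS K a / algebraMap PS K b := by
  have hs : (algebraMap PS K '' {f | ∀ n, coeff n f ∈ F}) =
      (((coeffSubring σ F).map (algebraMap PS K) : Subring K) : Set K) := rfl
  constructor
  · intro hx
    rw [fracField, Subfield.mem_closure_iff, hs, Subring.closure_eq] at hx
    obtain ⟨y, ⟨a, ha, rfl⟩, z, ⟨b, hb, rfl⟩, rfl⟩ := hx
    by_cases hb0 : b = 0
    · refine ⟨0, 1, Subring.zero_mem _, Subring.one_mem _, one_ne_zero, ?_⟩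
      simp [hb0]
    · exact ⟨a, b, ha, hb, hb0, rfl⟩
  · rintro ⟨a, b, ha, hb, -, rfl⟩
    exact div_mem (Subfield.subset_closure ⟨a, ha, rfl⟩) (Subfield.subset_closure ⟨b, hb, rfl⟩)

theorem algebraMap_mem_fracField {F : Subfield k} {a : PS} (ha : a ∈ coeffSubring σ F) :
    algebraMap PS K a ∈ fracField σ F := Subfield.subset_closure ⟨a, ha, rfl⟩

theorem fracField_mono {F G : Subfield k} (h : F ≤ G) : fracField σ F ≤ fracField σ G :=
  Subfield.closure_mono (Set.image_mono fun _ hf n => h (hf n))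

section Proj

variable (F : Subfield k)

/-- an `F`-linear retraction of `k` onto `F`. -/
theorem exists_proj : ∃ π : k →ₗ[F] k, (∀ x, π x ∈ F) ∧ ∀ x ∈ F, π x = x := by
  obtain ⟨g, hg⟩ := LinearMap.exists_leftInverse_of_injective (Algebra.linearMap F k)
    (LinearMap.ker_eq_bot.mpr (algebraMap F k).injective)
  refine ⟨(Algebra.linearMap F k).comp g, fun x => ?_, fun x hx => ?_⟩
  · exact (g x).2
  · have := LinearMap.congr_fun hg ⟨x, hx⟩
    simp only [LinearMap.comp_apply, Algebra.linearMap_apply, LinearMap.id_apply] at this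
    simp only [LinearMap.comp_apply, Algebra.linearMap_apply]
    have h2 : g x = ⟨x, hx⟩ := this
    rw [h2]
    rfl

/-- if a power series `h` is a quotient of two power series with coefficients in `F`, it has
coefficients in `F`. -/
theorem mem_coeffSubring_of_mul_eq {h a b : PS} (ha : a ∈ coeffSubring σ F)
    (hb : b ∈ coeffSubring σ F) (hb0 : b ≠ 0) (hab : h * b = a) : h ∈ coeffSubring σ F := by
  classical
  obtain ⟨π, hπ1, hπ2⟩ := exists_proj F
  let Pr : PS → PS := fun f n => π (coeff n f)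
  have hPr : ∀ f n, coeff n (Pr f) = π (coeff n f) := fun f n => rfl
  have hPrmem : ∀ f, Pr f ∈ coeffSubring σ F := fun f n => by rw [hPr]; exact hπ1 _
  have hPrid : ∀ f ∈ coeffSubring σ F, Pr f = f := by
    intro f hf
    ext n
    rw [hPr]
    exact hπ2 _ (hf n)
  have hPrmul : ∀ f c, c ∈ coeffSubring σ F → Pr (f * c) = Pr f * c := by
    intro f c hc
    ext n
    rw [hPr, coeff_mul, coeff_mul, map_sum]
    refine Finset.sum_congr rfl fun x _ => ?_
    rw [hPr]
    have : coeff x.1 f * coeff x.2 c = (⟨coeff x.2 c, hc x.2⟩ : F) • coeff x.1 f := by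
      rw [Subfield.smul_def, smul_eq_mul, mul_comm]
    rw [this, π.map_smul, Subfield.smul_def, smul_eq_mul, mul_comm]
  have h1 : Pr h * b = h * b := by
    rw [← hPrmul h b hb, hab, hPrid a ha]
  have h2 : Pr h = h := mul_right_cancel₀ hb0 h1
  rw [← h2]
  exact hPrmem h

theorem mem_coeffSubring_of_algebraMap_mem {h : PS} (hh : algebraMap PS K h ∈ fracField σ F) :
    h ∈ coeffSubring σ F := by
  obtain ⟨a, b, ha, hb, hb0, hx⟩ := (mem_fracField_iff F _).mp hh
  have hb0' : algebraMap PS K b ≠ 0 := by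
    rwa [Ne, map_eq_zero_iff _ (IsFractionRing.injective PS K)]
  rw [eq_div_iff hb0', ← map_mul] at hx
  exact mem_coeffSubring_of_mul_eq F ha hb hb0 (IsFractionRing.injective PS K hx)

end Proj

section Frob

variable [Finite σ]

theorem mvPolynomial_pow_coeff_mem (p e : ℕ) [ExpChar k p] (F₀ : Subfield k)
    (hq : ∀ x : k, x ^ p ^ e ∈ F₀) (f : MvPolynomial σ k) (x : σ →₀ ℕ) :
    (f ^ p ^ e).coeff x ∈ F₀ := by
  classical
  have hf : f ^ p ^ e = ∑ v ∈ f.support, (MvPolynomial.monomial v (f.coeff v)) ^ p ^ e := by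
    rw [← sum_pow_char_pow, ← f.as_sum]
  rw [hf, MvPolynomial.coeff_sum]
  refine Subfield.sum_mem _ fun v _ => ?_
  rw [MvPolynomial.monomial_pow, MvPolynomial.coeff_monomial]
  split_ifs
  · exact hq _
  · exact F₀.zero_mem

theorem pow_expChar_pow_mem (p e : ℕ) [ExpChar k p] (F₀ : Subfield k)
    (hq : ∀ x : k, x ^ p ^ e ∈ F₀) (g : PS) : g ^ p ^ e ∈ coeffSubring σ F₀ := by
  intro x
  rw [← coeff_truncTotal_pow (n := x.degree + 1) g (Nat.lt_succ_self _)]
  exact mvPolynomial_pow_coeff_mem p e F₀ hq _ x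

/-- every element of `k((T))` is `h / d` with `d` having coefficients in `F₀ ⊇ k^q`. -/
theorem exists_eq_div (p e : ℕ) [ExpChar k p] (F₀ : Subfield k)
    (hq : ∀ x : k, x ^ p ^ e ∈ F₀) (x : K) :
    ∃ h d : PS, d ∈ coeffSubring σ F₀ ∧ d ≠ 0 ∧ x = algebraMap PS K h / algebraMap PS K d := by
  obtain ⟨a, b, hb, rfl⟩ := IsFractionRing.div_surjective (A := PS) x
  have hb0 : b ≠ 0 := nonZeroDivisors.ne_zero hb
  have hqpos : 0 < p ^ e := expChar_pow_pos k p e
  refine ⟨a * b ^ (p ^ e - 1), b ^ p ^ e, pow_expChar_pow_mem p e F₀ hq b, pow_ne_zero _ hb0, ?_⟩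
  have hb0' : algebraMap PS K b ≠ 0 := by
    rwa [Ne, map_eq_zero_iff _ (IsFractionRing.injective PS K)]
  rw [map_mul, map_pow, map_pow, div_eq_div_iff hb0' (pow_ne_zero _ hb0')]
  have : p ^ e = (p ^ e - 1) + 1 := (Nat.sub_add_cancel hqpos).symm
  conv_lhs => rw [this, pow_succ]
  ring

theorem iInf_fracField {ι : Type*} [Nonempty ι] (F : ι → Subfield k) (p e : ℕ) [ExpChar k p]
    (hq : ∀ x : k, x ^ p ^ e ∈ ⨅ i, F i) :
    (⨅ i, fracField σ (F i)) = fracField σ (⨅ i, F i) := by
  apply le_antisymm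
  · intro x hx
    rw [Subfield.mem_iInf] at hx
    obtain ⟨h, d, hd, hd0, rfl⟩ := exists_eq_div p e (⨅ i, F i) hq x
    have hd0' : algebraMap PS K d ≠ 0 := by
      rwa [Ne, map_eq_zero_iff _ (IsFractionRing.injective PS K)]
    have hh : h ∈ coeffSubring σ (⨅ i, F i) := by
      intro n
      rw [Subfield.mem_iInf]
      intro i
      have hdi : algebraMap PS K d ∈ fracField σ (F i) :=
        algebraMap_mem_fracField (coeffSubring_mono (iInf_le F i) hd)
      have := mul_mem (hx i) hdi
      rw [div_mul_cancel₀ _ hd0'] at this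
      exact mem_coeffSubring_of_algebraMap_mem (F i) this n
    exact div_mem (algebraMap_mem_fracField hh) (algebraMap_mem_fracField hd)
  · exact le_iInf fun i => fracField_mono (iInf_le F i)

end Frob

end Groth.Agent.Lib.Helper52.PSSubfield
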