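import Mathlib

/-!
# The skew group ring of an algebra with an invariant perfect trace form is symmetric
-/

set_option autoImplicit false

namespace Groth.Agent.Lib.Helper52.SkewSymmetric

open SkewMonoidAlgebra

variable {R A G : Type*} [CommRing R] [CommRing A] [Algebra R A] [Group G]
  [MulSemiringAction G A] [SMulCommClass G R A]

/-- The form `x ↦ φ₀ (x_1)`. -/
noncomputable def form (φ₀ : A →ₗ[R] R) : SkewMonoidAlgebra A G →ₗ[R] R :=
  φ₀ ∘ₗ (Finsupp.lapply (1 : G)) ∘ₗ (coeffLinearEquiv (S := R) (k := A) (G := G)).toLinearMap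

lemma form_apply (φ₀ : A →ₗ[R] R) (x : SkewMonoidAlgebra A G) :
    form φ₀ x = φ₀ (x.coeff 1) := rfl

lemma form_single_mul (φ₀ : A →ₗ[R] R) (g : G) (s : A) (y : SkewMonoidAlgebra A G) :
    form φ₀ (single g s * y) = φ₀ (s * g • y.coeff g⁻¹) := by
  rw [form_apply, coeff_single_mul, mul_one]

lemma form_comm (φ₀ : A →ₗ[R] R) (H1 : ∀ (h : G) (t : A), φ₀ (h • t) = φ₀ t)
    (x y : SkewMonoidAlgebra A G) : form φ₀ (x * y) = form φ₀ (y * x) := by
  classical
  induction x using SkewMonoidAlgebra.induction_on with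
  | zero => simp
  | single g s =>
    induction y using SkewMonoidAlgebra.induction_on with
    | zero => simp
    | single h t =>
      rw [single_mul_single, single_mul_single, form_apply, form_apply, coeff_single_apply,
        coeff_single_apply]
      by_cases hgh : g * h = 1
      · have hhg : h * g = 1 := by
          rw [mul_eq_one_iff_eq_inv] at hgh ⊢
          rw [hgh, inv_inv]
        rw [if_pos hgh, if_pos hhg]
        have hh : h = g⁻¹ := by rw [mul_eq_one_iff_eq_inv] at hhg; rw [eq_inv_iff_mul_eq_one]; exact hgh ▸ (by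
          rw [mul_eq_one_iff_eq_inv] at hgh; rw [hgh]; simp)
        subst hh
        rw [← H1 g (t * g⁻¹ • s), smul_mul', smul_inv_smul, mul_comm]
      · have hhg : ¬ h * g = 1 := by
          intro h'
          apply hgh
          rw [mul_eq_one_iff_eq_inv] at h' ⊢
          rw [h', inv_inv]
        rw [if_neg hgh, if_neg hhg]
    | add y₁ y₂ h₁ h₂ => rw [mul_add, add_mul, map_add, map_add, h₁, h₂]
  | add x₁ x₂ h₁ h₂ => rw [mul_add, add_mul, map_add, map_add, h₁, h₂]

lemma form_injective (φ₀ : A →ₗ[R] R) (H2 : ∀ t : A, (∀ s, φ₀ (s * t) = 0) → t = 0) :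
    Function.Injective (fun y : SkewMonoidAlgebra A G => fun x : SkewMonoidAlgebra A G =>
      form φ₀ (x * y)) := by
  intro y y' h
  rw [← sub_eq_zero]
  have h0 : ∀ x, form φ₀ (x * (y - y')) = 0 := by
    intro x
    rw [mul_sub, map_sub, sub_eq_zero]
    exact congrFun h x
  apply SkewMonoidAlgebra.ext
  intro g
  rw [coeff_zero, Finsupp.zero_apply]
  have h1 : g⁻¹ • (y - y').coeff g = 0 := by
    apply H2
    intro s
    have := h0 (single g⁻¹ s)
    rwa [form_single_mul, inv_inv] at this
  have := congrArg (fun t => g • t) h1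
  simpa using this

lemma form_surjective [Finite G] (φ₀ : A →ₗ[R] R)
    (H3 : ∀ ψ₀ : A →ₗ[R] R, ∃ t : A, ∀ s, ψ₀ s = φ₀ (s * t))
    (ψ : SkewMonoidAlgebra A G →ₗ[R] R) :
    ∃ y : SkewMonoidAlgebra A G, ∀ x, ψ x = form φ₀ (x * y) := by
  classical
  have := Fintype.ofFinite G
  choose t ht using fun g : G => H3 (ψ ∘ₗ lsingle R g)
  refine ⟨∑ h : G, single h (h • t h⁻¹), ?_⟩
  have hcoeff : ∀ g : G, (∑ h : G, single h (h • t h⁻¹) : SkewMonoidAlgebra A G).coeff g =
      g • t g⁻¹ := by
    intro g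
    have : (∑ h : G, single h (h • t h⁻¹) : SkewMonoidAlgebra A G).coeff =
        ∑ h : G, Finsupp.single h (h • t h⁻¹) := by
      rw [← coeffAddEquiv_apply, _root_.map_sum]
      rfl
    rw [this, Finsupp.finsetSum_apply, Finset.sum_eq_single g]
    · simp
    · intro b _ hb; simp [hb]
    · intro h; exact absurd (Finset.mem_univ g) h
  intro x
  induction x using SkewMonoidAlgebra.induction_on with
  | zero => simp
  | single g s =>
    rw [form_single_mul, hcoeff, smul_inv_smul, inv_inv]
    exact ht g s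
  | add x₁ x₂ h₁ h₂ => rw [add_mul, map_add, map_add, h₁, h₂]

end Groth.Agent.Lib.Helper52.SkewSymmetric
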