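import Mathlib
import Groth.Prelude.Def_Disc
import Groth.Agent.S8935
import Groth.Agent.Lib.Helper94.SyntF
import Groth.Agent.Lib.Helper52.FibInv3

set_option autoImplicit false
universe u

namespace Groth.Agent.Lib.Helper52.TateA

open TensorProduct

theorem omega_transport {k C C' : Type*} [CommRing k] [CommRing C] [CommRing C'] [Algebra k C]
    [Algebra k C'] (σ : C ≃ₐ[k] C') (h : Nonempty (Disc.Omega k C' ≃ₗ[C'] C')) :
    Nonempty (Disc.Omega k C ≃ₗ[C] C) := by
  obtain ⟨e'⟩ := h
  let τ' : Disc.Omega k C' := e'.symm 1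
  have hgen : ∀ l' : Disc.Omega k C', l' = (e' l') • τ' := fun l' => by
    apply e'.injective
    rw [map_smul, LinearEquiv.apply_symm_apply, smul_eq_mul, mul_one]
  have hinj : ∀ c' : C', c' • τ' = 0 → c' = 0 := fun c' hc => by
    have := congrArg e' hc
    rwa [map_smul, LinearEquiv.apply_symm_apply, smul_eq_mul, mul_one, map_zero] at this
  let τ : Disc.Omega k C := ⟨τ'.toLinearMap ∘ₗ σ.toLinearMap⟩
  let f : C →ₗ[C] Disc.Omega k C := LinearMap.toSpanSingleton C _ τ
  have hf : Function.Bijective f := by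
    constructor
    · rw [injective_iff_map_eq_zero]
      intro c hc
      have h1 : σ c • τ' = 0 := by
        apply Disc.Omega.ext
        apply LinearMap.ext
        intro x'
        have := congrArg (fun l : Disc.Omega k C => l.toLinearMap (σ.symm x')) hc
        simpa [f, τ] using this
      have := hinj _ h1
      exact (map_eq_zero_iff σ σ.injective).mp this
    · intro l
      let l' : Disc.Omega k C' := ⟨l.toLinearMap ∘ₗ σ.symm.toLinearMap⟩
      refine ⟨σ.symm (e' l'), ?_⟩
      have h1 := hgen l'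
      apply Disc.Omega.ext
      apply LinearMap.ext
      intro x
      have h2 := congrArg (fun m : Disc.Omega k C' => m.toLinearMap (σ x)) h1
      simp only [l', LinearMap.comp_apply, AlgEquiv.toLinearMap_apply, AlgEquiv.symm_apply_apply,
        Disc.Omega.smul_toLinearMap_apply] at h2
      simp only [f, τ, LinearMap.toSpanSingleton_apply, Disc.Omega.smul_toLinearMap_apply,
        LinearMap.comp_apply, AlgEquiv.toLinearMap_apply, map_mul, AlgEquiv.apply_symm_apply]
      exact h2.symm
  exact ⟨(LinearEquiv.ofBijective f hf).symm⟩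

attribute [local instance] Algebra.TensorProduct.rightAlgebra

/-- `B ⊗ κ ≃ κ ⊗ B` as `κ`-algebras. -/
noncomputable def commK (A B κ : Type*) [CommRing A] [CommRing B] [CommRing κ] [Algebra A B]
    [Algebra A κ] : B ⊗[A] κ ≃ₐ[κ] κ ⊗[A] B :=
  AlgEquiv.ofRingEquiv (f := (Algebra.TensorProduct.comm A B κ).toRingEquiv) (by
    intro x
    simp [Algebra.TensorProduct.right_algebraMap_apply, Algebra.TensorProduct.algebraMap_apply])

/-- the fibre ring `B ⊗ κ(p)` -/
abbrev FibC (A : Type u) [CommRing A] (n : ℕ) (F : Fin n → MvPolynomial (Fin n) A)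
    (p : Ideal A) [p.IsPrime] : Type u :=
  (MvPolynomial (Fin n) A ⧸ Ideal.span (Set.range F)) ⊗[A] p.ResidueField

theorem exists_gen_of_equiv {k C : Type*} [CommRing k] [CommRing C] [Algebra k C]
    (h : Nonempty (Disc.Omega k C ≃ₗ[C] C)) :
    ∃ τ : Disc.Omega k C, Function.Bijective (fun c : C => c • τ) := by
  obtain ⟨e⟩ := h
  refine ⟨e.symm 1, ?_⟩
  have : (fun c : C => c • e.symm 1) = e.symm := by
    ext c
    rw [← map_smul, smul_eq_mul, mul_one]
  rw [this]
  exact e.symm.bijective

theorem equiv_of_exists_gen {k C : Type*} [CommRing k] [CommRing C] [Algebra k C]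
    (h : ∃ τ : Disc.Omega k C, Function.Bijective (fun c : C => c • τ)) :
    Nonempty (Disc.Omega k C ≃ₗ[C] C) := by
  obtain ⟨τ, hτ⟩ := h
  exact ⟨(LinearEquiv.ofBijective (LinearMap.toSpanSingleton C _ τ) hτ).symm⟩

theorem omega_fibre (A : Type u) [CommRing A] (n : ℕ) (F : Fin n → MvPolynomial (Fin n) A)
    (hrel : Synt.IsRelGCI A n n F) (p : Ideal A) [hp : p.IsPrime] :
    ∃ τ : Disc.Omega p.ResidueField (FibC A n F p),
      Function.Bijective (fun c : FibC A n F p => c • τ) := by
  apply exists_gen_of_equiv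
  let fe := Groth.Agent.Lib.Helper94.SyntF.fibreEquiv A n n F p
  let σ₀ := commK A (MvPolynomial (Fin n) A ⧸ Ideal.span (Set.range F)) p.ResidueField
  by_cases hnt : Nontrivial (p.Fiber (Synt.RelGCIRing A n n F))
  · have hd := (hrel ⟨p, hp⟩ hnt).2
    have h0 : ringKrullDim (MvPolynomial (Fin n) p.ResidueField ⧸
        Ideal.span (Set.range fun i => Groth.Agent.Lib.Helper94.SyntB.psi p (F i))) = 0 := by
      have hk : ringKrullDim (p.Fiber (Synt.RelGCIRing A n n F)) =
          ringKrullDim (MvPolynomial (Fin n) p.ResidueField ⧸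
            Ideal.span (Set.range fun i => Groth.Agent.Lib.Helper94.SyntB.psi p (F i))) :=
        ringKrullDim_eq_of_ringEquiv (R := p.Fiber (Synt.RelGCIRing A n n F)) fe.toRingEquiv
      rw [← hk, hd]
      simp
    exact omega_transport (σ₀.trans fe) (Groth.Agent.S8935.result p.ResidueField n _ h0)
  · rw [not_nontrivial_iff_subsingleton] at hnt
    haveI : Subsingleton ((MvPolynomial (Fin n) A ⧸ Ideal.span (Set.range F)) ⊗[A]
        p.ResidueField) := σ₀.toEquiv.subsingleton
    haveI : Subsingleton (Disc.Omega p.ResidueField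
        ((MvPolynomial (Fin n) A ⧸ Ideal.span (Set.range F)) ⊗[A] p.ResidueField)) :=
      ⟨fun a b => Disc.Omega.ext (LinearMap.ext fun x => by
        rw [Subsingleton.elim x 0, map_zero, map_zero])⟩
    exact ⟨LinearEquiv.ofSubsingleton _ _⟩

section inv

open Groth.Agent.Lib.Helper94.QFDualLib

attribute [local instance 10] omegaModule

set_option maxHeartbeats 1600000 in
set_option synthInstance.maxHeartbeats 400000 in
theorem invertible_omega_of_fibres (A B : Type u) [CommRing A] [CommRing B] [IsNoetherianRing A]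
    [Algebra A B] [Module.Finite A B] [Module.Projective A B]
    (H : ∀ (p : Ideal A) [p.IsPrime], ∃ τ : Disc.Omega p.ResidueField (B ⊗[A] p.ResidueField),
      Function.Bijective (fun c : B ⊗[A] p.ResidueField => c • τ)) :
    Module.Invertible B (Disc.Omega A B) := by
  haveI : IsNoetherianRing B := IsNoetherianRing.of_finite A B
  haveI : Module.Flat A B := inferInstance
  haveI := Groth.Agent.Lib.Helper52.FibInv3.finite_omega A B
  haveI : Module.Flat A (Disc.Omega A B) :=
    Module.Flat.of_linearEquiv (omegaToDual (A := A) (B' := B))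
  have hf : QFDual.IsQFFactor A B B := ⟨inferInstance, by
    have : algebraMap B B = RingHom.id B := rfl
    rw [this]
    exact inferInstanceAs (AlgebraicGeometry.IsOpenImmersion
      (AlgebraicGeometry.Spec.map (CategoryTheory.CategoryStruct.id (CommRingCat.of B))))⟩
  apply Groth.Agent.Lib.Helper52.FibInv2.invertible_of_fibres (A := A) (B := B)
    (M := Disc.Omega A B)
  intro p hp
  obtain ⟨τ, hτ⟩ := H p
  have h : Algebra.IsPushout A p.ResidueField B (B ⊗[A] p.ResidueField) := inferInstance
  have hbij := Groth.Agent.Lib.Helper52.QFBC5.omegaBC_bijective_of_flat A B B p.ResidueField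
    (B ⊗[A] p.ResidueField) (B ⊗[A] p.ResidueField) hf h
  obtain ⟨e⟩ := equiv_of_exists_gen ⟨τ, hτ⟩
  exact Module.Invertible.congr
    ((LinearEquiv.ofBijective (QFDual.omegaBC (B₁ := B ⊗[A] p.ResidueField) h) hbij ≪≫ₗ
      TensorProduct.lid (B ⊗[A] p.ResidueField) _ ≪≫ₗ e).symm)

end inv

end Groth.Agent.Lib.Helper52.TateA
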