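import Mathlib
import Groth.Agent.Lib.Helper52.TateA
import Groth.Agent.Lib.Helper76.JdC
import Groth.Agent.Lib.Helper94.DiscDual

set_option autoImplicit false
set_option linter.unusedSectionVars false
universe u

namespace Groth.Agent.Lib.Helper52.TateB

open TensorProduct MvPolynomial Groth.Agent.Lib.Helper76.Jd Groth.Agent.Lib.Helper94.DiscDual

section delta

variable {A : Type u} [CommRing A] {n : ℕ} (F : Fin n → MvPolynomial (Fin n) A)

/-- The Bezoutian: a generator `Δ` of the annihilator of the diagonal ideal with `μ(Δ)` the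
Jacobian determinant (extracted from helper76's `noetherDifferent_eq_jacobian`). -/
theorem exists_delta
    (hF : LCI.IsKoszulRegularSeq (MvPolynomial (Fin n) A) (List.ofFn F))
    [Module.Flat A (MvPolynomial (Fin n) A ⧸ Ideal.span (Set.range F))] :
    ∃ Δ : (MvPolynomial (Fin n) A ⧸ Ideal.span (Set.range F)) ⊗[A]
        (MvPolynomial (Fin n) A ⧸ Ideal.span (Set.range F)),
      Submodule.annihilator (RingHom.ker (Algebra.TensorProduct.lmul'
        (S := MvPolynomial (Fin n) A ⧸ Ideal.span (Set.range F)) A)) = Ideal.span {Δ} ∧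
      Algebra.TensorProduct.lmul' (S := MvPolynomial (Fin n) A ⧸ Ideal.span (Set.range F)) A Δ =
        Ideal.Quotient.mk (Ideal.span (Set.range F))
          (Matrix.det (Matrix.of fun i j => MvPolynomial.pderiv j (F i))) := by
  classical
  let c : Matrix (Fin n) (Fin n)
      (MvPolynomial (Fin n) A ⊗[A] (MvPolynomial (Fin n) A ⧸ Ideal.span (Set.range F))) :=
    fun i j => (Phi F).symm (ct F i j)
  have hc : ∀ i, F i ⊗ₜ[A] (1 : MvPolynomial (Fin n) A ⧸ Ideal.span (Set.range F)) =
      ∑ j, c i j * gg F j := by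
    intro i
    apply (Phi F).injective
    rw [Phi_tmul, one_smul, map_sum, ← ct_spec F i]
    refine Finset.sum_congr rfl (fun j _ => ?_)
    rw [map_mul]
    simp only [c, gg, AlgEquiv.apply_symm_apply]
  have hann := Groth.Agent.Lib.Helper76.Wb.annihilator_diag F hF (Ideal.span (Set.range F)) rfl
    (gg F) (gg_koszul F) (gg_ker F) c hc
  have key : Algebra.TensorProduct.lmul'
      (S := MvPolynomial (Fin n) A ⧸ Ideal.span (Set.range F)) A
      (Algebra.TensorProduct.map (Ideal.Quotient.mkₐ A (Ideal.span (Set.range F)))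
        (AlgHom.id A (MvPolynomial (Fin n) A ⧸ Ideal.span (Set.range F))) (Matrix.det c)) =
      Ideal.Quotient.mk (Ideal.span (Set.range F))
        (Matrix.det (Matrix.of fun i j => MvPolynomial.pderiv j (F i))) := by
    rw [lmul'_map, ← eval_Phi]
    have h1 : MvPolynomial.eval (xb F) (Phi F (Matrix.det c)) =
        ((MvPolynomial.eval (xb F)).comp (Phi F).toAlgHom.toRingHom) (Matrix.det c) := rfl
    have e1 := RingHom.map_det ((MvPolynomial.eval (xb F)).comp (Phi F).toAlgHom.toRingHom) c
    have e2 := RingHom.map_det (Ideal.Quotient.mk (Ideal.span (Set.range F)))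
      (Matrix.of fun i j => MvPolynomial.pderiv j (F i))
    rw [h1, e1, e2]
    congr 1
    ext i j
    simp only [RingHom.mapMatrix_apply, Matrix.map_apply, Matrix.of_apply, RingHom.comp_apply]
    change MvPolynomial.eval (xb F) (Phi F ((Phi F).symm (ct F i j))) = _
    rw [AlgEquiv.apply_symm_apply, eval_ct]
  exact ⟨_, hann, key⟩

end delta

section generic

variable {A B : Type u} [CommRing A] [CommRing B] [Algebra A B]

theorem T_mul_of_mem {Δ : B ⊗[A] B}
    (hΔ : Δ ∈ Submodule.annihilator (RingHom.ker (Algebra.TensorProduct.lmul' (S := B) A)))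
    (l : Disc.Omega A B) (y : B ⊗[A] B) :
    T l (y * Δ) = Algebra.TensorProduct.lmul' (S := B) A y * T l Δ := by
  induction y using TensorProduct.induction_on with
  | zero => simp
  | tmul u v =>
    have h1 : (u ⊗ₜ[A] v) * Δ = (Δ * (u ⊗ₜ[A] 1)) * (1 ⊗ₜ[A] v) := by
      rw [mul_assoc, Algebra.TensorProduct.tmul_mul_tmul, mul_one, one_mul, mul_comm]
    rw [h1, T_mul_right, T_mul_left, T_smul_of_mem hΔ, Algebra.TensorProduct.lmul'_apply_tmul]
    ring
  | add x y hx hy => rw [add_mul, map_add, hx, hy, map_add, add_mul]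

theorem pairing_bijective [Module.Free A B] [Module.Finite A B]
    [Module.Invertible B (Disc.Omega A B)] {Δ : B ⊗[A] B}
    (hΔ : Δ ∈ Submodule.annihilator (RingHom.ker (Algebra.TensorProduct.lmul' (S := B) A)))
    (hann : Submodule.annihilator (RingHom.ker (Algebra.TensorProduct.lmul' (S := B) A)) =
      Ideal.span {Δ}) :
    Function.Bijective (pairing Δ hΔ) := by
  apply Module.Invertible.bijective_of_surjective
  have hgen : ∀ Ψ : Disc.Omega A B →ₗ[B] B, ∃ b : B, ∀ l, Ψ l = b * pairing Δ hΔ l := by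
    intro Ψ
    obtain ⟨ξ, hξ, rfl⟩ := exists_pairing Ψ
    have hξ' := hξ
    rw [hann, Ideal.mem_span_singleton'] at hξ'
    obtain ⟨y, hy⟩ := hξ'
    refine ⟨Algebra.TensorProduct.lmul' (S := B) A y, fun l => ?_⟩
    change T l ξ = _ * T l Δ
    rw [← hy, T_mul_of_mem hΔ]
  have hrange : ∀ z : Module.Dual B (Disc.Omega A B) ⊗[B] Disc.Omega A B,
      contractLeft B (Disc.Omega A B) z ∈ LinearMap.range (pairing Δ hΔ) := by
    intro z
    induction z using TensorProduct.induction_on with
    | zero => simp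
    | tmul Ψ m =>
      obtain ⟨b, hb⟩ := hgen Ψ
      rw [contractLeft_apply]
      exact ⟨b • m, by rw [map_smul, hb, smul_eq_mul]⟩
    | add x y hx hy =>
      rw [map_add]
      exact Submodule.add_mem _ hx hy
  obtain ⟨z, hz⟩ := (Module.Invertible.bijective (R := B) (M := Disc.Omega A B)).2 1
  obtain ⟨m, hm⟩ := hz ▸ hrange z
  intro b
  exact ⟨b • m, by rw [map_smul, hm, smul_eq_mul, mul_one]⟩

end generic

section main

open Groth.Agent.Lib.Helper52.TateA

theorem main (A : Type u) [CommRing A] [IsNoetherianRing A] (n : ℕ)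
    (F : Fin n → MvPolynomial (Fin n) A)
    [Module.Finite A (MvPolynomial (Fin n) A ⧸ Ideal.span (Set.range F))]
    [Module.Free A (MvPolynomial (Fin n) A ⧸ Ideal.span (Set.range F))] :
    ∃ e : (MvPolynomial (Fin n) A ⧸ Ideal.span (Set.range F)) ≃ₗ[
        MvPolynomial (Fin n) A ⧸ Ideal.span (Set.range F)]
        Disc.Omega A (MvPolynomial (Fin n) A ⧸ Ideal.span (Set.range F)),
      e (Ideal.Quotient.mk (Ideal.span (Set.range F))
        (Matrix.det (Matrix.of fun i j : Fin n => MvPolynomial.pderiv j (F i)))) =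
        Disc.Omega.trace A (MvPolynomial (Fin n) A ⧸ Ideal.span (Set.range F)) := by
  have hrel := Groth.Agent.Lib.Helper76.Jd.isRelGCI_of_quasiFinite A n F
  have hK := Groth.Agent.Lib.Helper76.Jd.koszulRegular_of_isRelGCI A n n F hrel
  obtain ⟨Δ, hann, hμ⟩ := exists_delta F hK
  have hΔ : Δ ∈ Submodule.annihilator (RingHom.ker (Algebra.TensorProduct.lmul'
      (S := MvPolynomial (Fin n) A ⧸ Ideal.span (Set.range F)) A)) := by
    rw [hann]
    exact Ideal.subset_span rfl
  haveI : Module.Invertible (MvPolynomial (Fin n) A ⧸ Ideal.span (Set.range F))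
      (Disc.Omega A (MvPolynomial (Fin n) A ⧸ Ideal.span (Set.range F))) :=
    invertible_omega_of_fibres A _ (fun p _ => omega_fibre A n F hrel p)
  have hbij := pairing_bijective hΔ hann
  refine ⟨(LinearEquiv.ofBijective (pairing Δ hΔ) hbij).symm, ?_⟩
  rw [LinearEquiv.symm_apply_eq]
  change _ = T (Disc.Omega.trace A _) Δ
  rw [T_trace_of_mem hΔ, hμ]

end main

end Groth.Agent.Lib.Helper52.TateB
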