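import Mathlib

set_option autoImplicit false
universe u

namespace Groth.Agent.Lib.Helper52.TorsAlg

open TensorProduct

section Local

variable {R : Type u} [CommRing R] [IsNoetherianRing R] [IsLocalRing R]
variable {M N : Type u} [AddCommGroup M] [Module R M] [Module.Finite R M] [Module.Free R M]
  [AddCommGroup N] [Module R N] [Module.Finite R N] [Module.Free R N]

theorem baseChange_bijective_of_bijective {R : Type*} [CommRing R] {M N : Type*} [AddCommGroup M]
    [Module R M] [AddCommGroup N] [Module R N] (A : Type*) [CommRing A] [Algebra R A]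
    (e : M ≃ₗ[R] N) : Function.Bijective (e.toLinearMap.baseChange A) := by
  rw [Function.bijective_iff_has_inverse]
  refine ⟨e.symm.toLinearMap.baseChange A, fun x => ?_, fun x => ?_⟩
  · rw [← LinearMap.comp_apply, ← LinearMap.baseChange_comp]
    simp
  · rw [← LinearMap.comp_apply, ← LinearMap.baseChange_comp]
    simp

theorem bijective_of_local (ψ : M →ₗ[R] N)
    (h : ∀ (K : Type u) [Field K] [Algebra R K], (RingHom.ker (algebraMap R K)).height ≤ 1 →
      Function.Bijective (ψ.baseChange K)) : Function.Bijective ψ := by
  obtain ⟨p0, hp0, -⟩ := Ideal.exists_minimalPrimes_le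
    (bot_le : (⊥ : Ideal R) ≤ IsLocalRing.maximalIdeal R)
  haveI : p0.IsPrime := hp0.1.1
  have hht0 : p0.height ≤ 1 :=
    Ideal.height_le_one_of_isPrincipal_of_mem_minimalPrimes ⊥ p0 hp0
  have hb0 := h p0.ResidueField (by rw [Ideal.ker_algebraMap_residueField]; exact hht0)
  have hrank : Module.finrank R M = Module.finrank R N := by
    have e := LinearEquiv.ofBijective (ψ.baseChange p0.ResidueField) hb0
    have := e.finrank_eq
    rwa [Module.finrank_baseChange, Module.finrank_baseChange] at this
  let e : N ≃ₗ[R] M := LinearEquiv.ofFinrankEq N M hrank.symm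
  set φ : M →ₗ[R] M := e.toLinearMap ∘ₗ ψ with hφ
  have hunit : IsUnit (LinearMap.det φ) := by
    by_contra hnu
    have hI : Ideal.span {LinearMap.det φ} ≠ ⊤ := by
      rwa [Ne, Ideal.span_singleton_eq_top]
    obtain ⟨P, hP, -⟩ := Ideal.exists_minimalPrimes_le (IsLocalRing.le_maximalIdeal hI)
    haveI : P.IsPrime := hP.1.1
    have hhtP : P.height ≤ 1 :=
      Ideal.height_le_one_of_isPrincipal_of_mem_minimalPrimes _ P hP
    have hbP := h P.ResidueField (by rw [Ideal.ker_algebraMap_residueField]; exact hhtP)
    have hdP : LinearMap.det φ ∈ P := hP.1.2 (Ideal.subset_span rfl)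
    have hφb : Function.Bijective (φ.baseChange P.ResidueField) := by
      rw [hφ, LinearMap.baseChange_comp]
      exact (baseChange_bijective_of_bijective P.ResidueField e).comp hbP
    have hdet : LinearMap.det (φ.baseChange P.ResidueField) =
        algebraMap R P.ResidueField (LinearMap.det φ) := LinearMap.det_baseChange φ
    have hz : algebraMap R P.ResidueField (LinearMap.det φ) = 0 :=
      Ideal.algebraMap_residueField_eq_zero.mpr hdP
    have hu : IsUnit (LinearMap.det (φ.baseChange P.ResidueField)) :=
      (LinearEquiv.ofBijective _ hφb).isUnit_det'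
    rw [hdet, hz] at hu
    exact not_isUnit_zero hu
  have hφbij : Function.Bijective φ :=
    (Module.End.isUnit_iff φ).mp ((LinearMap.isUnit_iff_isUnit_det φ).mpr hunit)
  have : (ψ : M → N) = e.symm ∘ φ := by
    ext x; simp [hφ]
  rw [this]
  exact e.symm.bijective.comp hφbij

end Local

section Global

theorem cancel_baseChange_comm {R : Type*} [CommRing R] {M N : Type*} [AddCommGroup M] [Module R M]
    [AddCommGroup N] [Module R N] (A K : Type*) [CommRing A] [Algebra R A] [CommRing K]
    [Algebra R K] [Algebra A K] [IsScalarTower R A K] (ψ : M →ₗ[R] N) :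
    (AlgebraTensorModule.cancelBaseChange R A K K N).toLinearMap ∘ₗ
      ((ψ.baseChange A).baseChange K) =
    (ψ.baseChange K) ∘ₗ (AlgebraTensorModule.cancelBaseChange R A K K M).toLinearMap := by
  ext m
  simp

variable {R : Type u} [CommRing R] [IsNoetherianRing R]
variable {M N : Type u} [AddCommGroup M] [Module R M] [Module.Finite R M] [Module.Flat R M]
  [AddCommGroup N] [Module R N] [Module.Finite R N] [Module.Flat R N]

theorem bijective_of_fibres (ψ : M →ₗ[R] N)
    (h : ∀ (K : Type u) [Field K] [Algebra R K], (RingHom.ker (algebraMap R K)).height ≤ 1 →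
      Function.Bijective (ψ.baseChange K)) : Function.Bijective ψ := by
  apply bijective_of_isLocalized_maximal (fun P _ => Localization.AtPrime P ⊗[R] M)
    (fun P _ => TensorProduct.mk R (Localization.AtPrime P) M 1)
    (fun P _ => Localization.AtPrime P ⊗[R] N)
    (fun P _ => TensorProduct.mk R (Localization.AtPrime P) N 1) ψ
  intro q hq
  have hmap : IsLocalizedModule.map q.primeCompl
      (TensorProduct.mk R (Localization.AtPrime q) M 1)
      (TensorProduct.mk R (Localization.AtPrime q) N 1) ψ =
      (ψ.baseChange (Localization.AtPrime q)).restrictScalars R := by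
    apply IsLocalizedModule.linearMap_ext q.primeCompl
      (TensorProduct.mk R (Localization.AtPrime q) M 1)
      (TensorProduct.mk R (Localization.AtPrime q) N 1)
    ext m
    have := IsLocalizedModule.map_apply q.primeCompl
      (TensorProduct.mk R (Localization.AtPrime q) M 1)
      (TensorProduct.mk R (Localization.AtPrime q) N 1) ψ m
    simpa using this
  rw [hmap]
  haveI : Module.Free (Localization.AtPrime q) (Localization.AtPrime q ⊗[R] M) :=
    Module.free_of_flat_of_isLocalRing
  haveI : Module.Free (Localization.AtPrime q) (Localization.AtPrime q ⊗[R] N) :=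
    Module.free_of_flat_of_isLocalRing
  refine bijective_of_local (ψ.baseChange (Localization.AtPrime q)) ?_
  intro K _ _ hK
  letI : Algebra R K :=
    ((algebraMap (Localization.AtPrime q) K).comp (algebraMap R (Localization.AtPrime q))).toAlgebra
  haveI : IsScalarTower R (Localization.AtPrime q) K := IsScalarTower.of_algebraMap_eq (fun _ => rfl)
  have hker : RingHom.ker (algebraMap R K) =
      (RingHom.ker (algebraMap (Localization.AtPrime q) K)).under R := by
    ext x
    simp [RingHom.mem_ker, Ideal.mem_comap, IsScalarTower.algebraMap_apply R (Localization.AtPrime q) K]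
  have hb := h K (by rw [hker, IsLocalization.height_under q.primeCompl]; exact hK)
  have hcomm := cancel_baseChange_comm (Localization.AtPrime q) K ψ
  have : ((ψ.baseChange (Localization.AtPrime q)).baseChange K : _ → _) =
      (AlgebraTensorModule.cancelBaseChange R (Localization.AtPrime q) K K N).symm ∘
        (ψ.baseChange K) ∘ (AlgebraTensorModule.cancelBaseChange R (Localization.AtPrime q) K K M) := by
    ext x
    have := congrArg (fun f => f x) hcomm
    simp only [LinearMap.comp_apply, LinearEquiv.coe_coe] at this
    simp only [Function.comp_apply]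
    rw [← this, LinearEquiv.symm_apply_apply]
  rw [this]
  exact (LinearEquiv.bijective _).comp (hb.comp (LinearEquiv.bijective _))

end Global

end Groth.Agent.Lib.Helper52.TorsAlg
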