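import Mathlib
import Groth.Agent.Lib.Helper52.TorsAlg

set_option autoImplicit false
universe u

open CategoryTheory Limits AlgebraicGeometry TensorProduct

namespace Groth.Agent.Lib.Helper52.TorsGeom

/-- Fibrewise-isomorphism hypothesis over points of codimension `≤ 1`, in a base-change-stable
form. -/
def FibIso {X Z S : Scheme.{u}} (f : X ⟶ Z) (pZ : Z ⟶ S) : Prop :=
  ∀ (K : Type u) [Field K] (g : Spec (.of K) ⟶ S),
    (∀ x : Spec (.of K), Order.coheight (g x) ≤ 1) →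
    ∀ (Q : Scheme.{u}) (c : Q ⟶ Z) (d : Q ⟶ Spec (.of K)), IsPullback c d pZ g →
    ∀ (P : Scheme.{u}) (a : P ⟶ X) (m : P ⟶ Q), IsPullback a m f c → IsIso m

theorem FibIso.baseChange {X Z S U : Scheme.{u}} {f : X ⟶ Z} {pZ : Z ⟶ S} (h : FibIso f pZ)
    (j : U ⟶ S) [IsOpenImmersion j] :
    FibIso (pullback.snd f (pullback.fst pZ j)) (pullback.snd pZ j) := by
  intro K _ g hg Q c d hQ P a m hP
  refine h K (g ≫ j) ?_ Q (c ≫ pullback.fst pZ j) d ?_ P
    (a ≫ pullback.fst f (pullback.fst pZ j)) m ?_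
  · intro x
    rw [Scheme.Hom.comp_apply, coheight_eq_of_isOpenImmersion]
    exact hg x
  · exact hQ.paste_horiz (IsPullback.of_hasPullback pZ j)
  · exact hP.paste_horiz (IsPullback.of_hasPullback f (pullback.fst pZ j))

theorem FibIso.comp_iso_right {X Z Z' S : Scheme.{u}} {f : X ⟶ Z} {pZ : Z ⟶ S} (h : FibIso f pZ)
    (e : Z ≅ Z') : FibIso (f ≫ e.hom) (e.inv ≫ pZ) := by
  intro K _ g hg Q c d hQ P a m hP
  refine h K g hg Q (c ≫ e.inv) d ?_ P a m ?_
  · have t : IsPullback e.inv (e.inv ≫ pZ) pZ (𝟙 S) := IsPullback.of_horiz_isIso ⟨by simp⟩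
    simpa using hQ.paste_horiz t
  · have t : IsPullback (𝟙 X) (f ≫ e.hom) f e.inv := IsPullback.of_horiz_isIso ⟨by simp⟩
    simpa using hP.paste_horiz t

theorem FibIso.iso_comp {X X' Z S : Scheme.{u}} {f : X ⟶ Z} {pZ : Z ⟶ S} (h : FibIso f pZ)
    (e : X' ≅ X) : FibIso (e.hom ≫ f) pZ := by
  intro K _ g hg Q c d hQ P a m hP
  refine h K g hg Q c d hQ P (a ≫ e.hom) m ?_
  have t : IsPullback e.hom (e.hom ≫ f) f (𝟙 Z) := IsPullback.of_horiz_isIso ⟨by simp⟩
  simpa using hP.paste_horiz t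

theorem isIso_of_fibIso_Spec {R C B : CommRingCat.{u}} (φ : R ⟶ C) (ψ : C ⟶ B)
    [IsNoetherianRing R] (hC : φ.hom.Finite) (hC' : φ.hom.Flat) (hB : (φ ≫ ψ).hom.Finite)
    (hB' : (φ ≫ ψ).hom.Flat) (h : FibIso (Spec.map ψ) (Spec.map φ)) : IsIso ψ := by
  letI : Algebra R C := φ.hom.toAlgebra
  letI : Algebra R B := (φ ≫ ψ).hom.toAlgebra
  haveI : Module.Finite R C := hC
  haveI : Module.Flat R C := hC'
  haveI : Module.Finite R B := hB
  haveI : Module.Flat R B := hB'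
  let ψa : C →ₐ[R] B := { ψ.hom with commutes' := fun r => rfl }
  rw [ConcreteCategory.isIso_iff_bijective]
  refine TorsAlg.bijective_of_fibres ψa.toLinearMap ?_
  intro K _ _ hK
  let g : Spec (.of K) ⟶ Spec R := Spec.map (CommRingCat.ofHom (algebraMap R K))
  have hg : ∀ x : Spec (.of K), Order.coheight (g x) ≤ 1 := by
    intro x
    rw [← idealHeight_eq_coheight]
    have hx : x.asIdeal = ⊥ := @Ideal.eq_bot_of_prime _ _ x.asIdeal x.isPrime
    have : (g x).asIdeal = RingHom.ker (algebraMap R K) := by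
      rw [RingHom.ker_eq_comap_bot, ← hx]
      rfl
    rw [this]
    exact hK
  have hpoC : IsPushout φ (CommRingCat.ofHom (algebraMap R K))
      (CommRingCat.ofHom (S := K ⊗[R] C) Algebra.TensorProduct.includeRight.toRingHom)
      (CommRingCat.ofHom (S := K ⊗[R] C) Algebra.TensorProduct.includeLeftRingHom) :=
    (CommRingCat.isPushout_tensorProduct R K C).flip
  have hpoB : IsPushout (φ ≫ ψ) (CommRingCat.ofHom (algebraMap R K))
      (CommRingCat.ofHom (S := K ⊗[R] B) Algebra.TensorProduct.includeRight.toRingHom)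
      (CommRingCat.ofHom (S := K ⊗[R] B) Algebra.TensorProduct.includeLeftRingHom) :=
    (CommRingCat.isPushout_tensorProduct R K B).flip
  let μ : CommRingCat.of (K ⊗[R] C) ⟶ CommRingCat.of (K ⊗[R] B) :=
    CommRingCat.ofHom (Algebra.TensorProduct.map (AlgHom.id R K) ψa).toRingHom
  have hμ1 : CommRingCat.ofHom (S := K ⊗[R] C) Algebra.TensorProduct.includeLeftRingHom ≫ μ =
      CommRingCat.ofHom (S := K ⊗[R] B) Algebra.TensorProduct.includeLeftRingHom := by
    ext x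
    simp [μ]
  have hμ2 : ψ ≫ CommRingCat.ofHom (S := K ⊗[R] B) Algebra.TensorProduct.includeRight.toRingHom =
      CommRingCat.ofHom (S := K ⊗[R] C) Algebra.TensorProduct.includeRight.toRingHom ≫ μ := by
    ext x
    simp [μ, ψa]
  have hpo : IsPushout ψ
      (CommRingCat.ofHom (S := K ⊗[R] C) Algebra.TensorProduct.includeRight.toRingHom)
      (CommRingCat.ofHom (S := K ⊗[R] B) Algebra.TensorProduct.includeRight.toRingHom) μ := by
    refine IsPushout.of_left ?_ hμ2 hpoC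
    rw [hμ1]
    exact hpoB
  have hQ := isPullback_SpecMap_of_isPushout _ _ _ _ hpoC
  have hP := isPullback_SpecMap_of_isPushout _ _ _ _ hpo
  have hiso : IsIso (Spec.map μ) := h K g hg _ _ _ hQ _ _ _ hP
  rw [isIso_SpecMap_iff] at hiso
  exact hiso

theorem finite_flat_step {X Z S U : Scheme.{u}} (f : X ⟶ Z) (pZ : Z ⟶ S) (j : U ⟶ S)
    [IsFinite (f ≫ pZ)] [Flat (f ≫ pZ)] :
    IsFinite (pullback.snd f (pullback.fst pZ j) ≫ pullback.snd pZ j) ∧
      Flat (pullback.snd f (pullback.fst pZ j) ≫ pullback.snd pZ j) := by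
  have e1 : pullback.snd f (pullback.fst pZ j) ≫ pullback.snd pZ j =
      (pullbackRightPullbackFstIso pZ j f).hom ≫ pullback.snd (f ≫ pZ) j :=
    (pullbackRightPullbackFstIso_hom_snd pZ j f).symm
  rw [e1]
  exact ⟨inferInstance, inferInstance⟩

/-- A non-class wrapper around `IsIso` (so that `wlog` hypotheses are not local instances). -/
structure IsoP {X Z : Scheme.{u}} (f : X ⟶ Z) : Prop where
  out : IsIso f

theorem isoP_of_fibIso {X Z S : Scheme.{u}} (f : X ⟶ Z) (pZ : Z ⟶ S)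
    [IsLocallyNoetherian S]
    [IsFinite pZ] [Flat pZ] [IsFinite (f ≫ pZ)] [Flat (f ≫ pZ)] (h : FibIso f pZ) :
    IsoP f := by
  wlog hS : ∃ R, S = Spec R generalizing X Z S with H
  · refine ⟨?_⟩
    rw [← MorphismProperty.isomorphisms.iff,
      IsZariskiLocalAtTarget.iff_of_openCover (P := .isomorphisms Scheme)
        (S.affineCover.pullback₁ pZ)]
    intro (i : S.affineCover.I₀)
    dsimp [Scheme.Cover.pullbackHom]
    haveI := (finite_flat_step f pZ (S.affineCover.f i)).1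
    haveI := (finite_flat_step f pZ (S.affineCover.f i)).2
    exact (H (pullback.snd f (pullback.fst pZ (S.affineCover.f i)))
      (pullback.snd pZ (S.affineCover.f i)) (h.baseChange (S.affineCover.f i)) ⟨_, rfl⟩).out
  obtain ⟨R, rfl⟩ := hS
  wlog hZ : ∃ C, Z = Spec C generalizing X Z with H
  · haveI : IsAffine Z := isAffine_of_isAffineHom pZ
    haveI : IsFinite ((f ≫ Z.isoSpec.hom) ≫ Z.isoSpec.inv ≫ pZ) := by
      simpa using ‹IsFinite (f ≫ pZ)›
    haveI : Flat ((f ≫ Z.isoSpec.hom) ≫ Z.isoSpec.inv ≫ pZ) := by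
      simpa using ‹Flat (f ≫ pZ)›
    have := (H (f ≫ Z.isoSpec.hom) (Z.isoSpec.inv ≫ pZ) (h.comp_iso_right Z.isoSpec)
      ⟨_, rfl⟩).out
    exact ⟨(isIso_comp_right_iff f Z.isoSpec.hom).mp this⟩
  obtain ⟨C, rfl⟩ := hZ
  wlog hX : ∃ B, X = Spec B generalizing X with H
  · haveI : IsAffine X := isAffine_of_isAffineHom (f ≫ pZ)
    haveI : IsFinite ((X.isoSpec.inv ≫ f) ≫ pZ) := by
      rw [Category.assoc]; infer_instance
    haveI : Flat ((X.isoSpec.inv ≫ f) ≫ pZ) := by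
      rw [Category.assoc]; infer_instance
    have := (H (X.isoSpec.inv ≫ f) (h.iso_comp X.isoSpec.symm) ⟨_, rfl⟩).out
    exact ⟨(isIso_comp_left_iff X.isoSpec.inv f).mp this⟩
  obtain ⟨B, rfl⟩ := hX
  obtain ⟨φ, rfl⟩ := Spec.map_surjective pZ
  obtain ⟨ψ, rfl⟩ := Spec.map_surjective f
  haveI : IsNoetherianRing R := isLocallyNoetherian_Spec.mp ‹_›
  have hC : φ.hom.Finite := (IsFinite.SpecMap_iff φ).mp ‹_›
  have hC' : φ.hom.Flat := Flat.SpecMap_iff.mp ‹_›
  have hB : (φ ≫ ψ).hom.Finite := by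
    rw [← IsFinite.SpecMap_iff, Spec.map_comp]; infer_instance
  have hB' : (φ ≫ ψ).hom.Flat := by
    rw [← Flat.SpecMap_iff, Spec.map_comp]; infer_instance
  have := isIso_of_fibIso_Spec φ ψ hC hC' hB hB' h
  exact ⟨inferInstance⟩

theorem isIso_of_fibIso {X Z S : Scheme.{u}} (f : X ⟶ Z) (pZ : Z ⟶ S) [IsLocallyNoetherian S]
    [IsFinite pZ] [Flat pZ] [IsFinite (f ≫ pZ)] [Flat (f ≫ pZ)] (h : FibIso f pZ) : IsIso f :=
  (isoP_of_fibIso f pZ h).out

end Groth.Agent.Lib.Helper52.TorsGeom
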