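import Mathlib
import Groth.Agent.Lib.Helper52.TorsGeom

set_option autoImplicit false
universe u

open CategoryTheory Limits AlgebraicGeometry

namespace Groth.Agent.Lib.Helper52.TorsMain

open Groth.Agent.Lib.Helper52.TorsGeom

theorem fibIso_of_fibres {X Z S : Scheme.{u}} (f : X ⟶ Z) (pX : X ⟶ S) (pZ : Z ⟶ S)
    (hf : f ≫ pZ = pX)
    (hfib : ∀ s : S, ringKrullDim (S.presheaf.stalk s) ≤ 1 →
      IsIso (pullback.map pX (S.fromSpecResidueField s) pZ (S.fromSpecResidueField s) f (𝟙 _) (𝟙 S)
        (by rw [Category.comp_id, hf]) (by simp))) : FibIso f pZ := by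
  intro K _ g hg Q c d hQ P a m hP
  obtain ⟨s, φ, rfl⟩ : ∃ (s : S) (φ : S.residueField s ⟶ .of K),
      g = Spec.map φ ≫ S.fromSpecResidueField s :=
    ⟨_, _, ((Scheme.SpecToEquivOfField K S).symm_apply_apply g).symm⟩
  have hs : ringKrullDim (S.presheaf.stalk s) ≤ 1 := by
    rw [ringKrullDim_stalk_eq_coheight]
    have x : Spec (.of K) := Classical.arbitrary _
    have := hg x
    rw [Scheme.Hom.comp_apply, Scheme.fromSpecResidueField_apply] at this
    exact_mod_cast this
  have hF := hfib s hs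
  set r := S.fromSpecResidueField s with hr
  set F := pullback.map pX r pZ r f (𝟙 _) (𝟙 S) (by rw [Category.comp_id, hf]) (by simp) with hFdef
  have hF1 : F ≫ pullback.fst pZ r = pullback.fst pX r ≫ f := pullback.lift_fst _ _ _
  have hF2 : F ≫ pullback.snd pZ r = pullback.snd pX r :=
    (pullback.lift_snd _ _ _).trans (Category.comp_id _)
  have sqF : IsPullback (pullback.fst pX r) F f (pullback.fst pZ r) := by
    have t : IsPullback (pullback.snd pZ r) (pullback.fst pZ r) r pZ :=
      (IsPullback.of_hasPullback pZ r).flip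
    have o : IsPullback (F ≫ pullback.snd pZ r) (pullback.fst pX r) r (f ≫ pZ) := by
      rw [hF2, hf]
      exact (IsPullback.of_hasPullback pX r).flip
    exact (IsPullback.of_right o hF1 t).flip
  let l : Q ⟶ pullback pZ r := pullback.lift c (d ≫ Spec.map φ) (by
    rw [Category.assoc]; exact hQ.w)
  have hl1 : l ≫ pullback.fst pZ r = c := pullback.lift_fst _ _ _
  let lP : P ⟶ pullback pX r := sqF.lift a (m ≫ l) (by rw [Category.assoc, hl1]; exact hP.w)
  have hlP1 : lP ≫ pullback.fst pX r = a := sqF.lift_fst _ _ _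
  have hlP2 : lP ≫ F = m ≫ l := sqF.lift_snd _ _ _
  have sq2 : IsPullback lP m F l := by
    refine IsPullback.of_right ?_ hlP2 sqF
    rw [hlP1, hl1]
    exact hP
  exact sq2.isIso_snd_of_isIso

theorem surjective_of_generic {Y S : Scheme.{u}} (p : Y ⟶ S) [IsFinite p]
    (h : ∀ s : S, ringKrullDim (S.presheaf.stalk s) ≤ 1 → s ∈ Set.range p) :
    Function.Surjective p := by
  intro s
  have hcl : IsClosed (Set.range p) := p.isClosedMap.isClosed_range
  obtain ⟨R, j, _, y, rfl⟩ := S.exists_Spec_apply_eq s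
  haveI : y.asIdeal.IsPrime := y.isPrime
  obtain ⟨q, hq, hqy⟩ := Ideal.exists_minimalPrimes_le (bot_le : (⊥ : Ideal R) ≤ y.asIdeal)
  haveI : q.IsPrime := hq.1.1
  let η : Spec R := ⟨q, inferInstance⟩
  have hη : η ⤳ y := (PrimeSpectrum.le_iff_specializes η y).mp hqy
  have hjη : j η ⤳ j y := hη.map j.continuous
  have hdim : ringKrullDim (S.presheaf.stalk (j η)) ≤ 1 := by
    rw [ringKrullDim_stalk_eq_coheight, coheight_eq_of_isOpenImmersion,
      ← idealHeight_eq_coheight]
    have h0 : q.height = 0 := Ideal.height_eq_zero_iff.mpr (by simpa [minimalPrimes] using hq)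
    have : η.asIdeal.height = 0 := h0
    rw [this]
    exact zero_le_one
  exact hjη.mem_closed hcl (h _ hdim)

end Groth.Agent.Lib.Helper52.TorsMain
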