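import Mathlib

/-!
# Projectivity can be checked modulo two ideals with zero intersection

Helper library (helper52).  Main result: `projective_of_two_ideals`: if `I ⊓ J = ⊥` and
`R/I ⊗ P`, `R/J ⊗ P` are projective over `R/I`, `R/J` then `P` is projective over `R`.
The proof is elementary (no flatness / Mittag-Leffler dévissage).
-/

set_option autoImplicit false
open scoped TensorProduct

namespace Groth.Agent.Lib.Helper52.TwoIdeals

variable {R : Type*} [CommRing R]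

/-- Lifting property of a module `P` such that `R/I ⊗ P` is projective over `R/I`, against
surjections of `R`-modules killed by `I`. -/
lemma exists_lift_of_projective_mod (I : Ideal R) {P A B : Type*} [AddCommGroup P] [Module R P]
    [AddCommGroup A] [Module R A] [AddCommGroup B] [Module R B]
    (hP : Module.Projective (R ⧸ I) ((R ⧸ I) ⊗[R] P))
    (hA : ∀ a ∈ I, ∀ x : A, a • x = 0)
    (g : A →ₗ[R] B) (hg : Function.Surjective g) (f : P →ₗ[R] B) :
    ∃ h : P →ₗ[R] A, g ∘ₗ h = f := by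
  have hB : ∀ a ∈ I, ∀ y : B, a • y = 0 := by
    intro a ha y
    obtain ⟨x, rfl⟩ := hg y
    rw [← map_smul, hA a ha, map_zero]
  have tA : Module.IsTorsionBySet R A I := fun x a => hA a.1 a.2 x
  have tB : Module.IsTorsionBySet R B I := fun x a => hB a.1 a.2 x
  let _ : Module (R ⧸ I) A := tA.module
  let _ : Module (R ⧸ I) B := tB.module
  have : IsScalarTower R (R ⧸ I) A := tA.isScalarTower
  have : IsScalarTower R (R ⧸ I) B := tB.isScalarTower
  let g' : A →ₗ[R ⧸ I] B := g.extendScalarsOfSurjective Ideal.Quotient.mk_surjective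
  let f' : (R ⧸ I) ⊗[R] P →ₗ[R ⧸ I] B := LinearMap.liftBaseChange (R ⧸ I) f
  obtain ⟨h', hh'⟩ := Module.projective_lifting_property g' f' hg
  refine ⟨h'.restrictScalars R ∘ₗ TensorProduct.mk R (R ⧸ I) P 1, ?_⟩
  ext x
  have := LinearMap.congr_fun hh' ((1 : R ⧸ I) ⊗ₜ[R] x)
  simpa [g', f'] using this

lemma smul_quotient_eq_zero {M : Type*} [AddCommGroup M] [Module R M] (I : Ideal R)
    (N : Submodule R M) (h : I • (⊤ : Submodule R M) ≤ N) :
    ∀ a ∈ I, ∀ x : M ⧸ N, a • x = 0 := by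
  intro a ha x
  obtain ⟨m, rfl⟩ := Submodule.Quotient.mk_surjective N x
  rw [← Submodule.Quotient.mk_smul, Submodule.Quotient.mk_eq_zero]
  exact h (Submodule.smul_mem_smul ha Submodule.mem_top)

section sections
variable {F P : Type*} [AddCommGroup F] [Module R F] [AddCommGroup P] [Module R P]

/-- A section modulo `I` of a surjection onto a module projective modulo `I`. -/
lemma exists_section_mod (I : Ideal R) (hI : Module.Projective (R ⧸ I) ((R ⧸ I) ⊗[R] P))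
    (p : F →ₗ[R] P) (hp : Function.Surjective p) :
    ∃ σ : P →ₗ[R] F ⧸ (I • ⊤ : Submodule R F),
      ∀ x f, Submodule.Quotient.mk f = σ x → p f - x ∈ I • (⊤ : Submodule R P) := by
  let p₁ : F ⧸ (I • ⊤ : Submodule R F) →ₗ[R] P ⧸ (I • ⊤ : Submodule R P) :=
    Submodule.mapQ _ _ p (Submodule.smul_top_le_comap_smul_top I p)
  have hp₁ : Function.Surjective p₁ := by
    intro y
    obtain ⟨x, rfl⟩ := Submodule.Quotient.mk_surjective _ y
    obtain ⟨f, rfl⟩ := hp x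
    exact ⟨Submodule.Quotient.mk f, rfl⟩
  obtain ⟨σ, hσ⟩ := exists_lift_of_projective_mod I hI
    (smul_quotient_eq_zero I _ le_rfl) p₁ hp₁ (Submodule.mkQ _)
  refine ⟨σ, fun x f hf => ?_⟩
  have h1 := LinearMap.congr_fun hσ x
  rw [LinearMap.comp_apply, ← hf] at h1
  rw [← Submodule.Quotient.eq]
  exact h1

lemma exists_compatible_sections (I J : Ideal R)
    (hI : Module.Projective (R ⧸ I) ((R ⧸ I) ⊗[R] P))
    (hJ : Module.Projective (R ⧸ J) ((R ⧸ J) ⊗[R] P))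
    (p : F →ₗ[R] P) (hp : Function.Surjective p) :
    ∃ (σ₁ : P →ₗ[R] F ⧸ (I • ⊤ : Submodule R F)) (σ₂ : P →ₗ[R] F ⧸ (J • ⊤ : Submodule R F)),
      (∀ x f, Submodule.Quotient.mk f = σ₁ x → p f - x ∈ I • (⊤ : Submodule R P)) ∧
      (∀ x f, Submodule.Quotient.mk f = σ₂ x → p f - x ∈ J • (⊤ : Submodule R P)) ∧
      (∀ x f₁ f₂, Submodule.Quotient.mk f₁ = σ₁ x → Submodule.Quotient.mk f₂ = σ₂ x →
        f₁ - f₂ ∈ (I ⊔ J) • (⊤ : Submodule R F)) := by
  obtain ⟨σ₁, hσ₁⟩ := exists_section_mod I hI p hp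
  have hIle : (I • ⊤ : Submodule R F) ≤ (I ⊔ J) • ⊤ := Submodule.smul_mono le_sup_left le_rfl
  have hJle : (J • ⊤ : Submodule R F) ≤ (I ⊔ J) • ⊤ := Submodule.smul_mono le_sup_right le_rfl
  have hJle' : (J • ⊤ : Submodule R P) ≤ (I ⊔ J) • ⊤ := Submodule.smul_mono le_sup_right le_rfl
  have hIle' : (I • ⊤ : Submodule R P) ≤ (I ⊔ J) • ⊤ := Submodule.smul_mono le_sup_left le_rfl
  -- the maps
  let p₂ : F ⧸ (J • ⊤ : Submodule R F) →ₗ[R] P ⧸ (J • ⊤ : Submodule R P) :=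
    Submodule.mapQ _ _ p (Submodule.smul_top_le_comap_smul_top J p)
  let p₀ : F ⧸ ((I ⊔ J) • ⊤ : Submodule R F) →ₗ[R] P ⧸ ((I ⊔ J) • ⊤ : Submodule R P) :=
    Submodule.mapQ _ _ p (Submodule.smul_top_le_comap_smul_top (I ⊔ J) p)
  let q₁ : F ⧸ (I • ⊤ : Submodule R F) →ₗ[R] F ⧸ ((I ⊔ J) • ⊤ : Submodule R F) :=
    Submodule.factor hIle
  let q₂ : F ⧸ (J • ⊤ : Submodule R F) →ₗ[R] F ⧸ ((I ⊔ J) • ⊤ : Submodule R F) :=
    Submodule.factor hJle
  let r₂ : P ⧸ (J • ⊤ : Submodule R P) →ₗ[R] P ⧸ ((I ⊔ J) • ⊤ : Submodule R P) :=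
    Submodule.factor hJle'
  -- the fibre product
  let B : Submodule R ((P ⧸ (J • ⊤ : Submodule R P)) × (F ⧸ ((I ⊔ J) • ⊤ : Submodule R F))) :=
    LinearMap.ker (r₂ ∘ₗ LinearMap.fst R _ _ - p₀ ∘ₗ LinearMap.snd R _ _)
  have hB : ∀ z, z ∈ B ↔ r₂ z.1 = p₀ z.2 := by
    intro z
    simp only [B, LinearMap.mem_ker, LinearMap.sub_apply, LinearMap.comp_apply,
      LinearMap.fst_apply, LinearMap.snd_apply, sub_eq_zero]
  have hg0 : ∀ y, p₂.prod q₂ y ∈ B := by
    intro y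
    obtain ⟨f, rfl⟩ := Submodule.Quotient.mk_surjective _ y
    rw [hB]
    rfl
  let g : F ⧸ (J • ⊤ : Submodule R F) →ₗ[R] B := (p₂.prod q₂).codRestrict B hg0
  have hf0 : ∀ x, (Submodule.mkQ (J • ⊤ : Submodule R P)).prod (q₁ ∘ₗ σ₁) x ∈ B := by
    intro x
    rw [hB]
    obtain ⟨f, hf⟩ := Submodule.Quotient.mk_surjective _ (σ₁ x)
    have h1 := hσ₁ x f hf
    show r₂ (Submodule.Quotient.mk x) = p₀ (q₁ (σ₁ x))
    rw [← hf]
    show (Submodule.Quotient.mk x : P ⧸ ((I ⊔ J) • ⊤ : Submodule R P)) =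
      Submodule.Quotient.mk (p f)
    rw [eq_comm, Submodule.Quotient.eq]
    exact hIle' h1
  let f₀ : P →ₗ[R] B := ((Submodule.mkQ (J • ⊤ : Submodule R P)).prod (q₁ ∘ₗ σ₁)).codRestrict B hf0
  have hg : Function.Surjective g := by
    rintro ⟨⟨a, b⟩, hab⟩
    obtain ⟨x, rfl⟩ := Submodule.Quotient.mk_surjective _ a
    obtain ⟨f, rfl⟩ := Submodule.Quotient.mk_surjective _ b
    rw [hB] at hab
    have h1 : p f - x ∈ ((I ⊔ J) • ⊤ : Submodule R P) := by
      rw [← Submodule.Quotient.eq]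
      exact hab.symm
    have h2 : ((I ⊔ J) • ⊤ : Submodule R P) = Submodule.map p ((I ⊔ J) • ⊤) := by
      rw [Submodule.map_smul'', Submodule.map_top, LinearMap.range_eq_top.mpr hp]
    rw [h2] at h1
    obtain ⟨u, hu, hpu⟩ := h1
    refine ⟨Submodule.Quotient.mk (f - u), ?_⟩
    apply Subtype.ext
    apply Prod.ext
    · show Submodule.Quotient.mk (p (f - u)) = Submodule.Quotient.mk x
      rw [map_sub, hpu, sub_sub_cancel]
    · show Submodule.Quotient.mk (f - u) = Submodule.Quotient.mk f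
      rw [Submodule.Quotient.eq, sub_sub_cancel_left]
      exact Submodule.neg_mem _ hu
  obtain ⟨σ₂, hσ₂⟩ := exists_lift_of_projective_mod J hJ
    (smul_quotient_eq_zero J _ le_rfl) g hg f₀
  refine ⟨σ₁, σ₂, hσ₁, ?_, ?_⟩
  · intro x f hf
    have h1 : p₂ (σ₂ x) = Submodule.Quotient.mk x :=
      congrArg (fun z => z.1.1) (LinearMap.congr_fun hσ₂ x)
    rw [← hf] at h1
    rw [← Submodule.Quotient.eq]
    exact h1
  · intro x f₁ f₂ hf₁ hf₂
    have h1 : q₂ (σ₂ x) = q₁ (σ₁ x) :=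
      congrArg (fun z => z.1.2) (LinearMap.congr_fun hσ₂ x)
    rw [← hf₁, ← hf₂] at h1
    have h2 : (Submodule.Quotient.mk f₂ : F ⧸ ((I ⊔ J) • ⊤ : Submodule R F)) =
        Submodule.Quotient.mk f₁ := h1
    rw [← Submodule.Quotient.eq]
    exact h2.symm

end sections

section glue
variable {F P : Type*} [AddCommGroup F] [Module R F] [AddCommGroup P] [Module R P]

lemma smul_top_inf_smul_top_finsupp (ι : Type*) (I J : Ideal R) (hIJ : I ⊓ J = ⊥) :
    (I • ⊤ : Submodule R (ι →₀ R)) ⊓ J • ⊤ = ⊥ := by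
  have key : ∀ (K : Ideal R) (f : ι →₀ R), f ∈ (K • ⊤ : Submodule R (ι →₀ R)) → ∀ i, f i ∈ K := by
    intro K f hf i
    have h1 : Finsupp.lapply i f ∈ Submodule.map (Finsupp.lapply (R := R) (M := R) i)
        (K • ⊤ : Submodule R (ι →₀ R)) := ⟨f, hf, rfl⟩
    rw [Submodule.map_smul''] at h1
    have h2 := (Submodule.smul_mono (le_refl K) le_top :
      K • _ ≤ K • (⊤ : Submodule R R)) h1
    simpa using h2
  rw [eq_bot_iff]
  rintro f ⟨hf1, hf2⟩
  rw [Submodule.mem_bot]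
  ext i
  have : f i ∈ I ⊓ J := ⟨key I f hf1 i, key J f hf2 i⟩
  rw [hIJ] at this
  simpa using this

theorem exists_section_of_two_ideals (I J : Ideal R) (hIJ : I ⊓ J = ⊥)
    (hF : (I • ⊤ : Submodule R F) ⊓ J • ⊤ = ⊥)
    (hI : Module.Projective (R ⧸ I) ((R ⧸ I) ⊗[R] P))
    (hJ : Module.Projective (R ⧸ J) ((R ⧸ J) ⊗[R] P))
    (p : F →ₗ[R] P) (hp : Function.Surjective p) :
    ∃ s : P →ₗ[R] F, p ∘ₗ s = LinearMap.id := by
  obtain ⟨σ₁, σ₂, h1, h2, h3⟩ := exists_compatible_sections I J hI hJ p hp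
  let ι : F →ₗ[R] (F ⧸ (I • ⊤ : Submodule R F)) × (F ⧸ (J • ⊤ : Submodule R F)) :=
    (Submodule.mkQ _).prod (Submodule.mkQ _)
  have hι : Function.Injective ι := by
    rw [← LinearMap.ker_eq_bot, LinearMap.ker_prod, Submodule.ker_mkQ, Submodule.ker_mkQ, hF]
  have hrange : ∀ x, σ₁.prod σ₂ x ∈ LinearMap.range ι := by
    intro x
    obtain ⟨f₁, hf₁⟩ := Submodule.Quotient.mk_surjective _ (σ₁ x)
    obtain ⟨f₂, hf₂⟩ := Submodule.Quotient.mk_surjective _ (σ₂ x)
    have := h3 x f₁ f₂ hf₁ hf₂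
    rw [Submodule.sup_smul, Submodule.mem_sup] at this
    obtain ⟨u, hu, v, hv, huv⟩ := this
    refine ⟨f₁ - u, ?_⟩
    apply Prod.ext
    · show Submodule.Quotient.mk (f₁ - u) = σ₁ x
      rw [← hf₁, Submodule.Quotient.eq]
      have : f₁ - u - f₁ = -u := by abel
      rw [this]
      exact Submodule.neg_mem _ hu
    · show Submodule.Quotient.mk (f₁ - u) = σ₂ x
      rw [← hf₂, Submodule.Quotient.eq]
      have : f₁ - u - f₂ = v := by
        have : f₁ - u - f₂ = (f₁ - f₂) - u := by abel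
        rw [this, ← huv]
        abel
      rw [this]
      exact hv
  let s : P →ₗ[R] F := (LinearEquiv.ofInjective ι hι).symm.toLinearMap ∘ₗ
    (σ₁.prod σ₂).codRestrict _ hrange
  have hs : ∀ x, ι (s x) = (σ₁ x, σ₂ x) := by
    intro x
    have := (LinearEquiv.ofInjective ι hι).apply_symm_apply
      ((σ₁.prod σ₂).codRestrict _ hrange x)
    exact congrArg Subtype.val this
  have hs1 : ∀ x, Submodule.Quotient.mk (s x) = σ₁ x := fun x => congrArg Prod.fst (hs x)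
  have hs2 : ∀ x, Submodule.Quotient.mk (s x) = σ₂ x := fun x => congrArg Prod.snd (hs x)
  let ν : P →ₗ[R] P := p ∘ₗ s - LinearMap.id
  have hν1 : ∀ x, ν x ∈ I • (⊤ : Submodule R P) := fun x => h1 x (s x) (hs1 x)
  have hν2 : ∀ x, ν x ∈ J • (⊤ : Submodule R P) := fun x => h2 x (s x) (hs2 x)
  have hνν : ∀ x, ν (ν x) = 0 := by
    intro x
    have h0 : ν (ν x) ∈ Submodule.map ν (I • (⊤ : Submodule R P)) := ⟨ν x, hν1 x, rfl⟩
    rw [Submodule.map_smul''] at h0
    have h4 : Submodule.map ν ⊤ ≤ J • (⊤ : Submodule R P) := by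
      rintro _ ⟨y, -, rfl⟩
      exact hν2 y
    have h5 := Submodule.smul_mono (le_refl I) h4 h0
    rw [← Submodule.mul_smul] at h5
    have h6 : I * J = ⊥ := by
      rw [eq_bot_iff, ← hIJ]
      exact Ideal.mul_le_inf
    rw [h6, Submodule.bot_smul] at h5
    exact (Submodule.mem_bot R).mp h5
  refine ⟨s ∘ₗ (LinearMap.id - ν), ?_⟩
  ext x
  have h7 : ∀ y, p (s y) = y + ν y := fun y => by simp [ν]
  simp only [LinearMap.comp_apply, LinearMap.sub_apply, LinearMap.id_apply, h7, map_sub, hνν]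
  abel

/-- **Projectivity modulo two ideals with zero intersection.** -/
theorem projective_of_two_ideals (I J : Ideal R) (hIJ : I ⊓ J = ⊥)
    (hI : Module.Projective (R ⧸ I) ((R ⧸ I) ⊗[R] P))
    (hJ : Module.Projective (R ⧸ J) ((R ⧸ J) ⊗[R] P)) : Module.Projective R P := by
  obtain ⟨s, hs⟩ := exists_section_of_two_ideals (F := P →₀ R) I J hIJ
    (smul_top_inf_smul_top_finsupp P I J hIJ) hI hJ (Finsupp.linearCombination R id)
    (Finsupp.linearCombination_id_surjective R P)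
  exact Module.Projective.of_split s (Finsupp.linearCombination R id) hs

end glue

end Groth.Agent.Lib.Helper52.TwoIdeals
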