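import Groth.Agent.Lib.Helper52.LengthRestrict
import Groth.Agent.Lib.Helper76.RegularLocal
import Mathlib.RingTheory.Ideal.KrullsHeightTheorem
import Mathlib.RingTheory.Filtration
import Mathlib.RingTheory.RegularLocalRing.Defs

/-!
# Group actions on local rings with a fixed field of representatives: basics

* `smul_sub_mem`: a group acting on a local ring `A` and fixing a field of representatives acts
  trivially on the residue field.
* `exists_sub_mem_pow`: polynomials in generators of the maximal ideal are dense.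
* `smul_sub_mem_of_gens`: `σ a - a` lies in the ideal generated by the `σ t - t`, `t` running over
  generators of the maximal ideal.
* `eq_one_of_fixed_param`: if all inertia groups of non-maximal primes are trivial, then no
  nontrivial group element fixes an element of `m ∖ m²`.
-/

set_option autoImplicit false

namespace Groth.Agent.Lib.Helper52.WQ

open IsLocalRing

section Basic

variable {A : Type*} [CommRing A] [IsLocalRing A] {G : Type*} [Group G] [MulSemiringAction G A]

lemma smul_mem_maximalIdeal (σ : G) {a : A} (ha : a ∈ maximalIdeal A) :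
    σ • a ∈ maximalIdeal A := by
  rw [mem_maximalIdeal, mem_nonunits_iff] at ha ⊢
  intro hu
  apply ha
  have := hu.map (MulSemiringAction.toRingHom G A σ⁻¹)
  simpa using this

lemma smul_mem_pow (σ : G) (N : ℕ) {a : A} (ha : a ∈ maximalIdeal A ^ N) :
    σ • a ∈ maximalIdeal A ^ N := by
  have h1 : (maximalIdeal A).map (MulSemiringAction.toRingHom G A σ) ≤ maximalIdeal A := by
    rw [Ideal.map_le_iff_le_comap]
    intro x hx
    exact smul_mem_maximalIdeal σ hx
  have h2 := Ideal.mem_map_of_mem (MulSemiringAction.toRingHom G A σ) ha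
  rw [Ideal.map_pow] at h2
  exact Ideal.pow_right_mono h1 N h2

variable {k : Type*} [Field k] [Algebra k A]

lemma smul_sub_mem (hk : Function.Surjective (residue A ∘ algebraMap k A))
    (hGk : ∀ (σ : G) (c : k), σ • algebraMap k A c = algebraMap k A c) (σ : G) (a : A) :
    σ • a - a ∈ maximalIdeal A := by
  obtain ⟨c, hc⟩ := LengthRestrict.exists_sub_mem (R := k) (A := A) hk a
  have h1 : σ • a - a = σ • (a - algebraMap k A c) - (a - algebraMap k A c) := by
    rw [smul_sub, hGk]; ring
  rw [h1]
  exact Ideal.sub_mem _ (smul_mem_maximalIdeal σ hc) hc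

/-- The subring of elements moved by `σ` only inside the ideal `J`. -/
def fixSubring (σ : G) (J : Ideal A) : Subring A where
  carrier := {a | σ • a - a ∈ J}
  mul_mem' := by
    intro a b ha hb
    have : σ • (a * b) - a * b = σ • a * (σ • b - b) + (σ • a - a) * b := by
      rw [smul_mul']; ring
    show σ • (a * b) - a * b ∈ J
    rw [this]
    exact J.add_mem (J.mul_mem_left _ hb) (J.mul_mem_right _ ha)
  one_mem' := by
    show σ • (1 : A) - 1 ∈ J
    rw [smul_one, sub_self]; exact J.zero_mem
  add_mem' := by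
    intro a b ha hb
    have : σ • (a + b) - (a + b) = (σ • a - a) + (σ • b - b) := by
      rw [smul_add]; ring
    show σ • (a + b) - (a + b) ∈ J
    rw [this]
    exact J.add_mem ha hb
  zero_mem' := by
    show σ • (0 : A) - 0 ∈ J
    rw [smul_zero, sub_self]; exact J.zero_mem
  neg_mem' := by
    intro a ha
    have : σ • (-a) - (-a) = -(σ • a - a) := by
      rw [smul_neg]; ring
    show σ • (-a) - (-a) ∈ J
    rw [this]
    exact J.neg_mem ha

lemma mem_fixSubring {σ : G} {J : Ideal A} {a : A} : a ∈ fixSubring σ J ↔ σ • a - a ∈ J := Iff.rfl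

section Density

variable (hk : Function.Surjective (residue A ∘ algebraMap k A)) {X : Set A}
  (hX : Ideal.span X = maximalIdeal A) (S : Subring A)
  (hSk : ∀ c : k, algebraMap k A c ∈ S) (hSX : X ⊆ S)

include hk hX hSk hSX

lemma exists_approx_maximal {w : A} (hw : w ∈ maximalIdeal A) :
    ∃ s ∈ S, s ∈ maximalIdeal A ∧ w - s ∈ maximalIdeal A ^ 2 := by
  rw [← hX] at hw
  induction hw using Submodule.span_induction with
  | mem x hx =>
    refine ⟨x, hSX hx, ?_, by rw [sub_self]; exact Ideal.zero_mem _⟩
    rw [← hX]; exact Ideal.subset_span hx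
  | zero => exact ⟨0, S.zero_mem, Ideal.zero_mem _, by rw [sub_self]; exact Ideal.zero_mem _⟩
  | add x y _ _ hx hy =>
    obtain ⟨s, hs, hsm, hxs⟩ := hx
    obtain ⟨t, ht, htm, hyt⟩ := hy
    refine ⟨s + t, S.add_mem hs ht, Ideal.add_mem _ hsm htm, ?_⟩
    have : x + y - (s + t) = (x - s) + (y - t) := by ring
    rw [this]
    exact Ideal.add_mem _ hxs hyt
  | smul a x hx' hx =>
    obtain ⟨s, hs, hsm, hxs⟩ := hx
    obtain ⟨c, hc⟩ := LengthRestrict.exists_sub_mem (R := k) (A := A) hk a
    have hxm : x ∈ maximalIdeal A := by rw [← hX]; exact hx'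
    refine ⟨algebraMap k A c * s, S.mul_mem (hSk c) hs, Ideal.mul_mem_left _ _ hsm, ?_⟩
    have : a • x - algebraMap k A c * s =
        algebraMap k A c * (x - s) + (a - algebraMap k A c) * x := by
      rw [smul_eq_mul]; ring
    rw [this]
    refine Ideal.add_mem _ (Ideal.mul_mem_left _ _ hxs) ?_
    rw [pow_two]
    exact Ideal.mul_mem_mul hc hxm

lemma exists_approx_pow (N : ℕ) : ∀ t ∈ maximalIdeal A ^ N,
    ∃ s ∈ S, t - s ∈ maximalIdeal A ^ (N + 1) := by
  induction N with
  | zero =>
    intro t _
    obtain ⟨c, hc⟩ := LengthRestrict.exists_sub_mem (R := k) (A := A) hk t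
    exact ⟨algebraMap k A c, hSk c, by simpa using hc⟩
  | succ N ih =>
    intro t ht
    rw [pow_succ] at ht
    refine Submodule.smul_induction_on ht ?_ ?_
    · intro u hu w hw
      obtain ⟨su, hsu, hu'⟩ := ih u hu
      obtain ⟨sw, hsw, hswm, hw'⟩ := exists_approx_maximal hk hX S hSk hSX hw
      have hsuN : su ∈ maximalIdeal A ^ N := by
        have h1 : u - su ∈ maximalIdeal A ^ N := Ideal.pow_le_pow_right (Nat.le_succ N) hu'
        have : su = u - (u - su) := by ring
        rw [this]
        exact Ideal.sub_mem _ hu h1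
      refine ⟨su * sw, S.mul_mem hsu hsw, ?_⟩
      have : u • w - su * sw = (u - su) * w + su * (w - sw) := by
        rw [smul_eq_mul]; ring
      rw [this]
      refine Ideal.add_mem _ ?_ ?_
      · rw [pow_succ (maximalIdeal A) (N + 1)]
        exact Ideal.mul_mem_mul hu' hw
      · have : maximalIdeal A ^ (N + 1 + 1) = maximalIdeal A ^ N * maximalIdeal A ^ 2 := by
          rw [← pow_add]
        rw [this]
        exact Ideal.mul_mem_mul hsuN hw'
    · intro x y hx hy
      obtain ⟨s, hs, hxs⟩ := hx
      obtain ⟨t', ht', hyt⟩ := hy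
      refine ⟨s + t', S.add_mem hs ht', ?_⟩
      have : x + y - (s + t') = (x - s) + (y - t') := by ring
      rw [this]
      exact Ideal.add_mem _ hxs hyt

/-- Density of the subring generated by the coefficient field and generators of `m`. -/
lemma exists_sub_mem_pow (N : ℕ) (a : A) : ∃ s ∈ S, a - s ∈ maximalIdeal A ^ N := by
  induction N with
  | zero => exact ⟨0, S.zero_mem, by simp⟩
  | succ N ih =>
    obtain ⟨s, hs, has⟩ := ih
    obtain ⟨s', hs', h'⟩ := exists_approx_pow hk hX S hSk hSX N (a - s) has
    refine ⟨s + s', S.add_mem hs hs', ?_⟩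
    have : a - (s + s') = a - s - s' := by ring
    rw [this]
    exact h'

end Density

/-- Ideals of a Noetherian local ring are closed. -/
lemma mem_of_forall_mem_sup_pow [IsNoetherianRing A] (J : Ideal A) (hJ : J ≤ maximalIdeal A)
    {a : A} (h : ∀ N : ℕ, a ∈ J ⊔ maximalIdeal A ^ N) : a ∈ J := by
  have hne : J ≠ ⊤ := fun h' => (maximalIdeal.isMaximal A).ne_top (top_le_iff.mp (h' ▸ hJ))
  haveI : Nontrivial (A ⧸ J) := Ideal.Quotient.nontrivial_iff.mpr hne
  haveI : IsLocalRing (A ⧸ J) :=
    IsLocalRing.of_surjective' (Ideal.Quotient.mk J) Ideal.Quotient.mk_surjective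
  have hI : (maximalIdeal A).map (Ideal.Quotient.mk J) ≠ ⊤ := by
    intro htop
    have h1 := Ideal.comap_map_of_surjective (Ideal.Quotient.mk J) Ideal.Quotient.mk_surjective
      (maximalIdeal A)
    rw [htop, Ideal.comap_top, ← RingHom.ker_eq_comap_bot, Ideal.mk_ker, sup_eq_left.mpr hJ] at h1
    exact (maximalIdeal.isMaximal A).ne_top h1.symm
  have hbot := Ideal.iInf_pow_eq_bot_of_isLocalRing ((maximalIdeal A).map (Ideal.Quotient.mk J)) hI
  rw [← Ideal.Quotient.eq_zero_iff_mem, ← Ideal.mem_bot, ← hbot, Ideal.mem_iInf]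
  intro N
  obtain ⟨j, hj, t, ht, rfl⟩ := Submodule.mem_sup.mp (h N)
  rw [map_add, Ideal.Quotient.eq_zero_iff_mem.mpr hj, zero_add, ← Ideal.map_pow]
  exact Ideal.mem_map_of_mem _ ht

variable [IsNoetherianRing A]

/-- `σ a - a` lies in the ideal generated by the `σ t - t` for `t` in a generating set of `m`. -/
theorem smul_sub_mem_of_gens (hk : Function.Surjective (residue A ∘ algebraMap k A))
    (hGk : ∀ (σ : G) (c : k), σ • algebraMap k A c = algebraMap k A c)
    {X : Set A} (hX : Ideal.span X = maximalIdeal A) (σ : G) (a : A) :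
    σ • a - a ∈ Ideal.span ((fun t => σ • t - t) '' X) := by
  set J := Ideal.span ((fun t => σ • t - t) '' X) with hJdef
  have hJ : J ≤ maximalIdeal A := by
    rw [hJdef, Ideal.span_le]
    rintro _ ⟨t, -, rfl⟩
    exact smul_sub_mem hk hGk σ t
  apply mem_of_forall_mem_sup_pow J hJ
  intro N
  obtain ⟨s, hs, has⟩ := exists_sub_mem_pow hk hX (fixSubring σ J)
    (fun c => by rw [mem_fixSubring, hGk, sub_self]; exact J.zero_mem)
    (fun t ht => by rw [SetLike.mem_coe, mem_fixSubring]; exact Ideal.subset_span ⟨t, ht, rfl⟩) N a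
  have : σ • a - a = (σ • s - s) + (σ • (a - s) - (a - s)) := by
    rw [smul_sub]; ring
  rw [this]
  exact Submodule.add_mem_sup hs (Ideal.sub_mem _ (smul_mem_pow σ N has) has)

end Basic

section Param

variable {A : Type*} [CommRing A] [IsRegularLocalRing A] {G : Type*} [Group G]
  [MulSemiringAction G A] {k : Type*} [Field k] [Algebra k A]

/-- If inertia groups of non-maximal primes are trivial, then an element of `G` fixing a
regular parameter is trivial. -/
theorem eq_one_of_fixed_param (hk : Function.Surjective (residue A ∘ algebraMap k A))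
    (hGk : ∀ (σ : G) (c : k), σ • algebraMap k A c = algebraMap k A c)
    (hram : ∀ P : Ideal A, P.IsPrime → P ≠ maximalIdeal A → P.inertia G = ⊥)
    {v : A} (hv : v ∈ maximalIdeal A) (hv2 : v ∉ maximalIdeal A ^ 2) {σ : G} (hσ : σ • v = v) :
    σ = 1 := by
  classical
  obtain ⟨T, hT1, -, hT3⟩ :=
    Groth.Agent.Lib.Helper76.exists_finset_span_insert_eq_maximalIdeal A v hv hv2
  have hmem : ∀ a : A, σ • a - a ∈ Ideal.span ((fun t => σ • t - t) '' (insert v (T : Set A))) :=
    smul_sub_mem_of_gens hk hGk hT3 σ
  set J := Ideal.span ((T.image (fun t => σ • t - t) : Finset A) : Set A) with hJdef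
  have hJeq : Ideal.span ((fun t => σ • t - t) '' (insert v (T : Set A))) = J := by
    rw [hJdef, Set.image_insert_eq, hσ, sub_self, Finset.coe_image]
    apply le_antisymm
    · rw [Ideal.span_le]
      rintro x (rfl | hx)
      · exact Ideal.zero_mem _
      · exact Ideal.subset_span hx
    · exact Ideal.span_mono (Set.subset_insert _ _)
  have hJle : J ≤ maximalIdeal A := by
    rw [← hJeq, Ideal.span_le]
    rintro _ ⟨t, -, rfl⟩
    exact smul_sub_mem hk hGk σ t
  have hJne : J ≠ ⊤ := fun h' => (maximalIdeal.isMaximal A).ne_top (top_le_iff.mp (h' ▸ hJle))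
  obtain ⟨P, hP⟩ := Ideal.nonempty_minimalPrimes hJne
  have hPprime : P.IsPrime := hP.1.1
  have hht : P.height ≤ (T.image (fun t => σ • t - t)).card :=
    Ideal.height_le_card_of_mem_minimalPrimes_span_finset hP
  have hPne : P ≠ maximalIdeal A := by
    intro hPm
    have h1 : ((maximalIdeal A).height : WithBot ℕ∞) = ringKrullDim A :=
      IsLocalRing.maximalIdeal_height_eq_ringKrullDim
    have h2 : ((maximalIdeal A).spanFinrank : WithBot ℕ∞) = ringKrullDim A :=
      (isRegularLocalRing_iff A).mp inferInstance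
    rw [← h2] at h1
    have h3 : (maximalIdeal A).height = ((maximalIdeal A).spanFinrank : ℕ∞) := by
      exact_mod_cast h1
    rw [hPm, h3] at hht
    have h4 : (maximalIdeal A).spanFinrank ≤ (T.image (fun t => σ • t - t)).card := by
      exact_mod_cast hht
    have h5 := Finset.card_image_le (s := T) (f := fun t => σ • t - t)
    omega
  have hin := hram P hPprime hPne
  have hσin : σ ∈ P.inertia G := by
    intro a
    exact hP.1.2 (hJeq ▸ hmem a)
  rw [hin] at hσin
  exact Subgroup.mem_bot.mp hσin

end Param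

end Groth.Agent.Lib.Helper52.WQ
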