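import Groth.Agent.Lib.Helper52.RegFinFree
import Groth.Agent.Lib.Helper52.WQProd3
import Groth.Agent.Lib.Helper64.NormalS2
import Groth.Agent.Lib.Helper67.Depth

/-!
# Purity in dimension two for Galois covers of a regular local ring with the same residue field
-/

set_option autoImplicit false
universe u v w

namespace Groth.Agent.Lib.Helper52.WQ

open IsLocalRing

section Free

/-- A normal Noetherian local domain of dimension two is Cohen–Macaulay. -/
theorem isCM_of_normal_dim_two (A : Type u) [CommRing A] [IsDomain A] [IsNoetherianRing A]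
    [IsLocalRing A] [IsIntegrallyClosed A] (hdim : ringKrullDim A = 2) :
    LocCoh.IsCohenMacaulayLocalRing A := by
  refine ⟨?_⟩
  have h1 : 2 ≤ LocCoh.depth A A :=
    Groth.Agent.Lib.Helper64.NormalS2.two_le_depth_of_normal A (by rw [hdim]; decide)
  have h2 := Groth.Agent.Lib.Helper67.depth_le_supportDim (R := A) A
  rw [Module.supportDim_self_eq_ringKrullDim, hdim] at h2 ⊢
  have h3 : LocCoh.depth A A ≤ 2 := by
    have : ((LocCoh.depth A A : ℕ∞) : WithBot ℕ∞) ≤ ((2 : ℕ∞) : WithBot ℕ∞) := h2
    exact WithBot.coe_le_coe.mp this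
  rw [le_antisymm h3 h1]
  rfl

attribute [local instance] ULift.algebra' in
/-- A normal local domain of dimension two, finite over a regular local ring, is free. -/
theorem free_of_normal_dim_two (R : Type u) (A : Type v) [CommRing R] [IsRegularLocalRing R]
    [CommRing A] [IsDomain A] [IsLocalRing A] [IsIntegrallyClosed A] [Algebra R A]
    [Module.Finite R A] (hinj : Function.Injective (algebraMap R A))
    (hdim : ringKrullDim A = 2) : Module.Free R A := by
  haveI : IsLocalHom (algebraMap R A) := RegFinFree.isLocalHom_of_finite hinj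
  have hd : ringKrullDim A = ringKrullDim R :=
    Groth.Agent.Lib.Helper73.ringKrullDim_eq_of_isIntegral_of_injective hinj
  haveI : IsNoetherianRing A := IsNoetherianRing.of_finite R A
  let eR : ULift.{v} R ≃+* R := ULift.ringEquiv
  let eA : ULift.{u} A ≃+* A := ULift.ringEquiv
  haveI : IsRegularLocalRing (ULift.{v} R) := IsRegularLocalRing.of_ringEquiv eR.symm
  haveI : IsDomain (ULift.{u} A) := eA.toMulEquiv.isDomain
  haveI : IsLocalRing (ULift.{u} A) := eA.symm.isLocalRing
  haveI : IsNoetherianRing (ULift.{u} A) := isNoetherianRing_of_ringEquiv A eA.symm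
  haveI : IsIntegrallyClosed (ULift.{u} A) := IsIntegrallyClosed.of_equiv eA.symm
  haveI : LocCoh.IsCohenMacaulayLocalRing (ULift.{u} A) :=
    isCM_of_normal_dim_two _ (by rw [ringKrullDim_eq_of_ringEquiv eA, hdim])
  have hf' : ∀ r : ULift.{v} R, algebraMap (ULift.{v} R) (ULift.{u} A) r =
      eA.symm (algebraMap R A (eR r)) := fun r => rfl
  haveI : Module.Finite (ULift.{v} R) (ULift.{u} A) := by
    refine Module.Finite.of_equiv_equiv eR.symm eA.symm ?_
    ext r
    simp only [RingHom.comp_apply, RingHom.coe_coe, hf', RingEquiv.apply_symm_apply]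
  haveI : IsLocalHom (algebraMap (ULift.{v} R) (ULift.{u} A)) := by
    constructor
    intro r hr
    rw [hf'] at hr
    have h1 : IsUnit (algebraMap R A (eR r)) := by
      have := hr.map eA
      rwa [RingEquiv.apply_symm_apply] at this
    have h2 : IsUnit (eR r) := isUnit_of_map_unit (algebraMap R A) _ h1
    have := h2.map eR.symm
    rwa [RingEquiv.symm_apply_apply] at this
  have hd' : ringKrullDim (ULift.{u} A) = ringKrullDim (ULift.{v} R) := by
    rw [ringKrullDim_eq_of_ringEquiv eA, ringKrullDim_eq_of_ringEquiv eR, hd]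
  have hfree : Module.Free (ULift.{v} R) (ULift.{u} A) := by
    have hdim' : ringKrullDim (ULift.{u} A) = ringKrullDim (ULift.{v} R) +
        ringKrullDim (ULift.{u} A ⧸ (IsLocalRing.maximalIdeal (ULift.{v} R)).map
          (algebraMap (ULift.{v} R) (ULift.{u} A))) := by
      rw [RegFinFree.ringKrullDim_fibre_eq_zero, add_zero]
      exact hd'
    haveI : Module.Flat (ULift.{v} R) (ULift.{u} A) :=
      Groth.Agent.Lib.Helper77.MiracleFlat.miracle_flatness hdim'
    exact Module.free_of_flat_of_isLocalRing
  letI : RingHomInvPair (eR : ULift.{v} R →+* R) (eR.symm : R →+* ULift.{v} R) :=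
    RingHomInvPair.of_ringEquiv eR
  letI : RingHomInvPair (eR.symm : R →+* ULift.{v} R) (eR : ULift.{v} R →+* R) :=
    RingHomInvPair.of_ringEquiv_symm eR
  let e₂ : ULift.{u} A ≃ₛₗ[(eR : ULift.{v} R →+* R)] A :=
    { eA.toAddEquiv with
      map_smul' := by
        intro r a
        change eA (r • a) = eR r • eA a
        rw [Algebra.smul_def, Algebra.smul_def, map_mul, hf', RingEquiv.apply_symm_apply] }
  exact Module.Free.of_equiv e₂

end Free

section Det

variable {R : Type u} [CommRing R] {A : Type v} [CommRing A] [IsLocalRing A] [Algebra R A]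
  {G : Type w} [Group G] [Fintype G] [DecidableEq G] [MulSemiringAction G A]
  [SMulCommClass G R A]
  (hram : ∀ P : Ideal A, P.IsPrime → P ≠ maximalIdeal A → P.inertia G = ⊥)
  {ι : Type*} [Fintype ι] (b : Module.Basis ι R A) (e : ι ≃ G)

include hram in
/-- Dedekind independence over a base ring on which the group acts trivially. -/
theorem det_notMem' (P : Ideal A) [P.IsPrime] (hP : P ≠ maximalIdeal A) :
    (Matrix.of fun (σ τ : G) => σ • b (e.symm τ)).det ∉ P := by
  classical
  intro hdet
  set M : Matrix G G A := Matrix.of fun (σ τ : G) => σ • b (e.symm τ) with hM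
  let q := Ideal.Quotient.mk P
  have hdet' : (M.map q).det = 0 := by
    have := RingHom.map_det q M
    rw [RingHom.mapMatrix_apply] at this
    rw [← this]
    exact Ideal.Quotient.eq_zero_iff_mem.mpr hdet
  obtain ⟨v, hv0, hv⟩ := Matrix.exists_vecMul_eq_zero_iff.mpr hdet'
  let χ : G → (A →* (A ⧸ P)) := fun σ => (q.comp (MulSemiringAction.toRingHom G A σ) : A →* (A ⧸ P))
  have hχ : ∀ σ a, χ σ a = q (σ • a) := fun σ a => rfl
  have hχinj : Function.Injective χ := by
    intro σ τ hστ
    have h1 : τ⁻¹ * σ ∈ (P.comap (MulSemiringAction.toRingHom G A τ)).inertia G := by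
      intro a
      change (τ⁻¹ * σ) • a - a ∈ P.comap (MulSemiringAction.toRingHom G A τ)
      rw [Ideal.mem_comap, MulSemiringAction.toRingHom_apply, smul_sub, mul_smul,
        smul_inv_smul, ← Ideal.Quotient.mk_eq_mk_iff_sub_mem]
      have := DFunLike.congr_fun hστ a
      rwa [hχ, hχ] at this
    haveI : (P.comap (MulSemiringAction.toRingHom G A τ)).IsPrime := Ideal.comap_isPrime _ _
    rw [hram _ inferInstance (comap_smul_ne τ hP), Subgroup.mem_bot] at h1
    exact (inv_mul_eq_one.mp h1).symm
  have hli : LinearIndependent (A ⧸ P) (fun σ : G => (χ σ : A → A ⧸ P)) :=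
    (linearIndependent_monoidHom A (A ⧸ P)).comp χ hχinj
  rw [Fintype.linearIndependent_iff] at hli
  apply hv0
  funext σ
  refine hli v ?_ σ
  funext a
  simp only [Finset.sum_apply, Pi.smul_apply, smul_eq_mul, Pi.zero_apply, hχ]
  have ha : ∀ σ : G, σ • a = ∑ j, algebraMap R A (b.repr a j) * σ • b j := by
    intro σ
    conv_lhs => rw [← b.sum_repr a]
    rw [Finset.smul_sum]
    refine Finset.sum_congr rfl fun j _ => ?_
    rw [smul_comm, Algebra.smul_def]
  have hvτ : ∀ j : ι, ∑ σ, v σ * q (σ • b j) = 0 := by
    intro j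
    have := congrFun hv (e j)
    simp only [Matrix.vecMul, dotProduct, Matrix.map_apply, hM, Matrix.of_apply,
      Equiv.symm_apply_apply, Pi.zero_apply] at this
    exact this
  calc ∑ σ, v σ * q (σ • a)
      = ∑ σ, ∑ j, q (algebraMap R A (b.repr a j)) * (v σ * q (σ • b j)) := by
        refine Finset.sum_congr rfl fun σ _ => ?_
        rw [ha σ, map_sum, Finset.mul_sum]
        refine Finset.sum_congr rfl fun j _ => ?_
        rw [map_mul]; ring
    _ = ∑ j, q (algebraMap R A (b.repr a j)) * ∑ σ, v σ * q (σ • b j) := by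
        rw [Finset.sum_comm]
        refine Finset.sum_congr rfl fun j _ => ?_
        rw [Finset.mul_sum]
    _ = 0 := by
        refine Finset.sum_eq_zero fun j _ => ?_
        rw [hvτ j, mul_zero]

end Det

section Purity

lemma ne_maximalIdeal_of_height_le_one' {A : Type*} [CommRing A] [IsLocalRing A]
    (hdim : 2 ≤ ringKrullDim A) {P : Ideal A} (hP : P.height ≤ 1) : P ≠ maximalIdeal A := by
  intro h
  have h1 : ((maximalIdeal A).height : WithBot ℕ∞) = ringKrullDim A :=
    IsLocalRing.maximalIdeal_height_eq_ringKrullDim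
  rw [← h1, ← h] at hdim
  have h2 : (2 : ℕ∞) ≤ P.height := by
    have : ((2 : ℕ∞) : WithBot ℕ∞) ≤ (P.height : WithBot ℕ∞) := hdim
    exact WithBot.coe_le_coe.mp this
  have h3 : (2 : ℕ∞) ≤ 1 := h2.trans hP
  exact absurd h3 (by decide)

/-- Purity in dimension two for a Galois cover with the same residue field: if all inertia groups
of non-maximal primes are trivial then the group is trivial. -/
theorem subsingleton_of_dim_two (R : Type u) [CommRing R] [IsRegularLocalRing R]
    (A : Type v) [CommRing A] [IsDomain A] [IsIntegrallyClosed A] [IsLocalRing A]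
    [Algebra R A] [Module.Finite R A] (hinj : Function.Injective (algebraMap R A))
    (hres : Function.Surjective (IsLocalRing.residue A ∘ algebraMap R A))
    (G : Type w) [Group G] [Finite G] [MulSemiringAction G A] [SMulCommClass G R A]
    [FaithfulSMul G A]
    (hfix : ∀ a : A, (∀ h : G, h • a = a) → a ∈ Set.range (algebraMap R A))
    (hdim : ringKrullDim A = 2)
    (hram : ∀ P : Ideal A, P.IsPrime → P ≠ maximalIdeal A → P.inertia G = ⊥) :
    Subsingleton G := by
  classical
  by_contra hns
  rw [not_subsingleton_iff_nontrivial] at hns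
  haveI : Fintype G := Fintype.ofFinite G
  haveI : Algebra.IsInvariant R A G := ⟨fun a ha => hfix a ha⟩
  haveI : IsNoetherianRing A := IsNoetherianRing.of_finite R A
  haveI : Module.Free R A := free_of_normal_dim_two R A hinj hdim
  have hrank : Module.finrank R A = Nat.card G := finrank_eq_card hinj
  let b := Module.finBasis R A
  let e : Fin (Module.finrank R A) ≃ G :=
    Fintype.equivOfCardEq (by rw [Fintype.card_fin, hrank, Nat.card_eq_fintype_card])
  set D := (Matrix.of fun (σ τ : G) => σ • b (e.symm τ)).det with hD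
  have h2 : (2 : WithBot ℕ∞) ≤ ringKrullDim A := by rw [hdim]
  have hDm : D ∈ maximalIdeal A := by
    obtain ⟨σ₁, σ₂, h12⟩ := exists_pair_ne G
    rw [← residue_eq_zero_iff, hD, RingHom.map_det]
    apply Matrix.det_zero_of_row_eq h12
    funext τ
    simp only [RingHom.mapMatrix_apply, Matrix.map_apply, Matrix.of_apply]
    have h1 : ∀ (σ : G) (x : A), residue A (σ • x) = residue A x := by
      intro σ x
      obtain ⟨r, hr⟩ := hres (residue A x)
      have hy : x - algebraMap R A r ∈ maximalIdeal A := by
        rw [← residue_eq_zero_iff, map_sub, sub_eq_zero]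
        exact hr.symm
      have hσr : σ • algebraMap R A r = algebraMap R A r := by
        rw [Algebra.algebraMap_eq_smul_one, smul_comm, smul_one]
      have h3 : σ • x - x = σ • (x - algebraMap R A r) - (x - algebraMap R A r) := by
        rw [smul_sub, hσr]; ring
      rw [← sub_eq_zero, ← map_sub, residue_eq_zero_iff, h3]
      exact Ideal.sub_mem _ (smul_mem_maximalIdeal σ hy) hy
    rw [h1, h1]
  have hspan : Ideal.span {D} ≠ ⊤ := by
    rw [Ne, Ideal.span_singleton_eq_top]
    exact hDm
  obtain ⟨P, hP⟩ := Ideal.nonempty_minimalPrimes hspan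
  haveI : P.IsPrime := hP.1.1
  have hht : P.height ≤ 1 :=
    Ideal.height_le_one_of_isPrincipal_of_mem_minimalPrimes _ P hP
  exact det_notMem' hram b e P (ne_maximalIdeal_of_height_le_one' h2 hht)
    (hP.1.2 (Ideal.mem_span_singleton_self D))

end Purity

end Groth.Agent.Lib.Helper52.WQ
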