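import Groth.Agent.Lib.Helper52.WQBasic
import Groth.Agent.Lib.Helper47.AdicFinite
import Groth.Agent.Lib.Helper61.MvPSComplete
import Groth.Agent.Lib.Helper76.PowEval
import Mathlib.RingTheory.Invariant.Basic
import Mathlib.RingTheory.HopkinsLevitzki

/-!
# Finiteness over power series rings and over rings of invariants

Let `A` be a complete Noetherian local ring with a field of representatives `k`.

* `finite_of_eval`: if `y₁, …, y_N ∈ m` generate an `m`-primary ideal then `A` is a finite module
  over `k[[Y₁, …, Y_N]]` via `Y_l ↦ y_l`.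
* `exists_finite_invariant`: if a finite group `G` acts on `A` fixing `k`, there is such a map with
  image in the ring of invariants `A^G`.
* Consequently `A^G` is Noetherian and `A` is a finite `A^G`-module.
-/

set_option autoImplicit false
universe u v w

namespace Groth.Agent.Lib.Helper52.WQ

open IsLocalRing

/-- Let `R` be complete with respect to an ideal `I` and `M` an `R`-module which is `I`-adically
separated and such that `M/IM` is finitely generated. Then `M` is finitely generated. -/
theorem finite_of_quotient_finite (R : Type*) [CommRing R]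
    (I : Ideal R) [IsAdicComplete I R] (M : Type*) [AddCommGroup M] [Module R M] [IsHausdorff I M]
    (h : Module.Finite R (M ⧸ (I • ⊤ : Submodule R M))) : Module.Finite R M := by
  classical
  obtain ⟨n, s, hs⟩ := Module.Finite.exists_fin (R := R) (M := M ⧸ (I • ⊤ : Submodule R M))
  choose x hx using fun i => Submodule.Quotient.mk_surjective _ (s i)
  let f : (Fin n → R) →ₗ[R] M := Fintype.linearCombination R x
  haveI : IsPrecomplete I (Fin n → R) :=
    Groth.Agent.Lib.Helper47.AdicFinite.isPrecomplete_pi_fin I n
  have hsurj : Function.Surjective ((I • ⊤ : Submodule R M).mkQ ∘ₗ f) := by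
    rw [← LinearMap.range_eq_top, LinearMap.range_comp, Fintype.range_linearCombination,
      Submodule.map_span, ← hs]
    congr 1
    ext y
    constructor
    · rintro ⟨_, ⟨i, rfl⟩, rfl⟩
      exact ⟨i, (hx i).symm⟩
    · rintro ⟨i, rfl⟩
      exact ⟨x i, ⟨i, rfl⟩, hx i⟩
  have hf : Function.Surjective f := surjective_of_mkQ_comp_surjective hsurj
  exact Module.Finite.of_surjective f hf

section Local

variable {A : Type u} [CommRing A] [IsLocalRing A] [IsNoetherianRing A]

/-- The quotient by an `m`-primary ideal has finite length. -/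
theorem isFiniteLength_quotient (J : Ideal A) (hJ : maximalIdeal A ≤ J.radical) :
    IsFiniteLength A (A ⧸ J) := by
  rw [isFiniteLength_iff_isNoetherian_isArtinian]
  suffices IsArtinianRing (A ⧸ J) from
    ⟨isNoetherian_quotient J,
      isArtinian_of_surjective_algebraMap (Ideal.Quotient.mk_surjective (I := J))⟩
  rw [isArtinianRing_iff_krullDimLE_zero,
    Ideal.krullDimLE_zero_quotient_iff_forall_minimalPrimes_isMaximal]
  intro P hP
  have hPprime : P.IsPrime := hP.1.1
  have h1 : J.radical ≤ P := hPprime.radical_le_iff.mpr hP.1.2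
  have h2 : maximalIdeal A ≤ P := hJ.trans h1
  rw [← (maximalIdeal.isMaximal A).eq_of_le hPprime.ne_top h2]
  exact maximalIdeal.isMaximal A

variable {k : Type v} [Field k] [Algebra k A]

/-- The quotient by an `m`-primary ideal is finite over a field of representatives. -/
theorem finite_quotient (hk : Function.Surjective (residue A ∘ algebraMap k A))
    (J : Ideal A) (hJ : maximalIdeal A ≤ J.radical) : Module.Finite k (A ⧸ J) := by
  have h1 : IsFiniteLength A (A ⧸ J) := isFiniteLength_quotient J hJ
  rw [← Module.length_ne_top_iff,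
    ← LengthRestrict.length_eq (R := k) (A := A) hk (A ⧸ J), Module.length_ne_top_iff,
    isFiniteLength_iff_isNoetherian_isArtinian] at h1
  haveI := h1.1
  infer_instance

end Local


section Eval

variable {A : Type u} [CommRing A] [IsLocalRing A] [IsNoetherianRing A]
  [IsAdicComplete (maximalIdeal A) A] {k : Type v} [Field k] [Algebra k A]

open MvPowerSeries in
/-- If `y₁, …, y_N ∈ m` generate an `m`-primary ideal, then `A` is finite over the power series
ring `k[[Y]]` through any map `Y_l ↦ y_l` compatible with the field of representatives. -/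
theorem finite_of_eval (hk : Function.Surjective (residue A ∘ algebraMap k A))
    {N : ℕ} (y : Fin N → A) (hy : ∀ l, y l ∈ maximalIdeal A)
    (hrad : maximalIdeal A ≤ (Ideal.span (Set.range y)).radical)
    (ψ : MvPowerSeries (Fin N) k →+* A) (hψC : ∀ c, ψ (C c) = algebraMap k A c)
    (hψX : ∀ l, ψ (X l) = y l) :
    letI := ψ.toAlgebra
    Module.Finite (MvPowerSeries (Fin N) k) A := by
  letI := ψ.toAlgebra
  set P := MvPowerSeries (Fin N) k
  set I : Ideal P := Ideal.span (Set.range (X : Fin N → P)) with hIdef
  set Jy : Ideal A := Ideal.span (Set.range y) with hJydef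
  have hsm : ∀ (r : P) (a : A), r • a = ψ r * a := fun r a => rfl
  haveI : IsScalarTower k P A := IsScalarTower.of_algebraMap_eq (fun c => (hψC c).symm)
  have hmap : I.map ψ = Jy := by
    rw [hIdef, Ideal.map_span, ← Set.range_comp]
    congr 2
    ext l
    exact hψX l
  have hJyle : Jy ≤ maximalIdeal A := by
    rw [hJydef, Ideal.span_le]
    rintro _ ⟨l, rfl⟩
    exact hy l
  -- `I^n • ⊤ ⊆ Jy^n`
  have hpow : ∀ n : ℕ, ∀ a ∈ (I ^ n • ⊤ : Submodule P A), a ∈ Jy ^ n := by
    intro n a ha
    refine Submodule.smul_induction_on ha ?_ ?_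
    · intro r hr b _
      rw [hsm]
      refine Ideal.mul_mem_right _ _ ?_
      rw [← hmap, ← Ideal.map_pow]
      exact Ideal.mem_map_of_mem ψ hr
    · intro a b ha hb
      exact Ideal.add_mem _ ha hb
  haveI : IsHausdorff I A := by
    refine ⟨fun a ha => ?_⟩
    have hH : IsHausdorff (maximalIdeal A) A := inferInstance
    apply hH.haus
    intro n
    rw [SModEq.zero, smul_eq_mul, Ideal.mul_top]
    have := ha n
    rw [SModEq.zero] at this
    exact Ideal.pow_right_mono hJyle n (hpow n a this)
  -- identify the quotient
  have heq : (I • ⊤ : Submodule P A) = Jy.restrictScalars P := by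
    apply le_antisymm
    · intro a ha
      have := hpow 1 a (by rwa [pow_one])
      rwa [pow_one] at this
    · intro a ha
      rw [Submodule.restrictScalars_mem] at ha
      rw [hJydef] at ha
      induction ha using Submodule.span_induction with
      | mem x hx =>
        obtain ⟨l, rfl⟩ := hx
        have : y l = (X l : P) • (1 : A) := by rw [hsm, hψX, mul_one]
        rw [this]
        exact Submodule.smul_mem_smul (Ideal.subset_span ⟨l, rfl⟩) Submodule.mem_top
      | zero => exact Submodule.zero_mem _
      | add x z _ _ hx hz => exact Submodule.add_mem _ hx hz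
      | smul c x _ hx =>
        rw [smul_eq_mul, mul_comm]
        have : x * c = c • x := by rw [smul_eq_mul, mul_comm]
        refine Submodule.smul_induction_on hx ?_ ?_
        · intro r hr b _
          have : r • b * c = r • (b * c) := by rw [hsm, hsm, mul_assoc]
          rw [this]
          exact Submodule.smul_mem_smul hr Submodule.mem_top
        · intro a b ha hb
          rw [add_mul]
          exact Submodule.add_mem _ ha hb
  haveI : Module.Finite k (A ⧸ Jy) := finite_quotient hk Jy hrad
  haveI : Module.Finite P (A ⧸ Jy) := Module.Finite.of_restrictScalars_finite k P (A ⧸ Jy)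
  have hfin : Module.Finite P (A ⧸ (I • ⊤ : Submodule P A)) := by
    have e1 : (A ⧸ (I • ⊤ : Submodule P A)) ≃ₗ[P] (A ⧸ Jy.restrictScalars P) :=
      Submodule.quotEquivOfEq _ _ heq
    have e2 : (A ⧸ Jy.restrictScalars P) ≃ₗ[P] (A ⧸ Jy) :=
      Submodule.Quotient.restrictScalarsEquiv P Jy
    exact Module.Finite.equiv (e1.trans e2).symm
  exact finite_of_quotient_finite P I A hfin

end Eval


section Charpoly

variable {A : Type u} [CommRing A] [IsLocalRing A] {G : Type w} [Group G] [Fintype G]
  [MulSemiringAction G A]

open Polynomial in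
lemma natDegree_charpoly (a : A) :
    (MulSemiringAction.charpoly G a).natDegree = Fintype.card G := by
  rw [MulSemiringAction.charpoly_eq, Polynomial.natDegree_finsetProd_X_sub_C_eq_card,
    Finset.card_univ]

open Polynomial in
lemma coeff_charpoly_mem {a : A} (ha : a ∈ maximalIdeal A) {j : ℕ} (hj : j < Fintype.card G) :
    (MulSemiringAction.charpoly G a).coeff j ∈ maximalIdeal A := by
  rw [← residue_eq_zero_iff, ← Polynomial.coeff_map, MulSemiringAction.charpoly_eq,
    Polynomial.map_prod]
  have : ∀ σ : G, (X - C (σ • a)).map (residue A) = X := by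
    intro σ
    rw [Polynomial.map_sub, Polynomial.map_X, Polynomial.map_C,
      (residue_eq_zero_iff _).mpr (smul_mem_maximalIdeal σ ha), map_zero, sub_zero]
  rw [Finset.prod_congr rfl (fun σ _ => this σ), Finset.prod_const, Finset.card_univ,
    Polynomial.coeff_X_pow, if_neg hj.ne]

open Polynomial in
lemma pow_card_mem_span_coeff (a : A) :
    a ^ Fintype.card G ∈ Ideal.span (Set.range fun j : Fin (Fintype.card G) =>
      (MulSemiringAction.charpoly G a).coeff j) := by
  have h0 := MulSemiringAction.eval_charpoly G a
  rw [Polynomial.eval_eq_sum_range, natDegree_charpoly, Finset.sum_range_succ] at h0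
  have hlead : (MulSemiringAction.charpoly G a).coeff (Fintype.card G) = 1 := by
    have := MulSemiringAction.monic_charpoly G a
    rw [Polynomial.Monic, Polynomial.leadingCoeff, natDegree_charpoly] at this
    exact this
  rw [hlead, one_mul] at h0
  have h1 : a ^ Fintype.card G = -∑ j ∈ Finset.range (Fintype.card G),
      (MulSemiringAction.charpoly G a).coeff j * a ^ j := by
    rw [eq_neg_iff_add_eq_zero, add_comm]; exact h0
  rw [h1]
  refine Ideal.neg_mem_iff _ |>.mpr (Ideal.sum_mem _ fun j hj => ?_)
  refine Ideal.mul_mem_right _ _ (Ideal.subset_span ?_)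
  exact ⟨⟨j, Finset.mem_range.mp hj⟩, rfl⟩

end Charpoly

section Invariant

variable {A : Type u} [CommRing A] [IsLocalRing A] [IsNoetherianRing A]
  [IsAdicComplete (maximalIdeal A) A] {k : Type v} [Field k] [Algebra k A]
  {G : Type w} [Group G] [Finite G] [MulSemiringAction G A]

open MvPowerSeries in
/-- There is a power series ring over the field of representatives mapping into the ring of
invariants over which `A` is finite. -/
theorem exists_finite_invariant (hk : Function.Surjective (residue A ∘ algebraMap k A))
    (hGk : ∀ (σ : G) (c : k), σ • algebraMap k A c = algebraMap k A c) :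
    ∃ (N : ℕ) (ψ : MvPowerSeries (Fin N) k →+* A), (∀ c, ψ (C c) = algebraMap k A c) ∧
      (∀ (σ : G) (r : MvPowerSeries (Fin N) k), σ • ψ r = ψ r) ∧
      (∀ l, ψ (X l) ∈ maximalIdeal A) ∧
      (maximalIdeal A ≤ (Ideal.span (Set.range fun l => ψ (X l))).radical) ∧
      (letI := ψ.toAlgebra; Module.Finite (MvPowerSeries (Fin N) k) A) := by
  classical
  haveI : Fintype G := Fintype.ofFinite G
  obtain ⟨n, x, hx⟩ := Submodule.fg_iff_exists_fin_generating_family.mp
    (IsNoetherian.noetherian (maximalIdeal A))
  have hxm : ∀ i, x i ∈ maximalIdeal A := fun i => by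
    rw [← hx]; exact Submodule.subset_span ⟨i, rfl⟩
  set g := Fintype.card G with hg
  let e : Fin (n * g) ≃ Fin n × Fin g := finProdFinEquiv.symm
  let y : Fin (n * g) → A := fun l =>
    (MulSemiringAction.charpoly G (x (e l).1)).coeff ((e l).2 : ℕ)
  have hy : ∀ l, y l ∈ maximalIdeal A := fun l => coeff_charpoly_mem (hxm _) (e l).2.2
  have hrad : maximalIdeal A ≤ (Ideal.span (Set.range y)).radical := by
    rw [← hx]
    change Ideal.span (Set.range x) ≤ _
    rw [Ideal.span_le]
    rintro _ ⟨i, rfl⟩
    refine ⟨g, ?_⟩
    refine Ideal.span_mono ?_ (pow_card_mem_span_coeff (G := G) (x i))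
    rintro _ ⟨j, rfl⟩
    refine ⟨e.symm (i, j), ?_⟩
    simp only [y, Equiv.apply_symm_apply]
  have hfix : ∀ (σ : G) l, σ • y l = y l := fun σ l =>
    MulSemiringAction.smul_coeff_charpoly _ _ σ
  obtain ⟨ψ, hψ⟩ := Groth.Agent.Lib.Helper76.exists_mvPowerSeries_eval' (Q := k) y
    (maximalIdeal A) hy
  have hψC : ∀ c, ψ (C c) = algebraMap k A c := by
    intro c
    have := hψ (MvPolynomial.C c)
    rwa [MvPolynomial.coe_C, MvPolynomial.aeval_C] at this
  have hψX : ∀ l, ψ (X l) = y l := by
    intro l
    have := hψ (MvPolynomial.X l)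
    rwa [MvPolynomial.coe_X, MvPolynomial.aeval_X] at this
  have hyeq : (fun l => ψ (X l)) = y := funext hψX
  refine ⟨n * g, ψ, hψC, ?_, fun l => (hψX l).symm ▸ hy l, hyeq ▸ hrad,
    finite_of_eval hk y hy hrad ψ hψC hψX⟩
  intro σ r
  have hH : IsHausdorff (maximalIdeal A) A := inferInstance
  have := Groth.Agent.Lib.Helper76.mvPowerSeries_ringHom_ext (maximalIdeal A)
    ((MulSemiringAction.toRingHom G A σ).comp ψ) ψ
    (fun c => by simp only [RingHom.comp_apply, hψC, MulSemiringAction.toRingHom_apply, hGk])
    (fun l => by simp only [RingHom.comp_apply, hψX, MulSemiringAction.toRingHom_apply, hfix])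
    (fun l => by
      simp only [RingHom.comp_apply, hψX, MulSemiringAction.toRingHom_apply, hfix]
      exact hy l)
  exact RingHom.congr_fun this r

end Invariant


section Consequences

variable {A : Type u} [CommRing A] {k : Type v} [Field k] {N : ℕ}
  {G : Type w} [Group G] [MulSemiringAction G A]
  (ψ : MvPowerSeries (Fin N) k →+* A) (hfix : ∀ (σ : G) (r : MvPowerSeries (Fin N) k), σ • ψ r = ψ r)

/-- The corestriction of an invariant-valued map to the ring of invariants. -/
noncomputable def toFixed : MvPowerSeries (Fin N) k →+* FixedPoints.subring A G :=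
  ψ.codRestrict (FixedPoints.subring A G) (fun r σ => hfix σ r)

lemma coe_toFixed (r : MvPowerSeries (Fin N) k) : ((toFixed ψ hfix r : FixedPoints.subring A G) : A) = ψ r :=
  rfl

variable (hfin : letI := ψ.toAlgebra; Module.Finite (MvPowerSeries (Fin N) k) A)

include hfin hfix

theorem finite_toFixed :
    letI := (toFixed ψ hfix).toAlgebra
    Module.Finite (MvPowerSeries (Fin N) k) (FixedPoints.subring A G) := by
  letI := ψ.toAlgebra
  letI := (toFixed ψ hfix).toAlgebra
  haveI : IsScalarTower (MvPowerSeries (Fin N) k) (FixedPoints.subring A G) A :=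
    IsScalarTower.of_algebraMap_eq (fun r => rfl)
  haveI : IsNoetherian (MvPowerSeries (Fin N) k) A := isNoetherian_of_isNoetherianRing_of_finite _ A
  exact Module.Finite.of_injective
    (IsScalarTower.toAlgHom (MvPowerSeries (Fin N) k) (FixedPoints.subring A G) A).toLinearMap
    Subtype.val_injective

theorem isNoetherianRing_fixed : IsNoetherianRing (FixedPoints.subring A G) := by
  letI := (toFixed ψ hfix).toAlgebra
  haveI := finite_toFixed ψ hfix hfin
  haveI : IsNoetherian (MvPowerSeries (Fin N) k) (FixedPoints.subring A G) :=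
    isNoetherian_of_isNoetherianRing_of_finite _ _
  exact isNoetherian_of_tower (MvPowerSeries (Fin N) k) inferInstance

theorem finite_fixed : Module.Finite (FixedPoints.subring A G) A := by
  letI := ψ.toAlgebra
  letI := (toFixed ψ hfix).toAlgebra
  haveI : IsScalarTower (MvPowerSeries (Fin N) k) (FixedPoints.subring A G) A :=
    IsScalarTower.of_algebraMap_eq (fun r => rfl)
  exact Module.Finite.of_restrictScalars_finite (MvPowerSeries (Fin N) k) _ A

end Consequences

end Groth.Agent.Lib.Helper52.WQ
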