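import Groth.Agent.Lib.Helper52.WQInv
import Mathlib.Algebra.Group.Pointwise.Set.Card
import Mathlib.GroupTheory.Coset.Card
import Mathlib.RingTheory.Invariant.Basic

/-!
# Complements in elementary abelian groups, and the inertia group of a ring of invariants
-/

set_option autoImplicit false
universe u v w

namespace Groth.Agent.Lib.Helper52.WQ

open scoped Pointwise

section GroupTheory

variable {H : Type w} [Group H]

lemma normal_of_comm (hcomm : ∀ g h : H, g * h = h * g) (N : Subgroup H) : N.Normal :=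
  ⟨fun n hn g => by rw [hcomm g n, mul_inv_cancel_right]; exact hn⟩

lemma card_sup_le (hcomm : ∀ g h : H, g * h = h * g) (K L : Subgroup H) :
    Nat.card ↥(K ⊔ L) ≤ Nat.card K * Nat.card L := by
  haveI := normal_of_comm hcomm L
  have h1 : ((K ⊔ L : Subgroup H) : Set H) = (K : Set H) * (L : Set H) := Subgroup.mul_normal K L
  calc Nat.card ↥(K ⊔ L) = Nat.card ↥((K : Set H) * (L : Set H)) := by
        rw [← h1]; rfl
    _ ≤ Nat.card ↥(K : Set H) * Nat.card ↥(L : Set H) := Set.natCard_mul_le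
    _ = Nat.card K * Nat.card L := rfl

theorem card_biSup_le (hcomm : ∀ g h : H, g * h = h * g) {ι : Type*} [DecidableEq ι]
    (Gi : ι → Subgroup H) (p : ℕ) (hGi : ∀ i, Nat.card (Gi i) = p) (J : Finset ι) :
    Nat.card ↥(⨆ j ∈ J, Gi j) ≤ p ^ J.card := by
  induction J using Finset.induction_on with
  | empty => simp
  | insert a J ha ih =>
    rw [Finset.iSup_insert, Finset.card_insert_of_notMem ha, pow_succ']
    calc _ ≤ Nat.card (Gi a) * Nat.card ↥(⨆ j ∈ J, Gi j) := card_sup_le hcomm _ _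
      _ ≤ p * p ^ J.card := by rw [hGi a]; exact Nat.mul_le_mul_left _ ih

variable [Finite H]

theorem compl_facts (hcomm : ∀ g h : H, g * h = h * g) (p n : ℕ)
    (hcard : Nat.card H = p ^ n) (Gi : Fin n → Subgroup H) (hGi : ∀ i, Nat.card (Gi i) = p)
    (hsup : (⨆ i, Gi i) = ⊤) (j : Fin n) :
    Gi j ⊔ (⨆ i ∈ (Finset.univ.erase j : Finset (Fin n)), Gi i) = ⊤ ∧
    Gi j ⊓ (⨆ i ∈ (Finset.univ.erase j : Finset (Fin n)), Gi i) = ⊥ ∧
    Nat.card (H ⧸ (⨆ i ∈ (Finset.univ.erase j : Finset (Fin n)), Gi i)) = p := by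
  set N : Subgroup H := ⨆ i ∈ (Finset.univ.erase j : Finset (Fin n)), Gi i with hN
  have hsup' : Gi j ⊔ N = ⊤ := by
    rw [hN, ← Finset.iSup_insert, Finset.insert_erase (Finset.mem_univ j)]
    simpa using hsup
  haveI := normal_of_comm hcomm N
  have hNcard : Nat.card N ≤ p ^ (n - 1) := by
    have := card_biSup_le hcomm Gi p hGi (Finset.univ.erase j)
    rwa [Finset.card_erase_of_mem (Finset.mem_univ j), Finset.card_univ, Fintype.card_fin] at this
  have hn : 1 ≤ n := by
    have := j.2; omega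
  let f : Gi j × N → H := fun x => (x.1 : H) * (x.2 : H)
  have hf : Function.Surjective f := by
    intro h
    have h1 : h ∈ ((Gi j ⊔ N : Subgroup H) : Set H) := by rw [hsup']; trivial
    rw [Subgroup.mul_normal] at h1
    obtain ⟨a, ha, b, hb, rfl⟩ := h1
    exact ⟨(⟨a, ha⟩, ⟨b, hb⟩), rfl⟩
  have hle : Nat.card (Gi j × N) ≤ Nat.card H := by
    rw [Nat.card_prod, hGi j, hcard]
    calc p * Nat.card N ≤ p * p ^ (n - 1) := Nat.mul_le_mul_left _ hNcard
      _ = p ^ n := by rw [← pow_succ', Nat.sub_add_cancel hn]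
  have hbij := hf.bijective_of_nat_card_le hle
  have hinf : Gi j ⊓ N = ⊥ := by
    rw [eq_bot_iff]
    intro g hg
    obtain ⟨hg1, hg2⟩ := hg
    have : f (⟨g, hg1⟩, 1) = f (1, ⟨g, hg2⟩) := by simp [f]
    have h2 := hbij.1 this
    rw [Prod.ext_iff] at h2
    have h3 := congrArg Subtype.val h2.1
    simpa using h3
  refine ⟨hsup', hinf, ?_⟩
  have h1 : Nat.card (Gi j × N) = Nat.card H := Nat.card_eq_of_bijective f hbij
  rw [Nat.card_prod, hGi j] at h1
  have h2 := Subgroup.card_eq_card_quotient_mul_card_subgroup N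
  rw [← h1] at h2
  have hNpos : 0 < Nat.card N := Nat.card_pos
  exact (Nat.eq_of_mul_eq_mul_right hNpos h2).symm

end GroupTheory

section Inertia

variable {A : Type u} [CommRing A] {H : Type w} [Group H] [Finite H] [MulSemiringAction H A]


/-- If `σ` acts trivially on `A^N` modulo the prime `P`, then `σ ∈ N ⊔ I(P)`. -/
theorem mem_sup_inertia (N : Subgroup H) [N.Normal] (P : Ideal A) [P.IsPrime] (σ : H)
    (hσ : ∀ b : A, (∀ ν : N, ν • b = b) → σ • b - b ∈ P) : σ ∈ N ⊔ P.inertia H := by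
  -- `A^N` is `H`-stable
  have hstab : ∀ (g : H) (b : A), (∀ ν : N, ν • b = b) → ∀ ν : N, ν • (g • b) = g • b := by
    intro g b hb ν
    have h1 : g⁻¹ * (ν : H) * g ∈ N := by
      have := ‹N.Normal›.conj_mem (ν : H) ν.2 g⁻¹
      simpa using this
    have h2 := hb ⟨_, h1⟩
    change (g⁻¹ * (ν : H) * g) • b = b at h2
    change (ν : H) • g • b = g • b
    rw [mul_smul, mul_smul, inv_smul_eq_iff] at h2
    exact h2
  have hσ' : ∀ b : A, (∀ ν : N, ν • b = b) → σ⁻¹ • b - b ∈ P := by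
    intro b hb
    have := hσ (σ⁻¹ • b) (hstab σ⁻¹ b hb)
    rw [smul_inv_smul] at this
    rw [← neg_sub]
    exact P.neg_mem this
  set S := FixedPoints.subring A N with hS
  -- primes `σ • P` and `P` lie over the same prime of `A^N`
  have hunder : P.under S = (σ • P).under S := by
    ext b
    rw [Ideal.under_def, Ideal.under_def, Ideal.mem_comap, Ideal.mem_comap,
      Ideal.mem_pointwise_smul_iff_inv_smul_mem]
    have := hσ' (b : A) b.2
    change (b : A) ∈ P ↔ σ⁻¹ • (b : A) ∈ P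
    constructor
    · intro h
      have h2 := P.add_mem this h
      rwa [sub_add_cancel] at h2
    · intro h
      have h2 := P.sub_mem h this
      rwa [sub_sub_cancel] at h2
  obtain ⟨ν, hν⟩ := Algebra.IsInvariant.exists_smul_of_under_eq S A N P (σ • P) hunder
  replace hν : σ • P = (ν : H) • P := by
    rw [hν]; ext x
    rw [Ideal.mem_pointwise_smul_iff_inv_smul_mem, Ideal.mem_pointwise_smul_iff_inv_smul_mem]
    rfl
  set ρ : H := (ν : H)⁻¹ * σ with hρ
  have hρP : ρ • P = P := by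
    rw [hρ, mul_smul, hν, inv_smul_smul]
  have hρb : ∀ b : A, (∀ ν : N, ν • b = b) → ρ • b - b ∈ P := by
    intro b hb
    have h1 : (ν⁻¹ : N) • (σ • b) = σ • b := hstab σ b hb ν⁻¹
    rw [hρ, mul_smul]
    change (ν : H)⁻¹ • σ • b = σ • b at h1
    rw [h1]
    exact hσ b hb
  -- the induced automorphism of the residue ring
  set Q := P.under S with hQ
  let e : (A ⧸ P) ≃+* (A ⧸ P) := Ideal.quotientEquiv P P (MulSemiringAction.toRingEquiv H A ρ)
    (by
      conv_lhs => rw [← hρP]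
      rfl)
  have he : ∀ a : A, e (Ideal.Quotient.mk P a) = Ideal.Quotient.mk P (ρ • a) := fun a => rfl
  let φ : (A ⧸ P) ≃ₐ[S ⧸ Q] (A ⧸ P) := AlgEquiv.ofRingEquiv (f := e) (by
    intro x
    obtain ⟨b, rfl⟩ := Ideal.Quotient.mk_surjective x
    rw [Ideal.Quotient.algebraMap_mk_of_liesOver, he, Ideal.Quotient.eq]
    exact hρb _ b.2)
  obtain ⟨ν', hν'⟩ := Ideal.Quotient.stabilizerHom_surjective N Q P φ
  obtain ⟨g, hgN, hgP, hgmk⟩ : ∃ g : H, g ∈ N ∧ (∀ x, g⁻¹ • x ∈ P ↔ x ∈ P) ∧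
      ∀ a, g • a - ρ • a ∈ P := by
    refine ⟨((ν' : N) : H), (ν' : N).2, fun x => ?_, fun a => ?_⟩
    · have h0 : (ν' : N) • P = P := ν'.2
      have h1 : x ∈ (ν' : N) • P ↔ (ν' : N)⁻¹ • x ∈ P :=
        Ideal.mem_pointwise_smul_iff_inv_smul_mem
      rw [h0] at h1
      exact h1.symm
    · have h1 := congrArg (fun ψ => ψ (Ideal.Quotient.mk P a)) hν'
      have h2 : Ideal.Quotient.mk P ((ν' : N) • a) = Ideal.Quotient.mk P (ρ • a) := h1
      rw [Ideal.Quotient.eq] at h2
      exact h2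
  have hin : (g⁻¹ * ρ) ∈ P.inertia H := by
    intro a
    have h2 : (g⁻¹ * ρ) • a - a = g⁻¹ • (ρ • a - g • a) := by
      rw [smul_sub, inv_smul_smul, mul_smul]
    rw [Submodule.mem_toAddSubgroup, h2, hgP]
    rw [← neg_sub]; exact P.neg_mem (hgmk a)
  have hfin : σ = ((ν : H) * g) * (g⁻¹ * ρ) := by
    rw [hρ]; group
  rw [hfin]
  exact Subgroup.mul_mem_sup (N.mul_mem ν.2 hgN) hin

end Inertia


end Groth.Agent.Lib.Helper52.WQ
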